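import Cfsg.Prelude.Def_Blocks
import Cfsg.Agent.CharBasic.Complete
import Mathlib.RingTheory.IntegralClosure.IsIntegralClosure.Basic
import Mathlib.RingTheory.IntegralClosure.IntegrallyClosed
import Mathlib.RingTheory.Polynomial.RationalRoot

/-!
# Class multiplication constants and integrality of central characters

Elementary consequences of Schur's lemma used in counting arguments.
-/

open scoped ComplexConjugate
open Module

namespace Cfsg.Agent.H83

open Cfsg.Agent.CharBasic

universe u v

variable {G : Type u} [Group G] [Fintype G]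

theorem repSum_scalar {V : Type v} [AddCommGroup V] [Module ℂ V] [FiniteDimensional ℂ V]
    {c : G → ℂ} (hc : Cfsg.IsClassFunction G c) (ρ : Representation ℂ G V) [ρ.IsIrreducible] :
    repSum c ρ = ((∑ g : G, c g * ρ.character g) / ρ.character 1) • LinearMap.id := by
  obtain ⟨z, hz⟩ := schur_scalar ρ (repSum c ρ) (repSum_comm hc ρ)
  have h := congrArg (LinearMap.trace ℂ V) hz
  rw [trace_repSum, map_smul, LinearMap.trace_id, smul_eq_mul] at h
  have hpos : (finrank ℂ V : ℂ) ≠ 0 := by
    exact_mod_cast (finrank_pos_of_isIrreducible ρ).ne'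
  rw [hz, h, Representation.char_one, mul_div_assoc, div_self hpos, mul_one]

theorem omega_isIntegral {c : G → ℂ} (hc : Cfsg.IsClassFunction G c)
    (hi : ∀ g, IsIntegral ℤ (c g)) {χ : G → ℂ} (hχ : Cfsg.IsIrrCharacter G χ) :
    IsIntegral ℤ ((∑ g : G, c g * χ g) / χ 1) := by
  obtain ⟨n, ρ, hρ, rfl⟩ := hχ
  let F : MonoidAlgebra Cfsg.AlgInt G →ₐ[Cfsg.AlgInt] Module.End ℂ (Fin n → ℂ) :=
    MonoidAlgebra.lift Cfsg.AlgInt (Module.End ℂ (Fin n → ℂ)) G ρ
  have hmap : F (∑ g : G, MonoidAlgebra.single g (⟨c g, hi g⟩ : Cfsg.AlgInt)) = repSum c ρ := by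
    rw [map_sum]
    refine Finset.sum_congr rfl fun g _ => ?_
    rw [MonoidAlgebra.lift_single]
    rfl
  have h1 : IsIntegral Cfsg.AlgInt (repSum c ρ) := hmap ▸ (IsIntegral.of_finite _ _).map F
  rw [repSum_scalar hc ρ] at h1
  haveI : Nontrivial (Fin n → ℂ) := nontrivial_of_isIrreducible ρ
  have h2 : IsIntegral Cfsg.AlgInt ((∑ g : G, c g * ρ.character g) / ρ.character 1) := by
    rw [← isIntegral_algebraMap_iff (B := Module.End ℂ (Fin n → ℂ))
      (FaithfulSMul.algebraMap_injective ℂ _)]
    exact h1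
  exact isIntegral_trans _ h2

/-- The convolution of two functions on the group. -/
theorem omega_mul {c d : G → ℂ} (hc : Cfsg.IsClassFunction G c)
    (hd : Cfsg.IsClassFunction G d) {χ : G → ℂ} (hχ : Cfsg.IsIrrCharacter G χ) :
    (∑ a : G, ∑ b : G, c a * d b * χ (a * b)) * χ 1 =
      (∑ g : G, c g * χ g) * (∑ g : G, d g * χ g) := by
  obtain ⟨n, ρ, hρ, rfl⟩ := hχ
  have hpos : ρ.character 1 ≠ 0 := by
    rw [Representation.char_one]; exact_mod_cast (finrank_pos_of_isIrreducible ρ).ne'
  have h : LinearMap.trace ℂ (Fin n → ℂ) (repSum c ρ * repSum d ρ) =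
      ∑ a : G, ∑ b : G, c a * d b * ρ.character (a * b) := by
    simp only [repSum, Finset.mul_sum, Finset.sum_mul, map_sum, smul_mul_smul_comm, ← map_mul,
      map_smul, smul_eq_mul]
    rw [Finset.sum_comm]
    rfl
  rw [← h, repSum_scalar hc ρ, repSum_scalar hd ρ]
  simp only [smul_mul_smul_comm, map_smul, smul_eq_mul]
  rw [show (LinearMap.id * LinearMap.id : Module.End ℂ (Fin n → ℂ)) = LinearMap.id from rfl,
    LinearMap.trace_id, ← Representation.char_one ρ]
  field_simp

theorem irr_conj_apply {χ : G → ℂ} (hχ : Cfsg.IsIrrCharacter G χ) (g : G) :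
    conj (χ g) = χ g⁻¹ := (IsChar.inv_apply (IsIrr.isCharacter hχ) g).symm

theorem irr_isIntegral {χ : G → ℂ} (hχ : Cfsg.IsIrrCharacter G χ) (g : G) :
    IsIntegral ℤ (χ g) := IsChar.isIntegral (IsIrr.isCharacter hχ) g

omit [Fintype G] in
theorem charDegree_eq {χ : G → ℂ} (hχ : Cfsg.IsIrrCharacter G χ) :
    χ 1 = (Cfsg.charDegree χ : ℂ) ∧ 0 < Cfsg.charDegree χ := by
  obtain ⟨n, hn, he⟩ := IsIrr.exists_degree hχ
  simp [Cfsg.charDegree, he, hn]

/-- An algebraic integer which is rational is a rational integer. -/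
theorem int_dvd_of_isIntegral {z : ℂ} (hz : IsIntegral ℤ z) {n m : ℤ} (hn : n ≠ 0)
    (h : (n : ℂ) * z = (m : ℂ)) : n ∣ m := by
  have hn' : (n : ℂ) ≠ 0 := by exact_mod_cast hn
  have hzq : z = algebraMap ℚ ℂ ((m : ℚ) / n) := by
    rw [map_div₀, map_intCast, map_intCast, eq_div_iff hn', mul_comm, h]
  rw [hzq, isIntegral_algebraMap_iff (FaithfulSMul.algebraMap_injective ℚ ℂ)] at hz
  obtain ⟨k, hk⟩ := IsIntegrallyClosed.isIntegral_iff.1 hz
  refine ⟨k, ?_⟩
  rw [eq_div_iff (by exact_mod_cast hn : (n : ℚ) ≠ 0)] at hk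
  simp only [algebraMap_int_eq, Int.coe_castRingHom] at hk
  rw [mul_comm]
  exact_mod_cast hk.symm

theorem sum_norm_sq {χ : G → ℂ} (hχ : Cfsg.IsIrrCharacter G χ) :
    ∑ g : G, conj (χ g) * χ g = (Nat.card G : ℂ) := by
  have h := classInner_irr_self hχ
  rw [classInner_def] at h
  have hG : (Nat.card G : ℂ) ≠ 0 := by simp
  rw [inv_mul_eq_iff_eq_mul₀ hG, mul_one] at h
  rw [← h]
  exact Finset.sum_congr rfl fun g _ => mul_comm _ _

/-- Degrees of irreducible characters divide the group order. -/
theorem charDegree_dvd_card {χ : G → ℂ} (hχ : Cfsg.IsIrrCharacter G χ) :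
    Cfsg.charDegree χ ∣ Nat.card G := by
  obtain ⟨h1, hpos⟩ := charDegree_eq hχ
  have hi := omega_isIntegral (c := fun g => conj (χ g))
    (fun g x => by simp [IsIrr.isClassFunction hχ g x])
    (fun g => by rw [irr_conj_apply hχ]; exact irr_isIntegral hχ _) hχ
  rw [sum_norm_sq hχ] at hi
  have hne : χ 1 ≠ 0 := IsIrr.one_ne_zero hχ
  have := int_dvd_of_isIntegral hi (n := (Cfsg.charDegree χ : ℤ)) (m := (Nat.card G : ℤ))
    (by exact_mod_cast hpos.ne') (by
      push_cast
      rw [← h1]
      field_simp)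
  exact_mod_cast this

omit [Fintype G] in
/-- The sum of a character over a subgroup is a natural multiple of the subgroup order. -/
theorem sum_subgroup_eq {χ : G → ℂ} (hχ : Cfsg.IsCharacter G χ) (H : Subgroup G) [Fintype H] :
    ∃ m : ℕ, ∑ h : H, χ (h : G) = (Nat.card H : ℂ) * m := by
  obtain ⟨n, ρ, rfl⟩ := hχ
  have h0 : (Nat.card H : ℂ) ≠ 0 := by simp
  letI : Invertible (Nat.card H : ℂ) := invertibleOfNonzero h0
  let σ : Representation ℂ H (Fin n → ℂ) := ρ.comp H.subtype
  have h := σ.card_inv_mul_sum_char_eq_finrank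
  rw [inv_mul_eq_iff_eq_mul₀ h0] at h
  exact ⟨_, h⟩

open scoped Classical in
/-- Indicator function of the class of `s`. -/
noncomputable def classInd (s : G) : G → ℂ := fun g => if IsConj s g then 1 else 0

omit [Fintype G] in
theorem classInd_isClassFunction (s : G) : Cfsg.IsClassFunction G (classInd s) := by
  intro g x
  have h : IsConj g (x * g * x⁻¹) := isConj_iff.2 ⟨x, rfl⟩
  have : IsConj s (x * g * x⁻¹) ↔ IsConj s g := ⟨fun h' => h'.trans h.symm, fun h' => h'.trans h⟩
  simp only [classInd]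
  split_ifs <;> simp_all

omit [Fintype G] in
theorem classInd_isIntegral (s g : G) : IsIntegral ℤ (classInd s g) := by
  unfold classInd
  split_ifs
  · exact isIntegral_one
  · exact isIntegral_zero

open scoped Classical in
theorem sum_classInd_mul {χ : G → ℂ} (hχ : Cfsg.IsClassFunction G χ) (s : G) :
    ∑ g : G, classInd s g * χ g =
      ((Finset.univ.filter fun g => IsConj s g).card : ℂ) * χ s := by
  simp only [classInd, ite_mul, one_mul, zero_mul, ← Finset.sum_filter]
  rw [Finset.sum_congr rfl (g := fun _ => χ s), Finset.sum_const, nsmul_eq_mul]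
  intro g hg
  obtain ⟨x, rfl⟩ := isConj_iff.1 (Finset.mem_filter.1 hg).2
  exact hχ s x

open scoped Classical in
theorem classSize_eq_index (s : G) :
    (Finset.univ.filter fun g => IsConj s g).card =
      (Subgroup.centralizer ({s} : Set G)).index := by
  rw [← Subgroup.index_comap_of_surjective (Subgroup.centralizer ({s} : Set G))
      (f := (ConjAct.toConjAct.symm.toMonoidHom : ConjAct G →* G))
      ConjAct.toConjAct.symm.surjective]
  have hst : (Subgroup.centralizer ({s} : Set G)).comap
      (ConjAct.toConjAct.symm.toMonoidHom : ConjAct G →* G) =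
      MulAction.stabilizer (ConjAct G) s := by
    ext x
    simp [Subgroup.mem_centralizer_singleton_iff, ConjAct.smul_def, mul_inv_eq_iff_eq_mul]
  rw [hst, MulAction.index_stabilizer, ConjAct.orbit_eq_carrier_conjClasses,
    Set.ncard_eq_toFinset_card']
  congr 1
  ext g
  simp only [Finset.mem_filter_univ, Set.mem_toFinset]
  exact isConj_comm.trans ((ConjClasses.mem_carrier_iff_mk_eq (a := g) (b := ConjClasses.mk s)).trans
    ConjClasses.mk_eq_mk_iff_isConj).symm

omit [Fintype G] in
theorem classSize_mul_centralizer (s : G) :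
    (Subgroup.centralizer ({s} : Set G)).index *
      Nat.card (Subgroup.centralizer ({s} : Set G)) = Nat.card G :=
  Subgroup.index_mul_card _

/-- `|K| χ(s) / χ(1)` is an algebraic integer. -/
theorem omega_class_isIntegral {χ : G → ℂ} (hχ : Cfsg.IsIrrCharacter G χ) (s : G) :
    IsIntegral ℤ (((Subgroup.centralizer ({s} : Set G)).index : ℂ) * χ s / χ 1) := by
  have h := omega_isIntegral (classInd_isClassFunction s) (classInd_isIntegral s) hχ
  rwa [sum_classInd_mul (IsIrr.isClassFunction hχ), classSize_eq_index] at h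

/-- Burnside's formula for the number of ways of writing `y` as a product of a conjugate of `s`
and a conjugate of `t`. -/
theorem card_pairs_mul_card (s t y : G) :
    (Nat.card G : ℂ) *
      (Nat.card {a : G // IsConj s a ∧ IsConj t (a⁻¹ * y)} : ℂ) =
    ((Subgroup.centralizer ({s} : Set G)).index : ℂ) *
      ((Subgroup.centralizer ({t} : Set G)).index : ℂ) *
      ∑ χ : Cfsg.IrrCharacter G,
        conj ((χ : G → ℂ) s) * conj ((χ : G → ℂ) t) * (χ : G → ℂ) y / (χ : G → ℂ) 1 := by
  classical
  let N : G → ℂ := fun z => ∑ a : G, classInd s a * classInd t (a⁻¹ * z)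
  have hN : Cfsg.IsClassFunction G N := by
    intro z x
    refine Fintype.sum_equiv (MulAut.conj x⁻¹).toEquiv _ _ fun a => ?_
    have he : (MulAut.conj x⁻¹).toEquiv a = x⁻¹ * a * x := by simp
    rw [he, show classInd s (x⁻¹ * a * x) = classInd s a by
        simpa using classInd_isClassFunction s a x⁻¹,
      ← show classInd t ((x⁻¹ * a * x)⁻¹ * z) = classInd t (a⁻¹ * (x * z * x⁻¹)) from ?_]
    rw [← classInd_isClassFunction t ((x⁻¹ * a * x)⁻¹ * z) x]
    congr 1
    group
  have hNy : N y = (Nat.card {a : G // IsConj s a ∧ IsConj t (a⁻¹ * y)} : ℂ) := by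
    rw [Nat.card_eq_fintype_card, Fintype.card_subtype]
    simp only [N, classInd, ite_mul, one_mul, zero_mul, ← Finset.sum_filter, Finset.filter_filter]
    simp
  rw [← hNy]
  have hexp := congrFun (classFunction_expansion hN) y
  rw [hexp, Finset.sum_apply, Finset.mul_sum, Finset.mul_sum]
  refine Finset.sum_congr rfl fun χ _ => ?_
  have hcf := IsIrr.isClassFunction χ.2
  have hcf' : Cfsg.IsClassFunction G (fun g => conj ((χ : G → ℂ) g)) := fun g x => by
    simp [hcf g x]
  have hkey : (∑ z : G, N z * conj ((χ : G → ℂ) z)) =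
      conj (∑ a : G, ∑ b : G, classInd s a * classInd t b * (χ : G → ℂ) (a * b)) := by
    have hr : ∀ (u g : G), conj (classInd u g) = classInd u g := fun u g => by
      unfold classInd; split_ifs <;> simp
    simp only [map_sum, map_mul, hr, N, Finset.sum_mul]
    rw [Finset.sum_comm]
    refine Finset.sum_congr rfl fun a _ => ?_
    refine Fintype.sum_equiv (Equiv.mulLeft a⁻¹) _ _ fun z => ?_
    simp
  have hm : (∑ a : G, ∑ b : G, classInd s a * classInd t b * (χ : G → ℂ) (a * b)) =
      ((Subgroup.centralizer ({s} : Set G)).index : ℂ) * (χ : G → ℂ) s *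
        (((Subgroup.centralizer ({t} : Set G)).index : ℂ) * (χ : G → ℂ) t) / (χ : G → ℂ) 1 := by
    rw [eq_div_iff (IsIrr.one_ne_zero χ.2),
      omega_mul (classInd_isClassFunction s) (classInd_isClassFunction t) χ.2,
      sum_classInd_mul hcf, sum_classInd_mul hcf, classSize_eq_index, classSize_eq_index]
  have hG : (Nat.card G : ℂ) ≠ 0 := by simp
  simp only [Pi.smul_apply, smul_eq_mul, classInner_def]
  rw [hkey, hm]
  simp only [map_div₀, map_mul, map_natCast, irr_conj_apply χ.2 1, inv_one]
  field_simp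

end Cfsg.Agent.H83
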