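import Cfsg.Prelude.Def_BlockRank
import Cfsg.Agent.H83.ClassConst
import Cfsg.Agent.H35.Banaschewski
import Mathlib.GroupTheory.QuotientGroup.Basic
import Mathlib.GroupTheory.GroupAction.Quotient
import Mathlib.GroupTheory.Perm.Cycle.Type
import Mathlib.RingTheory.Coprime.Lemmas

/-!
# The sum of a character over the p-regular elements

It is a rational integer divisible by the p'-part of the group order. The proof uses only
permutation characters on cosets of hyperelementary subgroups.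
-/

open scoped ComplexConjugate

namespace Cfsg.Agent.H83

open Cfsg.Agent.CharBasic

universe u

variable {G : Type u} [Group G]

theorem isCharacter_mul {χ ψ : G → ℂ} (hχ : Cfsg.IsCharacter G χ) (hψ : Cfsg.IsCharacter G ψ) :
    Cfsg.IsCharacter G (χ * ψ) := by
  obtain ⟨n, ρ, rfl⟩ := hχ
  obtain ⟨m, σ, rfl⟩ := hψ
  rw [← Representation.char_tensor]
  exact isCharacter_character _

variable [Finite G]

theorem isCharacter_fixCount (H : Subgroup G) :
    Cfsg.IsCharacter G (fun g => (Nat.card (MulAction.fixedBy (G ⧸ H) g) : ℂ)) := by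
  classical
  haveI : Fintype (G ⧸ H) := Fintype.ofFinite _
  have h : (Representation.ofMulAction ℂ G (G ⧸ H)).character =
      fun g => (Nat.card (MulAction.fixedBy (G ⧸ H) g) : ℂ) := by
    funext g
    rw [Representation.character,
      LinearMap.trace_eq_matrix_trace ℂ (MonoidAlgebra.basis (G ⧸ H) ℂ),
      Nat.card_eq_fintype_card]
    simp only [Matrix.trace, Matrix.diag, LinearMap.toMatrix_apply]
    rw [Fintype.card_subtype, Finset.natCast_card_filter]
    refine Finset.sum_congr rfl fun x _ => ?_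
    by_cases hx : g • x = x <;>
      simp [MonoidAlgebra.basis, MonoidAlgebra.coeff_single, Finsupp.single_apply,
        MulAction.fixedBy, hx]
  exact h ▸ isCharacter_character _

omit [Finite G] in
/-- Orders of elements of `H` prime to `q` force membership in `H₀` when `[H : H₀]` is a `q`-power. -/
theorem mem_of_coprime_index {H H₀ : Subgroup G} [(H₀.subgroupOf H).Normal] {q k : ℕ}
    (hk : (H₀.subgroupOf H).index = q ^ k) {h : G} (hh : h ∈ H) (hco : (orderOf h).Coprime q) :
    h ∈ H₀ := by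
  have h1 : orderOf (QuotientGroup.mk' (H₀.subgroupOf H) ⟨h, hh⟩) ∣ q ^ k := by
    rw [← hk]
    exact orderOf_dvd_natCard _
  have h2 : orderOf (QuotientGroup.mk' (H₀.subgroupOf H) ⟨h, hh⟩) ∣ orderOf h := by
    refine (orderOf_map_dvd _ _).trans ?_
    rw [← Subgroup.orderOf_coe]
  have := Nat.eq_one_of_dvd_coprimes (hco.pow_right k) h2 h1
  exact Subgroup.mem_subgroupOf.1
    ((QuotientGroup.eq_one_iff (N := H₀.subgroupOf H) _).1 (orderOf_eq_one_iff.1 this))

/-- The `q'`-part and `q`-part of an element, as powers of it. -/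
theorem exists_parts {q : ℕ} (hq : q.Prime) (x : G) :
    ∃ s u : G, Commute s u ∧ s * u = x ∧ (orderOf s).Coprime q ∧ (∃ k, orderOf u ∣ q ^ k) ∧
      s ∈ Subgroup.zpowers x ∧ u ∈ Subgroup.zpowers x := by
  set n := orderOf x with hn
  have hn0 : n ≠ 0 := (orderOf_pos x).ne'
  set a := n.factorization q
  set m := n / q ^ a
  have hnm : q ^ a * m = n := Nat.mul_div_cancel' (Nat.ordProj_dvd _ _)
  have hco : Nat.Coprime (q ^ a) m := (Nat.coprime_ordCompl hq hn0).pow_left a
  obtain ⟨c, d, hcd⟩ := (Nat.isCoprime_iff_coprime.2 hco)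
  have hord : ∀ (e : ℕ) (i : ℤ), (n : ℤ) ∣ i * e → orderOf (x ^ i) ∣ e := by
    intro e i hi
    apply orderOf_dvd_of_pow_eq_one
    rw [← zpow_natCast, ← zpow_mul]
    exact orderOf_dvd_iff_zpow_eq_one.1 hi
  refine ⟨x ^ (c * (q ^ a : ℕ)), x ^ (d * (m : ℤ)), ?_, ?_, ?_, ⟨a, ?_⟩, ?_⟩
  · exact (Commute.refl x).zpow_zpow _ _
  · rw [← zpow_add, hcd, zpow_one]
  · refine Nat.Coprime.coprime_dvd_left (hord m _ ⟨c, ?_⟩) (Nat.coprime_ordCompl hq hn0).symm
    rw [← hnm]; push_cast; ring
  · refine hord (q ^ a) _ ⟨d, ?_⟩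
    rw [← hnm]; push_cast; ring
  · exact ⟨Subgroup.zpow_mem _ (Subgroup.mem_zpowers x) _,
      Subgroup.zpow_mem _ (Subgroup.mem_zpowers x) _⟩

variable [Fintype G] {p : ℕ} [Fact p.Prime]

open scoped Classical in
/-- The sum of a character over the p-regular elements is a rational integer divisible by the
p'-part of the group order. -/
theorem sum_pRegular_dvd {φ : G → ℂ} (hφ : Cfsg.IsCharacter G φ) :
    ∃ n : ℤ, ∑ x ∈ Finset.univ.filter (fun x : G => Cfsg.IsPRegular p x), φ x =
      (n : ℂ) * ((Nat.card G / p ^ (Nat.card G).factorization p : ℕ) : ℂ) := by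
  set U := Nat.card G / p ^ (Nat.card G).factorization p with hU
  have hp : p.Prime := Fact.out
  let S := {x : G // Cfsg.IsPRegular p x}
  haveI : Nonempty S := ⟨⟨1, by simp [Cfsg.IsPRegular, hp.ne_one]⟩⟩
  let R : AddSubgroup (S → ℤ) :=
    { carrier := {f | (∃ ψ₁ ψ₂ : G → ℂ, Cfsg.IsCharacter G ψ₁ ∧ Cfsg.IsCharacter G ψ₂ ∧
          ∀ x : S, (f x : ℂ) = ψ₁ x.1 - ψ₂ x.1) ∧
        ∀ θ : G → ℂ, Cfsg.IsCharacter G θ →
          ∃ n : ℤ, ∑ x : S, (f x : ℂ) * θ x.1 = (n : ℂ) * (U : ℂ)}
      zero_mem' := ⟨⟨0, 0, IsChar.zero, IsChar.zero, fun x => by simp⟩,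
        fun θ _ => ⟨0, by simp⟩⟩
      add_mem' := by
        rintro f g ⟨⟨a, b, ha, hb, hf⟩, hf'⟩ ⟨⟨c, d, hc, hd, hg⟩, hg'⟩
        refine ⟨⟨a + c, b + d, IsChar.add ha hc, IsChar.add hb hd, fun x => ?_⟩, fun θ hθ => ?_⟩
        · simp [hf x, hg x]; ring
        · obtain ⟨m, hm⟩ := hf' θ hθ
          obtain ⟨k, hk⟩ := hg' θ hθ
          exact ⟨m + k, by simp [add_mul, Finset.sum_add_distrib, hm, hk]⟩
      neg_mem' := by
        rintro f ⟨⟨a, b, ha, hb, hf⟩, hf'⟩
        refine ⟨⟨b, a, hb, ha, fun x => by simp [hf x]⟩, fun θ hθ => ?_⟩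
        obtain ⟨m, hm⟩ := hf' θ hθ
        exact ⟨-m, by simp [Finset.sum_neg_distrib, hm]⟩ }
  have hmul : ∀ f ∈ R, ∀ g ∈ R, f * g ∈ R := by
    rintro f ⟨⟨a, b, ha, hb, hf⟩, -⟩ g ⟨⟨c, d, hc, hd, hg⟩, hg'⟩
    refine ⟨⟨a * c + b * d, a * d + b * c, IsChar.add (isCharacter_mul ha hc) (isCharacter_mul hb hd),
      IsChar.add (isCharacter_mul ha hd) (isCharacter_mul hb hc), fun x => ?_⟩, fun θ hθ => ?_⟩
    · simp [hf x, hg x]; ring
    · obtain ⟨m, hm⟩ := hg' _ (isCharacter_mul ha hθ)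
      obtain ⟨k, hk⟩ := hg' _ (isCharacter_mul hb hθ)
      refine ⟨m - k, ?_⟩
      rw [Int.cast_sub, sub_mul, ← hm, ← hk, ← Finset.sum_sub_distrib]
      refine Finset.sum_congr rfl fun x _ => ?_
      simp only [Pi.mul_apply, Int.cast_mul, hf x]
      ring
  by_cases h1 : (1 : S → ℤ) ∈ R
  · obtain ⟨n, hn⟩ := h1.2 φ hφ
    refine ⟨n, ?_⟩
    rw [← hn, Finset.sum_subtype (p := fun x : G => Cfsg.IsPRegular p x)
      (F := inferInstanceAs (Fintype S)) _ (fun x => by simp) φ]
    simp [S]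
  exfalso
  obtain ⟨⟨x, hx⟩, q, hq, hall⟩ := H35.banaschewski R hmul h1
  haveI : Fact q.Prime := ⟨hq⟩
  obtain ⟨s, u, hsu, hxsu, hsq, ⟨ku, hku⟩, hsmem, humem⟩ := exists_parts hq x
  have hsx : orderOf s ∣ orderOf x := orderOf_dvd_of_mem_zpowers hsmem
  -- the hyperelementary subgroup
  let C := Subgroup.zpowers s
  let N := Subgroup.normalizer (C : Set G)
  obtain ⟨Q⟩ := (inferInstance : Nonempty (Sylow q N))
  let H : Subgroup G := C ⊔ (Q : Subgroup N).map N.subtype
  have hCN : C ≤ N := Subgroup.le_normalizer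
  have hHN : H ≤ N := sup_le hCN (Subgroup.map_subtype_le _)
  haveI hnC : (C.subgroupOf H).Normal :=
    Subgroup.normal_subgroupOf_of_le_normalizer hHN
  haveI hnCN : (C.subgroupOf N).Normal := Subgroup.normal_subgroupOf_of_le_normalizer le_rfl
  obtain ⟨k, hk⟩ : ∃ k, (C.subgroupOf H).index = q ^ k := by
    let e : (Q : Subgroup N) →* H ⧸ C.subgroupOf H := (QuotientGroup.mk' _).comp
      ((Subgroup.inclusion (le_sup_right : (Q : Subgroup N).map N.subtype ≤ H)).comp
        ((Q : Subgroup N).equivMapOfInjective N.subtype N.subtype_injective).toMonoidHom)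
    have he : Function.Surjective e := by
      intro y
      obtain ⟨⟨y, hy⟩, rfl⟩ := QuotientGroup.mk'_surjective _ y
      have : (⊤ : Subgroup H) = C.subgroupOf H ⊔
          ((Q : Subgroup N).map N.subtype).subgroupOf H := by
        rw [← Subgroup.subgroupOf_sup le_sup_left le_sup_right]
        exact (Subgroup.subgroupOf_self H).symm
      obtain ⟨c, hc, w, hw, hcw⟩ := Subgroup.mem_sup_of_normal_left.1
        (this ▸ Subgroup.mem_top (⟨y, hy⟩ : H))
      obtain ⟨w', hw', hww⟩ := Subgroup.mem_map.1 (Subgroup.mem_subgroupOf.1 hw)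
      refine ⟨⟨w', hw'⟩, ?_⟩
      have hcomp : e ⟨w', hw'⟩ = QuotientGroup.mk' _ w := by
        simp only [e, MonoidHom.comp_apply]
        congr 1
        exact Subtype.ext hww
      rw [hcomp, ← hcw, map_mul,
        show QuotientGroup.mk' (C.subgroupOf H) c = 1 from (QuotientGroup.eq_one_iff _).2 hc,
        one_mul]
    obtain ⟨a, ha⟩ := IsPGroup.iff_card.1 Q.isPGroup'
    obtain ⟨b, -, hb⟩ := (Nat.dvd_prime_pow hq).1 (ha ▸ Subgroup.card_dvd_of_surjective e he)
    exact ⟨b, hb⟩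
  -- the p-regular elements of H form a subgroup H₀ of p-power index
  obtain ⟨H₀, hH₀H, hH₀reg, ⟨j, hj⟩⟩ : ∃ H₀ : Subgroup G, H₀ ≤ H ∧
      (∀ h ∈ H, (Cfsg.IsPRegular p h ↔ h ∈ H₀)) ∧ ∃ j, Nat.card H = p ^ j * Nat.card H₀ := by
    have hscard : Nat.card C = orderOf s := Nat.card_zpowers s
    have hsp : ¬ p ∣ orderOf s := fun h => hx (h.trans hsx)
    have hcardH : Nat.card H = q ^ k * Nat.card C := by
      rw [← hk, Nat.card_congr (Subgroup.subgroupOfEquivOfLe (le_sup_left : C ≤ H)).toEquiv.symm]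
      exact (Subgroup.index_mul_card _).symm
    by_cases hqp : q = p
    · refine ⟨C, le_sup_left, fun h hh => ⟨fun hr => ?_, fun hc hd => ?_⟩, k, hqp ▸ hcardH⟩
      · exact mem_of_coprime_index hk hh
          ((Nat.Prime.coprime_iff_not_dvd hq).2 (hqp ▸ hr)).symm
      · exact hsp (hd.trans (orderOf_dvd_of_mem_zpowers hc))
    · refine ⟨H, le_rfl, fun h hh => ⟨fun _ => hh, fun _ hd => ?_⟩, 0, by simp⟩
      have h1 : p ∣ q ^ k * Nat.card C := hcardH ▸ hd.trans (Subgroup.orderOf_dvd_natCard _ hh)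
      rcases (Nat.Prime.dvd_mul hp).1 h1 with h2 | h2
      · exact hqp ((Nat.prime_dvd_prime_iff_eq hp hq).1 (hp.dvd_of_dvd_pow h2)).symm
      · exact hsp (hscard ▸ h2)
  let f : S → ℤ := fun y => (Nat.card (MulAction.fixedBy (G ⧸ H) y.1) : ℤ)
  have hfR : f ∈ R := by
    refine ⟨⟨_, 0, isCharacter_fixCount H, IsChar.zero, fun y => by simp [f]⟩, fun θ hθ => ?_⟩
    obtain ⟨m, hm⟩ := sum_subgroup_eq hθ H₀
    haveI : Fintype (G ⧸ H) := Fintype.ofFinite _
    have key : ∑ y : S, (f y : ℂ) * θ y.1 =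
        ∑ _c : G ⧸ H, ∑ h : H₀, θ (h : G) := by
      have h1 : ∀ y : S, (f y : ℂ) * θ y.1 =
          ∑ c : G ⧸ H, if y.1 • c = c then θ y.1 else 0 := by
        intro y
        rw [← Finset.sum_filter, Finset.sum_const, nsmul_eq_mul]
        simp only [f, Int.cast_natCast, Nat.card_eq_fintype_card]
        rw [Fintype.card_subtype]
        rfl
      simp only [h1]
      rw [Finset.sum_comm]
      refine Finset.sum_congr rfl fun c _ => ?_
      obtain ⟨t, rfl⟩ := QuotientGroup.mk_surjective c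
      rw [← Finset.sum_filter]
      have hfix : ∀ y : G, y • (t : G ⧸ H) = (t : G ⧸ H) ↔ t⁻¹ * y * t ∈ H := by
        intro y
        rw [MulAction.Quotient.smul_coe, QuotientGroup.eq, ← inv_mem_iff]
        simp [mul_assoc]
      have hordconj : ∀ a b : G, orderOf (a⁻¹ * b * a) = orderOf b := by
        intro a b
        simpa using (MulEquiv.orderOf_eq (MulAut.conj a⁻¹) b)
      refine Finset.sum_bij' (fun (y : S) hy => (⟨t⁻¹ * y.1 * t, ?_⟩ : H₀))
        (fun (h : H₀) _ => (⟨t * h * t⁻¹, ?_⟩ : S)) ?_ ?_ ?_ ?_ ?_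
      · refine (hH₀reg _ ((hfix _).1 (Finset.mem_filter.1 hy).2)).1 ?_
        show ¬ p ∣ orderOf _
        rw [hordconj]
        exact y.2
      · show ¬ p ∣ orderOf _
        have := hordconj t⁻¹ (h : G)
        rw [inv_inv] at this
        rw [this]
        exact (hH₀reg _ (hH₀H h.2)).2 h.2
      · intro y hy; exact Finset.mem_univ _
      · intro h _
        refine Finset.mem_filter.2 ⟨Finset.mem_univ _, (hfix _).2 ?_⟩
        simpa [mul_assoc] using hH₀H h.2
      · intro y hy; exact Subtype.ext (by simp [mul_assoc])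
      · intro h _; exact Subtype.ext (by simp [mul_assoc])
      · intro y hy
        have := IsChar.isClassFunction hθ y.1 t⁻¹
        simpa using this.symm
    rw [key, hm, Finset.sum_const, nsmul_eq_mul, Finset.card_univ, ← Nat.card_eq_fintype_card,
      ← Subgroup.index]
    have hdvd : U ∣ H.index * Nat.card H₀ := by
      refine ((Nat.coprime_ordCompl hp (Nat.card_pos (α := G)).ne').symm.pow_right j).dvd_of_dvd_mul_right ?_
      rw [mul_assoc, mul_comm (Nat.card H₀), ← hj, Subgroup.index_mul_card]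
      exact Nat.div_dvd_of_dvd (Nat.ordProj_dvd _ _)
    obtain ⟨d, hd⟩ := hdvd
    refine ⟨(d * m : ℕ), ?_⟩
    have hd' : (H.index : ℂ) * (Nat.card H₀ : ℂ) = (U : ℂ) * (d : ℂ) := by exact_mod_cast hd
    push_cast
    rw [← mul_assoc, hd']
    ring
  have hdvd := hall f hfR
  simp only [f, Int.natCast_dvd_natCast] at hdvd
  -- the value is prime to q
  let W := Subgroup.zpowers u
  have hW : IsPGroup q W := by
    obtain ⟨i, -, hi⟩ := (Nat.dvd_prime_pow hq).1 hku
    exact IsPGroup.of_card (n := i) (by rw [Nat.card_zpowers, hi])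
  let Y : SubMulAction W (G ⧸ H) :=
    { carrier := MulAction.fixedBy (G ⧸ H) s
      smul_mem' := fun w c hc => by
        obtain ⟨i, hi⟩ := Subgroup.mem_zpowers_iff.1 w.2
        show s • ((w : G) • c) = (w : G) • c
        rw [smul_smul, ← hi, (hsu.zpow_right i).eq, ← smul_smul, show s • c = c from hc] }
  have hfixY : Nat.card (MulAction.fixedPoints W Y) =
      Nat.card (MulAction.fixedBy (G ⧸ H) x) := by
    refine Nat.card_congr
      { toFun := fun c => ⟨c.1.1, ?_⟩
        invFun := fun c => ⟨⟨c.1, ?_⟩, ?_⟩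
        left_inv := fun c => rfl
        right_inv := fun c => rfl }
    · have h1 : u • c.1.1 = c.1.1 := congrArg Subtype.val (c.2 ⟨u, Subgroup.mem_zpowers u⟩)
      show x • c.1.1 = c.1.1
      rw [← hxsu, ← smul_smul, h1]
      exact c.1.2
    · -- s is a power of x
      have hs : s ∈ MulAction.stabilizer G c.1 := by
        have hxm : x ∈ MulAction.stabilizer G c.1 := c.2
        exact (Subgroup.zpowers_le.2 hxm) hsmem
      exact hs
    · intro w
      apply Subtype.ext
      show (w : G) • c.1 = c.1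
      have hu : u ∈ MulAction.stabilizer G c.1 := by
        have hxm : x ∈ MulAction.stabilizer G c.1 := c.2
        exact (Subgroup.zpowers_le.2 hxm) humem
      exact (Subgroup.zpowers_le.2 hu) w.2
  haveI : Finite Y := inferInstanceAs (Finite (MulAction.fixedBy (G ⧸ H) s))
  have hmod := IsPGroup.card_modEq_card_fixedPoints (p := q) hW Y
  have hdvdY : q ∣ Nat.card Y := (Nat.ModEq.dvd_iff hmod dvd_rfl).2 (hfixY ▸ hdvd)
  have hNval : Nat.card Y = H.relIndex N := by
    have horb : MulAction.orbit N ((1 : G) : G ⧸ H) = MulAction.fixedBy (G ⧸ H) s := by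
      ext c
      obtain ⟨t, rfl⟩ := QuotientGroup.mk_surjective c
      have hsm : (t : G ⧸ H) ∈ MulAction.fixedBy (G ⧸ H) s ↔ t⁻¹ * s⁻¹ * t ∈ H := by
        rw [MulAction.mem_fixedBy, MulAction.Quotient.smul_coe, QuotientGroup.eq]
        simp [mul_assoc]
      rw [hsm]
      constructor
      · rintro ⟨⟨n, hn⟩, hnt⟩
        have hnt' : n⁻¹ * t ∈ H := by
          have : ((n * 1 : G) : G ⧸ H) = (t : G ⧸ H) := hnt
          rwa [mul_one, QuotientGroup.eq] at this
        have h1 : n⁻¹ * s⁻¹ * n ∈ C := by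
          have := (Subgroup.mem_normalizer_iff.1 (N.inv_mem hn) s⁻¹).1
            (C.inv_mem (Subgroup.mem_zpowers s))
          rwa [inv_inv] at this
        have h2 := H.mul_mem (H.mul_mem (H.inv_mem hnt')
          ((le_sup_left : C ≤ H) h1)) hnt'
        rwa [show (n⁻¹ * t)⁻¹ * (n⁻¹ * s⁻¹ * n) * (n⁻¹ * t) = t⁻¹ * s⁻¹ * t by group] at h2
      · intro ht
        have hord : orderOf (t⁻¹ * s⁻¹ * t) = orderOf s := by
          rw [← orderOf_inv s]
          simpa using MulEquiv.orderOf_eq (MulAut.conj t⁻¹) s⁻¹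
        have hC := mem_of_coprime_index hk ht (hord ▸ hsq)
        have hz : Subgroup.zpowers (t⁻¹ * s⁻¹ * t) = C := Subgroup.eq_of_le_of_card_ge
          (Subgroup.zpowers_le.2 hC) (by rw [Nat.card_zpowers, Nat.card_zpowers, hord])
        have hmap : C.map (MulAut.conj t⁻¹).toMonoidHom = C := by
          conv_rhs => rw [← hz]
          rw [show C = Subgroup.zpowers s from rfl, ← Subgroup.zpowers_inv (g := s), MonoidHom.map_zpowers]
          simp
        have htN : t⁻¹ ∈ N := by
          refine Subgroup.mem_normalizer_iff.2 fun z => ?_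
          conv_rhs => rw [← SetLike.mem_coe, ← hmap, SetLike.mem_coe]
          rw [show t⁻¹ * z * t⁻¹⁻¹ = (MulAut.conj t⁻¹).toMonoidHom z by simp]
          exact (Subgroup.mem_map_iff_mem (MulAut.conj t⁻¹).injective).symm
        refine ⟨⟨t, by simpa using N.inv_mem htN⟩, ?_⟩
        show ((t * 1 : G) : G ⧸ H) = _
        rw [mul_one]
    have hstab : MulAction.stabilizer N ((1 : G) : G ⧸ H) = H.subgroupOf N := by
      ext n
      rw [MulAction.mem_stabilizer_iff, Subgroup.mem_subgroupOf]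
      show ((n * 1 : G) : G ⧸ H) = _ ↔ _
      rw [mul_one, QuotientGroup.eq, mul_one, inv_mem_iff]
    calc Nat.card Y = (MulAction.fixedBy (G ⧸ H) s).ncard := rfl
      _ = _ := by rw [← horb, ← MulAction.index_stabilizer, hstab]; rfl
  rw [hNval] at hdvdY
  have hQle : ((Q : Subgroup N).map N.subtype) ≤ H := le_sup_right
  have : H.relIndex N ∣ (Q : Subgroup N).index := by
    have h := Subgroup.relIndex_dvd_of_le_left N hQle
    rwa [show (Subgroup.map N.subtype (Q : Subgroup N)).relIndex N = (Q : Subgroup N).index from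
      congrArg Subgroup.index (Subgroup.comap_map_eq_self_of_injective N.subtype_injective _)] at h
  exact Q.not_dvd_index (hdvdY.trans this)

/-- Divisibility form. -/
theorem card_part_mul_classInner (χ ψ : Cfsg.IrrCharacter G) :
    ∃ n : ℤ, ((p ^ (Nat.card G).factorization p : ℕ) : ℂ) *
      Cfsg.classInner (Cfsg.pRegularPart p (χ : G → ℂ)) (ψ : G → ℂ) = (n : ℂ) := by
  classical
  have hψ' : Cfsg.IsCharacter G (fun g => conj ((ψ : G → ℂ) g)) := by
    obtain ⟨n, ρ, hρ⟩ := IsIrr.isCharacter ψ.2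
    have : ρ.dual.character = fun g => conj ((ψ : G → ℂ) g) := by
      funext g
      rw [Representation.char_dual, hρ, irr_conj_apply ψ.2]
    exact this ▸ isCharacter_character _
  obtain ⟨n, hn⟩ := sum_pRegular_dvd (p := p)
    (isCharacter_mul (IsIrr.isCharacter χ.2) hψ')
  refine ⟨n, ?_⟩
  have hsum : ∑ g : G, Cfsg.pRegularPart p (χ : G → ℂ) g * conj ((ψ : G → ℂ) g) =
      ∑ x ∈ Finset.univ.filter (fun x : G => Cfsg.IsPRegular p x),
        ((χ : G → ℂ) * fun g => conj ((ψ : G → ℂ) g)) x := by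
    rw [Finset.sum_filter]
    refine Finset.sum_congr rfl fun g _ => ?_
    simp only [Cfsg.pRegularPart, Pi.mul_apply]
    split_ifs <;> simp
  rw [classInner_def, hsum, hn]
  have hG : (Nat.card G : ℂ) ≠ 0 := by simp
  have h : (Nat.card G : ℂ) = ((p ^ (Nat.card G).factorization p : ℕ) : ℂ) *
      ((Nat.card G / p ^ (Nat.card G).factorization p : ℕ) : ℂ) := by
    rw [← Nat.cast_mul, Nat.mul_div_cancel' (Nat.ordProj_dvd _ _)]
  field_simp
  linear_combination (-(n : ℂ)) * h

end Cfsg.Agent.H83
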