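import Mathlib.RingTheory.SimpleModule.IsAlgClosed
import Mathlib.RingTheory.Idempotents
import Mathlib.RingTheory.HopkinsLevitzki
import Mathlib.RingTheory.Artinian.Ring
import Mathlib.LinearAlgebra.Matrix.Trace
import Mathlib.LinearAlgebra.Dimension.RankNullity
import Mathlib.LinearAlgebra.FiniteDimensional.Lemmas
import Mathlib.Algebra.Algebra.Operations
import Mathlib.Tactic.NoncommRing

/-!
A symmetric block algebra whose space of trace forms has dimension at most two, with a centre
bigger than the scalars, is a full matrix algebra over an algebra of dimension two.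
-/

namespace Cfsg.Agent.H83.TwoDim

open Module

set_option linter.style.haveILetI false

variable {k R : Type*} [Field k] [Ring R] [Algebra k R]

/-- Functionals separating a linearly independent family modulo a submodule. -/
theorem exists_dual {ι : Type*} [Fintype ι] [DecidableEq ι] {v : ι → R} (m : Submodule k R)
    (hv : LinearIndependent k (fun i => m.mkQ (v i))) :
    ∃ φ : ι → (R →ₗ[k] k), (∀ i, ∀ x ∈ m, φ i x = 0) ∧
      ∀ i j, φ i (v j) = if i = j then 1 else 0 := by
  obtain ⟨g, hg⟩ := LinearMap.exists_leftInverse_of_injective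
    (Fintype.linearCombination k (fun i => m.mkQ (v i)))
    (LinearMap.ker_eq_bot.2 hv.fintypeLinearCombination_injective)
  refine ⟨fun i => (LinearMap.proj i).comp (g.comp m.mkQ), fun i x hx => ?_, fun i j => ?_⟩
  · simp [Submodule.Quotient.mk_eq_zero m |>.2 hx]
  · have h := LinearMap.congr_fun hg (Pi.single j 1)
    simp only [LinearMap.comp_apply, LinearMap.id_apply,
      Fintype.linearCombination_apply_single, one_smul] at h
    simp only [LinearMap.comp_apply, LinearMap.proj_apply, h, Pi.single_apply]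

/-- The main statement: the dimension is twice a square. -/
theorem exists_two_mul_sq [IsAlgClosed k] [FiniteDimensional k R] (e : R)
    (he : e * e = e) (hc : ∀ x, e * x = x * e) (hne : e ≠ 0)
    (hprim : ∀ c : R, (∀ x, c * x = x * c) → c * c = c → c * e = c → c = 0 ∨ c = e)
    (hns : ∃ z : R, (∀ x, z * x = x * z) ∧ ∀ μ : k, z * e ≠ μ • e)
    (τ : R →ₗ[k] k) (hτ : ∀ x y, τ (x * y) = τ (y * x))
    (hnd : ∀ x, (∀ y, τ (x * y) = 0) → x = 0)
    (hdim : ∀ φ : Fin 3 → (R →ₗ[k] k), (∀ i x y, φ i (x * y) = φ i (y * x)) →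
      (∀ i x, φ i (e * x) = φ i x) → ∃ c : Fin 3 → k, c ≠ 0 ∧ ∀ x, ∑ i, c i * φ i x = 0) :
    ∃ n : ℕ, finrank k (LinearMap.range (LinearMap.mulLeft k e)) = 2 * n ^ 2 := by
  classical
  haveI := IsArtinianRing.of_finite k R
  obtain ⟨N, d, hd, ⟨q⟩⟩ :=
    IsSemisimpleRing.exists_algEquiv_pi_matrix_of_isAlgClosed k (R ⧸ Ring.jacobson R)
  set J := Ring.jacobson R with hJ
  let ψ : R →ₐ[k] Π i, Matrix (Fin (d i)) (Fin (d i)) k :=
    q.toAlgHom.comp (Ideal.Quotient.mkₐ k J)
  have hsurj : Function.Surjective ψ := q.surjective.comp Ideal.Quotient.mk_surjective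
  have hker : ∀ x, ψ x = 0 ↔ x ∈ J := fun x => by
    show q (Ideal.Quotient.mk J x) = 0 ↔ _
    rw [map_eq_zero_iff q q.injective, Ideal.Quotient.eq_zero_iff_mem]
  obtain ⟨NJ, hNJ⟩ : IsNilpotent J := IsSemiprimaryRing.isNilpotent
  have hnil : ∀ x ∈ J, IsNilpotent x := fun x hx => by
    refine ⟨NJ + 1, ?_⟩
    have : x ^ NJ ∈ J ^ NJ := Ideal.pow_mem_pow hx NJ
    rw [hNJ, Ideal.zero_eq_bot, Ideal.mem_bot] at this
    rw [pow_succ', this, mul_zero]
  -- components of the idempotent
  have hE : ∀ i, ψ e i = 0 ∨ ψ e i = 1 := by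
    intro i
    have hcomm : ∀ X : Matrix (Fin (d i)) (Fin (d i)) k, X * ψ e i = ψ e i * X := by
      intro X
      obtain ⟨y, hy⟩ := hsurj (Pi.single i X)
      have h := congrFun (congrArg ψ (hc y)) i
      rw [map_mul, map_mul, Pi.mul_apply, Pi.mul_apply, hy, Pi.single_eq_same] at h
      exact h.symm
    obtain ⟨a, ha⟩ : ψ e i ∈ Set.range (Matrix.scalar (Fin (d i))) :=
      Matrix.mem_range_scalar_of_commute_single fun a b _ => hcomm _
    have h := congrFun (congrArg ψ he) i
    haveI := hd i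
    rw [map_mul, Pi.mul_apply, ← ha, ← map_mul] at h
    have ha2 := Matrix.scalar_inj.1 h
    rcases eq_or_ne a 0 with h0 | h0
    · exact Or.inl (by rw [← ha, h0, map_zero])
    · refine Or.inr ?_
      rw [← ha, show a = 1 from mul_left_cancel₀ h0 (ha2.trans (mul_one a).symm), map_one]
  have hne' : ∃ i, ψ e i = 1 := by
    by_contra h
    push Not at h
    refine hne ?_
    obtain ⟨m, hm⟩ := hnil e ((hker e).1 (funext fun i => (hE i).resolve_right (h i)))
    rcases m with - | m
    · rw [← mul_one e, ← pow_zero e, hm, mul_zero]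
    · rwa [IsIdempotentElem.pow_succ_eq m he] at hm
  obtain ⟨i₀, hi₀⟩ := hne'
  haveI := hd i₀
  have hother : ∀ i, i ≠ i₀ → ψ e i = 0 := by
    intro j hj
    refine (hE j).resolve_right fun hj1 => ?_
    haveI := hd j
    let t : ∀ i, R →ₗ[k] k := fun i =>
      (Matrix.traceLinearMap (Fin (d i)) k k).comp ((LinearMap.proj i).comp
        (ψ.toLinearMap.comp (LinearMap.mulLeft k e)))
    have ht : ∀ i x, t i x = Matrix.trace (ψ (e * x) i) := fun i x => rfl
    have htt : ∀ i x y, t i (x * y) = t i (y * x) := fun i x y => by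
      rw [ht, ht]
      rcases hE i with h | h <;> simp only [map_mul, Pi.mul_apply, h, zero_mul, one_mul]
      exact Matrix.trace_mul_comm _ _
    have hte : ∀ i x, t i (e * x) = t i x := fun i x => by rw [ht, ht, ← mul_assoc, he]
    obtain ⟨c, hc0, hsum⟩ := hdim ![t i₀, t j, τ.comp (LinearMap.mulLeft k e)]
      (fun i x y => by
        fin_cases i
        · exact htt i₀ x y
        · exact htt j x y
        · show τ (e * (x * y)) = τ (e * (y * x))
          rw [← mul_assoc, hc x, mul_assoc, hτ x, mul_assoc])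
      (fun i x => by
        fin_cases i
        · exact hte i₀ x
        · exact hte j x
        · show τ (e * (e * x)) = τ (e * x)
          rw [← mul_assoc, he])
    have hsum' : ∀ x, c 0 * Matrix.trace (ψ (e * x) i₀) + c 1 * Matrix.trace (ψ (e * x) j) +
        c 2 * τ (e * x) = 0 := fun x => by
      have h := hsum x
      simp only [Fin.sum_univ_three, Matrix.cons_val] at h
      exact h
    have hc2 : c 2 ≠ 0 := by
      intro h2
      apply hc0
      obtain ⟨u, hu⟩ := hsurj (Pi.single i₀ (Matrix.single 0 0 1))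
      obtain ⟨w, hw⟩ := hsurj (Pi.single j (Matrix.single 0 0 1))
      have e1 := hsum' u
      have e2 := hsum' w
      simp only [map_mul, Pi.mul_apply, hu, hi₀, hj1, h2, one_mul, zero_mul, add_zero,
        Pi.single_eq_same, Pi.single_eq_of_ne hj, Matrix.trace_single_eq_same, Matrix.trace_zero,
        mul_one, mul_zero] at e1
      simp only [map_mul, Pi.mul_apply, hw, hi₀, hj1, h2, one_mul, zero_mul, add_zero, zero_add,
        Pi.single_eq_same, Pi.single_eq_of_ne hj.symm, Matrix.trace_single_eq_same,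
        Matrix.trace_zero, mul_one, mul_zero] at e2
      funext i
      fin_cases i <;> assumption
    have hej : ∀ x ∈ J, e * x = 0 := by
      intro x hx
      refine hnd _ fun y => ?_
      have hm : ψ (x * y) = 0 := by rw [map_mul, (hker x).2 hx, zero_mul]
      have h := hsum' (x * y)
      simp only [map_mul, Pi.mul_apply, hm, Pi.zero_apply, mul_zero, Matrix.trace_zero,
        zero_add] at h
      rw [mul_assoc]
      exact (mul_eq_zero.1 h).resolve_left hc2
    obtain ⟨c₀, hc₀⟩ := hsurj (Pi.single i₀ 1)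
    have hcen : ∀ x, (e * c₀) * x = x * (e * c₀) := by
      intro x
      have hm : c₀ * x - x * c₀ ∈ J := by
        rw [← hker, map_sub, map_mul, map_mul, hc₀, sub_eq_zero]
        funext l
        rcases eq_or_ne l i₀ with rfl | hl
        · simp
        · simp [Pi.single_eq_of_ne hl]
      have h0 := hej _ hm
      rw [mul_sub, sub_eq_zero] at h0
      rw [mul_assoc, h0, ← mul_assoc, hc x, mul_assoc]
    have hidem : (e * c₀) * (e * c₀) = e * c₀ := by
      have hm : c₀ * c₀ - c₀ ∈ J := by
        rw [← hker, map_sub, map_mul, hc₀, sub_eq_zero]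
        funext l
        rcases eq_or_ne l i₀ with rfl | hl
        · simp
        · simp [Pi.single_eq_of_ne hl]
      have h0 := hej _ hm
      rw [mul_sub, sub_eq_zero] at h0
      calc e * c₀ * (e * c₀) = e * (c₀ * e) * c₀ := by simp only [mul_assoc]
        _ = e * e * (c₀ * c₀) := by rw [← hc c₀]; simp only [mul_assoc]
        _ = e * c₀ := by rw [he, h0]
    rcases hprim _ hcen hidem (by rw [hcen, ← mul_assoc, he]) with h | h
    · have := congrFun (congrArg ψ h) i₀
      rw [map_mul, map_zero, Pi.mul_apply, hi₀, hc₀, Pi.single_eq_same, one_mul] at this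
      exact one_ne_zero this
    · have := congrFun (congrArg ψ h) j
      rw [map_mul, Pi.mul_apply, hj1, hc₀, Pi.single_eq_of_ne hj, mul_zero] at this
      exact zero_ne_one this
  have hψe : ψ e = Pi.single i₀ 1 := funext fun i => by
    rcases eq_or_ne i i₀ with rfl | hi
    · rw [hi₀, Pi.single_eq_same]
    · rw [hother i hi, Pi.single_eq_of_ne hi]
  -- a primitive idempotent
  obtain ⟨f₀, hf₀, hψf₀⟩ := exists_isIdempotentElem_eq_of_ker_isNilpotent ψ.toRingHom
    (fun x hx => hnil x ((hker x).1 (RingHom.mem_ker.1 hx)))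
    (Pi.single i₀ (Matrix.single 0 0 1)) (hsurj _)
    (by rw [IsIdempotentElem, ← Pi.single_mul, Matrix.single_mul_single_same, one_mul])
  obtain ⟨f, hff, hfe, hψf⟩ : ∃ f : R, f * f = f ∧ f * e = f ∧
      ψ f = Pi.single i₀ (Matrix.single 0 0 1) := by
    refine ⟨f₀ * e, ?_, by rw [mul_assoc, he], ?_⟩
    · calc f₀ * e * (f₀ * e) = f₀ * (e * f₀) * e := by simp only [mul_assoc]
        _ = f₀ * f₀ * (e * e) := by rw [hc f₀]; simp only [mul_assoc]
        _ = f₀ * e := by rw [hf₀.eq, he]
    · rw [map_mul, hψe, show ψ f₀ = _ from hψf₀, ← Pi.single_mul, mul_one]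
  have hef : e * f = f := by rw [hc, hfe]
  -- `e` lies in the two-sided ideal generated by `f`
  choose u₀ hu₀ using fun a : Fin (d i₀) => hsurj (Pi.single i₀ (Matrix.single a 0 1))
  choose v₀ hv₀ using fun a : Fin (d i₀) => hsurj (Pi.single i₀ (Matrix.single 0 a 1))
  obtain ⟨u, v, huv⟩ : ∃ u v : Fin (d i₀) → R, ∑ a, u a * f * v a = e := by
    set w := ∑ a, u₀ a * f * v₀ a with hw
    have hew : e * w = w := by
      rw [hw, Finset.mul_sum]
      refine Finset.sum_congr rfl fun a _ => ?_
      rw [← mul_assoc, ← mul_assoc, hc (u₀ a), mul_assoc (u₀ a), hef]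
    have hψw : ψ w = ψ e := by
      rw [hw, map_sum, hψe]
      simp only [map_mul, hu₀, hv₀, hψf, ← Pi.single_mul, Matrix.single_mul_single_same, mul_one]
      rw [← Matrix.sum_single_one]
      exact (map_sum (AddMonoidHom.single (fun i => Matrix (Fin (d i)) (Fin (d i)) k) i₀) _ _).symm
    have hj : IsNilpotent (e - w) := hnil _ ((hker _).1 (by rw [map_sub, hψw, sub_self]))
    obtain ⟨s, hs⟩ := hj.isUnit_one_sub
    have h1 : (s : R) * e = w := by
      rw [hs, sub_mul, one_mul, sub_mul, he, ← hc, hew]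
      abel
    refine ⟨fun a => (↑s⁻¹ : R) * u₀ a, v₀, ?_⟩
    simp only [mul_assoc, ← Finset.mul_sum]
    rw [show ∑ a, u₀ a * (f * v₀ a) = w by simp only [hw, mul_assoc], ← h1, Units.inv_mul_cancel_left]
  have hins : ∀ y : R, e * y = ∑ a, u a * (f * (v a * y)) := fun y => by
    rw [← huv, Finset.sum_mul]
    simp only [mul_assoc]
  -- the local algebra
  let W : Submodule k R :=
    LinearMap.range ((LinearMap.mulLeft k f).comp (LinearMap.mulRight k f))
  have hW : ∀ {a}, a ∈ W ↔ f * a = a ∧ a * f = a := by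
    intro a
    constructor
    · rintro ⟨y, rfl⟩
      simp only [LinearMap.comp_apply, LinearMap.mulLeft_apply, LinearMap.mulRight_apply]
      exact ⟨by rw [← mul_assoc, hff], by rw [mul_assoc, mul_assoc, hff]⟩
    · rintro ⟨h1, h2⟩
      exact ⟨a, by simp [h2, h1]⟩
  have hWmk : ∀ y, f * (y * f) ∈ W := fun y => ⟨y, rfl⟩
  have hfW : f ∈ W := hW.2 ⟨hff, hff⟩
  let Jk : Submodule k R := Submodule.restrictScalars k J
  let m : Submodule k R := W ⊓ Jk
  have hWsplit : ∀ a ∈ W, ∃ μ : k, ∃ b ∈ m, a = μ • f + b := by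
    intro a ha
    refine ⟨ψ a i₀ 0 0, a - ψ a i₀ 0 0 • f, ⟨W.sub_mem ha (W.smul_mem _ hfW), ?_⟩, by abel⟩
    show a - ψ a i₀ 0 0 • f ∈ J
    rw [← hker, map_sub, map_smul, sub_eq_zero]
    obtain ⟨h1, h2⟩ := hW.1 ha
    conv_lhs => rw [← h1, ← h2]
    rw [map_mul, map_mul, hψf]
    funext i
    rcases eq_or_ne i i₀ with rfl | hi
    · simp only [Pi.mul_apply, Pi.smul_apply, Pi.single_eq_same]
      ext a b
      rw [Matrix.smul_apply, smul_eq_mul]
      rcases eq_or_ne a 0 with rfl | ha'
      · rcases eq_or_ne b 0 with rfl | hb'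
        · simp
        · simp [hb', Ne.symm hb']
      · simp [ha', Ne.symm ha']
    · simp [Pi.single_eq_of_ne hi]
  have hf_notJ : f ∉ J := fun h => by
    have := congrFun (congrFun (congrFun ((hker f).2 h) i₀) 0) 0
    rw [hψf, Pi.single_eq_same] at this
    simp at this
  -- trace forms on the local algebra extend
  have htrace : ∀ φ : R →ₗ[k] k, (∀ a ∈ W, ∀ b ∈ W, φ (a * b) = φ (b * a)) →
      ∃ Φ : R →ₗ[k] k, (∀ x y, Φ (x * y) = Φ (y * x)) ∧ (∀ x, Φ (e * x) = Φ x) ∧
        ∀ a ∈ W, Φ a = φ a := by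
    intro φ hφ
    refine ⟨∑ a, φ.comp ((LinearMap.mulLeft k (f * v a)).comp
      (LinearMap.mulRight k (u a * f))), fun x y => ?_, fun x => ?_, fun a ha => ?_⟩
    · have key : ∀ x y : R, ∑ a, φ (f * v a * (x * y * (u a * f))) =
          ∑ a, ∑ b, φ ((f * (v a * x * u b * f)) * (f * (v b * y * u a * f))) := by
        intro x y
        refine Finset.sum_congr rfl fun a _ => ?_
        rw [← map_sum]
        congr 1
        have h1 : y * (u a * f) = e * (y * (u a * f)) := by
          rw [← mul_assoc e, hc y, mul_assoc y, ← mul_assoc e, hc (u a), mul_assoc (u a), hef]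
        rw [mul_assoc x, h1, hins, Finset.mul_sum, Finset.mul_sum]
        refine Finset.sum_congr rfl fun b _ => ?_
        have : ∀ z : R, f * (f * z) = f * z := fun z => by rw [← mul_assoc, hff]
        simp only [mul_assoc, this]
      simp only [LinearMap.coe_sum, Finset.sum_apply, LinearMap.comp_apply, LinearMap.mulLeft_apply,
        LinearMap.mulRight_apply]
      rw [key, key, Finset.sum_comm]
      exact Finset.sum_congr rfl fun a _ => Finset.sum_congr rfl fun b _ =>
        hφ _ (hWmk _) _ (hWmk _)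
    · simp only [LinearMap.coe_sum, Finset.sum_apply, LinearMap.comp_apply, LinearMap.mulLeft_apply,
        LinearMap.mulRight_apply]
      refine Finset.sum_congr rfl fun a _ => ?_
      congr 1
      rw [mul_assoc e, ← mul_assoc (f * v a) e, mul_assoc f (v a), ← hc (v a), ← mul_assoc f e, hfe]
    · obtain ⟨h1, h2⟩ := hW.1 ha
      simp only [LinearMap.coe_sum, Finset.sum_apply, LinearMap.comp_apply, LinearMap.mulLeft_apply,
        LinearMap.mulRight_apply]
      calc ∑ i, φ (f * v i * (a * (u i * f)))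
          = ∑ i, φ ((f * (v i * f)) * (a * (f * (u i * f)))) := by
            refine Finset.sum_congr rfl fun i _ => ?_
            congr 1
            conv_lhs => rw [← h1, ← h2]
            simp only [mul_assoc]
        _ = ∑ i, φ (a * (f * (u i * f)) * (f * (v i * f))) := by
            refine Finset.sum_congr rfl fun i _ => hφ _ (hWmk _) _ (hW.2 ⟨?_, ?_⟩)
            · rw [← mul_assoc, h1]
            · simp only [mul_assoc, hff]
        _ = φ a := by
            rw [← map_sum]
            congr 1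
            calc ∑ i, a * (f * (u i * f)) * (f * (v i * f))
                = a * f * (∑ i, u i * f * v i) * f := by
                  rw [Finset.mul_sum, Finset.sum_mul]
                  refine Finset.sum_congr rfl fun i _ => ?_
                  have : ∀ z : R, f * (f * z) = f * z := fun z => by rw [← mul_assoc, hff]
                  simp only [mul_assoc, this]
              _ = a := by rw [huv, h2, mul_assoc, hef, h2]
  have hdep : ∀ w : Fin 3 → R, (∀ i, w i ∈ W) → ∀ S : Submodule k R,
      (∀ a ∈ W, ∀ b ∈ W, a * b - b * a ∈ S) → ¬ LinearIndependent k (fun i => S.mkQ (w i)) := by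
    intro w hw S hS hli
    obtain ⟨φ, hφS, hφw⟩ := exists_dual S hli
    choose Φ h1 h2 h3 using fun i => htrace (φ i) fun a ha b hb => by
      rw [← sub_eq_zero, ← map_sub]
      exact hφS i _ (hS a ha b hb)
    obtain ⟨c, hc0, hsum⟩ := hdim Φ h1 h2
    refine hc0 (funext fun l => ?_)
    have h := hsum (w l)
    simp only [h3 _ _ (hw l), hφw, mul_ite, mul_one, mul_zero, Finset.sum_ite_eq',
      Finset.mem_univ, if_true] at h
    exact h
  have hm2le : m * m ≤ m := Submodule.mul_le.2 fun a ha b hb => by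
    refine ⟨hW.2 ⟨?_, ?_⟩, ?_⟩
    · rw [← mul_assoc, (hW.1 ha.1).1]
    · rw [mul_assoc, (hW.1 hb.1).2]
    · exact J.mul_mem_left a hb.2
  have hcomm2 : ∀ a ∈ W, ∀ b ∈ W, a * b - b * a ∈ m * m := by
    intro a ha b hb
    obtain ⟨μ, a', ha', rfl⟩ := hWsplit a ha
    obtain ⟨ν, b', hb', rfl⟩ := hWsplit b hb
    obtain ⟨hfa, haf⟩ := hW.1 ha'.1
    obtain ⟨hfb, hbf⟩ := hW.1 hb'.1
    have : (μ • f + a') * (ν • f + b') - (ν • f + b') * (μ • f + a') = a' * b' - b' * a' := by
      simp only [add_mul, mul_add, smul_mul_assoc, mul_smul_comm, hfa, haf, hfb, hbf, hff, smul_smul,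
        smul_add, mul_comm μ ν]
      abel
    rw [this]
    exact Submodule.sub_mem _ (Submodule.mul_mem_mul ha' hb') (Submodule.mul_mem_mul hb' ha')
  obtain ⟨x, hx, hgen⟩ : ∃ x ∈ m, ∀ y ∈ m, ∃ μ : k, y - μ • x ∈ m * m := by
    by_cases h0 : ∀ y ∈ m, y ∈ m * m
    · exact ⟨0, m.zero_mem, fun y hy => ⟨0, by simpa using h0 y hy⟩⟩
    push Not at h0
    obtain ⟨x, hx, hxn⟩ := h0
    refine ⟨x, hx, fun y hy => ?_⟩
    by_contra hcon
    push Not at hcon
    refine hdep ![f, x, y] (by intro i; fin_cases i <;> [exact hfW; exact hx.1; exact hy.1])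
      _ hcomm2 ?_
    rw [Fintype.linearIndependent_iff]
    intro g hg
    simp only [Fin.sum_univ_three, Matrix.cons_val] at hg
    rw [← map_smul, ← map_smul, ← map_smul, ← map_add, ← map_add, Submodule.mkQ_apply,
      Submodule.Quotient.mk_eq_zero] at hg
    have g0 : g 0 = 0 := by
      by_contra hg0
      apply hf_notJ
      have h1 : g 0 • f + g 1 • x + g 2 • y ∈ Jk := (hm2le hg).2
      have h2 := Jk.sub_mem (Jk.sub_mem h1 (Jk.smul_mem (g 2) hy.2)) (Jk.smul_mem (g 1) hx.2)
      have h3 := Jk.smul_mem (g 0)⁻¹ (show g 0 • f ∈ Jk by simpa using h2)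
      rwa [smul_smul, inv_mul_cancel₀ hg0, one_smul] at h3
    rw [g0, zero_smul, zero_add] at hg
    have g2 : g 2 = 0 := by
      by_contra hg2
      refine hcon (-((g 2)⁻¹ * g 1)) ?_
      have := (m * m).smul_mem (g 2)⁻¹ hg
      rw [smul_add, smul_smul, smul_smul, inv_mul_cancel₀ hg2, one_smul] at this
      rwa [neg_smul, sub_neg_eq_add, add_comm]
    rw [g2, zero_smul, add_zero] at hg
    have g1 : g 1 = 0 := by
      by_contra hg1
      refine hxn ?_
      simpa [smul_smul, inv_mul_cancel₀ hg1] using (m * m).smul_mem (g 1)⁻¹ hg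
    intro i
    fin_cases i <;> assumption
  -- powers of `x` span the radical
  let Q : Submodule k R := Submodule.span k (Set.range fun i : ℕ => x ^ (i + 1))
  have hQm : Q ≤ m := by
    rw [Submodule.span_le]
    rintro _ ⟨i, rfl⟩
    induction i with
    | zero => simpa using hx
    | succ i ih =>
      show x ^ (i + 1 + 1) ∈ m
      rw [pow_succ]
      exact hm2le (Submodule.mul_mem_mul ih hx)
  have hQQ : Q * Q ≤ Q := by
    rw [Submodule.span_mul_span, Submodule.span_le]
    rintro _ ⟨_, ⟨i, rfl⟩, _, ⟨j, rfl⟩, rfl⟩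
    refine Submodule.subset_span ⟨i + j + 1, ?_⟩
    show x ^ (i + j + 1 + 1) = x ^ (i + 1) * x ^ (j + 1)
    rw [← pow_add]
    congr 1
    omega
  have hmQ : ∀ n : ℕ, m ≤ Q ⊔ m ^ (n + 1) := by
    intro n
    induction n with
    | zero => rw [zero_add, pow_one]; exact le_sup_right
    | succ n ih =>
      intro y hy
      obtain ⟨μ, hμ⟩ := hgen y hy
      have hxQ : μ • x ∈ Q := Q.smul_mem _ (Submodule.subset_span ⟨0, pow_one x⟩)
      rw [← sub_add_cancel y (μ • x)]
      refine Submodule.add_mem _ (?_ : y - μ • x ∈ _) (Submodule.mem_sup_left hxQ)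
      have hle : m * m ≤ Q ⊔ m ^ (n + 1 + 1) := by
        refine le_trans (mul_le_mul' ih ih) ?_
        rw [Submodule.mul_sup, Submodule.sup_mul, Submodule.sup_mul]
        refine sup_le (sup_le (le_sup_of_le_left hQQ) ?_) (sup_le ?_ ?_)
        · refine le_sup_of_le_right ?_
          rw [pow_succ (n := n + 1)]
          exact mul_le_mul' le_rfl hQm
        · refine le_sup_of_le_right ?_
          rw [pow_succ' (n := n + 1)]
          exact mul_le_mul' hQm le_rfl
        · refine le_sup_of_le_right ?_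
          rw [pow_succ (n := n + 1)]
          refine mul_le_mul' le_rfl ?_
          clear ih hμ hxQ
          induction n with
          | zero => rw [zero_add, pow_one]
          | succ n ihn =>
            rw [pow_succ]
            exact le_trans (mul_le_mul' ihn le_rfl) hm2le
      exact hle hμ
  have hmpow : ∀ n : ℕ, m ^ (n + 1) ≤ Submodule.restrictScalars k (J ^ (n + 1)) := by
    intro n
    induction n with
    | zero =>
      rw [zero_add, pow_one]
      show m ≤ Submodule.restrictScalars k (J ^ 1)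
      rw [Submodule.pow_one]
      exact inf_le_right
    | succ n ih =>
      rw [pow_succ]
      show _ ≤ Submodule.restrictScalars k (J ^ (n + 1) * J)
      exact Submodule.mul_le.2 fun a ha b hb => Ideal.mul_mem_mul (ih ha) hb.2
  have hmeq : m ≤ Q := by
    refine le_trans (hmQ NJ) (sup_le le_rfl (le_trans (hmpow NJ) ?_))
    show Submodule.restrictScalars k (J ^ NJ * J) ≤ Q
    rw [hNJ, zero_mul]
    intro a ha
    rw [Submodule.restrictScalars_mem, Ideal.zero_eq_bot, Ideal.mem_bot] at ha
    rw [ha]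
    exact Q.zero_mem
  have hQcomm : ∀ a ∈ Q, ∀ b ∈ Q, a * b = b * a := by
    intro a ha b hb
    induction ha, hb using Submodule.span_induction₂ with
    | mem_mem a b ha hb =>
      obtain ⟨i, rfl⟩ := ha
      obtain ⟨j, rfl⟩ := hb
      exact (Commute.pow_pow_self x _ _).eq
    | zero_left => simp
    | zero_right => simp
    | add_left _ _ _ _ _ _ h1 h2 => simp [add_mul, mul_add, h1, h2]
    | add_right _ _ _ _ _ _ h1 h2 => simp [add_mul, mul_add, h1, h2]
    | smul_left _ _ _ _ _ h => simp [h]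
    | smul_right _ _ _ _ _ h => simp [h]
  have hWcomm : ∀ a ∈ W, ∀ b ∈ W, a * b = b * a := by
    intro a ha b hb
    obtain ⟨μ, a', ha', rfl⟩ := hWsplit a ha
    obtain ⟨ν, b', hb', rfl⟩ := hWsplit b hb
    obtain ⟨hfa, haf⟩ := hW.1 ha'.1
    obtain ⟨hfb, hbf⟩ := hW.1 hb'.1
    simp only [add_mul, mul_add, smul_mul_assoc, mul_smul_comm, hfa, haf, hfb, hbf, hff, smul_smul,
      smul_add, mul_comm μ ν, hQcomm a' (hmeq ha') b' (hmeq hb')]
    abel
  have hxx : x * x = 0 := by
    by_contra hxx
    refine hdep ![f, x, x * x] (by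
      intro i
      fin_cases i
      · exact hfW
      · exact hx.1
      · exact (hm2le (Submodule.mul_mem_mul hx hx)).1) ⊥
      (fun a ha b hb => by rw [hWcomm a ha b hb, sub_self]; exact Submodule.zero_mem _) ?_
    rw [Fintype.linearIndependent_iff]
    intro g hg
    simp only [Fin.sum_univ_three, Matrix.cons_val] at hg
    rw [← map_smul, ← map_smul, ← map_smul, ← map_add, ← map_add, Submodule.mkQ_apply,
      Submodule.Quotient.mk_eq_zero, Submodule.mem_bot] at hg
    have g0 : g 0 = 0 := by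
      by_contra hg0
      apply hf_notJ
      have h1 : g 0 • f ∈ Jk := by
        rw [show g 0 • f = -(g 1 • x + g 2 • (x * x)) from eq_neg_of_add_eq_zero_left (by
          rw [← add_assoc]; exact hg)]
        exact Jk.neg_mem (Jk.add_mem (Jk.smul_mem _ hx.2) (Jk.smul_mem _ (J.mul_mem_left x hx.2)))
      have h2 := Jk.smul_mem (g 0)⁻¹ h1
      rwa [smul_smul, inv_mul_cancel₀ hg0, one_smul] at h2
    rw [g0, zero_smul, zero_add] at hg
    obtain ⟨m0, hm0⟩ := hnil x hx.2
    have g1 : g 1 = 0 := by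
      by_contra hg1
      have h : x = (-((g 1)⁻¹ * g 2)) • (x * x) := by
        have := congrArg ((g 1)⁻¹ • ·) hg
        simp only [smul_add, smul_smul, inv_mul_cancel₀ hg1, one_smul, smul_zero] at this
        rw [neg_smul]
        exact eq_neg_of_add_eq_zero_left this
      have hall : ∀ n : ℕ, ∃ t : k, x = t • x ^ (n + 1) := by
        intro n
        induction n with
        | zero => exact ⟨1, by simp⟩
        | succ n ih =>
          obtain ⟨t, ht⟩ := ih
          refine ⟨t * (-((g 1)⁻¹ * g 2)), ?_⟩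
          conv_lhs => rw [ht]
          rw [← smul_smul]
          congr 1
          rw [pow_succ' x n, pow_succ' x (n + 1), pow_succ' x n, ← mul_assoc x x]
          conv_lhs => arg 1; rw [h]
          rw [smul_mul_assoc]
      obtain ⟨t, ht⟩ := hall m0
      rw [pow_succ, hm0, zero_mul, smul_zero] at ht
      exact hxx (by rw [ht, mul_zero])
    rw [g1, zero_smul, zero_add, smul_eq_zero] at hg
    intro i
    fin_cases i
    · exact g0
    · exact g1
    · exact hg.resolve_right hxx
  have hmx : ∀ y ∈ m, ∃ μ : k, y = μ • x := by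
    intro y hy
    have h : Q ≤ Submodule.span k {x} := by
      rw [Submodule.span_le]
      rintro _ ⟨i, rfl⟩
      rcases i with - | i
      · simp [Submodule.mem_span_singleton_self]
      · simp [pow_succ, mul_assoc, hxx]
    obtain ⟨μ, hμ⟩ := Submodule.mem_span_singleton.1 (h (hmeq hy))
    exact ⟨μ, hμ.symm⟩
  have hx0 : x ≠ 0 := by
    intro hx0
    obtain ⟨z, hz, hzμ⟩ := hns
    have hzf : z * f ∈ W := hW.2
      ⟨by rw [← mul_assoc, ← hz f, mul_assoc, hff], by rw [mul_assoc, hff]⟩
    obtain ⟨μ, b, hb, hzb⟩ := hWsplit _ hzf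
    obtain ⟨ν, hν⟩ := hmx b hb
    rw [hν, hx0, smul_zero, add_zero] at hzb
    refine hzμ μ ?_
    rw [← huv, Finset.mul_sum, Finset.smul_sum]
    refine Finset.sum_congr rfl fun a _ => ?_
    rw [← mul_assoc, ← mul_assoc, hz (u a), mul_assoc (u a), hzb, mul_smul_comm, smul_mul_assoc]
  -- the central element attached to `x`
  obtain ⟨hfx, hxf⟩ := hW.1 hx.1
  set z := ∑ a, u a * x * v a with hz
  have hex : e * x = x := by rw [← hfx, ← mul_assoc, hef]
  have hez : e * z = z := by
    rw [hz, Finset.mul_sum]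
    refine Finset.sum_congr rfl fun a _ => ?_
    rw [← mul_assoc, ← mul_assoc, hc (u a), mul_assoc (u a), hex]
  have hzc : ∀ r, z * r = r * z := by
    intro r
    have h1 : z * r = ∑ a, ∑ b, u a * x * (f * (v a * r * u b * f)) * v b := by
      rw [hz, Finset.sum_mul]
      refine Finset.sum_congr rfl fun a _ => ?_
      have h : u a * x * v a * r = u a * x * (f * (v a * r * e)) := by
        rw [← mul_assoc (u a * x) f, mul_assoc (u a) x f, hxf, ← hc (v a * r),
          ← mul_assoc (u a * x) e, mul_assoc (u a) x e, ← hc x, hex]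
        simp only [mul_assoc]
      rw [h, ← huv, Finset.mul_sum, Finset.mul_sum, Finset.mul_sum]
      simp only [mul_assoc]
    have h2 : e * r * z = ∑ a, ∑ b, u a * (f * (v a * r * u b * f)) * x * v b := by
      conv_lhs => rw [← huv, hz, Finset.sum_mul, Finset.sum_mul]
      refine Finset.sum_congr rfl fun a _ => ?_
      rw [Finset.mul_sum]
      refine Finset.sum_congr rfl fun b _ => ?_
      conv_lhs => rw [← hfx]
      simp only [mul_assoc]
    have h3 : e * r * z = r * z := by rw [hc r, mul_assoc, hez]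
    rw [← h3, h1, h2]
    refine Finset.sum_congr rfl fun a _ => Finset.sum_congr rfl fun b _ => ?_
    rw [mul_assoc (u a) x, hWcomm x hx.1 _ (hWmk _), ← mul_assoc (u a)]
  have hzf : z * f = x := by
    have h : ∀ a, u a * x * v a * f = u a * f * v a * (f * x) := by
      intro a
      have := hWcomm x hx.1 (f * (v a * f)) (hWmk _)
      rw [← mul_assoc x f, hxf] at this
      simp only [mul_assoc] at this ⊢
      rw [this]
    rw [hz, Finset.sum_mul, Finset.sum_congr rfl fun a _ => h a, ← Finset.sum_mul, huv, hfx, hex]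
  have hzx : z * x = 0 := by rw [← hfx, ← mul_assoc, hzf, hxx]
  have hzJ : z ∈ J := by
    rw [hz]
    refine Ideal.sum_mem _ fun a _ => ?_
    exact J.mul_mem_right _ (J.mul_mem_left _ hx.2)
  -- the count
  set S := LinearMap.range (LinearMap.mulLeft k e) with hS
  have hSmem : ∀ {y}, y ∈ S ↔ e * y = y := by
    intro y
    exact ⟨by rintro ⟨y, rfl⟩; simp [← mul_assoc, he], fun h => ⟨y, h⟩⟩
  let g₂ : S →ₗ[k] R := (LinearMap.mulLeft k z).domRestrict S
  let g₁ : S →ₗ[k] Matrix (Fin (d i₀)) (Fin (d i₀)) k :=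
    ((LinearMap.proj i₀).comp ψ.toLinearMap).domRestrict S
  let K : Submodule k S := Jk.comap S.subtype
  have hzz : z * z = 0 := by
    conv_lhs => arg 2; rw [hz]
    rw [Finset.mul_sum]
    refine Finset.sum_eq_zero fun a _ => ?_
    rw [← mul_assoc, ← mul_assoc, hzc (u a), mul_assoc (u a) z x, hzx, mul_zero, zero_mul]
  have hJz : ∀ y ∈ S, y ∈ J → ∃ y' ∈ S, z * y' = y := by
    intro y hy hyJ
    have hy' : y = ∑ a, ∑ b, u a * (f * (v a * y * u b * f)) * v b := by
      conv_lhs => rw [← hSmem.1 hy, ← hSmem.1 hy, hc y, ← mul_assoc, ← huv]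
      rw [Finset.sum_mul, Finset.sum_mul]
      refine Finset.sum_congr rfl fun a _ => ?_
      rw [Finset.mul_sum]
      refine Finset.sum_congr rfl fun b _ => ?_
      simp only [mul_assoc]
    have hmid : ∀ a b, ∃ μ : k, f * (v a * y * u b * f) = μ • x := fun a b => hmx _
      ⟨hWmk _, J.mul_mem_left _ (J.mul_mem_right _ (J.mul_mem_right _ (J.mul_mem_left _ hyJ)))⟩
    choose μ hμ using hmid
    refine ⟨∑ a, ∑ b, μ a b • (e * (u a * f * v b)), ?_, ?_⟩
    · exact Submodule.sum_mem _ fun a _ => Submodule.sum_mem _ fun b _ =>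
        S.smul_mem _ ⟨_, rfl⟩
    · conv_rhs => rw [hy']
      rw [Finset.mul_sum]
      refine Finset.sum_congr rfl fun a _ => ?_
      rw [Finset.mul_sum]
      refine Finset.sum_congr rfl fun b _ => ?_
      rw [hμ, mul_smul_comm, mul_smul_comm, smul_mul_assoc, ← mul_assoc z e, ← hc z, hez,
        ← mul_assoc z, ← mul_assoc z, hzc (u a), mul_assoc (u a) z, hzf]
  have hk2 : LinearMap.ker g₂ = K := by
    ext ⟨y, hy⟩
    show z * y = 0 ↔ y ∈ J
    constructor
    · intro hzy
      by_contra hyJ
      have hne0 : ψ y i₀ ≠ 0 := by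
        intro h0
        apply hyJ
        rw [← hker, ← hSmem.1 hy, map_mul, hψe]
        funext i
        rcases eq_or_ne i i₀ with rfl | hi
        · simp [h0]
        · simp [Pi.single_eq_of_ne hi]
      obtain ⟨a, b, hab⟩ : ∃ a b, ψ y i₀ a b ≠ 0 := by
        by_contra h
        push Not at h
        exact hne0 (Matrix.ext h)
      have hw : f * (v₀ a * y * u₀ b * f) ∈ W := hWmk _
      obtain ⟨μ, b', hb', hwe⟩ := hWsplit _ hw
      have h0 : z * (f * (v₀ a * y * u₀ b * f)) = 0 := by
        simp only [← mul_assoc]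
        rw [hzc f, mul_assoc f z, hzc (v₀ a), ← mul_assoc f, mul_assoc (f * v₀ a) z, hzy]
        simp
      obtain ⟨ν, rfl⟩ := hmx b' hb'
      rw [hwe, mul_add, mul_smul_comm, mul_smul_comm, hzf, hzx, smul_zero, add_zero,
        smul_eq_zero] at h0
      have hμ := h0.resolve_right hx0
      rw [hμ, zero_smul, zero_add] at hwe
      have h := congrFun (congrFun (congrFun (congrArg ψ hwe) i₀) 0) 0
      rw [map_smul, Pi.smul_apply, Matrix.smul_apply, (hker x).2 hx.2, Pi.zero_apply,
        Matrix.zero_apply, smul_zero] at h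
      simp [map_mul, hψf, hu₀, hv₀, Matrix.mul_apply, Matrix.single, Matrix.of_apply] at h
      exact hab h
    · intro hyJ
      obtain ⟨y', -, rfl⟩ := hJz y hy hyJ
      rw [← mul_assoc, hzz, zero_mul]
  have hk1 : LinearMap.ker g₁ = K := by
    ext ⟨y, hy⟩
    show ψ y i₀ = 0 ↔ y ∈ J
    refine ⟨fun h0 => ?_, fun h => by rw [(hker y).2 h]; rfl⟩
    rw [← hker, ← hSmem.1 hy, map_mul, hψe]
    funext i
    rcases eq_or_ne i i₀ with rfl | hi
    · simp [h0]
    · simp [Pi.single_eq_of_ne hi]
  have hr2 : LinearMap.range g₂ = K.map S.subtype := by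
    ext y
    constructor
    · rintro ⟨⟨y', hy'⟩, rfl⟩
      refine ⟨⟨z * y', hSmem.2 (by rw [← mul_assoc, hez])⟩, ?_, rfl⟩
      exact J.mul_mem_right _ hzJ
    · rintro ⟨⟨y, hy⟩, hyK, rfl⟩
      obtain ⟨y', hy', h⟩ := hJz y hy hyK
      exact ⟨⟨y', hy'⟩, h⟩
  have hr1 : LinearMap.range g₁ = ⊤ := by
    rw [LinearMap.range_eq_top]
    intro X
    obtain ⟨y, hy⟩ := hsurj (Pi.single i₀ X)
    refine ⟨⟨e * y, ⟨y, rfl⟩⟩, ?_⟩
    show ψ (e * y) i₀ = X
    rw [map_mul, hy, Pi.mul_apply, hi₀, Pi.single_eq_same, one_mul]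
  have e1 := LinearMap.finrank_range_add_finrank_ker g₁
  have e2 := LinearMap.finrank_range_add_finrank_ker g₂
  rw [hk1, hr1, finrank_top, Module.finrank_matrix, Fintype.card_fin, finrank_self] at e1
  rw [hk2, hr2, Submodule.finrank_map_subtype_eq] at e2
  refine ⟨d i₀, ?_⟩
  rw [sq]
  omega

end Cfsg.Agent.H83.TwoDim
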