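import Cfsg.Agent.BlockBasic.Residue
import Cfsg.Agent.Cores.SecondMain
import Cfsg.Agent.H83.TwoDimCocenter
import Mathlib.FieldTheory.IsAlgClosed.Basic
import Mathlib.Analysis.Complex.Polynomial.Basic
import Mathlib.LinearAlgebra.Trace
import Mathlib.Algebra.MonoidAlgebra.Module
import Mathlib.RingTheory.Localization.Basic

/-!
The block algebra over the residue field: its dimension, its trace forms and its centre.
-/

open scoped ComplexConjugate
open MonoidAlgebra

namespace Cfsg.Agent.H83.BlockAlgebra

open BlockBasic CharBasic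

universe u

variable {p : ℕ} {M : Ideal Cfsg.AlgInt}

noncomputable instance residueField (hM : Cfsg.IsPModular p M) : Field (Residue hM) :=
  haveI := locMax_isMaximal hM
  Ideal.Quotient.field _

/-- The residue map on algebraic integers. -/
noncomputable def toResidue (hM : Cfsg.IsPModular p M) : Cfsg.AlgInt →+* Residue hM :=
  (Ideal.Quotient.mk (locMax hM)).comp
    ({ toFun := fun a => ⟨(a : ℂ), memLocalRing_coe hM a⟩
       map_one' := rfl
       map_mul' := fun _ _ => rfl
       map_zero' := rfl
       map_add' := fun _ _ => rfl } : Cfsg.AlgInt →+* locRing hM)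

theorem toResidue_apply (hM : Cfsg.IsPModular p M) (a : Cfsg.AlgInt) :
    toResidue hM a = res hM (a : ℂ) := by
  rw [res_apply hM (memLocalRing_coe hM a)]
  rfl

theorem toResidue_eq_zero_iff (hM : Cfsg.IsPModular p M) {a : Cfsg.AlgInt} :
    toResidue hM a = 0 → (a : ℂ) ∈ {z | Cfsg.MemLocalIdeal M z} := fun h => by
  rwa [toResidue_apply, res_eq_zero_iff hM (memLocalRing_coe hM a)] at h

theorem toResidue_surjective (hM : Cfsg.IsPModular p M) : Function.Surjective (toResidue hM) := by
  intro y
  obtain ⟨⟨z, a, b, hb, rfl⟩, rfl⟩ := Ideal.Quotient.mk_surjective y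
  obtain ⟨c, m, hm, hc⟩ := hM.2.1.exists_inv hb
  refine ⟨a * c, ?_⟩
  have hres : toResidue hM c * toResidue hM b = 1 := by
    have hm0 : toResidue hM m = 0 := by
      rw [toResidue_apply, res_eq_zero_iff hM (memLocalRing_coe hM m)]
      exact ⟨m, 1, hm, one_not_mem hM, by simp⟩
    have := congrArg (toResidue hM) hc
    rwa [map_add, map_mul, hm0, add_zero, map_one] at this
  have hab : res hM ((a : ℂ) / (b : ℂ)) * toResidue hM b = toResidue hM a := by
    rw [toResidue_apply, toResidue_apply, ← res_mul hM ⟨a, b, hb, rfl⟩ (memLocalRing_coe hM b),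
      div_mul_cancel₀ _ (coe_ne_zero b hb)]
  rw [← res_apply hM ⟨a, b, hb, rfl⟩, map_mul, ← hab, mul_assoc, mul_comm (toResidue hM b), hres,
    mul_one]

open Polynomial in
theorem isAlgClosed_residue (hM : Cfsg.IsPModular p M) : IsAlgClosed (Residue hM) := by
  refine IsAlgClosed.of_exists_root _ fun f hf hirr => ?_
  have hl : f ∈ Polynomial.lifts (toResidue hM) := (lifts_iff_coeff_lifts _).2
    fun n => toResidue_surjective hM _
  obtain ⟨q, hq, hdeg, hmon⟩ := lifts_and_degree_eq_and_monic hl hf
  have hpos : (q.map Cfsg.AlgInt.subtype).degree ≠ 0 := by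
    rw [degree_map_eq_of_injective Cfsg.AlgInt.subtype_injective, hdeg]
    exact (degree_pos_of_irreducible hirr).ne'
  obtain ⟨r, hr⟩ := IsAlgClosed.exists_root _ hpos
  have hr' : Polynomial.eval₂ Cfsg.AlgInt.subtype r q = 0 := by
    rw [← Polynomial.eval_map]; exact hr
  have hint : IsIntegral ℤ r := by
    haveI : Algebra.IsIntegral ℤ Cfsg.AlgInt := ⟨fun a =>
      (isIntegral_algebraMap_iff (A := Cfsg.AlgInt) (B := ℂ) Subtype.coe_injective).1
        (algInt_isIntegral a)⟩
    exact isIntegral_trans r ⟨q, hmon, hr'⟩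
  refine ⟨toResidue hM ⟨r, hint⟩, ?_⟩
  rw [← hq, eval_map, eval₂_at_apply]
  have hz : q.eval (⟨r, hint⟩ : Cfsg.AlgInt) = 0 := by
    refine Subtype.ext ?_
    show Cfsg.AlgInt.subtype (q.eval _) = 0
    rw [← eval₂_at_apply]
    exact hr'
  rw [hz, map_zero]

/-- Functions whose reductions are independent are independent. -/
theorem linearIndependent_of_res (hM : Cfsg.IsPModular p M) {ι κ : Type*} [Fintype ι] [Fintype κ]
    {F : κ → ι → ℂ} (hF : ∀ j i, Cfsg.MemLocalRing M (F j i))
    (h : LinearIndependent (Residue hM) fun j i => res hM (F j i)) : LinearIndependent ℂ F := by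
  classical
  obtain ⟨g, hg⟩ := LinearMap.exists_leftInverse_of_injective
    (Fintype.linearCombination (Residue hM) fun j i => res hM (F j i))
    (LinearMap.ker_eq_bot.2 h.fintypeLinearCombination_injective)
  choose w hw using fun (l : κ) (i : ι) => toResidue_surjective hM (g (Pi.single i 1) l)
  set D : Matrix κ κ ℂ := fun l j => ∑ i, (w l i : ℂ) * F j i with hD
  have hDloc : ∀ l j, Cfsg.MemLocalRing M (D l j) := fun l j => (locRing hM).sum_mem fun i _ =>
    memLocalRing_mul hM (memLocalRing_coe hM _) (hF j i)
  have hres : ∀ l j, res hM (D l j) = (1 : Matrix κ κ (Residue hM)) l j := by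
    intro l j
    rw [res_sum hM _ fun i _ => memLocalRing_mul hM (memLocalRing_coe hM _) (hF j i)]
    simp only [res_mul hM (memLocalRing_coe hM _) (hF j _), ← toResidue_apply, hw]
    have h1 := congrFun (LinearMap.congr_fun hg (Pi.single j 1)) l
    simp only [LinearMap.comp_apply, Fintype.linearCombination_apply_single, one_smul,
      LinearMap.id_apply] at h1
    rw [Matrix.one_apply, ← Pi.single_apply j (1 : Residue hM) l, ← h1,
      LinearMap.pi_apply_eq_sum_univ g, Finset.sum_apply]
    refine Finset.sum_congr rfl fun i _ => ?_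
    rw [Pi.smul_apply, smul_eq_mul, mul_comm]
    congr 1
    refine congrFun (congrArg g ?_) l
    funext i'
    rw [Pi.single_apply]
    exact if_congr eq_comm rfl rfl
  let D' : Matrix κ κ (locRing hM) := fun l j => ⟨D l j, hDloc l j⟩
  have hdet : D.det ≠ 0 := by
    intro h0
    have h1 : D'.det = 0 := by
      refine Subtype.ext ?_
      show (locRing hM).subtype D'.det = 0
      rw [RingHom.map_det]
      exact h0
    have h2 := congrArg (Ideal.Quotient.mk (locMax hM)) h1
    rw [RingHom.map_det, map_zero] at h2
    rw [show (Ideal.Quotient.mk (locMax hM)).mapMatrix D' = (1 : Matrix κ κ (Residue hM)) from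
      Matrix.ext fun l j => by
        rw [RingHom.mapMatrix_apply, Matrix.map_apply, ← res_apply hM (hDloc l j)]
        exact hres l j, Matrix.det_one] at h2
    exact one_ne_zero h2
  rw [Fintype.linearIndependent_iff]
  intro a ha
  by_contra hne
  push Not at hne
  obtain ⟨j₀, hj₀⟩ := hne
  refine hdet (Matrix.exists_mulVec_eq_zero_iff.1 ⟨a, fun h0 => hj₀ (congrFun h0 j₀), ?_⟩)
  funext l
  rw [Matrix.mulVec, dotProduct, Pi.zero_apply]
  simp only [hD, Finset.sum_mul]
  rw [Finset.sum_comm]
  refine Finset.sum_eq_zero fun i _ => ?_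
  have h3 : ∑ j, a j * F j i = 0 := by
    have := congrFun ha i
    simpa using this
  rw [Finset.sum_congr rfl fun j _ => by rw [mul_assoc, mul_comm (F j i)], ← Finset.mul_sum, h3,
    mul_zero]

variable {G : Type u} [Group G] [Fintype G]

theorem red_single (hM : Cfsg.IsPModular p M) (g : G) :
    red hM (single g (1 : ℂ)) = single g (1 : Residue hM) := by
  classical
  apply coeff_injective
  ext h
  rw [coeff_red, coeff_single, coeff_single, Finsupp.single_apply, Finsupp.single_apply]
  split_ifs
  · exact res_one hM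
  · exact res_zero hM

theorem finrank_red_le (hM : Cfsg.IsPModular p M) {z : MonoidAlgebra ℂ G} (hz : IsIntElt M z) :
    Module.finrank (Residue hM) (LinearMap.range (LinearMap.mulLeft (Residue hM) (red hM z))) ≤
      Module.finrank ℂ (LinearMap.range (LinearMap.mulLeft ℂ z)) := by
  classical
  have : Module.Finite (Residue hM) (MonoidAlgebra (Residue hM) G) :=
    Module.Finite.of_basis (MonoidAlgebra.basis G (Residue hM))
  have : Module.Finite ℂ (MonoidAlgebra ℂ G) :=
    Module.Finite.of_basis (MonoidAlgebra.basis G ℂ)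
  set v : G → MonoidAlgebra (Residue hM) G := fun g => red hM (z * single g 1) with hv
  obtain ⟨s, hs, hspan, hli⟩ := exists_linearIndependent (Residue hM) (Set.range v)
  have hle : LinearMap.range (LinearMap.mulLeft (Residue hM) (red hM z)) ≤
      Submodule.span (Residue hM) s := by
    rw [hspan, LinearMap.range_eq_map,
      ← (MonoidAlgebra.basis G (Residue hM)).span_eq, Submodule.map_span_le]
    rintro _ ⟨g, rfl⟩
    refine Submodule.subset_span ⟨g, ?_⟩
    simp only [hv, LinearMap.mulLeft_apply, MonoidAlgebra.basis_apply]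
    rw [red_mul hM hz (isIntElt_single hM g (locRing hM).one_mem), red_single]
  haveI : Fintype s := ((Set.finite_range v).subset hs).fintype
  choose pre hpre using fun x : s => hs x.2
  have hliC : LinearIndependent ℂ fun x : s => z * single (pre x) 1 := by
    let toF : MonoidAlgebra ℂ G →ₗ[ℂ] (G → ℂ) :=
      { toFun := fun w g => w.coeff g
        map_add' := fun a b => by funext g; simp
        map_smul' := fun c a => by funext g; simp }
    let toFk : MonoidAlgebra (Residue hM) G →ₗ[Residue hM] (G → Residue hM) :=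
      { toFun := fun w g => w.coeff g
        map_add' := fun a b => by funext g; simp
        map_smul' := fun c a => by funext g; simp }
    refine LinearIndependent.of_comp toF (linearIndependent_of_res hM
      (fun x g => (hz.mul hM (isIntElt_single hM _ (locRing hM).one_mem)) g) ?_)
    have h := hli.map' toFk (LinearMap.ker_eq_bot.2 fun a b h =>
      coeff_injective (Finsupp.ext fun g => congrFun h g))
    have heq : (⇑toFk ∘ fun x : s => (x : MonoidAlgebra (Residue hM) G)) =
        fun x g => res hM ((z * single (pre x) 1).coeff g) := by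
      funext x g
      show ((x : MonoidAlgebra (Residue hM) G)).coeff g = _
      rw [← hpre x, hv, coeff_red]
    exact heq ▸ h
  calc Module.finrank (Residue hM) (LinearMap.range (LinearMap.mulLeft (Residue hM) (red hM z)))
      ≤ Module.finrank (Residue hM) (Submodule.span (Residue hM) s) := Submodule.finrank_mono hle
    _ = Fintype.card s := by rw [finrank_span_set_eq_card hli, Set.toFinset_card]
    _ = Module.finrank ℂ (Submodule.span ℂ (Set.range fun x : s => z * single (pre x) 1)) :=
        (finrank_span_eq_card hliC).symm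
    _ ≤ _ := Submodule.finrank_mono (Submodule.span_le.2 fun w hw => by
        obtain ⟨x, rfl⟩ := hw
        exact ⟨single (pre x) 1, rfl⟩)

theorem natCast_finrank_mulLeft {z : MonoidAlgebra ℂ G} (hz : z * z = z) :
    (Module.finrank ℂ (LinearMap.range (LinearMap.mulLeft ℂ z)) : ℂ) =
      (Nat.card G : ℂ) * z.coeff 1 := by
  classical
  have : Module.Finite ℂ (MonoidAlgebra ℂ G) :=
    Module.Finite.of_basis (MonoidAlgebra.basis G ℂ)
  have hproj : LinearMap.IsProj (LinearMap.range (LinearMap.mulLeft ℂ z)) (LinearMap.mulLeft ℂ z) :=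
    ⟨fun x => ⟨x, rfl⟩, by rintro _ ⟨y, rfl⟩; simp [← mul_assoc, hz]⟩
  rw [← hproj.trace, LinearMap.trace_eq_matrix_trace ℂ (MonoidAlgebra.basis G ℂ), Matrix.trace,
    Finset.sum_congr rfl (g := fun _ => z.coeff 1) fun g _ => ?_]
  · rw [Finset.sum_const, nsmul_eq_mul, Finset.card_univ, Nat.card_eq_fintype_card]
  · rw [Matrix.diag_apply, LinearMap.toMatrix_apply, MonoidAlgebra.basis_apply,
      LinearMap.mulLeft_apply]
    show (z * single g 1).coeff g = z.coeff 1
    rw [coeff_mul_single_apply, mul_inv_cancel, mul_one]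

theorem finrank_range_add {K A : Type*} [Field K] [Ring A] [Algebra K A] [FiniteDimensional K A]
    {z : A} (hz : z * z = z) :
    Module.finrank K (LinearMap.range (LinearMap.mulLeft K z)) +
      Module.finrank K (LinearMap.range (LinearMap.mulLeft K (1 - z))) = Module.finrank K A := by
  have h : LinearMap.range (LinearMap.mulLeft K (1 - z)) = LinearMap.ker (LinearMap.mulLeft K z) := by
    ext x
    simp only [LinearMap.mem_range, LinearMap.mem_ker, LinearMap.mulLeft_apply]
    constructor
    · rintro ⟨y, rfl⟩
      rw [← mul_assoc, mul_sub, mul_one, hz, sub_self, zero_mul]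
    · intro hx
      exact ⟨x, by rw [sub_mul, one_mul, hx, sub_zero]⟩
  rw [h]
  exact LinearMap.finrank_range_add_finrank_ker _

variable {B : Set (Cfsg.IrrCharacter G)}

/-- The dimension of the block algebra over the residue field. -/
theorem finrank_block (hM : Cfsg.IsPModular p M) (hB : Cfsg.IsPBlock M B) :
    (Module.finrank (Residue hM)
        (LinearMap.range (LinearMap.mulLeft (Residue hM) (red hM (blockElem B)))) : ℂ) =
      ∑ᶠ χ ∈ B, (χ : G → ℂ) 1 * conj ((χ : G → ℂ) 1) := by
  classical
  have : Module.Finite (Residue hM) (MonoidAlgebra (Residue hM) G) :=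
    Module.Finite.of_basis (MonoidAlgebra.basis G (Residue hM))
  have : Module.Finite ℂ (MonoidAlgebra ℂ G) :=
    Module.Finite.of_basis (MonoidAlgebra.basis G ℂ)
  have hi := isIntElt_blockElem hM hB
  have hi' : IsIntElt M (1 - blockElem B) := (isIntElt_one hM).sub hM hi
  have hid := blockElem_idem B
  have hred : red hM (1 - blockElem B) = 1 - red hM (blockElem B) := by
    apply coeff_injective
    ext g
    rw [coeff_red, coeff_sub, coeff_sub, Finsupp.sub_apply, Finsupp.sub_apply, coeff_red,
      ← red_one hM (G := G), coeff_red, res_apply hM ((locRing hM).sub_mem (isIntElt_one hM g) (hi g)),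
      res_apply hM (isIntElt_one hM g), res_apply hM (hi g), ← map_sub]
    rfl
  have hidk : red hM (blockElem B) * red hM (blockElem B) = red hM (blockElem B) := by
    rw [← red_mul hM hi hi, hid]
  have h1 := finrank_red_le hM hi
  have h2 := finrank_red_le hM hi'
  rw [hred] at h2
  have e1 := finrank_range_add (K := Residue hM) hidk
  have e2 := finrank_range_add (K := ℂ) hid
  have e3 : Module.finrank (Residue hM) (MonoidAlgebra (Residue hM) G) =
      Module.finrank ℂ (MonoidAlgebra ℂ G) := by
    rw [Module.finrank_eq_card_basis (MonoidAlgebra.basis G (Residue hM)),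
      Module.finrank_eq_card_basis (MonoidAlgebra.basis G ℂ)]
  rw [show Module.finrank (Residue hM)
      (LinearMap.range (LinearMap.mulLeft (Residue hM) (red hM (blockElem B)))) =
      Module.finrank ℂ (LinearMap.range (LinearMap.mulLeft ℂ (blockElem B))) by omega,
    natCast_finrank_mulLeft hid, coeff_blockElem, Cfsg.blockCoeff, ← mul_assoc,
    mul_inv_cancel₀ (Nat.cast_ne_zero.2 Nat.card_pos.ne'), one_mul]

/-- A lift of a class function with values in the residue field. -/
theorem exists_lift (hM : Cfsg.IsPModular p M) {c : G → Residue hM}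
    (hc : ∀ g x, c (x * g * x⁻¹) = c g) :
    ∃ f : G → ℂ, Cfsg.IsClassFunction G f ∧ (∀ g, Cfsg.MemLocalRing M (f g)) ∧
      ∀ g, res hM (f g) = c g := by
  choose s hs using toResidue_surjective hM
  refine ⟨fun g => (s (c g) : ℂ), fun g x => ?_, fun g => memLocalRing_coe hM _, fun g => ?_⟩
  · show (s (c (x * g * x⁻¹)) : ℂ) = _
    rw [hc]
  · rw [← toResidue_apply, hs]

omit [Fintype G] in
theorem trace_single_class {K : Type*} [Field K] (φ : MonoidAlgebra K G →ₗ[K] K)
    (hφ : ∀ x y, φ (x * y) = φ (y * x)) (g x : G) :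
    φ (single (x * g * x⁻¹) 1) = φ (single g 1) := by
  have h := hφ (single (x * g) 1) (single x⁻¹ 1)
  rwa [single_mul_single, single_mul_single, mul_one, inv_mul_cancel_left] at h

/-- The trace forms on a block algebra span a space of dimension at most the number of
irreducible characters of the block. -/
theorem trace_forms_dependent (hM : Cfsg.IsPModular p M) (hB : Cfsg.IsPBlock M B) {n : ℕ}
    (hn : Nat.card B < n) (φ : Fin n → (MonoidAlgebra (Residue hM) G →ₗ[Residue hM] Residue hM))
    (hφ : ∀ i x y, φ i (x * y) = φ i (y * x))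
    (he : ∀ i x, φ i (red hM (blockElem B) * x) = φ i x) :
    ∃ c : Fin n → Residue hM, c ≠ 0 ∧ ∀ x, ∑ i, c i * φ i x = 0 := by
  classical
  have : Module.Finite ℂ (G → ℂ) := inferInstance
  by_contra hcon
  push Not at hcon
  set cv : Fin n → G → Residue hM := fun i g => φ i (single g 1) with hcv
  have hli : LinearIndependent (Residue hM) cv := by
    rw [Fintype.linearIndependent_iff]
    intro a ha
    by_contra hne
    push Not at hne
    obtain ⟨i, hi⟩ := hne
    obtain ⟨x, hx⟩ := hcon a fun h => hi (congrFun h i)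
    refine hx ?_
    clear hx
    induction x using MonoidAlgebra.induction_linear with
    | zero => simp
    | add y w hy hw => simp only [map_add, mul_add, Finset.sum_add_distrib, hy, hw, add_zero]
    | single g r =>
      have h0 : ∑ j, a j * φ j (single g 1) = 0 := by
        have := congrFun ha g
        simpa [hcv] using this
      rw [show single g r = r • single g (1 : Residue hM) by simp]
      simp only [map_smul, smul_eq_mul]
      rw [Finset.sum_congr rfl fun j _ => mul_left_comm (a j) r _, ← Finset.mul_sum, h0, mul_zero]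
  choose f hf hfi hfr using fun i => exists_lift hM (c := cv i) (trace_single_class (φ i) (hφ i))
  set F : Fin n → G → ℂ := fun i => Cfsg.blockPart B (f i) with hF
  have hFeq : ∀ i g, F i g = chiLin (f i) (blockElem B * single g 1) :=
    fun i g => Cores.blockPart_eq_chiLin B (hf i) g
  have hint : ∀ (_ : Fin n) (g : G), IsIntElt M (blockElem B * single g 1) := fun _ g =>
    (isIntElt_blockElem hM hB).mul hM (isIntElt_single hM g (locRing hM).one_mem)
  have hFi : ∀ i g, Cfsg.MemLocalRing M (F i g) := fun i g => by
    rw [hFeq]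
    exact (locRing hM).sum_mem fun y _ => memLocalRing_mul hM (hint i g y) (hfi i y)
  have hFr : ∀ i g, res hM (F i g) = cv i g := by
    intro i g
    rw [hFeq, chiLin, res_sum hM _ fun y _ => memLocalRing_mul hM (hint i g y) (hfi i y)]
    show _ = φ i (single g 1)
    rw [← he i (single g 1), ← red_single hM, ← red_mul hM (isIntElt_blockElem hM hB)
      (isIntElt_single hM g (locRing hM).one_mem)]
    set w := blockElem B * single g (1 : ℂ) with hw
    conv_rhs => rw [← (MonoidAlgebra.basis G (Residue hM)).sum_repr (red hM w)]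
    rw [map_sum]
    refine Finset.sum_congr rfl fun y _ => ?_
    rw [map_smul, MonoidAlgebra.basis_apply, smul_eq_mul, res_mul hM (hint i g y) (hfi i y), hfr,
      show (MonoidAlgebra.basis G (Residue hM)).repr (red hM w) y = (red hM w).coeff y from rfl,
      coeff_red]
  have hind : LinearIndependent ℂ F := linearIndependent_of_res hM hFi (by
    simpa only [funext fun i => funext (hFr i)] using hli)
  have hspan : ∀ i, F i ∈ Submodule.span ℂ
      (Set.range fun χ : B => ((χ : Cfsg.IrrCharacter G) : G → ℂ)) := by
    intro i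
    have hFs : F i = ∑ χ : Cfsg.IrrCharacter G,
        (if χ ∈ B then Cfsg.classInner (f i) (χ : G → ℂ) else 0) • (χ : G → ℂ) := by
      funext g
      simp only [hF, Cfsg.blockPart, Finset.sum_apply]
      simp only [Subsingleton.elim (Fintype.ofFinite G) ‹Fintype G›,
        BlockBasic.finsum_mem_eq_sum_ite, Pi.smul_apply, smul_eq_mul, ite_mul, zero_mul]
      refine Finset.sum_congr rfl fun χ _ => ?_
      congr!
    rw [hFs]
    refine Submodule.sum_mem _ fun χ _ => ?_
    split_ifs with h
    · exact Submodule.smul_mem _ _ (Submodule.subset_span ⟨⟨χ, h⟩, rfl⟩)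
    · simp
  have h1 : Fintype.card (Fin n) ≤ Nat.card B := by
    rw [← finrank_span_eq_card hind, Nat.card_eq_fintype_card]
    refine le_trans (Submodule.finrank_mono (Submodule.span_le.2 ?_))
      (finrank_range_le_card (R := ℂ) (fun χ : B => ((χ : Cfsg.IrrCharacter G) : G → ℂ)))
    rintro _ ⟨i, rfl⟩
    exact hspan i
  rw [Fintype.card_fin] at h1
  omega

/-- Reduction of a scalar shift. -/
theorem red_sub_smul (hM : Cfsg.IsPModular p M) {z w : MonoidAlgebra ℂ G} {t : ℂ}
    (hz : IsIntElt M z) (hw : IsIntElt M w) (ht : Cfsg.MemLocalRing M t) :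
    red hM (z - t • w) = red hM z - res hM t • red hM w := by
  apply coeff_injective
  ext g
  have h : Cfsg.MemLocalRing M (t * w.coeff g) := memLocalRing_mul hM ht (hw g)
  rw [coeff_red, coeff_sub, coeff_sub, Finsupp.sub_apply, Finsupp.sub_apply, coeff_red,
    coeff_smul_apply, coeff_smul_apply, coeff_red, smul_eq_mul, smul_eq_mul, ← res_mul hM ht (hw g)]
  rw [res_apply hM ((locRing hM).sub_mem (hz g) h), res_apply hM (hz g), res_apply hM h, ← map_sub]
  rfl

/-- A central element whose central characters on the block lie in `M` acts nilpotently. -/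
theorem exists_pow_mul_eq_zero (hM : Cfsg.IsPModular p M) (hB : Cfsg.IsPBlock M B)
    {y : MonoidAlgebra ℂ G} (hy : IsCentralElt y) (hyi : IsIntElt M y)
    (hω : ∀ χ ∈ B, Cfsg.MemLocalIdeal M (omega (χ : G → ℂ) y)) :
    ∃ n : ℕ, red hM y ^ n * red hM (blockElem B) = 0 := by
  classical
  have key : ∀ s : Finset (Cfsg.IrrCharacter G), (↑s : Set (Cfsg.IrrCharacter G)) ⊆ B →
      ∃ Q : MonoidAlgebra ℂ G, IsCentralElt Q ∧ IsIntElt M Q ∧
        red hM Q = red hM y ^ s.card * red hM (blockElem B) ∧
        ∀ ψ : Cfsg.IrrCharacter G, omega (ψ : G → ℂ) Q =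
          (∏ χ ∈ s, (omega (ψ : G → ℂ) y - omega (χ : G → ℂ) y)) *
            if ψ ∈ B then 1 else 0 := by
    intro s
    induction s using Finset.induction with
    | empty =>
      exact fun _ => ⟨blockElem B, isCentralElt_blockElem B, isIntElt_blockElem hM hB, by simp,
        fun ψ => by rw [omega_blockElem]; simp⟩
    | insert χ s hχ ih =>
      intro hs
      rw [Finset.coe_insert, Set.insert_subset_iff] at hs
      obtain ⟨Q, hQ, hQi, hQr, hQω⟩ := ih hs.2
      have hloc := memLocalRing_omega hM χ.2 hy hyi
      have hc : IsCentralElt (y - omega (χ : G → ℂ) y • (1 : MonoidAlgebra ℂ G)) :=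
        hy.sub (IsCentralElt.one.smul _)
      have hci : IsIntElt M (y - omega (χ : G → ℂ) y • (1 : MonoidAlgebra ℂ G)) :=
        hyi.sub hM ((isIntElt_one hM).smul hM hloc)
      refine ⟨(y - omega (χ : G → ℂ) y • (1 : MonoidAlgebra ℂ G)) * Q, hc.mul hQ, hci.mul hM hQi,
        ?_, fun ψ => ?_⟩
      · rw [red_mul hM hci hQi, red_sub_smul hM hyi (isIntElt_one hM) hloc,
          (res_eq_zero_iff hM hloc).2 (hω χ hs.1), zero_smul, sub_zero, hQr,
          Finset.card_insert_of_notMem hχ, pow_succ', mul_assoc]
      · rw [omega_mul ψ.2 hc, hQω, omega_sub, omega_smul, omega_one ψ.2, mul_one,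
          Finset.prod_insert hχ, mul_assoc]
  obtain ⟨Q, hQ, -, hQr, hQω⟩ := key (Finset.univ.filter (· ∈ B)) fun χ hχ => by
    simpa using hχ
  refine ⟨_, Eq.trans hQr.symm ?_⟩
  have h0 : Q = 0 := by
    refine eq_of_omega_eq hQ (fun g h => by simp) fun ψ => ?_
    rw [hQω, show omega (ψ : G → ℂ) (0 : MonoidAlgebra ℂ G) = 0 by simp [omega, chiLin]]
    split_ifs with h
    · rw [mul_one]
      exact Finset.prod_eq_zero (Finset.mem_filter.2 ⟨Finset.mem_univ _, h⟩) (sub_self _)
    · rw [mul_zero]
  rw [h0]
  apply coeff_injective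
  ext g
  simp [res_zero]

theorem red_blockElem_ne_zero (hM : Cfsg.IsPModular p M) (hB : Cfsg.IsPBlock M B) :
    red hM (blockElem B) ≠ 0 := by
  classical
  intro h
  obtain ⟨χ, hχ⟩ := isPBlock_nonempty hM hB
  have h1 := (red_eq_zero_iff hM (isIntElt_blockElem hM hB)).1 h
  have h2 := Cores.omega_sub_congr hM χ.2 (isCentralElt_blockElem B)
    (IsCentralElt.one.smul (0 : ℂ)) fun g => by simpa using h1 g
  rw [omega_blockElem, if_pos hχ, omega_smul, zero_mul, sub_zero] at h2
  exact not_memLocalIdeal_one hM h2

/-- The block idempotent stays primitive in the centre. -/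
theorem central_idem_eq (hM : Cfsg.IsPModular p M) (hB : Cfsg.IsPBlock M B)
    (c : MonoidAlgebra (Residue hM) G) (hc : ∀ x, c * x = x * c) (hcc : c * c = c)
    (hce : c * red hM (blockElem B) = c) : c = 0 ∨ c = red hM (blockElem B) := by
  classical
  set e := red hM (blockElem B) with he
  have hei := isIntElt_blockElem hM hB
  have hee : e * e = e := by rw [he, ← red_mul hM hei hei, blockElem_idem]
  have hclass : ∀ g x : G, c.coeff (x * g * x⁻¹) = c.coeff g := by
    intro g x
    have := congrArg (fun w => w.coeff (x * g)) (hc (single x 1))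
    simp only [coeff_mul_single_apply, coeff_single_mul_apply, mul_one, one_mul,
      inv_mul_cancel_left] at this
    exact this
  obtain ⟨f, hf, hfi, hfr⟩ := exists_lift hM (c := fun g => c.coeff g) hclass
  have hcen : IsCentralElt (ofFun f) := isCentralElt_ofFun hf
  have hint : IsIntElt M (ofFun f) := fun g => by rw [coeff_ofFun]; exact hfi g
  have hredc : red hM (ofFun f) = c := by
    apply coeff_injective
    ext g
    rw [coeff_red, coeff_ofFun, hfr]
  obtain ⟨χ₀, hχ₀⟩ := isPBlock_nonempty hM hB
  set t := omega (χ₀ : G → ℂ) (ofFun f) with ht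
  have htl : Cfsg.MemLocalRing M t := memLocalRing_omega hM χ₀.2 hcen hint
  obtain ⟨n, hn⟩ := exists_pow_mul_eq_zero hM hB
    (y := ofFun f - t • (1 : MonoidAlgebra ℂ G)) (hcen.sub (IsCentralElt.one.smul t))
    (hint.sub hM ((isIntElt_one hM).smul hM htl)) (fun χ hχ => by
      rw [omega_sub, omega_smul, omega_one χ.2, mul_one, ht]
      exact omega_congr hM (IsIrr.isClassFunction χ.2) (IsIrr.isClassFunction χ₀.2)
        (isPBlock_sameBlock hM hB hχ hχ₀) hcen hint)
  rw [red_sub_smul hM hint (isIntElt_one hM) htl, hredc, red_one, ← he] at hn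
  set μ := res hM t
  have hec : e * c = c := by rw [← hc, hce]
  have h1 : ∀ m : ℕ, (c - μ • 1) ^ m * c = (1 - μ) ^ m • c := by
    intro m
    induction m with
    | zero => simp
    | succ m ih =>
      have h : (c - μ • 1) * c = (1 - μ) • c := by
        rw [sub_mul, hcc, smul_one_mul, sub_smul, one_smul]
      rw [pow_succ, mul_assoc, h, mul_smul_comm, ih, smul_smul, pow_succ, mul_comm (1 - μ)]
  have h2 : ∀ m : ℕ, (c - μ • 1) ^ m * (e - c) = (-μ) ^ m • (e - c) := by
    intro m
    induction m with
    | zero => simp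
    | succ m ih =>
      rw [pow_succ, mul_assoc, sub_mul, smul_one_mul, mul_sub c, hce, hcc, sub_self, zero_sub,
        ← neg_smul, mul_smul_comm, ih, smul_smul, pow_succ, mul_comm (-μ)]
  by_contra hne
  push Not at hne
  have hA : (1 - μ) ^ n • c = 0 := by
    calc (1 - μ) ^ n • c = (c - μ • 1) ^ n * (e * c) := by rw [hec, h1]
      _ = 0 := by rw [← mul_assoc, hn, zero_mul]
  have hB' : (-μ) ^ n • (e - c) = 0 := by
    calc (-μ) ^ n • (e - c) = (c - μ • 1) ^ n * (e * (e - c)) := by rw [mul_sub, hee, hec, h2]
      _ = 0 := by rw [← mul_assoc, hn, zero_mul]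
  have e1 := pow_eq_zero_iff'.1 ((smul_eq_zero.1 hA).resolve_right hne.1)
  have e2 := pow_eq_zero_iff'.1 ((smul_eq_zero.1 hB').resolve_right (sub_ne_zero.2 (Ne.symm hne.2)))
  rw [neg_eq_zero.1 e2.1, sub_zero] at e1
  exact one_ne_zero e1.1

/-- Summing a class function along the classes. -/
theorem sum_eq_sum_classes [Fintype (ConjClasses G)] {F : G → ℂ} (hF : Cfsg.IsClassFunction G F) :
    ∑ g, F g = ∑ C : ConjClasses G,
      ((Subgroup.centralizer ({C.out} : Set G)).index : ℂ) * F C.out := by
  classical
  rw [← Finset.sum_fiberwise Finset.univ ConjClasses.mk]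
  refine Finset.sum_congr rfl fun C _ => ?_
  rw [← sum_class_mul hF C.out]
  refine Finset.sum_congr ?_ fun _ _ => rfl
  ext h
  simp only [Finset.mem_filter, Finset.mem_univ, true_and]
  have hC : ConjClasses.mk C.out = C := Quotient.out_eq C
  constructor
  · rintro rfl
    exact ConjClasses.mk_eq_mk_iff_isConj.1 hC
  · intro hh
    rw [← hC]
    exact ConjClasses.mk_eq_mk_iff_isConj.2 hh.symm

/-- When `k(B)` is not `1` mod `p`, the centre of the block algebra is more than the scalars. -/
theorem exists_central_not_scalar (hM : Cfsg.IsPModular p M) (hB : Cfsg.IsPBlock M B)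
    (hk : ¬ Cfsg.MemLocalIdeal M ((Nat.card B : ℂ) - 1)) :
    ∃ z : MonoidAlgebra (Residue hM) G, (∀ x, z * x = x * z) ∧
      ∀ μ : Residue hM, z * red hM (blockElem B) ≠ μ • red hM (blockElem B) := by
  classical
  haveI : Finite (ConjClasses G) := Finite.of_surjective _ ConjClasses.mk_surjective
  haveI : Fintype (ConjClasses G) := Fintype.ofFinite _
  by_contra hcon
  push Not at hcon
  obtain ⟨χ₀, hχ₀⟩ := isPBlock_nonempty hM hB
  have hei := isIntElt_blockElem hM hB
  have hcg : ∀ g : G, Cfsg.MemLocalIdeal M ((classSum g * blockElem B).coeff g -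
      Cfsg.centralChar (χ₀ : G → ℂ) g * (blockElem B).coeff g) := by
    intro g
    have hK := isIntElt_classSum (M := M) hM g
    obtain ⟨μ, hμ⟩ := hcon (red hM (classSum g)) (fun x => by
      induction x using MonoidAlgebra.induction_linear with
      | zero => simp
      | add a b ha hb => rw [mul_add, add_mul, ha, hb]
      | single a r =>
        rw [show single a r = r • single a (1 : Residue hM) by simp, mul_smul_comm, smul_mul_assoc,
          ← red_single hM, ← red_mul hM hK (isIntElt_single hM a (locRing hM).one_mem),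
          ← red_mul hM (isIntElt_single hM a (locRing hM).one_mem) hK,
          isCentralElt_comm (isCentralElt_classSum g)])
    obtain ⟨a, rfl⟩ := toResidue_surjective hM μ
    rw [toResidue_apply, ← red_mul hM hK hei] at hμ
    have hKe : IsIntElt M (classSum g * blockElem B) := hK.mul hM hei
    have hdiff : ∀ y, Cfsg.MemLocalIdeal M ((classSum g * blockElem B).coeff y -
        (a : ℂ) * (blockElem B).coeff y) := by
      have h0 : red hM (classSum g * blockElem B - (a : ℂ) • blockElem B) = 0 := by
        rw [red_sub_smul hM hKe hei (memLocalRing_coe hM a), hμ, sub_self]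
      intro y
      have := (red_eq_zero_iff hM (hKe.sub hM (hei.smul hM (memLocalRing_coe hM a)))).1 h0 y
      simpa using this
    have hω := Cores.omega_sub_congr hM χ₀.2
      ((isCentralElt_classSum g).mul (isCentralElt_blockElem B))
      ((isCentralElt_blockElem B).smul (a : ℂ)) fun y => by simpa using hdiff y
    rw [omega_mul χ₀.2 (isCentralElt_classSum g), omega_classSum (IsIrr.isClassFunction χ₀.2),
      omega_smul, omega_blockElem, if_pos hχ₀, mul_one, mul_one] at hω
    have h2 := memLocalIdeal_mul hM (hei g) hω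
    rw [mul_sub, mul_comm _ (a : ℂ), mul_comm ((blockElem B).coeff g)] at h2
    have := memLocalIdeal_sub hM (hdiff g) h2
    rwa [sub_sub_sub_cancel_right] at this
  have hsum := memLocalIdeal_sum hM (Finset.univ : Finset (ConjClasses G))
    (fun C => (classSum C.out * blockElem B).coeff C.out -
      Cfsg.centralChar (χ₀ : G → ℂ) C.out * (blockElem B).coeff C.out) fun C _ => hcg C.out
  rw [Finset.sum_sub_distrib] at hsum
  have hR : ∑ C : ConjClasses G, Cfsg.centralChar (χ₀ : G → ℂ) C.out * (blockElem B).coeff C.out =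
      1 := by
    have h := omega_eq_sum_classes (IsIrr.isClassFunction χ₀.2) (isCentralElt_blockElem B)
    rw [omega_blockElem, if_pos hχ₀] at h
    rw [h]
    exact Finset.sum_congr rfl fun C _ => mul_comm _ _
  have hL : ∑ C : ConjClasses G, (classSum C.out * blockElem B).coeff C.out = (Nat.card B : ℂ) := by
    have hterm : ∀ g : G, (classSum g * blockElem B).coeff g = (Nat.card G : ℂ)⁻¹ *
        (((Subgroup.centralizer ({g} : Set G)).index : ℂ) *
          ∑ χ : Cfsg.IrrCharacter G, if χ ∈ B then (χ : G → ℂ) g * conj ((χ : G → ℂ) g) else 0) := by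
      intro g
      rw [coeff_eq_sum_omega ((isCentralElt_classSum g).mul (isCentralElt_blockElem B))]
      congr 1
      rw [Finset.mul_sum]
      refine Finset.sum_congr rfl fun χ _ => ?_
      rw [omega_mul χ.2 (isCentralElt_classSum g), omega_blockElem,
        omega_classSum (IsIrr.isClassFunction χ.2), Cfsg.centralChar]
      split_ifs with h
      · field_simp [irr_one_ne_zero χ.2]
      · simp
    have hFcl : Cfsg.IsClassFunction G (fun g => ∑ χ : Cfsg.IrrCharacter G,
        if χ ∈ B then (χ : G → ℂ) g * conj ((χ : G → ℂ) g) else 0) := fun g x => by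
      simp only [fun χ : Cfsg.IrrCharacter G => IsIrr.isClassFunction χ.2 g x]
    rw [Finset.sum_congr rfl fun C _ => hterm C.out, ← Finset.mul_sum, ← sum_eq_sum_classes hFcl,
      Finset.sum_comm, Nat.card_eq_fintype_card (α := B), Fintype.card_subtype, Finset.card_filter,
      Nat.cast_sum, Finset.mul_sum]
    refine Finset.sum_congr rfl fun χ _ => ?_
    split_ifs with hχ
    · have h1 := CharBasic.classInner_irrCharacter χ χ
      rw [CharBasic.classInner_def, if_pos rfl] at h1
      rw [Nat.cast_one]
      exact h1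
    · simp
  rw [hL, hR] at hsum
  exact hk hsum

end Cfsg.Agent.H83.BlockAlgebra
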