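import Cfsg.Prelude.Def_BrauerPairs
import Cfsg.Agent.H82.BrauerMap
import Cfsg.Agent.H86.IrrOps
import Mathlib.GroupTheory.Nilpotent

/-!
Brauer pairs attached to the principal block: invariance of the principal block under group
isomorphisms, and chains of normal subpairs between principal pairs.
-/

namespace Cfsg.Agent.H83

open Finset BlockBasic

universe u v

section Equiv

variable {H : Type u} [Group H] {K : Type v} [Group K] {p : ℕ} {M : Ideal AlgInt}

theorem index_centralizer_equiv (φ : H ≃* K) (h : H) :
    (Subgroup.centralizer ({φ h} : Set K)).index = (Subgroup.centralizer ({h} : Set H)).index := by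
  rw [← Subgroup.index_comap_of_surjective (Subgroup.centralizer ({φ h} : Set K))
      (f := φ.toMonoidHom) φ.surjective]
  congr 1
  ext x
  simp [Subgroup.mem_centralizer_singleton_iff, ← map_mul]

theorem centralChar_comp_equiv (φ : H ≃* K) (χ : K → ℂ) (h : H) :
    centralChar (fun x => χ (φ x)) h = centralChar χ (φ h) := by
  simp only [centralChar, index_centralizer_equiv, map_one]

variable [Finite H] [Finite K]

/-- Transport of an irreducible character along an isomorphism. -/
def irrComp (φ : H ≃* K) (χ : IrrCharacter K) : IrrCharacter H :=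
  ⟨fun x => (χ : K → ℂ) (φ x), H86.isIrr_comp_equiv χ.2 φ⟩

theorem irrComp_apply (φ : H ≃* K) (χ : IrrCharacter K) (x : H) :
    (irrComp φ χ : H → ℂ) x = (χ : K → ℂ) (φ x) := rfl

theorem irrComp_mem_principalBlock (φ : H ≃* K) {χ : IrrCharacter K}
    (hχ : χ ∈ principalBlock M K) : irrComp φ χ ∈ principalBlock M H := by
  intro g
  have h := hχ (φ g)
  rw [← centralChar_comp_equiv φ (χ : K → ℂ) g, ← centralChar_comp_equiv φ (fun _ => (1 : ℂ)) g] at h
  exact h

theorem irrComp_symm (φ : H ≃* K) (χ : IrrCharacter K) : irrComp φ.symm (irrComp φ χ) = χ :=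
  Subtype.ext (funext fun x => by simp [irrComp])

theorem irrComp_symm' (φ : H ≃* K) (χ : IrrCharacter H) : irrComp φ (irrComp φ.symm χ) = χ :=
  Subtype.ext (funext fun x => by simp [irrComp])

theorem blockCoeff_principal_equiv (φ : H ≃* K) (h : H) :
    blockCoeff (principalBlock M K) (φ h) = blockCoeff (principalBlock M H) h := by
  unfold blockCoeff
  rw [Nat.card_congr φ.toEquiv]
  congr 1
  refine finsum_mem_eq_of_bijOn (irrComp φ) ?_ fun χ _ => by simp [irrComp_apply]
  exact ⟨fun χ hχ => irrComp_mem_principalBlock φ hχ,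
    fun a _ b _ hab => by rw [← irrComp_symm φ a, ← irrComp_symm φ b, hab],
    fun χ hχ => ⟨irrComp φ.symm χ, irrComp_mem_principalBlock φ.symm hχ, irrComp_symm' φ χ⟩⟩

end Equiv

section Pairs

variable {G : Type u} [Group G] [Finite G] {p : ℕ} [Fact p.Prime] {M : Ideal AlgInt}

/-- Conjugation restricted to a pair of subgroups. -/
def conjSubEquiv (x : G) (K K' : Subgroup G) (h : ∀ g, g ∈ K ↔ x * g * x⁻¹ ∈ K') : K ≃* K' where
  toFun k := ⟨x * k * x⁻¹, (h k).1 k.2⟩
  invFun k := ⟨x⁻¹ * k * x, (h _).2 (by simp [mul_assoc])⟩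
  left_inv k := Subtype.ext (by simp [mul_assoc])
  right_inv k := Subtype.ext (by simp [mul_assoc])
  map_mul' a b := Subtype.ext (by simp [mul_assoc])

theorem conjSubEquiv_apply (x : G) (K K' : Subgroup G) (h : ∀ g, g ∈ K ↔ x * g * x⁻¹ ∈ K') (k : K) :
    ((conjSubEquiv x K K' h k : K') : G) = x * k * x⁻¹ := rfl

omit [Finite G] in
theorem mem_centralizer_conj (Q : Subgroup G) (x g : G) :
    g ∈ Subgroup.centralizer (Q : Set G) ↔ x * g * x⁻¹ ∈
      Subgroup.centralizer ((Q.map (MulAut.conj x).toMonoidHom : Subgroup G) : Set G) := by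
  simp [Subgroup.mem_centralizer_iff, mul_assoc]
  refine forall₂_congr fun a _ => ?_
  rw [← mul_assoc, ← mul_assoc, mul_left_inj]

omit [Finite G] in
theorem mem_centralizer_conj_normalizer {Q : Subgroup G} {x : G}
    (hx : x ∈ Subgroup.normalizer (Q : Set G)) (g : G) :
    g ∈ Subgroup.centralizer (Q : Set G) ↔ x * g * x⁻¹ ∈ Subgroup.centralizer (Q : Set G) := by
  have h := mem_centralizer_conj Q x g
  have h' : (Q.map (MulAut.conj x).toMonoidHom : Subgroup G) = Q := SetLike.coe_injective (by
    rw [Subgroup.coe_map]; exact Subgroup.mem_normalizer_iff_conj_image_eq.1 hx)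
  rwa [h'] at h

theorem stabilizesBlock_principalBlock {Q : Subgroup G} {x : G}
    (hx : x ∈ Subgroup.normalizer (Q : Set G)) :
    StabilizesBlock (Subgroup.centralizer (Q : Set G))
      (principalBlock M (Subgroup.centralizer (Q : Set G))) x := by
  have h := mem_centralizer_conj_normalizer hx
  refine ⟨?_, fun χ hχ => ?_⟩
  · rw [Subgroup.mem_normalizer_iff]
    exact h
  · let φ := conjSubEquiv x _ _ h
    refine ⟨irrComp φ.symm χ, irrComp_mem_principalBlock φ.symm hχ, fun k k' hk => ?_⟩
    rw [irrComp_apply, show k' = φ k from Subtype.ext hk, MulEquiv.symm_apply_apply]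

theorem conjBlock_principalBlock (Q : Subgroup G) (x : G) :
    conjBlock Q x (principalBlock M (Subgroup.centralizer (Q : Set G))) =
      principalBlock M
        (Subgroup.centralizer ((Q.map (MulAut.conj x).toMonoidHom : Subgroup G) : Set G)) := by
  let φ := conjSubEquiv x _ _ (mem_centralizer_conj Q x)
  ext ξ'
  refine ⟨fun ⟨ξ, hξ, hc⟩ => ?_, fun h => ⟨irrComp φ ξ', irrComp_mem_principalBlock φ h, ?_⟩⟩
  · have : ξ' = irrComp φ.symm ξ := Subtype.ext (funext fun c' => by
      rw [irrComp_apply, hc (φ.symm c') c' ?_]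
      rw [← conjSubEquiv_apply x _ _ (mem_centralizer_conj Q x), MulEquiv.apply_symm_apply])
    rw [this]
    exact irrComp_mem_principalBlock φ.symm hξ
  · intro c c' hc
    rw [irrComp_apply, show c' = φ c from Subtype.ext hc]

/-- Sum over the group of the coefficients of the principal block of a subgroup. -/
theorem sum_subgroupBlockCoeff_principalBlock [Fintype G] (hM : IsPModular p M) (K : Subgroup G) :
    ∑ x : G, subgroupBlockCoeff K (principalBlock M K) x = 1 := by
  classical
  rw [← H82.sum_blockCoeff_principalBlock (G := K) hM]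
  rw [← Finset.sum_filter_add_sum_filter_not Finset.univ (fun x : G => x ∈ K),
    Finset.sum_eq_zero (s := Finset.univ.filter fun x : G => ¬ x ∈ K)
      (fun x hx => dif_neg (Finset.mem_filter.1 hx).2), add_zero,
    Finset.sum_subtype _ (fun x => Finset.mem_filter_univ x)]
  exact Finset.sum_congr rfl fun x _ => dif_pos x.2

theorem isNormalSubpair_principalBlock (hM : IsPModular p M) {Q R : Subgroup G}
    (hR : IsPGroup p R) (hQR : Q ≤ R) (hn : R ≤ Subgroup.normalizer (Q : Set G)) :
    IsNormalSubpair p M Q (principalBlock M (Subgroup.centralizer (Q : Set G))) R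
      (principalBlock M (Subgroup.centralizer (R : Set G))) := by
  classical
  cases nonempty_fintype G
  refine ⟨⟨hR.to_le hQR, isPBlock_principalBlock M⟩, ⟨hR, isPBlock_principalBlock M⟩, hQR, hn,
    fun x hx => stabilizesBlock_principalBlock (hn hx), fun ξ hξ => ?_⟩
  set K := Subgroup.centralizer (Q : Set G)
  set β := subgroupBlockCoeff K (principalBlock M K)
  have hloc : ∀ x : G, MemLocalRing M (β x) := fun x => by
    by_cases hx : x ∈ K
    · simp only [β, subgroupBlockCoeff, dif_pos hx]
      exact memLocalRing_blockCoeff hM (isPBlock_principalBlock M) _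
    · simp only [β, subgroupBlockCoeff, dif_neg hx]
      exact memLocalRing_natCast hM 0 |> fun h => by simpa using h
  have hinv : ∀ c ∈ Subgroup.normalizer (Q : Set G), ∀ x : G, β (c * x * c⁻¹) = β x := by
    intro c hc x
    have h := mem_centralizer_conj_normalizer hc
    by_cases hx : x ∈ K
    · simp only [β, subgroupBlockCoeff]
      rw [dif_pos hx, dif_pos (show c * x * c⁻¹ ∈ K from (h x).1 hx)]
      exact blockCoeff_principal_equiv (conjSubEquiv c K K h) ⟨x, hx⟩
    · simp only [β, subgroupBlockCoeff]
      rw [dif_neg hx, dif_neg (show ¬ c * x * c⁻¹ ∈ K from fun h' => hx ((h x).2 h'))]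
  have hCR : ∀ c ∈ Subgroup.centralizer (R : Set G), c ∈ Subgroup.normalizer (Q : Set G) :=
    fun c hc => Subgroup.centralizer_le_normalizer _ (Subgroup.centralizer_le hQR hc)
  set z := ofFun fun c : Subgroup.centralizer (R : Set G) => β c
  rw [H82.brauerOmega_eq_omega]
  have h1 : MemLocalIdeal M (omega (fun _ => (1 : ℂ)) z - omega (ξ : _ → ℂ) z) :=
    omega_congr hM (fun _ _ => rfl) (CharBasic.IsIrr.isClassFunction ξ.2) hξ
      (H82.isCentralElt_restrict R fun c hc x => hinv c (hCR c hc) x)
      (fun c => by rw [coeff_ofFun]; exact hloc c)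
  have h2 : omega (fun _ => (1 : ℂ)) z = ∑ c : Subgroup.centralizer (R : Set G), β c := by
    simp [omega, chiLin, z, coeff_ofFun]
  have h3 := H82.memLocalIdeal_sum_sub_sum_centralizer hM hR hloc
    (fun r hr x => hinv r (hn hr) x)
  rw [sum_subgroupBlockCoeff_principalBlock hM, ← h2] at h3
  have h4 := memLocalIdeal_neg (memLocalIdeal_add hM h1 h3)
  convert h4 using 1
  ring

/-- Principal pairs are included in each other along inclusions of `p`-subgroups. -/
theorem subpairLE_principalBlock (hM : IsPModular p M) {Q R : Subgroup G}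
    (hR : IsPGroup p R) (hQR : Q ≤ R) :
    SubpairLE p M Q (principalBlock M (Subgroup.centralizer (Q : Set G))) R
      (principalBlock M (Subgroup.centralizer (R : Set G))) := by
  induction Q using WellFoundedGT.induction with
  | _ Q ih =>
    rcases hQR.lt_or_eq with hlt | heq
    · set T := R ⊓ Subgroup.normalizer (Q : Set G)
      have hT : Q < T := by
        refine lt_of_le_of_ne (le_inf hQR Subgroup.le_normalizer) fun heq => ?_
        haveI : Group.IsNilpotent R := hR.isNilpotent
        have hlt' : Q.subgroupOf R < ⊤ :=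
          lt_top_iff_ne_top.2 fun h => hlt.not_ge (Subgroup.subgroupOf_eq_top.1 h)
        refine (normalizerCondition_of_isNilpotent _ hlt').ne
          (le_antisymm Subgroup.le_normalizer fun x hx => ?_)
        have hxT : (x : G) ∈ T := by
          refine ⟨x.2, Subgroup.mem_normalizer_iff.2 fun g => ?_⟩
          rw [Subgroup.mem_normalizer_iff] at hx
          constructor
          · exact fun hg => (hx ⟨g, hQR hg⟩).1 hg
          · intro hg
            have h' : x * ⟨x⁻¹ * (x * g * x⁻¹) * x, mul_mem (mul_mem (inv_mem x.2) (hQR hg)) x.2⟩ *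
                x⁻¹ ∈ Q.subgroupOf R := by
              simpa [Subgroup.mem_subgroupOf, mul_assoc] using hg
            have := (hx _).2 h'
            simpa [Subgroup.mem_subgroupOf, mul_assoc] using this
        rwa [← heq] at hxT
      refine Relation.ReflTransGen.head ?_ (ih T hT inf_le_left)
      exact isNormalSubpair_principalBlock hM (hR.to_le inf_le_left) hT.le inf_le_right
    · subst heq
      exact Relation.ReflTransGen.refl

omit [Fact p.Prime] [Finite G] in
theorem le_of_subpairLE {Q R : Subgroup G}
    {f : Set (IrrCharacter (Subgroup.centralizer (Q : Set G)))}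
    {e : Set (IrrCharacter (Subgroup.centralizer (R : Set G)))}
    (h : SubpairLE p M Q f R e) : Q ≤ R := by
  suffices ∀ a b : BrauerPairIdx G, Relation.ReflTransGen (NormalSubpairRel p M) a b → a.1 ≤ b.1 from
    this _ _ h
  intro a b h
  induction h with
  | refl => exact le_rfl
  | tail _ h2 ih => exact ih.trans h2.2.2.1

end Pairs

end Cfsg.Agent.H83
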