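import Cfsg.Prelude.Def_BlockRank
import Cfsg.Agent.BlockBasic.Basic
import Cfsg.Agent.H83.RegSum

/-!
# The matrix `p^d * (χ restricted to p-regular elements, ψ)` of a block

It is an integral symmetric matrix `n` with `n * n = p^d • n`, and the exact power of `p` dividing
an entry in the row of a height zero character is the height of the column character.
-/

open scoped ComplexConjugate

namespace Cfsg.Agent.H83

open Cfsg.Agent.CharBasic

universe u

variable {G : Type u} [Group G] [Fintype G] {p : ℕ} {M : Ideal Cfsg.AlgInt}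

/-- Inner product of two characters over the p-regular elements. -/
noncomputable def regInner (p : ℕ) (χ ψ : Cfsg.IrrCharacter G) : ℂ :=
  Cfsg.classInner (Cfsg.pRegularPart p (χ : G → ℂ)) (ψ : G → ℂ)

omit [Fintype G] in
theorem isClassFunction_pRegularPart {f : G → ℂ} (hf : Cfsg.IsClassFunction G f) :
    Cfsg.IsClassFunction G (Cfsg.pRegularPart p f) := by
  intro g x
  have : orderOf (x * g * x⁻¹) = orderOf g := MulEquiv.orderOf_eq (MulAut.conj x) g
  simp only [Cfsg.pRegularPart, Cfsg.IsPRegular, this, hf g x]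
  by_cases hh : p ∣ orderOf g <;> simp [hh]

omit [Fintype G] in
theorem pRegularPart_eq_zero (f : G → ℂ) {g : G} (hg : p ∣ orderOf g) :
    Cfsg.pRegularPart p f g = 0 := by
  simp [Cfsg.pRegularPart, Cfsg.IsPRegular, hg]

omit [Fintype G] in
theorem pRegularPart_eq_self (f : G → ℂ) {g : G} (hg : ¬ p ∣ orderOf g) :
    Cfsg.pRegularPart p f g = f g := by
  simp [Cfsg.pRegularPart, Cfsg.IsPRegular, hg]

theorem regInner_eq_sum (χ ψ : Cfsg.IrrCharacter G) :
    (Nat.card G : ℂ) * regInner p χ ψ =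
      ∑ x : G, if p ∣ orderOf x then 0 else (χ : G → ℂ) x * conj ((ψ : G → ℂ) x) := by
  rw [regInner, classInner_def, ← mul_assoc,
    mul_inv_cancel₀ (Nat.cast_ne_zero.2 Nat.card_pos.ne'), one_mul]
  refine Finset.sum_congr rfl fun x _ => ?_
  split_ifs with h
  · rw [pRegularPart_eq_zero _ h, zero_mul]
  · rw [pRegularPart_eq_self _ h]

theorem regInner_conj (χ ψ : Cfsg.IrrCharacter G) :
    conj (regInner p χ ψ) = regInner p ψ χ := by
  apply mul_left_cancel₀ (Nat.cast_ne_zero.2 (Nat.card_pos (α := G)).ne' : (Nat.card G : ℂ) ≠ 0)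
  conv_lhs => rw [← Complex.conj_natCast, ← map_mul, regInner_eq_sum, map_sum]
  rw [regInner_eq_sum]
  refine Finset.sum_congr rfl fun x _ => ?_
  split_ifs
  · simp
  · simp [mul_comm]

theorem pRegularPart_expansion (χ : Cfsg.IrrCharacter G) :
    Cfsg.pRegularPart p (χ : G → ℂ) =
      ∑ ψ : Cfsg.IrrCharacter G, regInner p χ ψ • (ψ : G → ℂ) :=
  classFunction_expansion (isClassFunction_pRegularPart (IsIrr.isClassFunction χ.2))

theorem regInner_proj (χ ψ : Cfsg.IrrCharacter G) :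
    ∑ φ : Cfsg.IrrCharacter G, regInner p χ φ * regInner p φ ψ = regInner p χ ψ := by
  have h : Cfsg.classInner (Cfsg.pRegularPart p (χ : G → ℂ)) (Cfsg.pRegularPart p (ψ : G → ℂ)) =
      regInner p χ ψ := by
    rw [regInner, classInner_def, classInner_def]
    congr 1
    refine Finset.sum_congr rfl fun x _ => ?_
    by_cases hx : p ∣ orderOf x
    · simp [pRegularPart_eq_zero _ hx]
    · rw [pRegularPart_eq_self (ψ : G → ℂ) hx]
  conv_rhs => rw [← h, classInner_eq_sum (isClassFunction_pRegularPart (IsIrr.isClassFunction χ.2))]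
  exact Finset.sum_congr rfl fun φ _ => by rw [← regInner_conj ψ φ]; rfl

section Block

variable [hp : Fact p.Prime]

theorem regInner_eq_zero (hM : Cfsg.IsPModular p M) {B : Set (Cfsg.IrrCharacter G)}
    (hB : Cfsg.IsPBlock M B) {χ ψ : Cfsg.IrrCharacter G} (hχ : χ ∈ B) (hψ : ψ ∉ B) :
    regInner p χ ψ = 0 := by
  classical
  have h : (Nat.card G : ℂ) * regInner p χ ψ = 0 := by
    have h0 := BlockBasic.sum_regular_eq_zero hM hB hχ hψ
    rw [Finset.sum_filter] at h0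
    rw [regInner_eq_sum]
    refine Eq.trans (Finset.sum_congr rfl fun x _ => ?_) h0
    split_ifs <;> rfl
  exact (mul_eq_zero.1 h).resolve_left (Nat.cast_ne_zero.2 Nat.card_pos.ne')

theorem exists_int_regInner (χ ψ : Cfsg.IrrCharacter G) :
    ∃ n : ℤ, ((p ^ (Nat.card G).factorization p : ℕ) : ℂ) * regInner p χ ψ = (n : ℂ) :=
  card_part_mul_classInner χ ψ

theorem regInner_symm (χ ψ : Cfsg.IrrCharacter G) : regInner p χ ψ = regInner p ψ χ := by
  obtain ⟨n, hn⟩ := exists_int_regInner (p := p) χ ψ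
  have hne : ((p ^ (Nat.card G).factorization p : ℕ) : ℂ) ≠ 0 :=
    Nat.cast_ne_zero.2 (pow_ne_zero _ hp.out.ne_zero)
  rw [← regInner_conj χ ψ]
  apply mul_left_cancel₀ hne
  conv_rhs => rw [← Complex.conj_natCast, ← map_mul, hn, map_intCast]
  exact hn

/-- Rational numbers with p-power denominators lying in the local ring are integers. -/
theorem int_dvd_of_memLocalRing (hM : Cfsg.IsPModular p M) :
    ∀ {k : ℕ} {m : ℤ} {z : ℂ}, Cfsg.MemLocalRing M z → ((p : ℂ) ^ k) * z = (m : ℂ) →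
      (p : ℤ) ^ k ∣ m := by
  intro k
  induction k with
  | zero => intros; simp
  | succ k ih =>
    intro m z hz h
    have hmem : Cfsg.MemLocalIdeal M (m : ℂ) := by
      rw [← h, pow_succ, mul_comm ((p : ℂ) ^ k), mul_assoc, mul_comm]
      exact BlockBasic.memLocalIdeal_mul hM
        (BlockBasic.memLocalRing_mul hM
          (by rw [← Nat.cast_pow]; exact BlockBasic.memLocalRing_natCast hM _) hz)
        ((BlockBasic.memLocalIdeal_natCast_iff hM p).2 dvd_rfl)
    obtain ⟨m', rfl⟩ := (BlockBasic.memLocalIdeal_intCast_iff hM m).1 hmem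
    rw [pow_succ']
    refine mul_dvd_mul_left _ (ih hz ?_)
    apply mul_left_cancel₀ (Nat.cast_ne_zero.2 hp.out.ne_zero : (p : ℂ) ≠ 0)
    rw [← mul_assoc, ← pow_succ', h]
    push_cast
    ring

variable (p) in
/-- The least exponent of `p` in the degrees of a set of characters. -/
noncomputable def minExp (B : Set (Cfsg.IrrCharacter G)) : ℕ :=
  sInf ((fun χ : Cfsg.IrrCharacter G => (Cfsg.charDegree (χ : G → ℂ)).factorization p) '' B)

omit [Fintype G] hp in
theorem blockDefect_eq (B : Set (Cfsg.IrrCharacter G)) :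
    Cfsg.blockDefect p B = (Nat.card G).factorization p - minExp p B := rfl

omit [Fintype G] hp in
theorem minExp_le {B : Set (Cfsg.IrrCharacter G)} {χ : Cfsg.IrrCharacter G} (hχ : χ ∈ B) :
    minExp p B ≤ (Cfsg.charDegree (χ : G → ℂ)).factorization p :=
  Nat.sInf_le ⟨χ, hχ, rfl⟩

omit hp in
theorem factorization_le_card (χ : Cfsg.IrrCharacter G) :
    (Cfsg.charDegree (χ : G → ℂ)).factorization p ≤ (Nat.card G).factorization p :=
  (Nat.factorization_le_iff_dvd (BlockBasic.charDegree_pos χ).ne' Nat.card_pos.ne').2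
    (BlockBasic.charDegree_dvd χ) p

theorem defect_add_minExp (hM : Cfsg.IsPModular p M) {B : Set (Cfsg.IrrCharacter G)}
    (hB : Cfsg.IsPBlock M B) :
    Cfsg.blockDefect p B + minExp p B = (Nat.card G).factorization p := by
  obtain ⟨χ, hχ⟩ := BlockBasic.isPBlock_nonempty hM hB
  rw [blockDefect_eq, Nat.sub_add_cancel ((minExp_le hχ).trans (factorization_le_card χ))]

theorem factorization_eq (hM : Cfsg.IsPModular p M) {B : Set (Cfsg.IrrCharacter G)}
    {χ : Cfsg.IrrCharacter G} (hχ : χ ∈ B) :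
    (Cfsg.charDegree (χ : G → ℂ)).factorization p =
      minExp p B + Cfsg.blockHeight p B (χ : G → ℂ) := by
  show _ = minExp p B + ((Cfsg.charDegree (χ : G → ℂ)).factorization p - minExp p B)
  rw [Nat.add_sub_cancel' (minExp_le hχ)]

theorem exists_height_zero (hM : Cfsg.IsPModular p M) {B : Set (Cfsg.IrrCharacter G)}
    (hB : Cfsg.IsPBlock M B) : ∃ χ ∈ B, Cfsg.blockHeight p B (χ : G → ℂ) = 0 := by
  obtain ⟨χ, hχ⟩ := BlockBasic.isPBlock_nonempty hM hB
  obtain ⟨ψ, hψ, he⟩ := Nat.sInf_mem (s := (fun χ : Cfsg.IrrCharacter G =>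
    (Cfsg.charDegree (χ : G → ℂ)).factorization p) '' B) ⟨_, χ, hχ, rfl⟩
  refine ⟨ψ, hψ, ?_⟩
  show (Cfsg.charDegree (ψ : G → ℂ)).factorization p - _ = 0
  rw [← he, Nat.sub_self]

/-- The `p`-regular part of `χ`, as a central element of the group algebra. -/
noncomputable def regElt (p : ℕ) (χ : Cfsg.IrrCharacter G) : MonoidAlgebra ℂ G :=
  BlockBasic.ofFun (fun x => if p ∣ orderOf x then 0 else conj ((χ : G → ℂ) x))

omit hp in
theorem isCentralElt_regElt (χ : Cfsg.IrrCharacter G) : BlockBasic.IsCentralElt (regElt p χ) :=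
  BlockBasic.isCentralElt_ofFun fun g x => by
    have h : orderOf (x * g * x⁻¹) = orderOf g := MulEquiv.orderOf_eq (MulAut.conj x) g
    simp only [h, IsIrr.isClassFunction χ.2 g x]

theorem isIntElt_regElt (hM : Cfsg.IsPModular p M) (χ : Cfsg.IrrCharacter G) :
    BlockBasic.IsIntElt M (regElt p χ) := by
  intro g
  rw [regElt, BlockBasic.coeff_ofFun]
  split_ifs
  · exact (BlockBasic.locRing hM).zero_mem
  · exact BlockBasic.memLocalRing_of_isIntegral hM (BlockBasic.isIntegral_conj_apply χ g)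

omit hp in
theorem regInner_eq_omega (χ ψ : Cfsg.IrrCharacter G) :
    (Nat.card G : ℂ) * regInner p ψ χ =
      (ψ : G → ℂ) 1 * BlockBasic.omega (ψ : G → ℂ) (regElt p χ) := by
  rw [regInner_eq_sum, BlockBasic.omega, mul_div_cancel₀ _ (IsIrr.one_ne_zero ψ.2),
    BlockBasic.chiLin]
  refine Finset.sum_congr rfl fun x _ => ?_
  rw [regElt, BlockBasic.coeff_ofFun]
  split_ifs
  · simp
  · ring

/-- The entry `n(χ,ψ) = p^d (χ_reg, ψ)` is an integer, and its relation with central characters. -/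
theorem exists_entry (hM : Cfsg.IsPModular p M) {B : Set (Cfsg.IrrCharacter G)}
    (hB : Cfsg.IsPBlock M B) {χ ψ : Cfsg.IrrCharacter G} (hψ : ψ ∈ B) :
    ∃ n : ℤ, ((p : ℂ) ^ Cfsg.blockDefect p B) * regInner p χ ψ = (n : ℂ) ∧
      ∃ w : ℂ, Cfsg.MemLocalRing M w ∧
        (Cfsg.MemLocalIdeal M w ↔
          Cfsg.MemLocalIdeal M (BlockBasic.omega (ψ : G → ℂ) (regElt p χ))) ∧
        (n : ℂ) = (p : ℂ) ^ Cfsg.blockHeight p B (ψ : G → ℂ) * w := by
  set a := (Nat.card G).factorization p with ha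
  set d := Cfsg.blockDefect p B
  set h := Cfsg.blockHeight p B (ψ : G → ℂ)
  set c := minExp p B
  set U := Nat.card G / p ^ a with hU
  set u := Cfsg.charDegree (ψ : G → ℂ) / p ^ (Cfsg.charDegree (ψ : G → ℂ)).factorization p with hu
  set ω := BlockBasic.omega (ψ : G → ℂ) (regElt p χ)
  have hUp : ¬ p ∣ U := Nat.not_dvd_ordCompl hp.out Nat.card_pos.ne'
  have hup : ¬ p ∣ u := Nat.not_dvd_ordCompl hp.out (BlockBasic.charDegree_pos ψ).ne'
  have hU0 : (U : ℂ) ≠ 0 := Nat.cast_ne_zero.2 fun h0 => hUp (h0 ▸ dvd_zero p)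
  have hp0 : (p : ℂ) ≠ 0 := Nat.cast_ne_zero.2 hp.out.ne_zero
  have hω : Cfsg.MemLocalRing M ω :=
    BlockBasic.memLocalRing_omega hM ψ.2 (isCentralElt_regElt χ) (isIntElt_regElt hM χ)
  have hadd : d + c = a := defect_add_minExp hM hB
  have hG : (Nat.card G : ℂ) = (p : ℂ) ^ a * U := by
    rw [← Nat.cast_pow, ← Nat.cast_mul, hU, Nat.ordProj_mul_ordCompl_eq_self]
  have h1 : (ψ : G → ℂ) 1 = (p : ℂ) ^ c * (p : ℂ) ^ h * u := by
    rw [BlockBasic.apply_one_eq_charDegree, ← pow_add, ← factorization_eq hM hψ, ← Nat.cast_pow,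
      ← Nat.cast_mul, hu, Nat.ordProj_mul_ordCompl_eq_self]
  set w : ℂ := (U : ℂ)⁻¹ * u * ω with hw
  have hwR : Cfsg.MemLocalRing M w :=
    BlockBasic.memLocalRing_mul hM (BlockBasic.memLocalRing_mul hM
      (BlockBasic.memLocalRing_natCast_inv hM hUp) (BlockBasic.memLocalRing_natCast hM u)) hω
  have hval : (p : ℂ) ^ d * regInner p χ ψ = (p : ℂ) ^ h * w := by
    have := regInner_eq_omega (p := p) χ ψ
    rw [regInner_symm ψ χ, hG, h1, ← hadd, pow_add] at this
    rw [hw]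
    apply mul_left_cancel₀ (mul_ne_zero (pow_ne_zero c hp0) hU0)
    calc (p : ℂ) ^ c * U * ((p : ℂ) ^ d * regInner p χ ψ)
        = (p : ℂ) ^ d * (p : ℂ) ^ c * U * regInner p χ ψ := by ring
      _ = _ := this
      _ = _ := by field_simp; rfl
  obtain ⟨m, hm⟩ := exists_int_regInner (p := p) χ ψ
  rw [← ha, ← hadd, Nat.cast_pow, pow_add] at hm
  obtain ⟨n, hn⟩ := int_dvd_of_memLocalRing hM (k := c) (m := m) (z := (p : ℂ) ^ h * w)
    (BlockBasic.memLocalRing_mul hM
      (by rw [← Nat.cast_pow]; exact BlockBasic.memLocalRing_natCast hM _) hwR)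
    (by rw [← hval, ← hm]; ring)
  refine ⟨n, ?_, w, hwR, ⟨fun hwi => ?_, fun hωi => ?_⟩, ?_⟩
  · apply mul_left_cancel₀ (pow_ne_zero c hp0)
    rw [← mul_assoc, mul_comm ((p : ℂ) ^ c), hm, hn]
    push_cast; ring
  · rcases (BlockBasic.memLocalIdeal_mul_iff hM (BlockBasic.memLocalRing_mul hM
      (BlockBasic.memLocalRing_natCast_inv hM hUp) (BlockBasic.memLocalRing_natCast hM u)) hω).1
        hwi with hh | hh
    · rcases (BlockBasic.memLocalIdeal_mul_iff hM (BlockBasic.memLocalRing_natCast_inv hM hUp)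
        (BlockBasic.memLocalRing_natCast hM u)).1 hh with hh | hh
      · exfalso
        apply BlockBasic.not_memLocalIdeal_one hM
        have := BlockBasic.memLocalIdeal_mul hM (BlockBasic.memLocalRing_natCast hM U) hh
        rwa [mul_inv_cancel₀ hU0] at this
      · exact absurd ((BlockBasic.memLocalIdeal_natCast_iff hM u).1 hh) hup
    · exact hh
  · exact BlockBasic.memLocalIdeal_mul hM (BlockBasic.memLocalRing_mul hM
      (BlockBasic.memLocalRing_natCast_inv hM hUp) (BlockBasic.memLocalRing_natCast hM u)) hωi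
  · rw [← hval]
    apply mul_left_cancel₀ (pow_ne_zero c hp0)
    rw [← mul_assoc, mul_comm ((p : ℂ) ^ c) ((p : ℂ) ^ d), hm, hn]
    push_cast; ring

open scoped Classical in
/-- The entry `p^d (χ_reg, ψ)` as an integer (zero if it is not one). -/
noncomputable def entry (p : ℕ) (B : Set (Cfsg.IrrCharacter G)) (χ ψ : Cfsg.IrrCharacter G) : ℤ :=
  if h : ∃ n : ℤ, ((p : ℂ) ^ Cfsg.blockDefect p B) * regInner p χ ψ = (n : ℂ) then h.choose else 0

theorem entry_spec (hM : Cfsg.IsPModular p M) {B : Set (Cfsg.IrrCharacter G)}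
    (hB : Cfsg.IsPBlock M B) {χ : Cfsg.IrrCharacter G} (hχ : χ ∈ B) (ψ : Cfsg.IrrCharacter G) :
    (entry p B χ ψ : ℂ) = ((p : ℂ) ^ Cfsg.blockDefect p B) * regInner p χ ψ := by
  have h : ∃ n : ℤ, ((p : ℂ) ^ Cfsg.blockDefect p B) * regInner p χ ψ = (n : ℂ) := by
    by_cases hψ : ψ ∈ B
    · obtain ⟨n, hn, -⟩ := exists_entry hM hB (χ := χ) hψ
      exact ⟨n, hn⟩
    · exact ⟨0, by rw [regInner_eq_zero hM hB hχ hψ]; simp⟩
  rw [entry, dif_pos h]
  exact h.choose_spec.symm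

theorem entry_eq_zero (hM : Cfsg.IsPModular p M) {B : Set (Cfsg.IrrCharacter G)}
    (hB : Cfsg.IsPBlock M B) {χ ψ : Cfsg.IrrCharacter G} (hχ : χ ∈ B) (hψ : ψ ∉ B) :
    entry p B χ ψ = 0 := by
  have := entry_spec hM hB hχ ψ
  rw [regInner_eq_zero hM hB hχ hψ, mul_zero] at this
  exact_mod_cast this

theorem entry_symm (hM : Cfsg.IsPModular p M) {B : Set (Cfsg.IrrCharacter G)}
    (hB : Cfsg.IsPBlock M B) {χ ψ : Cfsg.IrrCharacter G} (hχ : χ ∈ B) (hψ : ψ ∈ B) :
    entry p B χ ψ = entry p B ψ χ := by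
  have h1 := entry_spec hM hB hχ ψ
  have h2 := entry_spec hM hB hψ χ
  rw [regInner_symm] at h1
  exact_mod_cast h1.trans h2.symm

theorem sum_entry_mul (hM : Cfsg.IsPModular p M) {B : Set (Cfsg.IrrCharacter G)}
    (hB : Cfsg.IsPBlock M B) {χ ψ : Cfsg.IrrCharacter G} (hχ : χ ∈ B) (hψ : ψ ∈ B) :
    ∑ φ : Cfsg.IrrCharacter G, entry p B χ φ * entry p B φ ψ =
      (p : ℤ) ^ Cfsg.blockDefect p B * entry p B χ ψ := by
  have h : ((∑ φ : Cfsg.IrrCharacter G, entry p B χ φ * entry p B φ ψ : ℤ) : ℂ) =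
      (((p : ℤ) ^ Cfsg.blockDefect p B * entry p B χ ψ : ℤ) : ℂ) := by
    push_cast
    rw [entry_spec hM hB hχ ψ, ← regInner_proj (p := p) χ ψ, Finset.mul_sum, Finset.mul_sum]
    refine Finset.sum_congr rfl fun φ _ => ?_
    rw [entry_spec hM hB hχ φ]
    by_cases hφ : φ ∈ B
    · rw [entry_spec hM hB hφ ψ]; ring
    · rw [regInner_eq_zero hM hB hχ hφ]; ring
  exact_mod_cast h

theorem sum_entry_sq (hM : Cfsg.IsPModular p M) {B : Set (Cfsg.IrrCharacter G)}
    (hB : Cfsg.IsPBlock M B) {χ : Cfsg.IrrCharacter G} (hχ : χ ∈ B) :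
    ∑ φ : Cfsg.IrrCharacter G, entry p B χ φ ^ 2 =
      (p : ℤ) ^ Cfsg.blockDefect p B * entry p B χ χ := by
  rw [← sum_entry_mul hM hB hχ hχ]
  refine Finset.sum_congr rfl fun φ _ => ?_
  by_cases hφ : φ ∈ B
  · rw [sq, ← entry_symm hM hB hχ hφ]
  · rw [entry_eq_zero hM hB hχ hφ]; simp

theorem dvd_entry (hM : Cfsg.IsPModular p M) {B : Set (Cfsg.IrrCharacter G)}
    (hB : Cfsg.IsPBlock M B) {χ ψ : Cfsg.IrrCharacter G} (hχ : χ ∈ B) (hψ : ψ ∈ B) :
    (p : ℤ) ^ Cfsg.blockHeight p B (ψ : G → ℂ) ∣ entry p B χ ψ := by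
  obtain ⟨n, hn, w, hw, -, hnw⟩ := exists_entry hM hB (χ := χ) hψ
  have : entry p B χ ψ = n := by exact_mod_cast (entry_spec hM hB hχ ψ).trans hn
  rw [this]
  exact int_dvd_of_memLocalRing hM hw hnw.symm

/-- An extra factor `p` divides the entry exactly when a quantity independent of `ψ` is zero
modulo the maximal ideal. -/
theorem dvd_entry_succ_iff (hM : Cfsg.IsPModular p M) {B : Set (Cfsg.IrrCharacter G)}
    (hB : Cfsg.IsPBlock M B) {χ ψ θ : Cfsg.IrrCharacter G} (hχ : χ ∈ B) (hψ : ψ ∈ B)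
    (hθ : θ ∈ B) :
    (p : ℤ) ^ (Cfsg.blockHeight p B (ψ : G → ℂ) + 1) ∣ entry p B χ ψ ↔
      Cfsg.MemLocalIdeal M (BlockBasic.omega (θ : G → ℂ) (regElt p χ)) := by
  obtain ⟨n, hn, w, hw, hwi, hnw⟩ := exists_entry hM hB (χ := χ) hψ
  have hen : entry p B χ ψ = n := by exact_mod_cast (entry_spec hM hB hχ ψ).trans hn
  have hp0 : (p : ℂ) ≠ 0 := Nat.cast_ne_zero.2 hp.out.ne_zero
  set h := Cfsg.blockHeight p B (ψ : G → ℂ)
  have hs := BlockBasic.omega_congr hM (IsIrr.isClassFunction ψ.2) (IsIrr.isClassFunction θ.2)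
    (BlockBasic.isPBlock_sameBlock hM hB hψ hθ) (isCentralElt_regElt χ) (isIntElt_regElt hM χ)
  have hiff : Cfsg.MemLocalIdeal M (BlockBasic.omega (ψ : G → ℂ) (regElt p χ)) ↔
      Cfsg.MemLocalIdeal M (BlockBasic.omega (θ : G → ℂ) (regElt p χ)) := by
    constructor
    · intro h1; simpa using BlockBasic.memLocalIdeal_sub hM h1 hs
    · intro h1; simpa using BlockBasic.memLocalIdeal_add hM hs h1
  rw [hen, ← hiff, ← hwi]
  obtain ⟨m, hm⟩ := int_dvd_of_memLocalRing hM hw hnw.symm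
  have hwm : w = (m : ℂ) := by
    apply mul_left_cancel₀ (pow_ne_zero h hp0)
    rw [← hnw, hm]; push_cast; ring
  rw [hwm, BlockBasic.memLocalIdeal_intCast_iff hM, hm, pow_succ]
  exact mul_dvd_mul_iff_left (pow_ne_zero h (by exact_mod_cast hp.out.ne_zero))

omit hp in
/-- An integral combination of irreducible characters vanishing at nontrivial p-elements has
degree divisible by the p-part of the group order. -/
theorem degree_dvd_of_vanish [Fact p.Prime] (n : Cfsg.IrrCharacter G → ℤ)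
    (h : ∀ x : G, x ≠ 1 → p ∣ orderOf x → ∑ φ : Cfsg.IrrCharacter G, (n φ : ℂ) * (φ : G → ℂ) x = 0) :
    ∃ k : ℤ, ∑ φ : Cfsg.IrrCharacter G, (n φ : ℂ) * (φ : G → ℂ) 1 =
      (p : ℂ) ^ (Nat.card G).factorization p * k := by
  obtain ⟨r, ⟨k, rfl⟩, hr⟩ := BlockBasic.exists_mul_of_vanish (p := p) (fun φ => (n φ : ℂ))
    (Set.range (Int.cast : ℤ → ℂ)) ⟨0, Int.cast_zero⟩
    (by rintro _ ⟨a, rfl⟩ _ ⟨b, rfl⟩; exact ⟨a + b, by push_cast; rfl⟩)
    (by rintro m _ ⟨a, rfl⟩; exact ⟨a * m, by push_cast; rfl⟩)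
    (fun φ => ⟨_, rfl⟩)
    (fun x hx ⟨k, hk⟩ => h x hx (by
      rcases k with _ | k
      · exact absurd (orderOf_eq_one_iff.1 (by simpa using hk)) hx
      · exact hk ▸ dvd_pow_self p k.succ_ne_zero))
  exact ⟨k, by rw [hr]; push_cast; rfl⟩

theorem sum_entry_mul_apply (hM : Cfsg.IsPModular p M) {B : Set (Cfsg.IrrCharacter G)}
    (hB : Cfsg.IsPBlock M B) {χ : Cfsg.IrrCharacter G} (hχ : χ ∈ B) (x : G) :
    ∑ φ : Cfsg.IrrCharacter G, (entry p B χ φ : ℂ) * (φ : G → ℂ) x =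
      (p : ℂ) ^ Cfsg.blockDefect p B * Cfsg.pRegularPart p (χ : G → ℂ) x := by
  rw [pRegularPart_expansion, Finset.sum_apply, Finset.mul_sum]
  refine Finset.sum_congr rfl fun φ _ => ?_
  rw [entry_spec hM hB hχ φ, Pi.smul_apply, smul_eq_mul, mul_assoc]

/-- In the row of a height zero character the power of `p` is exactly the height of the column. -/
theorem not_dvd_entry_of_height_zero (hM : Cfsg.IsPModular p M)
    {B : Set (Cfsg.IrrCharacter G)} (hB : Cfsg.IsPBlock M B) {χ ψ : Cfsg.IrrCharacter G}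
    (hχ : χ ∈ B) (h0 : Cfsg.blockHeight p B (χ : G → ℂ) = 0) (hψ : ψ ∈ B) :
    ¬ (p : ℤ) ^ (Cfsg.blockHeight p B (ψ : G → ℂ) + 1) ∣ entry p B χ ψ := by
  rw [dvd_entry_succ_iff hM hB hχ hψ hχ]
  intro hmem
  have hall : ∀ φ : Cfsg.IrrCharacter G, (p : ℤ) ∣ entry p B χ φ := by
    intro φ
    by_cases hφ : φ ∈ B
    · exact (dvd_pow_self (p : ℤ) (Nat.succ_ne_zero _)).trans
        ((dvd_entry_succ_iff hM hB hχ hφ hχ).2 hmem)
    · rw [entry_eq_zero hM hB hχ hφ]; exact dvd_zero _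
  choose m hm using hall
  have hp0 : (p : ℂ) ≠ 0 := Nat.cast_ne_zero.2 hp.out.ne_zero
  have hmx : ∀ x : G, (p : ℂ) * ∑ φ : Cfsg.IrrCharacter G, (m φ : ℂ) * (φ : G → ℂ) x =
      (p : ℂ) ^ Cfsg.blockDefect p B * Cfsg.pRegularPart p (χ : G → ℂ) x := by
    intro x
    rw [← sum_entry_mul_apply hM hB hχ x, Finset.mul_sum]
    refine Finset.sum_congr rfl fun φ _ => ?_
    rw [hm φ]; push_cast; ring
  obtain ⟨k, hk⟩ := degree_dvd_of_vanish (p := p) m (fun x _ hx => by
    have := hmx x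
    rw [pRegularPart_eq_zero _ hx, mul_zero] at this
    exact (mul_eq_zero.1 this).resolve_left hp0)
  have h1 := hmx 1
  rw [hk, pRegularPart_eq_self _ (by rw [orderOf_one, Nat.dvd_one]; exact hp.out.ne_one),
    BlockBasic.apply_one_eq_charDegree] at h1
  have h2 : (p : ℤ) ^ ((Nat.card G).factorization p + 1) ∣
      ((p ^ Cfsg.blockDefect p B * Cfsg.charDegree (χ : G → ℂ) : ℕ) : ℤ) := by
    refine ⟨k, ?_⟩
    have : ((((p ^ Cfsg.blockDefect p B * Cfsg.charDegree (χ : G → ℂ) : ℕ) : ℤ)) : ℂ) =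
        (((p : ℤ) ^ ((Nat.card G).factorization p + 1) * k : ℤ) : ℂ) := by
      push_cast
      rw [← h1, pow_succ]; ring
    exact_mod_cast this
  have h3 : p ^ ((Nat.card G).factorization p + 1) ∣
      p ^ Cfsg.blockDefect p B * Cfsg.charDegree (χ : G → ℂ) := by exact_mod_cast h2
  have hd0 := (BlockBasic.charDegree_pos χ).ne'
  rw [hp.out.pow_dvd_iff_le_factorization (mul_ne_zero (pow_ne_zero _ hp.out.ne_zero) hd0),
    Nat.factorization_mul (pow_ne_zero _ hp.out.ne_zero) hd0, Finsupp.add_apply,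
    Nat.Prime.factorization_pow hp.out, Finsupp.single_eq_same, factorization_eq hM hχ, h0,
    add_zero, defect_add_minExp hM hB] at h3
  omega

theorem entry_ne_zero_of_height_zero (hM : Cfsg.IsPModular p M)
    {B : Set (Cfsg.IrrCharacter G)} (hB : Cfsg.IsPBlock M B) {χ ψ : Cfsg.IrrCharacter G}
    (hχ : χ ∈ B) (h0 : Cfsg.blockHeight p B (χ : G → ℂ) = 0) (hψ : ψ ∈ B) :
    (p : ℤ) ^ Cfsg.blockHeight p B (ψ : G → ℂ) ≤ |entry p B χ ψ| := by
  have hne : entry p B χ ψ ≠ 0 := fun h =>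
    not_dvd_entry_of_height_zero hM hB hχ h0 hψ (h ▸ dvd_zero _)
  exact Int.le_of_dvd (abs_pos.2 hne) ((dvd_abs _ _).2 (dvd_entry hM hB hχ hψ))

/-- In the row of a character of positive height every entry gains a factor `p`. -/
theorem dvd_entry_succ (hM : Cfsg.IsPModular p M)
    {B : Set (Cfsg.IrrCharacter G)} (hB : Cfsg.IsPBlock M B) {χ ψ : Cfsg.IrrCharacter G}
    (hχ : χ ∈ B) (hpos : 0 < Cfsg.blockHeight p B (χ : G → ℂ)) (hψ : ψ ∈ B) :
    (p : ℤ) ^ (Cfsg.blockHeight p B (ψ : G → ℂ) + 1) ∣ entry p B χ ψ := by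
  obtain ⟨θ, hθ, h0⟩ := exists_height_zero hM hB
  rw [dvd_entry_succ_iff hM hB hχ hψ hθ, ← dvd_entry_succ_iff hM hB hχ hθ hθ, h0, zero_add,
    pow_one, entry_symm hM hB hχ hθ]
  exact (dvd_pow_self (p : ℤ) hpos.ne').trans (dvd_entry hM hB hθ hχ)

theorem entry_self_pos (hM : Cfsg.IsPModular p M)
    {B : Set (Cfsg.IrrCharacter G)} (hB : Cfsg.IsPBlock M B) {χ : Cfsg.IrrCharacter G}
    (hχ : χ ∈ B) : 0 < entry p B χ χ := by
  have h := sum_entry_sq hM hB hχ
  have hpp : (0 : ℤ) < (p : ℤ) ^ Cfsg.blockDefect p B := pow_pos (by exact_mod_cast hp.out.pos) _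
  have hnn : 0 ≤ entry p B χ χ :=
    (mul_nonneg_iff_of_pos_left hpp).1 (h ▸ Finset.sum_nonneg fun _ _ => sq_nonneg _)
  refine lt_of_le_of_ne hnn fun h0 => ?_
  rw [← h0, mul_zero, Finset.sum_eq_zero_iff_of_nonneg fun _ _ => sq_nonneg _] at h
  obtain ⟨θ, hθ, hθ0⟩ := exists_height_zero hM hB
  have hz := h θ (Finset.mem_univ _)
  rw [pow_eq_zero_iff two_ne_zero, entry_symm hM hB hχ hθ] at hz
  exact not_dvd_entry_of_height_zero hM hB hθ hθ0 hχ (hz ▸ dvd_zero _)

open scoped Classical in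
/-- The off-diagonal squares in a row add up to at most a quarter of `p^(2d)`. -/
theorem four_mul_sum_erase_le (hM : Cfsg.IsPModular p M)
    {B : Set (Cfsg.IrrCharacter G)} (hB : Cfsg.IsPBlock M B) {χ : Cfsg.IrrCharacter G}
    (hχ : χ ∈ B) (s : Finset (Cfsg.IrrCharacter G)) (hs : χ ∉ s) :
    4 * ∑ φ ∈ s, entry p B χ φ ^ 2 ≤ ((p : ℤ) ^ Cfsg.blockDefect p B) ^ 2 := by
  have h := sum_entry_sq hM hB hχ
  have hle : entry p B χ χ ^ 2 + ∑ φ ∈ s, entry p B χ φ ^ 2 ≤
      (p : ℤ) ^ Cfsg.blockDefect p B * entry p B χ χ := by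
    rw [← h, ← Finset.sum_insert (f := fun φ => entry p B χ φ ^ 2) hs]
    exact Finset.sum_le_sum_of_subset_of_nonneg (Finset.subset_univ _) fun _ _ _ => sq_nonneg _
  nlinarith [sq_nonneg ((p : ℤ) ^ Cfsg.blockDefect p B - 2 * entry p B χ χ)]

/-- The defect is at most the exponent of the order of a defect group. -/
theorem pow_blockDefect_le_card (hM : Cfsg.IsPModular p M)
    {B : Set (Cfsg.IrrCharacter G)} (hB : Cfsg.IsPBlock M B) {D : Subgroup G}
    (hD : Cfsg.IsDefectGroup p M B D) : p ^ Cfsg.blockDefect p B ≤ Nat.card D := by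
  obtain ⟨g, ⟨-, -, hg⟩, P, rfl⟩ := hD
  obtain ⟨χ, hχ, h0⟩ := exists_height_zero hM hB
  rw [Subgroup.card_map_of_injective (Subgroup.subtype_injective _), Sylow.card_eq_multiplicity]
  set C := Subgroup.centralizer ({g} : Set G)
  refine Nat.pow_le_pow_right hp.out.pos ?_
  have hi : C.index ≠ 0 := Subgroup.index_ne_zero_of_finite
  have hcard : (Nat.card G).factorization p =
      C.index.factorization p + (Nat.card C).factorization p := by
    rw [← Subgroup.index_mul_card C, Nat.factorization_mul hi Nat.card_pos.ne',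
      Finsupp.add_apply]
  have hle : C.index.factorization p ≤ minExp p B := by
    by_contra hlt
    push Not at hlt
    apply hg χ hχ
    set c := minExp p B
    set u := Cfsg.charDegree (χ : G → ℂ) / p ^ c with hu
    have hfac : (Cfsg.charDegree (χ : G → ℂ)).factorization p = c := by
      rw [factorization_eq hM hχ, h0, add_zero]
    have hup : ¬ p ∣ u := by
      rw [hu, ← hfac]; exact Nat.not_dvd_ordCompl hp.out (BlockBasic.charDegree_pos χ).ne'
    obtain ⟨j, hj⟩ := (hp.out.pow_dvd_iff_le_factorization hi).2 hlt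
    have hp0 : (p : ℂ) ≠ 0 := Nat.cast_ne_zero.2 hp.out.ne_zero
    have hu0 : (u : ℂ) ≠ 0 := Nat.cast_ne_zero.2 fun h => hup (h ▸ dvd_zero p)
    have h1 : (χ : G → ℂ) 1 = (p : ℂ) ^ c * u := by
      rw [BlockBasic.apply_one_eq_charDegree, ← Nat.cast_pow, ← Nat.cast_mul, hu, ← hfac,
        Nat.ordProj_mul_ordCompl_eq_self]
    have : Cfsg.centralChar (χ : G → ℂ) g =
        ((j : ℂ) * (u : ℂ)⁻¹ * (χ : G → ℂ) g) * (p : ℂ) := by
      rw [Cfsg.centralChar, h1, hj]
      push_cast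
      rw [pow_succ]
      field_simp
    rw [this]
    exact BlockBasic.memLocalIdeal_mul hM
      (BlockBasic.memLocalRing_mul hM (BlockBasic.memLocalRing_mul hM
        (BlockBasic.memLocalRing_natCast hM j) (BlockBasic.memLocalRing_natCast_inv hM hup))
        (BlockBasic.memLocalRing_of_isIntegral hM (BlockBasic.isIntegral_apply χ g)))
      ((BlockBasic.memLocalIdeal_natCast_iff hM p).2 dvd_rfl)
  have := defect_add_minExp hM hB
  omega

end Block

end Cfsg.Agent.H83
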