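import Mathlib.LinearAlgebra.Matrix.SchurComplement
import Mathlib.LinearAlgebra.Matrix.Block
import Mathlib.Data.Matrix.ColumnRowPartitioned
import Mathlib.LinearAlgebra.Matrix.ToLinearEquiv
import Mathlib.LinearAlgebra.Matrix.Rank
import Mathlib.Algebra.Module.Projective
import Mathlib.LinearAlgebra.Matrix.Trace
import Mathlib.LinearAlgebra.FreeModule.PID
import Mathlib.LinearAlgebra.Dimension.Finrank
import Mathlib.LinearAlgebra.FiniteDimensional.Lemmas
import Mathlib.Data.Rat.Cast.CharZero
import Mathlib.RingTheory.Int.Basic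
import Mathlib.Tactic.Linarith
import Mathlib.Tactic.Positivity
import Mathlib.Tactic.LinearCombination

/-!
A scaled integral projection `A * A = p • A` which has rank one mod `p` and no diagonal entry
divisible by `p` takes values at least its rank on integral vectors outside its kernel.
-/

namespace Cfsg.Agent.H83.RankOneLattice

open Matrix

/-- A matrix of rank one mod `p` has determinant divisible by a high power of `p`. -/
theorem pow_dvd_det {n : Type*} [Fintype n] [DecidableEq n] (p : ℤ) (a w : n → ℤ)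
    (B : Matrix n n ℤ) :
    p ^ (Fintype.card n - 1) ∣ det (of fun i j => a i * w j + p * B i j) := by
  classical
  have e : (of fun i j => a i * w j + p * B i j : Matrix n n ℤ) =
      ((fun i => a i • w) + fun i => p • B i : n → n → ℤ) := by
    funext i j
    simp
  show p ^ _ ∣ (detRowAlternating : (n → ℤ) [⋀^n]→ₗ[ℤ] ℤ).toMultilinearMap _
  rw [e, MultilinearMap.map_add_univ]
  refine Finset.dvd_sum fun s _ => ?_
  set c : n → ℤ := fun i => if i ∈ s then a i else p
  set N : n → n → ℤ := fun i => if i ∈ s then w else B i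
  have e2 : s.piecewise (fun i => a i • w) (fun i => p • B i) = fun i => c i • N i := by
    funext i
    by_cases h : i ∈ s <;> simp [c, N, h]
  rw [e2, MultilinearMap.map_smul_univ]
  by_cases h2 : 2 ≤ s.card
  · obtain ⟨i, hi, j, hj, hij⟩ := Finset.one_lt_card.1 h2
    have h0 : (detRowAlternating : (n → ℤ) [⋀^n]→ₗ[ℤ] ℤ).toMultilinearMap N = 0 :=
      det_zero_of_row_eq (M := of N) hij (show N i = N j by simp [N, hi, hj])
    rw [h0, smul_zero]
    exact dvd_zero _
  · refine Dvd.dvd.mul_right ?_ _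
    have hle : Fintype.card n - 1 ≤ sᶜ.card := by rw [Finset.card_compl]; omega
    refine (pow_dvd_pow p hle).trans ?_
    rw [← Finset.prod_mul_prod_compl s c,
      Finset.prod_congr rfl (g := fun _ => p) (fun i hi => if_neg (Finset.mem_compl.1 hi)),
      Finset.prod_const]
    exact dvd_mul_left _ _

/-- Adding a row to an integral matrix of full column rank increases the Gram determinant. -/
theorem det_gram_add_lt {ι n : Type*} [Fintype ι] [Fintype n] [DecidableEq n] (W : Matrix ι n ℤ)
    (hW : 0 < (Wᵀ * W).det) (v : n → ℤ) (hv : v ≠ 0) :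
    (Wᵀ * W).det < (Wᵀ * W + vecMulVec v v).det := by
  set G := Wᵀ * W with hG
  set y := G.adjugate *ᵥ v with hy
  have hGy : G *ᵥ y = G.det • v := by
    rw [hy, mulVec_mulVec, mul_adjugate, smul_mulVec, one_mulVec]
  have hWy : (W *ᵥ y) ⬝ᵥ (W *ᵥ y) = G.det * (v ⬝ᵥ y) := by
    rw [dotProduct_mulVec, ← mulVec_transpose, mulVec_mulVec, ← hG, hGy, smul_dotProduct, smul_eq_mul]
  have hne : W *ᵥ y ≠ 0 := by
    intro h0
    have h1 : G.det • v = 0 := by rw [← hGy, hG, ← mulVec_mulVec, h0, mulVec_zero]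
    exact hv ((smul_eq_zero.1 h1).resolve_left hW.ne')
  have hpos : 0 < v ⬝ᵥ y := by
    have h1 : 0 < (W *ᵥ y) ⬝ᵥ (W *ᵥ y) := by
      obtain ⟨i, hi⟩ := Function.ne_iff.1 hne
      exact Finset.sum_pos' (fun j _ => mul_self_nonneg _)
        ⟨i, Finset.mem_univ _, mul_self_pos.2 (by simpa using hi)⟩
    rw [hWy] at h1
    exact (mul_pos_iff_of_pos_left hW).1 h1
  suffices h : (G + vecMulVec v v).det = G.det + v ⬝ᵥ y by omega
  -- the determinant lemma over the rationals
  let f := Int.castRingHom ℚ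
  apply Int.cast_injective (α := ℚ)
  have hU : IsUnit (G.map f).det := by
    rw [show (G.map f).det = ((G.det : ℤ) : ℚ) from (RingHom.map_det f G).symm, isUnit_iff_ne_zero]
    exact_mod_cast hW.ne'
  have hsum : (G + vecMulVec v v).map f =
      G.map f + replicateCol Unit (f ∘ v) * replicateRow Unit (f ∘ v) := by
    ext i j
    simp [vecMulVec, Matrix.mul_apply, f]
  rw [Int.cast_add, show ((G + vecMulVec v v).det : ℚ) = ((G + vecMulVec v v).map f).det from RingHom.map_det f _,
    hsum, det_add_replicateCol_mul_replicateRow hU, show (G.det : ℚ) = (G.map f).det from RingHom.map_det f _]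
  have hadj : (G.map f).det • ((G.map f)⁻¹) = G.adjugate.map f := by
    rw [Matrix.inv_def, smul_smul, Ring.mul_inverse_cancel _ hU, one_smul, ← RingHom.mapMatrix_apply,
      ← RingHom.mapMatrix_apply, RingHom.map_adjugate]
  rw [det_unique (n := Unit)]
  have e1 : (replicateRow Unit (f ∘ v) * (G.map f)⁻¹ * replicateCol Unit (f ∘ v))
      (default : Unit) default = (f ∘ v) ⬝ᵥ ((G.map f)⁻¹ *ᵥ (f ∘ v)) := by
    rw [Matrix.mul_assoc]
    rfl
  rw [Matrix.add_apply, Matrix.one_apply_eq, e1, mul_add, mul_one, ← smul_eq_mul (G.map f).det,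
    ← dotProduct_smul, ← smul_mulVec, hadj]
  congr 1
  simp only [dotProduct, mulVec, hy, Function.comp_apply, Matrix.map_apply, f, Int.coe_castRingHom]
  push_cast
  rfl

/-- An integral matrix of full column rank with no zero row has Gram determinant at least the
number of rows minus the number of columns, plus one. -/
theorem card_le_det_gram {ι n : Type*} [Fintype ι] [Fintype n] [DecidableEq n] (W : Matrix ι n ℤ)
    (hinj : ∀ c : n → ℤ, W *ᵥ c = 0 → c = 0) (hrow : ∀ i, W i ≠ 0) :
    (Fintype.card ι : ℤ) - Fintype.card n + 1 ≤ (Wᵀ * W).det := by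
  classical
  let f := Int.castRingHom ℚ
  set v : ι → n → ℚ := fun i j => (W i j : ℚ)
  obtain ⟨κ, a, ha, hsp, hli⟩ := exists_linearIndependent' ℚ v
  haveI : Finite κ := Finite.of_injective a ha
  haveI : Fintype κ := Fintype.ofFinite κ
  have hcols : LinearIndependent ℤ W.col := mulVec_injective_iff.1 fun c c' h =>
    sub_eq_zero.1 (hinj _ (by rw [mulVec_sub, h, sub_self]))
  have hrankQ : Fintype.card κ = Fintype.card n := by
    have hcolsQ : LinearIndependent ℚ (W.map f).col := by
      rw [Fintype.linearIndependent_iff]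
      intro g hg
      obtain ⟨b, hb⟩ := IsLocalization.exist_integer_multiples (nonZeroDivisors ℤ)
        (Finset.univ : Finset n) g
      choose z hz using fun j => hb j (Finset.mem_univ j)
      have hb0 : ((b : ℤ) : ℚ) ≠ 0 := by exact_mod_cast nonZeroDivisors.ne_zero b.2
      have hz' : ∀ j, (z j : ℚ) = (b : ℤ) * g j := fun j => by
        have := hz j
        rw [zsmul_eq_mul] at this
        simpa using this
      have h0 : W *ᵥ z = 0 := by
        funext i
        have h := congrFun hg i
        simp only [Finset.sum_apply, Pi.smul_apply, smul_eq_mul, Matrix.col_apply, Matrix.map_apply,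
          Pi.zero_apply] at h
        apply Int.cast_injective (α := ℚ)
        simp only [mulVec, dotProduct, Pi.zero_apply]
        push_cast
        rw [Finset.sum_congr rfl fun j _ => show (W i j : ℚ) * (z j : ℚ) =
          (b : ℤ) * (g j * f (W i j)) by rw [hz']; simp [f]; ring, ← Finset.mul_sum, h, mul_zero]
      intro j
      have h := hz' j
      rw [congrFun (hinj z h0) j, Pi.zero_apply, Int.cast_zero] at h
      exact (mul_eq_zero.1 h.symm).resolve_left hb0
    have hrk : Matrix.rank (W.map f : Matrix ι n ℚ) = Fintype.card n := by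
      rw [Matrix.rank_eq_finrank_span_cols, finrank_span_eq_card hcolsQ]
    rw [← Matrix.rank_transpose, Matrix.rank_eq_finrank_span_cols,
      show (W.map f : Matrix ι n ℚ)ᵀ.col = v from rfl, ← hsp, finrank_span_eq_card hli] at hrk
    exact hrk
  let eκ : n ≃ κ := Fintype.equivOfCardEq hrankQ.symm
  set M₀ : Matrix n n ℤ := of fun i j => W (a (eκ i)) j
  have hM₀ : M₀.det ≠ 0 := by
    intro h0
    have h1 : (M₀.map f).det = 0 := by
      rw [show (M₀.map f).det = f M₀.det from (RingHom.map_det f M₀).symm, h0, map_zero]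
    have hrows : LinearIndependent ℚ (M₀.map f).row := hli.comp eκ eκ.injective
    exact ((Matrix.linearIndependent_rows_iff_isUnit.1 hrows).map detMonoidHom).ne_zero h1
  set S₀ : Finset ι := Finset.univ.image (fun i => a (eκ i))
  have hS₀ : S₀.card = Fintype.card n :=
    Finset.card_image_of_injective _ (ha.comp eκ.injective)
  let gram : Finset ι → Matrix n n ℤ := fun S => ∑ i ∈ S, vecMulVec (W i) (W i)
  have hgr : ∀ S : Finset ι,
      gram S = (W.submatrix (Subtype.val : S → ι) id)ᵀ * (W.submatrix (Subtype.val : S → ι) id) := by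
    intro S
    ext i j
    simp only [gram, Matrix.sum_apply, vecMulVec_apply, Matrix.mul_apply, transpose_apply,
      submatrix_apply, id]
    exact (Finset.sum_coe_sort S fun l => W l i * W l j).symm
  have key : ∀ T : Finset ι, Disjoint S₀ T → (T.card : ℤ) + 1 ≤ (gram (S₀ ∪ T)).det := by
    intro T
    induction T using Finset.induction with
    | empty =>
      intro _
      rw [Finset.union_empty]
      have e : gram S₀ = M₀ᵀ * M₀ := by
        ext i j
        simp only [gram, S₀, Matrix.sum_apply, vecMulVec_apply, Matrix.mul_apply, transpose_apply,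
          M₀, of_apply]
        rw [Finset.sum_image fun x _ y _ h => eκ.injective (ha h)]
      rw [e, det_mul, det_transpose, Finset.card_empty]
      have := mul_self_pos.2 hM₀
      omega
    | insert i T hi ih =>
      intro hd
      rw [Finset.disjoint_insert_right] at hd
      have hin : i ∉ S₀ ∪ T := by simp [hd.1, hi]
      have h := ih hd.2
      have e : gram (S₀ ∪ insert i T) = gram (S₀ ∪ T) + vecMulVec (W i) (W i) := by
        simp only [gram]
        rw [Finset.union_insert, Finset.sum_insert hin, add_comm]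
      have hlt := det_gram_add_lt (W.submatrix (Subtype.val : (S₀ ∪ T : Finset ι) → ι) id)
        (by rw [← hgr]; omega) (W i) (hrow i)
      rw [← hgr] at hlt
      rw [e, Finset.card_insert_of_notMem hi]
      push_cast
      omega
  have h := key S₀ᶜ disjoint_compl_right
  have hall : gram (S₀ ∪ S₀ᶜ) = Wᵀ * W := by
    rw [Finset.union_compl]
    ext i j
    simp [gram, Matrix.sum_apply, vecMulVec_apply, Matrix.mul_apply]
  rw [hall, Finset.card_compl, hS₀, Nat.cast_sub (hS₀ ▸ S₀.card_le_univ)] at h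
  exact h

variable {ι : Type*} [Fintype ι] [DecidableEq ι] {p : ℕ}

/-- The lattice bound. -/
theorem trace_le (hp : p.Prime) (A : Matrix ι ι ℤ) (hsym : Aᵀ = A) (hAA : A * A = (p : ℤ) • A)
    (hnd : ∀ i, ¬ (p : ℤ) ∣ A i i)
    (hr1 : ∀ i j l, (p : ℤ) ∣ A i j * A l l - A i l * A j l)
    (x : ι → ℤ) (hx : A *ᵥ x ≠ 0) : A.trace ≤ (p : ℤ) * (x ⬝ᵥ A *ᵥ x) := by
  classical
  have hp0 : (p : ℤ) ≠ 0 := by exact_mod_cast hp.ne_zero
  set L := A.mulVecLin with hL
  -- a retraction onto the kernel
  haveI : Module.Free ℤ (LinearMap.range L) :=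
    Module.Free.of_basis (Submodule.basisOfPid (Pi.basisFun ℤ ι) (LinearMap.range L)).2
  obtain ⟨s, hs⟩ := Module.projective_lifting_property L.rangeRestrict
    (LinearMap.id : LinearMap.range L →ₗ[ℤ] LinearMap.range L) L.surjective_rangeRestrict
  have hs' : ∀ v, A *ᵥ (s (L.rangeRestrict v)) = A *ᵥ v := by
    intro v
    have := congrArg Subtype.val (LinearMap.congr_fun hs (L.rangeRestrict v))
    simpa [hL] using this
  let r : (ι → ℤ) →ₗ[ℤ] LinearMap.ker L :=
    LinearMap.codRestrict _ (LinearMap.id - s.comp L.rangeRestrict) fun v => by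
      simp only [hL, LinearMap.mem_ker, LinearMap.sub_apply, LinearMap.id_apply,
        LinearMap.comp_apply, Matrix.mulVecLin_apply, mulVec_sub]
      rw [sub_eq_zero]
      exact (hs' v).symm
  have hr : ∀ v : LinearMap.ker L, r v = v := by
    intro v
    have h0 : L.rangeRestrict (v : ι → ℤ) = 0 := Subtype.ext v.2
    exact Subtype.ext (by simp [r, h0])
  obtain ⟨m, b⟩ := Submodule.basisOfPid (Pi.basisFun ℤ ι) (LinearMap.ker L)
  set W : Matrix ι (Fin m) ℤ := of fun i j => (b j : ι → ℤ) i with hW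
  set U : Matrix (Fin m) ι ℤ := of fun j i => b.repr (r (Pi.single i 1)) j with hU
  have hUv : ∀ v, U *ᵥ v = fun j => b.repr (r v) j := by
    intro v
    funext j
    conv_rhs => rw [show v = ∑ i, v i • Pi.single i (1 : ℤ) from funext fun l => by simp [Pi.single_apply]]
    simp only [hU, mulVec, dotProduct, of_apply, map_sum, map_smul, Finsupp.coe_finsetSum,
      Finset.sum_apply, Finsupp.smul_apply, smul_eq_mul]
    exact Finset.sum_congr rfl fun i _ => mul_comm _ _
  have hWU : ∀ v, A *ᵥ v = 0 → W *ᵥ (U *ᵥ v) = v := by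
    intro v hv
    have hv' : v ∈ LinearMap.ker L := by simpa [hL] using hv
    have h := congrArg Subtype.val (b.sum_repr ⟨v, hv'⟩)
    rw [hUv, show r v = ⟨v, hv'⟩ from hr ⟨v, hv'⟩]
    funext i
    refine Eq.trans ?_ (congrFun h i)
    simp only [hW, mulVec, dotProduct, of_apply, Submodule.coe_sum, Submodule.coe_smul,
      Finset.sum_apply, Pi.smul_apply, smul_eq_mul]
    exact Finset.sum_congr rfl fun j _ => mul_comm _ _
  have hAW : A * W = 0 := by
    ext i j
    have h := congrFun (show A *ᵥ (b j : ι → ℤ) = 0 from (b j).2) i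
    rw [Matrix.zero_apply, ← Pi.zero_apply (M := fun _ : ι => ℤ) i, ← h]
    rfl
  have hUW : U * W = 1 := by
    ext i j
    have h := congrFun (hUv (b j : ι → ℤ)) i
    rw [show r (b j : ι → ℤ) = b j from hr (b j), b.repr_self, Finsupp.single_apply] at h
    rw [Matrix.one_apply, show (U * W) i j = (U *ᵥ (b j : ι → ℤ)) i from rfl, h]
    exact if_congr eq_comm rfl rfl
  set Z : Matrix ι ι ℤ := (p : ℤ) • 1 - A with hZ
  have hAZ : A * Z = 0 := by rw [hZ, mul_sub, Matrix.mul_smul, mul_one, hAA, sub_self]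
  have hZsym : Zᵀ = Z := by rw [hZ, transpose_sub, transpose_smul, transpose_one, hsym]
  have hWY : W * (U * Z) = Z := by
    ext i j
    have hcol : A *ᵥ (fun l => Z l j) = 0 := funext fun i' => congrFun (congrFun hAZ i') j
    exact congrFun (hWU _ hcol) i
  have hZW : Z * W = (p : ℤ) • W := by
    rw [hZ, Matrix.sub_mul, hAW, sub_zero, Matrix.smul_mul, Matrix.one_mul]
  set X : Matrix (Fin m) (Fin m) ℤ := U * Z * Uᵀ with hX
  have hXW : X * Wᵀ = U * Z := by
    calc X * Wᵀ = U * Z * (Uᵀ * Wᵀ) := by rw [hX, Matrix.mul_assoc]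
      _ = U * (W * (U * Z))ᵀ * (Uᵀ * Wᵀ) := by rw [hWY, hZsym]
      _ = U * ((U * Z)ᵀ * ((Wᵀ * Uᵀ) * Wᵀ)) := by rw [transpose_mul]; simp only [Matrix.mul_assoc]
      _ = U * Z := by
        rw [← transpose_mul U W, hUW, transpose_one, Matrix.one_mul, ← transpose_mul, hWY, hZsym]
  set Gm : Matrix (Fin m) (Fin m) ℤ := Wᵀ * W with hGm
  have hXG : X * Gm = (p : ℤ) • 1 := by
    rw [hGm, ← Matrix.mul_assoc, hXW, Matrix.mul_assoc, hZW, Matrix.mul_smul, hUW]
  have hGX : Gm * X = (p : ℤ) • 1 := by
    have hGs : Gmᵀ = Gm := by rw [hGm, transpose_mul, transpose_transpose]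
    have hXs : Xᵀ = X := by
      rw [hX, transpose_mul, transpose_mul, transpose_transpose, hZsym, Matrix.mul_assoc]
    rw [← hGs, ← hXs, ← transpose_mul, hXG, transpose_smul, transpose_one]
  have hWXW : W * X * Wᵀ = Z := by rw [Matrix.mul_assoc, hXW, hWY]
  have hrow : ∀ i, W i ≠ 0 := by
    intro i h0
    apply hnd i
    have h : Z i i = 0 := by
      rw [← hWY, Matrix.mul_apply]
      simp [h0]
    rw [hZ, Matrix.sub_apply, Matrix.smul_apply, Matrix.one_apply_eq, smul_eq_mul, mul_one,
      sub_eq_zero] at h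
    rw [← h]
  have hWinj : ∀ c, W *ᵥ c = 0 → c = 0 := by
    intro c hc
    rw [← one_mulVec c, ← hUW, ← mulVec_mulVec, hc, mulVec_zero]
  have hGpos : 1 ≤ Gm.det := by
    have := card_le_det_gram W hWinj hrow
    rw [Fintype.card_fin] at this
    have hle : m ≤ Fintype.card ι := by
      have h1 := Submodule.finrank_le (LinearMap.ker L)
      rw [Module.finrank_eq_card_basis b, Fintype.card_fin, Module.finrank_pi] at h1
      exact h1
    have hle' : (m : ℤ) ≤ Fintype.card ι := by exact_mod_cast hle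
    rw [← hGm] at this
    linarith
  have hGle : Gm.det ≤ (p : ℤ) := by
    have hdet : X.det * Gm.det = (p : ℤ) ^ m := by
      rw [← det_mul, hXG, det_smul, det_one, mul_one, Fintype.card_fin]
    rcases m.eq_zero_or_pos with hm | hm
    · subst hm
      rw [det_fin_zero]
      exact_mod_cast hp.one_le
    have hne : Nonempty ι := ⟨(Function.ne_iff.1 hx).choose⟩
    obtain ⟨i₀⟩ := hne
    set c := A i₀ i₀ with hc
    obtain ⟨B, hB⟩ : ∃ B : Matrix ι ι ℤ, ∀ i j, A i j * c = A i i₀ * A j i₀ + (p : ℤ) * B i j := by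
      choose B hB using fun i j => hr1 i j i₀
      exact ⟨of B, fun i j => by rw [of_apply, hc]; linarith [hB i j]⟩
    have hdv : (p : ℤ) ^ (m - 1) ∣ (c • X).det := by
      have e : c • X = of fun i j => (-(U *ᵥ fun l => A l i₀) i) * (U *ᵥ fun l => A l i₀) j +
          (p : ℤ) * ((c • (U * Uᵀ) - U * B * Uᵀ) i j) := by
        ext i j
        simp only [of_apply, hX, hZ, Matrix.mul_sub, Matrix.sub_mul, Matrix.mul_smul, Matrix.smul_mul,
          Matrix.mul_one, Matrix.smul_apply, Matrix.sub_apply, smul_eq_mul, mul_sub]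
        have h1 : c * (U * A * Uᵀ) i j =
            (U *ᵥ fun l => A l i₀) i * (U *ᵥ fun l => A l i₀) j + (p : ℤ) * (U * B * Uᵀ) i j := by
          simp only [Matrix.mul_apply, transpose_apply, mulVec, dotProduct, Finset.mul_sum,
            Finset.sum_mul, ← Finset.sum_add_distrib]
          refine Finset.sum_congr rfl fun l _ => Finset.sum_congr rfl fun l' _ => ?_
          linear_combination U i l' * U j l * hB l' l
        linear_combination -h1
      rw [e]
      have := pow_dvd_det (p : ℤ) (fun i => -(U *ᵥ fun l => A l i₀) i) (U *ᵥ fun l => A l i₀)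
        (c • (U * Uᵀ) - U * B * Uᵀ)
      rwa [Fintype.card_fin] at this
    rw [det_smul] at hdv
    have hco : IsCoprime ((p : ℤ) ^ (m - 1)) (c ^ Fintype.card (Fin m)) :=
      IsCoprime.pow ((Int.prime_iff_natAbs_prime.2 (by simpa using hp) : Prime (p : ℤ)).coprime_iff_not_dvd.2 (hnd i₀))
    obtain ⟨t, ht⟩ := hco.dvd_of_dvd_mul_left hdv
    rw [ht, mul_assoc] at hdet
    have hpm : (p : ℤ) ^ m = (p : ℤ) ^ (m - 1) * p := by rw [← pow_succ]; congr 1; omega
    rw [hpm] at hdet
    exact Int.le_of_dvd (by exact_mod_cast hp.pos)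
      ⟨t, by rw [← mul_left_cancel₀ (pow_ne_zero _ hp0) hdet]; ring⟩
  -- adjoin the vector
  set W' : Matrix ι (Fin m ⊕ Unit) ℤ := fromCols W (replicateCol Unit x) with hW'
  have h1 := card_le_det_gram W' (by
      intro c hc
      rw [hW', fromCols_mulVec] at hc
      have hsmul : replicateCol Unit x *ᵥ (c ∘ Sum.inr) = c (Sum.inr ()) • x := by
        funext i
        simp [mulVec, dotProduct, mul_comm]
      rw [hsmul] at hc
      have h := congrArg (A *ᵥ ·) hc
      simp only [mulVec_add, mulVec_mulVec, hAW, zero_mulVec, zero_add, mulVec_smul,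
        mulVec_zero] at h
      have ht := (smul_eq_zero.1 h).resolve_right hx
      rw [ht, zero_smul, add_zero] at hc
      have hl := hWinj _ hc
      funext l
      rcases l with l | ⟨⟩
      · exact congrFun hl l
      · exact ht)
    (fun i h0 => hrow i (funext fun j => congrFun h0 (Sum.inl j)))
  set R : Matrix (Fin m ⊕ Unit) (Fin m ⊕ Unit) ℤ :=
    fromBlocks 1 (-(X * Wᵀ * replicateCol Unit x)) 0 ((p : ℤ) • 1) with hR
  have hG' : W'ᵀ * W' = fromBlocks Gm (Wᵀ * replicateCol Unit x)
      ((replicateCol Unit x)ᵀ * W) ((replicateCol Unit x)ᵀ * replicateCol Unit x) := by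
    rw [hW', transpose_fromCols, fromRows_mul_fromCols]
  have hprod : (W'ᵀ * W') * R = fromBlocks Gm 0 ((replicateCol Unit x)ᵀ * W)
      ((replicateCol Unit x)ᵀ * A * replicateCol Unit x) := by
    rw [hG', hR, fromBlocks_multiply]
    congr 1
    · simp
    · rw [Matrix.mul_neg, Matrix.mul_smul, Matrix.mul_one, ← Matrix.mul_assoc, ← Matrix.mul_assoc,
        hGX, Matrix.smul_mul, Matrix.smul_mul, Matrix.one_mul, neg_add_cancel]
    · simp
    · rw [Matrix.mul_neg, Matrix.mul_smul, Matrix.mul_one,
        show (replicateCol Unit x)ᵀ * W * (X * Wᵀ * replicateCol Unit x) =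
          (replicateCol Unit x)ᵀ * (W * X * Wᵀ) * replicateCol Unit x by simp only [Matrix.mul_assoc],
        hWXW, hZ, Matrix.mul_sub, Matrix.sub_mul, Matrix.mul_smul, Matrix.mul_one, Matrix.smul_mul]
      abel
  have hdet := congrArg Matrix.det hprod
  rw [det_mul, hR, det_fromBlocks_zero₂₁, det_fromBlocks_zero₁₂, det_one, one_mul, det_smul,
    det_one, mul_one, Fintype.card_unit, pow_one, det_unique (n := Unit)] at hdet
  have hxAx : ((replicateCol Unit x)ᵀ * A * replicateCol Unit x) (default : Unit) default =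
      x ⬝ᵥ A *ᵥ x := by
    rw [Matrix.mul_assoc]
    rfl
  rw [hxAx] at hdet
  rw [Fintype.card_sum, Fintype.card_fin, Fintype.card_unit] at h1
  push_cast at h1
  have htr : A.trace = (p : ℤ) * ((Fintype.card ι : ℤ) - m) := by
    have hA : A = (p : ℤ) • 1 - Z := by rw [hZ]; abel
    have hUZW : U * Z * W = (p : ℤ) • 1 := by rw [Matrix.mul_assoc, hZW, Matrix.mul_smul, hUW]
    conv_lhs => rw [hA]
    rw [trace_sub, ← hWY, trace_mul_comm, hUZW, trace_smul, trace_smul, trace_one, trace_one,
      smul_eq_mul, smul_eq_mul, Fintype.card_fin]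
    ring
  rw [htr]
  refine mul_le_mul_of_nonneg_left ?_ (by positivity)
  have hp' : (0 : ℤ) < p := by exact_mod_cast hp.pos
  have hq : 0 ≤ x ⬝ᵥ A *ᵥ x := by
    have h : (A *ᵥ x) ⬝ᵥ (A *ᵥ x) = (p : ℤ) * (x ⬝ᵥ A *ᵥ x) := by
      calc (A *ᵥ x) ⬝ᵥ (A *ᵥ x) = (x ᵥ* Aᵀ) ⬝ᵥ (A *ᵥ x) := by rw [vecMul_transpose]
        _ = x ⬝ᵥ (A * A) *ᵥ x := by rw [hsym, ← dotProduct_mulVec, mulVec_mulVec]
        _ = (p : ℤ) * (x ⬝ᵥ A *ᵥ x) := by rw [hAA, smul_mulVec, dotProduct_smul, smul_eq_mul]
    refine (mul_nonneg_iff_of_pos_left hp').1 (h ▸ ?_)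
    exact Finset.sum_nonneg fun i _ => mul_self_nonneg _
  refine le_of_mul_le_mul_left (le_trans ?_ (mul_le_mul_of_nonneg_right hGle hq)) hp'
  rw [← hdet, mul_comm]
  exact mul_le_mul_of_nonneg_right (by linarith) hp'.le

end Cfsg.Agent.H83.RankOneLattice
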