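import Cfsg.Agent.H83.Subsection
import Cfsg.Agent.H83.RankOneLattice
import Cfsg.Agent.H86.BlockInflation
import Cfsg.Agent.H81.Central

/-!
Blocks of a group with a central element of order `p`: the characters trivial on that element.
-/

open scoped ComplexConjugate
open Matrix

namespace Cfsg.Agent.H83

universe u

variable {K : Type u} [Group K] [Fintype K] {p : ℕ} [hp : Fact p.Prime] {M : Ideal Cfsg.AlgInt}
  {z : K}

/-- A character is trivial on `z`. -/
def TrivAt (z : K) (φ : Cfsg.IrrCharacter K) : Prop := (φ : K → ℂ) z = (φ : K → ℂ) 1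

omit hp in
theorem exists_root (hz : z ∈ Subgroup.center K) (hzo : orderOf z = p) (φ : Cfsg.IrrCharacter K) :
    ∃ c : ℂ, c ^ p = 1 ∧ (c = 1 ↔ TrivAt z φ) ∧
      ∀ (i : ℕ) (s : K), (φ : K → ℂ) (z ^ i * s) = c ^ i * (φ : K → ℂ) s := by
  obtain ⟨ω, hω, -⟩ := H81.exists_centralHom (Subgroup.zpowers z) (Subgroup.zpowers_le.2 hz) φ.2
  set w : Subgroup.zpowers z := ⟨z, Subgroup.mem_zpowers z⟩ with hw
  have hval : ∀ (i : ℕ) (s : K), (φ : K → ℂ) (z ^ i * s) = ω w ^ i * (φ : K → ℂ) s := fun i s => by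
    rw [← map_pow, ← hω]
    rfl
  refine ⟨ω w, ?_, ?_, hval⟩
  · have h : w ^ p = 1 := Subtype.ext (by
      rw [SubmonoidClass.coe_pow, OneMemClass.coe_one, hw, ← hzo, pow_orderOf_eq_one])
    rw [← map_pow, h, map_one]
  · have h1 : (φ : K → ℂ) z = ω w * (φ : K → ℂ) 1 := by simpa using hval 1 1
    rw [TrivAt, h1]
    exact ⟨fun h => by rw [h, one_mul], fun h =>
      mul_right_cancel₀ (CharBasic.IsIrr.one_ne_zero φ.2) (h.trans (one_mul _).symm)⟩

theorem not_regular_shift (hz : z ∈ Subgroup.center K) (hzo : orderOf z = p) {s : K}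
    (hs : ¬ p ∣ orderOf s) {i : ℕ} (hi : i < p) (hi0 : i ≠ 0) : p ∣ orderOf (z ^ i * s) := by
  have hco : Nat.Coprime p i :=
    hp.out.coprime_iff_not_dvd.2 fun h => absurd (Nat.le_of_dvd (Nat.pos_of_ne_zero hi0) h) (by omega)
  have ho : orderOf (z ^ i) = p := by rw [(hzo ▸ hco : (orderOf z).Coprime i).orderOf_pow, hzo]
  have hc : Commute (z ^ i) s :=
    ((Commute.symm (show Commute s z from Subgroup.mem_center_iff.1 hz s)).pow_left i)
  rw [hc.orderOf_mul_eq_mul_orderOf_of_coprime (by rw [ho]; exact hp.out.coprime_iff_not_dvd.2 hs), ho]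
  exact dvd_mul_right _ _

open scoped Classical in
/-- On regular elements a character is a combination of the characters trivial on `z`. -/
theorem apply_regular_eq (hz : z ∈ Subgroup.center K) (hzo : orderOf z = p)
    (ψ : Cfsg.IrrCharacter K) {s : K} (hs : ¬ p ∣ orderOf s) :
    (ψ : K → ℂ) s = (p : ℂ) * ∑ φ : Cfsg.IrrCharacter K,
      if TrivAt z φ then regInner p ψ φ * (φ : K → ℂ) s else 0 := by
  have h1 : ∑ i ∈ Finset.range p, Cfsg.pRegularPart p (ψ : K → ℂ) (z ^ i * s) = (ψ : K → ℂ) s := by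
    rw [Finset.sum_eq_single 0]
    · rw [pow_zero, one_mul, pRegularPart_eq_self _ hs]
    · exact fun i hi hi0 =>
        pRegularPart_eq_zero _ (not_regular_shift hz hzo hs (Finset.mem_range.1 hi) hi0)
    · exact fun h => absurd (Finset.mem_range.2 hp.out.pos) h
  rw [← h1, pRegularPart_expansion, Finset.mul_sum]
  simp only [Finset.sum_apply, Pi.smul_apply, smul_eq_mul]
  rw [Finset.sum_comm]
  refine Finset.sum_congr rfl fun φ _ => ?_
  obtain ⟨c, hc, hc1, hcv⟩ := exists_root hz hzo φ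
  simp only [hcv, ← mul_assoc, mul_comm (regInner p ψ φ) (_ ^ _)]
  rw [← Finset.sum_mul, ← Finset.sum_mul]
  by_cases hT : TrivAt z φ
  · rw [if_pos hT, hc1.2 hT]
    simp [mul_assoc]
  · rw [if_neg hT, geom_sum_eq (fun h => hT (hc1.1 h)), hc]
    simp

open scoped Classical in
/-- The projection identity through the characters trivial on `z`. -/
theorem regInner_eq_sum_triv (hz : z ∈ Subgroup.center K) (hzo : orderOf z = p)
    (ψ χ : Cfsg.IrrCharacter K) :
    regInner p ψ χ = (p : ℂ) * ∑ φ : Cfsg.IrrCharacter K,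
      if TrivAt z φ then regInner p ψ φ * regInner p φ χ else 0 := by
  apply mul_left_cancel₀ (Nat.cast_ne_zero.2 (Nat.card_pos (α := K)).ne' : (Nat.card K : ℂ) ≠ 0)
  rw [regInner_eq_sum]
  have h : ∀ φ : Cfsg.IrrCharacter K, (Nat.card K : ℂ) *
      (if TrivAt z φ then regInner p ψ φ * regInner p φ χ else 0) =
      ∑ s : K, if p ∣ orderOf s then 0 else
        (if TrivAt z φ then regInner p ψ φ * (φ : K → ℂ) s else 0) * conj ((χ : K → ℂ) s) := by
    intro φ
    split_ifs with hT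
    · rw [← mul_assoc, mul_comm (Nat.card K : ℂ), mul_assoc, regInner_eq_sum, Finset.mul_sum]
      refine Finset.sum_congr rfl fun s _ => ?_
      split_ifs <;> ring
    · simp
  rw [mul_left_comm, Finset.mul_sum, Finset.sum_congr rfl fun φ _ => h φ, Finset.sum_comm,
    Finset.mul_sum]
  refine Finset.sum_congr rfl fun s _ => ?_
  by_cases hs : p ∣ orderOf s
  · simp [hs]
  · simp only [if_neg hs]
    rw [← Finset.sum_mul, ← mul_assoc, ← apply_regular_eq hz hzo ψ hs]

variable {b : Set (Cfsg.IrrCharacter K)}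

open scoped Classical in
theorem entry_eq_sum_triv (hM : Cfsg.IsPModular p M) (hb : Cfsg.IsPBlock M b)
    (hz : z ∈ Subgroup.center K) (hzo : orderOf z = p) {ψ χ : Cfsg.IrrCharacter K} (hψ : ψ ∈ b)
    (hχ : χ ∈ b) :
    (p : ℤ) ^ Cfsg.blockDefect p b * entry p b ψ χ = (p : ℤ) *
      ∑ φ ∈ Finset.univ.filter (fun φ : Cfsg.IrrCharacter K => φ ∈ b ∧ TrivAt z φ),
        entry p b ψ φ * entry p b φ χ := by
  apply Int.cast_injective (α := ℂ)
  push_cast
  rw [entry_spec hM hb hψ, regInner_eq_sum_triv hz hzo ψ χ, Finset.sum_filter]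
  simp only [Finset.mul_sum]
  refine Finset.sum_congr rfl fun φ _ => ?_
  by_cases hT : TrivAt z φ
  swap
  · rw [if_neg hT, if_neg (fun h => hT h.2)]
    ring
  by_cases hφ : φ ∈ b
  · rw [if_pos hT, if_pos ⟨hφ, hT⟩, entry_spec hM hb hψ, entry_spec hM hb hφ]
    ring
  · rw [if_pos hT, if_neg (fun h => hφ h.1), regInner_eq_zero hM hb hψ hφ]
    ring

open scoped Classical in
theorem blockRank_eq_sum_regInner (hM : Cfsg.IsPModular p M) (hb : Cfsg.IsPBlock M b) :
    (Cfsg.blockRank p b : ℂ) = ∑ ψ : Cfsg.IrrCharacter K, if ψ ∈ b then regInner p ψ ψ else 0 := by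
  apply mul_left_cancel₀ (Nat.cast_ne_zero.2 (Nat.card_pos (α := K)).ne' : (Nat.card K : ℂ) ≠ 0)
  rw [S4667.result p M hM b hb, Finset.mul_sum]
  simp only [BlockBasic.finsum_mem_eq_sum_ite]
  rw [Finset.sum_comm]
  refine Finset.sum_congr rfl fun ψ _ => ?_
  split_ifs with hψ
  · rw [regInner_eq_sum]
    refine Finset.sum_congr rfl fun s _ => ?_
    split_ifs with hs
    · rw [pRegularPart_eq_zero _ hs, zero_mul]
    · rw [pRegularPart_eq_self _ hs, BlockBasic.conj_apply_eq_inv]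
  · simp

open scoped Classical in
theorem pow_mul_blockRank (hM : Cfsg.IsPModular p M) (hb : Cfsg.IsPBlock M b)
    (hz : z ∈ Subgroup.center K) (hzo : orderOf z = p) :
    (p : ℤ) ^ Cfsg.blockDefect p b * (Cfsg.blockRank p b : ℤ) = (p : ℤ) *
      ∑ φ ∈ Finset.univ.filter (fun φ : Cfsg.IrrCharacter K => φ ∈ b ∧ TrivAt z φ),
        entry p b φ φ := by
  apply Int.cast_injective (α := ℂ)
  push_cast
  rw [blockRank_eq_sum_regInner hM hb,
    Finset.sum_congr rfl (fun ψ _ => by rw [regInner_eq_sum_triv hz hzo ψ ψ]),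
    Finset.sum_filter]
  have h : ∀ φ : Cfsg.IrrCharacter K, (∑ ψ : Cfsg.IrrCharacter K, if ψ ∈ b then
      (if TrivAt z φ then regInner p ψ φ * regInner p φ ψ else 0) else 0) =
      if φ ∈ b ∧ TrivAt z φ then regInner p φ φ else 0 := by
    intro φ
    by_cases hT : TrivAt z φ
    swap
    · simp [hT]
    by_cases hφ : φ ∈ b
    · rw [if_pos ⟨hφ, hT⟩, ← regInner_proj φ φ]
      refine Finset.sum_congr rfl fun ψ _ => ?_
      split_ifs with hψ
      · ring
      · rw [regInner_eq_zero hM hb hφ hψ, zero_mul]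
    · rw [if_neg (fun h => hφ h.1)]
      refine Finset.sum_eq_zero fun ψ _ => ?_
      split_ifs with hψ
      · rw [regInner_eq_zero hM hb hψ hφ, zero_mul]
      · rfl
  calc (p : ℂ) ^ Cfsg.blockDefect p b * ∑ ψ : Cfsg.IrrCharacter K, (if ψ ∈ b then
        (p : ℂ) * ∑ φ : Cfsg.IrrCharacter K,
          (if TrivAt z φ then regInner p ψ φ * regInner p φ ψ else 0) else 0)
      = (p : ℂ) ^ Cfsg.blockDefect p b * ((p : ℂ) * ∑ φ : Cfsg.IrrCharacter K,
          ∑ ψ : Cfsg.IrrCharacter K, if ψ ∈ b then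
            (if TrivAt z φ then regInner p ψ φ * regInner p φ ψ else 0) else 0) := by
        rw [Finset.sum_comm, Finset.mul_sum (a := (p : ℂ))]
        congr 1
        refine Finset.sum_congr rfl fun ψ _ => ?_
        split_ifs
        · rfl
        · simp
    _ = _ := by
        simp only [h, Finset.mul_sum]
        refine Finset.sum_congr rfl fun φ _ => ?_
        split_ifs with hφ
        · rw [entry_spec hM hb hφ.1]
          ring
        · ring

open scoped Classical in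
theorem blockRank_pos (hM : Cfsg.IsPModular p M) (hb : Cfsg.IsPBlock M b) :
    0 < Cfsg.blockRank p b := by
  obtain ⟨θ, hθ, h0⟩ := exists_height_zero hM hb
  rcases Nat.eq_zero_or_pos (Cfsg.blockRank p b) with h | h
  swap
  · exact h
  exfalso
  have h1 : ((∑ ψ ∈ Finset.univ.filter (fun ψ : Cfsg.IrrCharacter K => ψ ∈ b),
      entry p b ψ ψ : ℤ) : ℂ) = 0 := by
    push_cast
    rw [Finset.sum_congr rfl fun ψ hψ => entry_spec hM hb (Finset.mem_filter.1 hψ).2 ψ,
      ← Finset.mul_sum, Finset.sum_filter, ← blockRank_eq_sum_regInner hM hb, h]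
    simp
  have h2 : (0 : ℤ) < ∑ ψ ∈ Finset.univ.filter (fun ψ : Cfsg.IrrCharacter K => ψ ∈ b),
      entry p b ψ ψ :=
    Finset.sum_pos (fun ψ hψ => entry_self_pos hM hb (Finset.mem_filter.1 hψ).2)
      ⟨θ, Finset.mem_filter.2 ⟨Finset.mem_univ _, hθ⟩⟩
  rw [Int.cast_eq_zero] at h1
  omega

open scoped Classical in
/-- A value of the quadratic form of a block of defect at most two is zero or at least the rank. -/
theorem quad_form_ge (hM : Cfsg.IsPModular p M) (hb : Cfsg.IsPBlock M b)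
    (hz : z ∈ Subgroup.center K) (hzo : orderOf z = p)
    (hd : Cfsg.blockDefect p b = 1 ∨ Cfsg.blockDefect p b = 2)
    (hh : ∀ ψ ∈ b, Cfsg.blockHeight p b (ψ : K → ℂ) = 0) (x : Cfsg.IrrCharacter K → ℤ) :
    (∀ ψ ∈ b, ∑ ψ' ∈ Finset.univ.filter (fun ψ : Cfsg.IrrCharacter K => ψ ∈ b),
        x ψ' * entry p b ψ ψ' = 0) ∨
      (Cfsg.blockRank p b : ℤ) ≤ ∑ ψ ∈ Finset.univ.filter (fun ψ : Cfsg.IrrCharacter K => ψ ∈ b),
        ∑ ψ' ∈ Finset.univ.filter (fun ψ : Cfsg.IrrCharacter K => ψ ∈ b),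
          x ψ * x ψ' * entry p b ψ ψ' := by
  set d := Cfsg.blockDefect p b with hdef
  set bf := Finset.univ.filter (fun ψ : Cfsg.IrrCharacter K => ψ ∈ b) with hbf
  set T := Finset.univ.filter (fun φ : Cfsg.IrrCharacter K => φ ∈ b ∧ TrivAt z φ) with hT
  have hbm : ∀ {ψ}, ψ ∈ bf → ψ ∈ b := fun h => (Finset.mem_filter.1 h).2
  have hTb : ∀ {φ}, φ ∈ T → φ ∈ b := fun h => (Finset.mem_filter.1 h).2.1
  have hp0 : (p : ℤ) ≠ 0 := by exact_mod_cast hp.out.ne_zero
  have hsymm : ∀ {α β}, α ∈ b → β ∈ b → entry p b α β = entry p b β α :=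
    fun ha hb' => entry_symm hM hb ha hb'
  have hproj : ∀ {α β}, α ∈ b → β ∈ b →
      (p : ℤ) ^ d * entry p b α β = (p : ℤ) * ∑ φ ∈ T, entry p b α φ * entry p b φ β :=
    fun ha hb' => entry_eq_sum_triv hM hb hz hzo ha hb'
  have hndvd : ∀ {α β}, α ∈ b → β ∈ b → ¬ (p : ℤ) ∣ entry p b α β := by
    intro α β ha hb'
    have h := not_dvd_entry_of_height_zero hM hb ha (hh α ha) hb'
    rwa [hh β hb', zero_add, pow_one] at h
  have hne : T.Nonempty := by
    obtain ⟨θ, hθ, -⟩ := exists_height_zero hM hb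
    by_contra h
    have := hproj hθ hθ
    rw [Finset.not_nonempty_iff_eq_empty.1 h, Finset.sum_empty, mul_zero] at this
    exact mul_ne_zero (pow_ne_zero _ hp0) (entry_self_pos hM hb hθ).ne' this
  set v : Cfsg.IrrCharacter K → ℤ := fun φ => ∑ ψ ∈ bf, x ψ * entry p b φ ψ with hv
  have hNx : ∀ ψ ∈ b, (p : ℤ) ^ d * v ψ = (p : ℤ) * ∑ φ ∈ T, entry p b ψ φ * v φ := by
    intro ψ hψ
    simp only [hv, Finset.mul_sum]
    rw [Finset.sum_comm]
    refine Finset.sum_congr rfl fun ψ' hψ' => ?_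
    rw [mul_left_comm, hproj hψ (hbm hψ'), Finset.mul_sum, Finset.mul_sum]
    exact Finset.sum_congr rfl fun φ _ => by ring
  have hq : (p : ℤ) ^ d * (∑ ψ ∈ bf, ∑ ψ' ∈ bf, x ψ * x ψ' * entry p b ψ ψ') =
      (p : ℤ) * ∑ φ ∈ T, v φ ^ 2 := by
    have e : ∀ ψ ∈ bf, ∑ ψ' ∈ bf, x ψ * x ψ' * entry p b ψ ψ' = x ψ * v ψ := fun ψ _ => by
      simp only [hv, Finset.mul_sum, mul_assoc]
    rw [Finset.sum_congr rfl e, Finset.mul_sum, Finset.sum_congr rfl fun ψ hψ => by
      rw [mul_left_comm, hNx ψ (hbm hψ), mul_left_comm, Finset.mul_sum], ← Finset.mul_sum,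
      Finset.sum_comm]
    congr 1
    refine Finset.sum_congr rfl fun φ hφ => ?_
    rw [sq]
    conv_rhs => arg 1; simp only [hv]
    rw [Finset.sum_mul]
    exact Finset.sum_congr rfl fun ψ hψ => by rw [hsymm (hbm hψ) (hTb hφ)]; ring
  by_cases hv0 : ∀ φ ∈ T, v φ = 0
  · left
    intro ψ hψ
    have h := hNx ψ hψ
    rw [Finset.sum_eq_zero fun φ hφ => by rw [hv0 φ hφ, mul_zero], mul_zero, mul_eq_zero] at h
    exact h.resolve_left (pow_ne_zero _ hp0)
  right
  push Not at hv0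
  obtain ⟨φ₁, hφ₁, hv1⟩ := hv0
  have hsumpos : 0 < ∑ φ ∈ T, v φ ^ 2 :=
    Finset.sum_pos' (fun φ _ => sq_nonneg _) ⟨φ₁, hφ₁, by positivity⟩
  have hrk := pow_mul_blockRank hM hb hz hzo
  rw [← hdef, ← hT] at hrk
  rcases hd with hd | hd
  · -- defect one
    rw [hd, pow_one] at hq hrk
    have hq' := mul_left_cancel₀ hp0 hq
    obtain ⟨φ₀, hφ₀⟩ := hne
    have ha : entry p b φ₀ φ₀ = ∑ φ ∈ T, entry p b φ₀ φ ^ 2 := by
      have h := hproj (hTb hφ₀) (hTb hφ₀)
      rw [hd, pow_one] at h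
      rw [mul_left_cancel₀ hp0 h]
      exact Finset.sum_congr rfl fun φ hφ => by rw [hsymm (hTb hφ) (hTb hφ₀), sq]
    have hge : entry p b φ₀ φ₀ ^ 2 + ((T.erase φ₀).card : ℤ) ≤ entry p b φ₀ φ₀ := by
      conv_rhs => rw [ha]
      rw [← Finset.add_sum_erase T _ hφ₀]
      refine add_le_add le_rfl ?_
      rw [← nsmul_one, ← Finset.sum_const]
      refine Finset.sum_le_sum fun φ hφ => ?_
      have hne0 : entry p b φ₀ φ ≠ 0 := fun h =>
        hndvd (hTb hφ₀) (hTb (Finset.mem_of_mem_erase hφ)) (by rw [h]; exact dvd_zero _)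
      nlinarith [Int.one_le_abs hne0, sq_abs (entry p b φ₀ φ)]
    have hpos := entry_self_pos hM hb (hTb hφ₀)
    have hcard : ((T.erase φ₀).card : ℤ) = 0 := by nlinarith
    have ha1 : entry p b φ₀ φ₀ = 1 := by nlinarith
    have hTs : T = {φ₀} := by
      have h0 : T.erase φ₀ = ∅ := Finset.card_eq_zero.1 (by exact_mod_cast hcard)
      rw [← Finset.insert_erase hφ₀, h0]
      rfl
    have hrk' := mul_left_cancel₀ hp0 hrk
    rw [hTs, Finset.sum_singleton, ha1] at hrk'
    rw [hrk', hq']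
    omega
  · -- defect two
    rw [hd, sq, mul_assoc] at hq hrk
    have hq' := mul_left_cancel₀ hp0 hq
    have hrk' := mul_left_cancel₀ hp0 hrk
    set A : Matrix T T ℤ := of fun i j => entry p b i.1 j.1 with hA
    have hsymA : Aᵀ = A := by
      ext i j
      exact hsymm (hTb j.2) (hTb i.2)
    have hAA : A * A = (p : ℤ) • A := by
      ext i j
      rw [Matrix.mul_apply, Matrix.smul_apply, smul_eq_mul]
      have h := hproj (hTb i.2) (hTb j.2)
      rw [hd, sq, mul_assoc] at h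
      simp only [hA, of_apply]
      rw [mul_left_cancel₀ hp0 h]
      exact Finset.sum_coe_sort T fun φ => entry p b i.1 φ * entry p b φ j.1
    have hr1 : ∀ i j l : T, (p : ℤ) ∣ A i j * A l l - A i l * A j l := fun i j l =>
      entry_mul_congr hM hb (hTb l.2) (hh _ (hTb l.2)) (hTb i.2) (hTb j.2)
    obtain ⟨φ₀, hφ₀⟩ := hne
    set i₀ : T := ⟨φ₀, hφ₀⟩
    obtain ⟨c, e, hce⟩ : IsCoprime (entry p b φ₀ φ₀) (p : ℤ) :=
      ((Int.prime_iff_natAbs_prime.2 (by simpa using hp.out) : Prime (p : ℤ)).coprime_iff_not_dvd.2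
        (hndvd (hTb hφ₀) (hTb hφ₀))).symm
    set lam := c * ∑ ψ ∈ bf, x ψ * entry p b φ₀ ψ with hlam
    have hdvd : ∀ i : T, (p : ℤ) ∣ v i.1 - lam * A i i₀ := by
      intro i
      have h1 : (p : ℤ) ∣ ∑ ψ ∈ bf, x ψ * (entry p b i.1 ψ * entry p b φ₀ φ₀ -
          entry p b i.1 φ₀ * entry p b ψ φ₀) :=
        Finset.dvd_sum fun ψ hψ => Dvd.dvd.mul_left
          (entry_mul_congr hM hb (hTb hφ₀) (hh _ (hTb hφ₀)) (hTb i.2) (hbm hψ)) _
      have h2 : ∑ ψ ∈ bf, x ψ * (entry p b i.1 ψ * entry p b φ₀ φ₀ -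
          entry p b i.1 φ₀ * entry p b ψ φ₀) =
          v i.1 * entry p b φ₀ φ₀ - entry p b i.1 φ₀ * ∑ ψ ∈ bf, x ψ * entry p b φ₀ ψ := by
        simp only [hv, Finset.sum_mul, Finset.mul_sum, ← Finset.sum_sub_distrib]
        exact Finset.sum_congr rfl fun ψ hψ => by rw [hsymm (hbm hψ) (hTb hφ₀)]; ring
      rw [h2] at h1
      have h3 : v i.1 - lam * A i i₀ = c * (v i.1 * entry p b φ₀ φ₀ -
          entry p b i.1 φ₀ * ∑ ψ ∈ bf, x ψ * entry p b φ₀ ψ) + (p : ℤ) * (e * v i.1) := by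
        simp only [hA, of_apply, hlam, i₀]
        linear_combination -(v i.1) * hce
      rw [h3]
      exact dvd_add (h1.mul_left c) (dvd_mul_right _ _)
    choose w hw using hdvd
    have hAv : A *ᵥ (fun i : T => v i.1) = (p : ℤ) • fun i : T => v i.1 := by
      funext i
      have h := hNx i.1 (hTb i.2)
      rw [hd, sq, mul_assoc] at h
      simp only [hA, mulVec, dotProduct, of_apply, Pi.smul_apply, smul_eq_mul]
      rw [mul_left_cancel₀ hp0 h]
      exact Finset.sum_coe_sort T fun φ => entry p b i.1 φ * v φ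
    set y : T → ℤ := lam • (Pi.single i₀ (1 : ℤ) : T → ℤ) + w
    have hAy : A *ᵥ y = fun i : T => v i.1 := by
      have h1 : A *ᵥ (Pi.single i₀ (1 : ℤ) : T → ℤ) = fun i => A i i₀ := by
        funext i
        simp [mulVec, dotProduct, Pi.single_apply]
      have h2 : (p : ℤ) • (A *ᵥ y) = (p : ℤ) • fun i : T => v i.1 := by
        have e1 : (p : ℤ) • w = (fun i : T => v i.1) - lam • fun i => A i i₀ := by
          funext i
          simp [hw i]
        rw [mulVec_add, mulVec_smul, h1, smul_add, ← mulVec_smul, e1, mulVec_sub, mulVec_smul, hAv]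
        have h3 : A *ᵥ (fun i => A i i₀) = (p : ℤ) • fun i => A i i₀ := by
          funext i
          exact congrFun (congrFun hAA i) i₀
        rw [h3, smul_comm lam]
        abel
      exact smul_right_injective (T → ℤ) hp0 h2
    have hyne : A *ᵥ y ≠ 0 := by
      rw [hAy]
      exact fun h => hv1 (congrFun h ⟨φ₁, hφ₁⟩)
    have hbound := RankOneLattice.trace_le hp.out A hsymA hAA
      (fun i => hndvd (hTb i.2) (hTb i.2)) hr1 y hyne
    have htr : A.trace = (p : ℤ) * (Cfsg.blockRank p b : ℤ) := by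
      rw [hrk']
      exact Finset.sum_coe_sort T fun φ => entry p b φ φ
    have hyy : (p : ℤ) * (y ⬝ᵥ A *ᵥ y) =
        (p : ℤ) * ∑ ψ ∈ bf, ∑ ψ' ∈ bf, x ψ * x ψ' * entry p b ψ ψ' := by
      have h : (A *ᵥ y) ⬝ᵥ (A *ᵥ y) = (p : ℤ) * (y ⬝ᵥ A *ᵥ y) := by
        calc (A *ᵥ y) ⬝ᵥ (A *ᵥ y) = (y ᵥ* Aᵀ) ⬝ᵥ (A *ᵥ y) := by rw [vecMul_transpose]
          _ = y ⬝ᵥ (A * A) *ᵥ y := by rw [hsymA, ← dotProduct_mulVec, mulVec_mulVec]
          _ = (p : ℤ) * (y ⬝ᵥ A *ᵥ y) := by rw [hAA, smul_mulVec, dotProduct_smul, smul_eq_mul]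
      rw [hq', ← h, hAy]
      simp only [dotProduct, ← sq]
      exact Finset.sum_coe_sort T fun φ => v φ ^ 2
    rw [htr, hyy] at hbound
    exact le_of_mul_le_mul_left hbound (by exact_mod_cast hp.out.pos)

open scoped Classical in
/-- The rank is at most the number of characters trivial on `z`. -/
theorem blockRank_le_card_triv (hM : Cfsg.IsPModular p M) (hb : Cfsg.IsPBlock M b)
    (hz : z ∈ Subgroup.center K) (hzo : orderOf z = p) :
    Cfsg.blockRank p b ≤
      (Finset.univ.filter fun φ : Cfsg.IrrCharacter K => φ ∈ b ∧ TrivAt z φ).card := by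
  set T := Finset.univ.filter (fun φ : Cfsg.IrrCharacter K => φ ∈ b ∧ TrivAt z φ) with hT
  set f : T → K → ℂ := fun φ => Cfsg.pRegularPart p ((φ : Cfsg.IrrCharacter K) : K → ℂ)
  have hle : Submodule.span ℂ ((fun χ : Cfsg.IrrCharacter K => Cfsg.pRegularPart p (χ : K → ℂ)) '' b) ≤
      Submodule.span ℂ (Set.range f) := by
    rw [Submodule.span_le]
    rintro _ ⟨ψ, hψ, rfl⟩
    have e : Cfsg.pRegularPart p (ψ : K → ℂ) =
        ∑ φ : T, ((p : ℂ) * regInner p ψ φ.1) • f φ := by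
      funext s
      simp only [f, Finset.sum_apply, Pi.smul_apply, smul_eq_mul]
      by_cases hs : p ∣ orderOf s
      · simp [pRegularPart_eq_zero _ hs]
      rw [pRegularPart_eq_self _ hs, apply_regular_eq hz hzo ψ hs, Finset.mul_sum,
        Finset.sum_coe_sort T (fun φ : Cfsg.IrrCharacter K =>
          (p : ℂ) * regInner p ψ φ * Cfsg.pRegularPart p (φ : K → ℂ) s), hT, Finset.sum_filter]
      refine Finset.sum_congr rfl fun φ _ => ?_
      rw [pRegularPart_eq_self _ hs]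
      by_cases hφ : φ ∈ b
      · by_cases htr : TrivAt z φ
        · rw [if_pos htr, if_pos ⟨hφ, htr⟩, mul_assoc]
        · rw [if_neg htr, if_neg (fun h => htr h.2), mul_zero]
      · rw [if_neg (fun h : φ ∈ b ∧ TrivAt z φ => hφ h.1), regInner_eq_zero hM hb hψ hφ]
        simp
    show Cfsg.pRegularPart p (ψ : K → ℂ) ∈ Submodule.span ℂ (Set.range f)
    rw [e]
    exact Submodule.sum_mem _ fun φ _ => Submodule.smul_mem _ _ (Submodule.subset_span ⟨φ, rfl⟩)
  refine le_trans (Submodule.finrank_mono hle) ?_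
  exact le_trans (finrank_range_le_card f) (by rw [Fintype.card_coe])

open scoped Classical in
/-- The characters trivial on `z` lie in one block of the quotient of smaller defect. -/
theorem exists_quotient_block (hM : Cfsg.IsPModular p M) (hb : Cfsg.IsPBlock M b)
    (hzo : orderOf z = p) (Z : Subgroup K) [Z.Normal] (hZ : Z = Subgroup.zpowers z)
    (hz : z ∈ Subgroup.center K)
    (hne : ∃ φ ∈ b, TrivAt z φ) :
    ∃ bq : Set (Cfsg.IrrCharacter (K ⧸ Z)), Cfsg.IsPBlock M bq ∧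
      Cfsg.blockDefect p bq + 1 ≤ Cfsg.blockDefect p b ∧
      (Finset.univ.filter fun φ : Cfsg.IrrCharacter K => φ ∈ b ∧ TrivAt z φ).card ≤
        Nat.card bq := by
  set T := Finset.univ.filter (fun φ : Cfsg.IrrCharacter K => φ ∈ b ∧ TrivAt z φ) with hT
  have htriv : ∀ φ ∈ T, ∀ n ∈ Z, ((φ : Cfsg.IrrCharacter K) : K → ℂ) n = (φ : K → ℂ) 1 := by
    intro φ hφ n hn
    obtain ⟨c, -, hc1, hcv⟩ := exists_root hz hzo φ
    rw [hZ, ← mem_powers_iff_mem_zpowers] at hn
    obtain ⟨i, rfl⟩ := hn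
    have h := hcv i 1
    rw [mul_one, (hc1.2 (Finset.mem_filter.1 hφ).2.2), one_pow, one_mul] at h
    exact h
  choose! g hg1 hg2 hg3 using fun φ hφ =>
    CharInduce.IsChar.exists_deflate (CharBasic.IsIrr.isCharacter (φ : Cfsg.IrrCharacter K).2) Z
      (htriv φ hφ)
  let dq : T → Cfsg.IrrCharacter (K ⧸ Z) := fun φ => ⟨g φ.1, hg3 φ.1 φ.2 φ.1.2⟩
  have hdq : ∀ (φ : T) (k : K), (dq φ : K ⧸ Z → ℂ) (k : K ⧸ Z) = (φ.1 : K → ℂ) k :=
    fun φ k => (hg2 φ.1 φ.2 k).symm
  have hsame : ∀ α β : Cfsg.IrrCharacter (K ⧸ Z),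
      Cfsg.SameBlock M (α : K ⧸ Z → ℂ) (β : K ⧸ Z → ℂ) ↔
      Cfsg.SameBlock M ((α : K ⧸ Z → ℂ) ∘ QuotientGroup.mk) ((β : K ⧸ Z → ℂ) ∘ QuotientGroup.mk) := by
    intro α β
    constructor
    · intro h k
      obtain ⟨n, h1, h2⟩ := H86.centralChar_inflate Z (α : K ⧸ Z → ℂ) k
      obtain ⟨n', h1', h2'⟩ := H86.centralChar_inflate Z (β : K ⧸ Z → ℂ) k
      have hnn : n = n' := by
        rw [h2'] at h2
        exact (Nat.eq_of_mul_eq_mul_right (Nat.pos_of_ne_zero Subgroup.index_ne_zero_of_finite) h2).symm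
      subst hnn
      rw [h1, h1', ← mul_sub]
      exact BlockBasic.memLocalIdeal_mul hM (BlockBasic.memLocalRing_natCast hM n) (h _)
    · intro h
      refine H86.sameBlock_of_regular hM α β fun y hy => ?_
      obtain ⟨k₀, rfl⟩ := QuotientGroup.mk_surjective y
      -- a regular lift
      obtain ⟨k, hk, hkr⟩ : ∃ k : K, (k : K ⧸ Z) = (k₀ : K ⧸ Z) ∧ ¬ p ∣ orderOf k := by
        set m := orderOf (k₀ : K ⧸ Z) with hm
        have hmem : k₀ ^ m ∈ Z := by
          rw [← QuotientGroup.eq_one_iff, QuotientGroup.mk_pow, hm, pow_orderOf_eq_one]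
        have hdvd : orderOf k₀ ∣ m * p := by
          rw [orderOf_dvd_iff_pow_eq_one, pow_mul]
          rw [hZ] at hmem
          obtain ⟨i, hi⟩ := Subgroup.mem_zpowers_iff.1 hmem
          rw [← hi, ← zpow_natCast, ← _root_.zpow_mul, mul_comm, _root_.zpow_mul, zpow_natCast, ← hzo,
            pow_orderOf_eq_one, _root_.one_zpow]
        by_cases h1m : m = 1
        · refine ⟨1, ?_, by simp [hp.out.ne_one]⟩
          rw [QuotientGroup.mk_one, eq_comm, ← orderOf_eq_one_iff, ← hm, h1m]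
        obtain ⟨r, hr⟩ := Nat.exists_mul_mod_eq_one_of_coprime
          (hp.out.coprime_iff_not_dvd.2 hy) (by have := orderOf_pos (k₀ : K ⧸ Z); omega)
        refine ⟨k₀ ^ (p * r), ?_, ?_⟩
        · rw [QuotientGroup.mk_pow, ← pow_mod_orderOf, ← hm, hr.2, pow_one]
        · intro hp'
          have h1 : orderOf (k₀ ^ (p * r)) ∣ m := by
            rw [orderOf_dvd_iff_pow_eq_one, ← pow_mul, show p * r * m = m * p * r by ring, pow_mul,
              orderOf_dvd_iff_pow_eq_one.1 hdvd, one_pow]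
          exact hy (hp'.trans h1)
      rw [← hk]
      have hidx : (Subgroup.centralizer ({k} : Set K)).index =
          (Subgroup.centralizer ({(k : K ⧸ Z)} : Set (K ⧸ Z))).index := by
        rw [← Subgroup.index_comap_of_surjective _ (QuotientGroup.mk'_surjective Z)]
        congr 1
        ext x
        rw [Subgroup.mem_comap, Subgroup.mem_centralizer_singleton_iff,
          Subgroup.mem_centralizer_singleton_iff]
        refine ⟨fun hx => congrArg (QuotientGroup.mk' Z) hx, fun hx => ?_⟩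
        have hmem : k⁻¹ * (x * k * x⁻¹) ∈ Z := by
          have hx' : (x : K ⧸ Z) * k = k * x := hx
          rw [← QuotientGroup.eq_one_iff]
          simp only [QuotientGroup.mk_mul, QuotientGroup.mk_inv]
          rw [hx']
          group
        rw [hZ, ← mem_powers_iff_mem_zpowers] at hmem
        obtain ⟨i, hi⟩ := hmem
        have hi' : z ^ i = k⁻¹ * (x * k * x⁻¹) := hi
        have hord : ¬ p ∣ orderOf (z ^ (i % p) * k) := by
          have e : z ^ (i % p) * k = MulAut.conj x k := by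
            rw [← hzo, pow_mod_orderOf, MulAut.conj_apply]
            have hc : z ^ i * k = k * z ^ i := (Subgroup.mem_center_iff.1 (Subgroup.pow_mem _ hz i) k).symm
            rw [hc, hi', mul_inv_cancel_left]
          rw [e, MulEquiv.orderOf_eq]
          exact hkr
        have hi0 : i % p = 0 := by_contra fun h0 =>
          hord (not_regular_shift hz hzo hkr (Nat.mod_lt _ hp.out.pos) h0)
        have h1 : z ^ i = 1 := by rw [← pow_mod_orderOf, hzo, hi0, pow_zero]
        rw [h1, eq_comm, inv_mul_eq_one] at hi'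
        exact (mul_inv_eq_iff_eq_mul.1 hi'.symm)
      obtain ⟨n, h1, h2⟩ := H86.centralChar_inflate Z (α : K ⧸ Z → ℂ) k
      obtain ⟨n', h1', h2'⟩ := H86.centralChar_inflate Z (β : K ⧸ Z → ℂ) k
      have hone : ∀ m : ℕ, (Subgroup.centralizer ({k} : Set K)).index =
          m * (Subgroup.centralizer ({(k : K ⧸ Z)} : Set (K ⧸ Z))).index → m = 1 := fun m hm =>
        (mul_eq_right₀ Subgroup.index_ne_zero_of_finite).1 (hm.symm.trans hidx)
      have := h k
      rw [h1, h1', hone n h2, hone n' h2', Nat.cast_one, one_mul, one_mul] at this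
      exact this
  obtain ⟨φ₀, hφ₀, hφ₀t⟩ := hne
  set i₀ : T := ⟨φ₀, Finset.mem_filter.2 ⟨Finset.mem_univ _, hφ₀, hφ₀t⟩⟩
  set bq := Cfsg.blockOf M (dq i₀ : K ⧸ Z → ℂ) with hbq
  have hcomp : ∀ φ : T, (dq φ : K ⧸ Z → ℂ) ∘ QuotientGroup.mk = (φ.1 : K → ℂ) :=
    fun φ => funext (hdq φ)
  have hin : ∀ φ : T, dq φ ∈ bq := fun φ => by
    rw [hbq, BlockBasic.mem_blockOf, hsame, hcomp, hcomp]
    exact BlockBasic.isPBlock_sameBlock hM hb hφ₀ (Finset.mem_filter.1 φ.2).2.1
  refine ⟨bq, BlockBasic.isPBlock_blockOf M _, ?_, ?_⟩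
  · -- defect
    have hcardZ : Nat.card K = Nat.card (K ⧸ Z) * p := by
      rw [Z.card_eq_card_quotient_mul_card_subgroup, hZ, Nat.card_zpowers, hzo]
    have hfac : (Nat.card K).factorization p = (Nat.card (K ⧸ Z)).factorization p + 1 := by
      rw [hcardZ, Nat.factorization_mul Nat.card_pos.ne' hp.out.ne_zero, Finsupp.add_apply,
        hp.out.factorization_self]
    obtain ⟨α, hα, hmin⟩ : ∃ α ∈ bq,
        (Cfsg.charDegree (α : K ⧸ Z → ℂ)).factorization p = minExp p bq :=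
      Nat.sInf_mem (s := (fun χ : Cfsg.IrrCharacter (K ⧸ Z) =>
        (Cfsg.charDegree (χ : K ⧸ Z → ℂ)).factorization p) '' bq) ⟨_, dq i₀, hin i₀, rfl⟩
    obtain ⟨n, σ, hσ, eσ⟩ := α.2
    have := hσ
    let αK : Cfsg.IrrCharacter K := ⟨(α : K ⧸ Z → ℂ) ∘ QuotientGroup.mk,
      n, (MonoidHom.comp σ (QuotientGroup.mk' Z) : Representation ℂ K (Fin n → ℂ)),
      (CharInduce.subrepCompOrderIso σ (QuotientGroup.mk' Z)
        (QuotientGroup.mk'_surjective Z)).isSimpleOrder, by rw [← eσ]; rfl⟩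
    have hαb : αK ∈ b := by
      rw [BlockBasic.isPBlock_eq_blockOf hM hb hφ₀, BlockBasic.mem_blockOf,
        show (φ₀ : K → ℂ) = (dq i₀ : K ⧸ Z → ℂ) ∘ QuotientGroup.mk from (hcomp i₀).symm]
      exact (hsame _ _).1 (BlockBasic.mem_blockOf.1 (hbq ▸ hα))
    have hle := minExp_le (p := p) hαb
    have hdeg : Cfsg.charDegree (αK : K → ℂ) = Cfsg.charDegree (α : K ⧸ Z → ℂ) := by
      have h1 := BlockBasic.apply_one_eq_charDegree αK
      have h2 := BlockBasic.apply_one_eq_charDegree α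
      exact_mod_cast h1.symm.trans h2
    have hle2 := factorization_le_card (p := p) α
    rw [blockDefect_eq, blockDefect_eq, hfac]
    rw [hdeg, hmin] at hle
    rw [hmin] at hle2
    omega
  · rw [Nat.card_eq_fintype_card, ← Finset.card_univ, ← Fintype.card_coe T, ← Finset.card_univ]
    refine Finset.card_le_card_of_injOn (fun φ => ⟨dq φ, hin φ⟩) (fun _ _ => Finset.mem_univ _) ?_
    intro φ _ φ' _ h
    refine Subtype.ext (Subtype.ext ?_)
    rw [← hcomp φ, ← hcomp φ', show dq φ = dq φ' from congrArg Subtype.val h]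

end Cfsg.Agent.H83
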