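import Cfsg.Agent.BlockBasic.Brauer
import Cfsg.Agent.Cores.SecondMain
import Cfsg.Agent.S4683
import Cfsg.Agent.S4667
import Cfsg.Agent.H83.ClassConst

/-!
Sums of squares over the p-section of an element, split along the blocks of its centralizer:
the count of the characters of a block by subsections.
-/

open scoped ComplexConjugate

namespace Cfsg.Agent.H83

universe u

variable {G : Type u} [Group G] [Fintype G] {p : ℕ} [hp : Fact p.Prime] {M : Ideal Cfsg.AlgInt}

section Centralizer

variable {x : G} [Fintype ↥(Subgroup.centralizer ({x} : Set G))]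

omit [Fintype G] hp [Fintype ↥(Subgroup.centralizer ({x} : Set G))] in
theorem mem_centralizer_comm (c : ↥(Subgroup.centralizer ({x} : Set G))) :
    x * (c : G) = (c : G) * x :=
  (Subgroup.mem_centralizer_singleton_iff.1 c.2).symm

omit [Fintype G] hp [Fintype ↥(Subgroup.centralizer ({x} : Set G))] in
theorem isClassFunction_shift (χ : Cfsg.IrrCharacter G) :
    Cfsg.IsClassFunction ↥(Subgroup.centralizer ({x} : Set G))
      (fun c : ↥(Subgroup.centralizer ({x} : Set G)) => (χ : G → ℂ) (x * (c : G))) := fun g h => by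
  show (χ : G → ℂ) (x * ((h * g * h⁻¹ : ↥(Subgroup.centralizer ({x} : Set G))) : G)) = _
  rw [show x * ((h * g * h⁻¹ : ↥(Subgroup.centralizer ({x} : Set G))) : G) =
      (h : G) * (x * (g : G)) * (h : G)⁻¹ by
    push_cast; rw [← mul_assoc (h : G) x, ← mem_centralizer_comm h]; group]
  exact CharBasic.IsIrr.isClassFunction χ.2 _ _

open scoped Classical in
/-- Orthogonality of the block parts at the section of `x`. -/
theorem sum_shift_parts (hM : Cfsg.IsPModular p M) {k : ℕ} (hx : orderOf x = p ^ k)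
    {B : Set (Cfsg.IrrCharacter G)}
    {b b' : Set (Cfsg.IrrCharacter ↥(Subgroup.centralizer ({x} : Set G)))}
    (hind : Cfsg.IsInducedBlock M (Subgroup.centralizer ({x} : Set G)) b B)
    (hb' : Cfsg.IsPBlock M b') {s t : ↥(Subgroup.centralizer ({x} : Set G))}
    (hs : ¬ p ∣ orderOf s) (ht : ¬ p ∣ orderOf t) :
    (∑ χ : Cfsg.IrrCharacter G, if χ ∈ B then
        conj (Cfsg.blockPart b' (fun c : ↥(Subgroup.centralizer ({x} : Set G)) => (χ : G → ℂ) (x * (c : G))) s) *
          Cfsg.blockPart b (fun c : ↥(Subgroup.centralizer ({x} : Set G)) => (χ : G → ℂ) (x * (c : G))) t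
        else 0) =
      ∑ ψ : Cfsg.IrrCharacter ↥(Subgroup.centralizer ({x} : Set G)),
        if ψ ∈ b ∧ ψ ∈ b' then
          conj ((ψ : _ → ℂ) s) * (ψ : ↥(Subgroup.centralizer ({x} : Set G)) → ℂ) t else 0 := by
  have hb := hind.1
  have hall : ∀ χ : Cfsg.IrrCharacter G, χ ∉ B →
      Cfsg.blockPart b (fun c : ↥(Subgroup.centralizer ({x} : Set G)) => (χ : G → ℂ) (x * (c : G))) t = 0 := by
    intro χ hχ
    refine Cores.second_main hM hx (BlockBasic.isPBlock_blockOf M χ) (BlockBasic.self_mem_blockOf hM χ)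
      hb (fun h => hχ ?_) t ht
    rw [BlockBasic.isInducedBlock_unique hM hind h]
    exact BlockBasic.self_mem_blockOf hM χ
  rw [Finset.sum_congr rfl (g := fun χ : Cfsg.IrrCharacter G =>
      conj (Cfsg.blockPart b' (fun c : ↥(Subgroup.centralizer ({x} : Set G)) => (χ : G → ℂ) (x * (c : G))) s) *
        Cfsg.blockPart b (fun c : ↥(Subgroup.centralizer ({x} : Set G)) => (χ : G → ℂ) (x * (c : G))) t)
    (fun χ _ => by
      split_ifs with h
      · rfl
      · rw [hall χ h, mul_zero])]
  have hrhs : (∑ ψ : Cfsg.IrrCharacter ↥(Subgroup.centralizer ({x} : Set G)),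
        if ψ ∈ b ∧ ψ ∈ b' then
          conj ((ψ : _ → ℂ) s) * (ψ : ↥(Subgroup.centralizer ({x} : Set G)) → ℂ) t else 0) =
      ∑ ψ : Cfsg.IrrCharacter ↥(Subgroup.centralizer ({x} : Set G)),
        conj (Cfsg.blockPart b' (ψ : _ → ℂ) s) * Cfsg.blockPart b (ψ : _ → ℂ) t := by
    refine Finset.sum_congr rfl fun ψ _ => ?_
    rw [S4683.blockPart_irr, S4683.blockPart_irr]
    by_cases h1 : ψ ∈ b <;> by_cases h2 : ψ ∈ b' <;> simp [h1, h2]
  rw [hrhs]
  simp only [S4683.blockPart_regular hM hb' _ hs, S4683.blockPart_regular hM hb _ ht, map_mul,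
    map_sum, map_inv₀, Complex.conj_natCast]
  rw [S4683.sum_lin_mul, S4683.sum_lin_mul]
  congr 1
  refine Finset.sum_congr rfl fun c _ => Finset.sum_congr rfl fun d _ => ?_
  by_cases hc : p ∣ orderOf c
  · simp [hc]
  by_cases hd : p ∣ orderOf d
  · simp [hd]
  congr 1
  simp only [mul_comm (conj _)]
  rw [CharBasic.second_orthogonality_count, CharBasic.second_orthogonality_count]
  congr 1
  have hpp : ∀ z : ↥(Subgroup.centralizer ({x} : Set G)), ¬ p ∣ orderOf z →
      BlockBasic.pPart (p := p) (x * (z : G)) = x :=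
    fun z hz => BlockBasic.pPart_mul_of (mem_centralizer_comm z) ⟨k, hx⟩
      (by rwa [Subgroup.orderOf_coe])
  have hcent : ∀ y : G, y * (x * (c : G)) * y⁻¹ = x * (d : G) → y * x = x * y := by
    intro y hy
    have h := BlockBasic.pPart_conj (p := p) (x * (c : G)) y
    rw [hy, hpp c hc, hpp d hd] at h
    exact (mul_inv_eq_iff_eq_mul.1 h.symm)
  refine Nat.card_congr
    { toFun := fun y => ⟨⟨y.1, Subgroup.mem_centralizer_singleton_iff.2 (hcent y.1 y.2)⟩, ?_⟩
      invFun := fun y => ⟨(y.1 : G), ?_⟩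
      left_inv := fun y => rfl
      right_inv := fun y => rfl }
  · refine Subtype.ext ?_
    show y.1 * (c : G) * y.1⁻¹ = (d : G)
    have h2 := y.2
    rw [← mul_assoc y.1 x, hcent y.1 y.2, mul_assoc x, mul_assoc x] at h2
    exact mul_left_cancel h2
  · have h1 : (y.1 : G) * (c : G) * (y.1 : G)⁻¹ = (d : G) := congrArg Subtype.val y.2
    rw [← mul_assoc (y.1 : G) x, ← mem_centralizer_comm y.1, mul_assoc x, mul_assoc x, h1]

open scoped Classical in
/-- The part of the block `B` at the section of `x` has weight the sum of the ranks of the blocks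
of the centralizer inducing `B`. -/
theorem sum_section_sq (hM : Cfsg.IsPModular p M) {k : ℕ} (hx : orderOf x = p ^ k)
    {B : Set (Cfsg.IrrCharacter G)} (hB : Cfsg.IsPBlock M B) :
    (∑ s : ↥(Subgroup.centralizer ({x} : Set G)), if p ∣ orderOf s then 0 else
      ∑ χ : Cfsg.IrrCharacter G, if χ ∈ B then
        conj ((χ : G → ℂ) (x * (s : G))) * (χ : G → ℂ) (x * (s : G)) else 0) =
      (Nat.card ↥(Subgroup.centralizer ({x} : Set G)) : ℂ) *
        ((∑ᶠ b ∈ {b : Set (Cfsg.IrrCharacter ↥(Subgroup.centralizer ({x} : Set G))) |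
          Cfsg.IsInducedBlock M (Subgroup.centralizer ({x} : Set G)) b B}, Cfsg.blockRank p b : ℕ) : ℂ) := by
  set T := Finset.univ.filter (fun b : Set (Cfsg.IrrCharacter ↥(Subgroup.centralizer ({x} : Set G))) =>
    Cfsg.IsInducedBlock M (Subgroup.centralizer ({x} : Set G)) b B) with hT
  have hfin : (∑ᶠ b ∈ {b : Set (Cfsg.IrrCharacter ↥(Subgroup.centralizer ({x} : Set G))) |
      Cfsg.IsInducedBlock M (Subgroup.centralizer ({x} : Set G)) b B}, Cfsg.blockRank p b) =
      ∑ b ∈ T, Cfsg.blockRank p b := by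
    rw [finsum_mem_eq_toFinset_sum]
    exact Finset.sum_congr (by ext b; simp [hT]) fun _ _ => rfl
  rw [hfin, Nat.cast_sum, Finset.mul_sum]
  rw [Finset.sum_congr rfl (fun b hb => S4667.result p M hM b (Finset.mem_filter.1 hb).2.1),
    Finset.sum_comm]
  refine Finset.sum_congr rfl fun s _ => ?_
  by_cases hs : p ∣ orderOf s
  · rw [if_pos hs]
    refine (Finset.sum_eq_zero fun b _ => ?_).symm
    rw [BlockBasic.finsum_mem_eq_sum_ite]
    exact Finset.sum_eq_zero fun ψ _ => by simp [pRegularPart_eq_zero _ hs]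
  rw [if_neg hs]
  -- split a value along the blocks inducing `B`
  have hsplit : ∀ χ ∈ B, (χ : G → ℂ) (x * (s : G)) =
      ∑ b ∈ T, Cfsg.blockPart b
        (fun c : ↥(Subgroup.centralizer ({x} : Set G)) => (χ : G → ℂ) (x * (c : G))) s := by
    intro χ hχ
    set θ := fun c : ↥(Subgroup.centralizer ({x} : Set G)) => (χ : G → ℂ) (x * (c : G))
    have hexp := congrFun (CharBasic.classFunction_expansion (isClassFunction_shift (x := x) χ)) s
    simp only [Finset.sum_apply, Pi.smul_apply, smul_eq_mul] at hexp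
    have hfull : θ s = ∑ b ∈ Finset.univ.filter
        (fun b : Set (Cfsg.IrrCharacter ↥(Subgroup.centralizer ({x} : Set G))) => Cfsg.IsPBlock M b),
          Cfsg.blockPart b θ s := by
      rw [show θ s = _ from hexp]
      simp only [Cfsg.blockPart, Subsingleton.elim (Fintype.ofFinite _)
        ‹Fintype ↥(Subgroup.centralizer ({x} : Set G))›, BlockBasic.finsum_mem_eq_sum_ite]
      rw [Finset.sum_comm]
      refine Finset.sum_congr rfl fun ψ _ => ?_
      rw [Finset.sum_eq_single (Cfsg.blockOf M (ψ : _ → ℂ))]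
      · rw [if_pos (BlockBasic.self_mem_blockOf hM ψ), Subsingleton.elim (Fintype.ofFinite _)
          ‹Fintype ↥(Subgroup.centralizer ({x} : Set G))›]
      · exact fun b hb hne => if_neg fun h =>
          hne (BlockBasic.isPBlock_eq_blockOf hM (Finset.mem_filter.1 hb).2 h)
      · exact fun h => absurd (Finset.mem_filter.2 ⟨Finset.mem_univ _, BlockBasic.isPBlock_blockOf M ψ⟩) h
    show θ s = _
    rw [hfull]
    refine (Finset.sum_subset (fun b hb => Finset.mem_filter.2
      ⟨Finset.mem_univ _, (Finset.mem_filter.1 hb).2.1⟩) fun b hb hnb => ?_).symm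
    exact Cores.second_main hM hx hB hχ (Finset.mem_filter.1 hb).2
      (fun h => hnb (Finset.mem_filter.2 ⟨Finset.mem_univ _, h⟩)) s hs
  calc (∑ χ : Cfsg.IrrCharacter G, if χ ∈ B then
        conj ((χ : G → ℂ) (x * (s : G))) * (χ : G → ℂ) (x * (s : G)) else 0)
      = ∑ χ : Cfsg.IrrCharacter G, ∑ b' ∈ T, ∑ b ∈ T, if χ ∈ B then
          conj (Cfsg.blockPart b' (fun c : ↥(Subgroup.centralizer ({x} : Set G)) => (χ : G → ℂ) (x * (c : G))) s) *
            Cfsg.blockPart b (fun c : ↥(Subgroup.centralizer ({x} : Set G)) => (χ : G → ℂ) (x * (c : G))) s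
          else 0 := by
        refine Finset.sum_congr rfl fun χ _ => ?_
        split_ifs with hχ
        · rw [hsplit χ hχ, map_sum, Finset.sum_mul_sum]
        · simp
    _ = ∑ b' ∈ T, ∑ b ∈ T, ∑ ψ : Cfsg.IrrCharacter ↥(Subgroup.centralizer ({x} : Set G)),
          if ψ ∈ b ∧ ψ ∈ b' then
            conj ((ψ : _ → ℂ) s) * (ψ : ↥(Subgroup.centralizer ({x} : Set G)) → ℂ) s else 0 := by
        rw [Finset.sum_comm]
        refine Finset.sum_congr rfl fun b' hb' => ?_
        rw [Finset.sum_comm]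
        exact Finset.sum_congr rfl fun b hb => sum_shift_parts hM hx (Finset.mem_filter.1 hb).2
          (Finset.mem_filter.1 hb').2.1 hs hs
    _ = _ := by
        refine Finset.sum_congr rfl fun b' hb' => ?_
        rw [Finset.sum_eq_single b']
        · rw [BlockBasic.finsum_mem_eq_sum_ite]
          refine Finset.sum_congr rfl fun ψ _ => ?_
          rw [pRegularPart_eq_self _ hs]
          by_cases h : ψ ∈ b'
          · rw [if_pos ⟨h, h⟩, if_pos h, BlockBasic.conj_apply_eq_inv, mul_comm]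
          · rw [if_neg (fun h' => h h'.1), if_neg h]
        · exact fun b hb hne => Finset.sum_eq_zero fun ψ _ => if_neg fun h =>
            hne (BlockBasic.isPBlock_eq_of_mem hM (Finset.mem_filter.1 hb).2.1
              (Finset.mem_filter.1 hb').2.1 h.1 h.2)
        · exact fun h => absurd hb' h

end Centralizer

open scoped Classical in
/-- Summing a class function over the section of a p-element. -/
theorem sum_section (F : G → ℂ) (hF : Cfsg.IsClassFunction G F) {x : G} {k : ℕ}
    (hx : orderOf x = p ^ k) [Fintype ↥(Subgroup.centralizer ({x} : Set G))] :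
    ∑ g ∈ Finset.univ.filter (fun g : G => IsConj x (BlockBasic.pPart (p := p) g)), F g =
      ((Subgroup.centralizer ({x} : Set G)).index : ℂ) *
        ∑ s : ↥(Subgroup.centralizer ({x} : Set G)), if p ∣ orderOf s then 0 else F (x * (s : G)) := by
  rw [← Finset.sum_fiberwise_of_maps_to
    (t := Finset.univ.filter (fun y : G => IsConj x y))
    (g := fun g => BlockBasic.pPart (p := p) g) (fun g hg => by simpa using hg) F]
  rw [Finset.sum_congr rfl (g := fun _ => ∑ s : ↥(Subgroup.centralizer ({x} : Set G)),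
      if p ∣ orderOf s then 0 else F (x * (s : G))) fun y hy => ?_]
  · rw [Finset.sum_const, nsmul_eq_mul, classSize_eq_index]
  obtain ⟨c, rfl⟩ := isConj_iff.1 (Finset.mem_filter.1 hy).2
  symm
  rw [← Finset.sum_filter_add_sum_filter_not Finset.univ
    (fun s : ↥(Subgroup.centralizer ({x} : Set G)) => p ∣ orderOf s)]
  rw [Finset.sum_eq_zero (fun s hs => if_pos (Finset.mem_filter.1 hs).2), zero_add]
  refine Finset.sum_bij' (fun s _ => c * (x * (s : G)) * c⁻¹)
    (fun g hg => ⟨c⁻¹ * BlockBasic.pReg (p := p) g * c, ?_⟩) ?_ ?_ ?_ ?_ ?_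
  · have h2 := (Finset.mem_filter.1 hg).2
    rw [Subgroup.mem_centralizer_singleton_iff]
    have h3 := (BlockBasic.commute_pPart_pReg (p := p) g).eq
    rw [h2] at h3
    calc c⁻¹ * BlockBasic.pReg (p := p) g * c * x
        = c⁻¹ * (BlockBasic.pReg (p := p) g * (c * x * c⁻¹)) * c := by group
      _ = c⁻¹ * (c * x * c⁻¹ * BlockBasic.pReg (p := p) g) * c := by rw [h3]
      _ = x * (c⁻¹ * BlockBasic.pReg (p := p) g * c) := by group
  · intro s hs
    have hs' := (Finset.mem_filter.1 hs).2
    refine Finset.mem_filter.2 ⟨Finset.mem_filter.2 ⟨Finset.mem_univ _, ?_⟩, ?_⟩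
    all_goals
      rw [BlockBasic.pPart_conj, BlockBasic.pPart_mul_of
        (Subgroup.mem_centralizer_singleton_iff.1 s.2).symm ⟨k, hx⟩ (by rwa [Subgroup.orderOf_coe])]
    exact isConj_iff.2 ⟨c, rfl⟩
  · intro g _
    refine Finset.mem_filter.2 ⟨Finset.mem_univ _, ?_⟩
    rw [← Subgroup.orderOf_coe]
    have h := BlockBasic.not_dvd_orderOf_pReg (p := p) g
    rwa [← MulEquiv.orderOf_eq (MulAut.conj c⁻¹), MulAut.conj_apply, inv_inv] at h
  · intro s hs
    have hs' := (Finset.mem_filter.1 hs).2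
    refine Subtype.ext ?_
    show c⁻¹ * BlockBasic.pReg (p := p) (c * (x * (s : G)) * c⁻¹) * c = (s : G)
    rw [BlockBasic.pReg, BlockBasic.pPart_conj, BlockBasic.pPart_mul_of
      (Subgroup.mem_centralizer_singleton_iff.1 s.2).symm ⟨k, hx⟩ (by rwa [Subgroup.orderOf_coe])]
    group
  · intro g hg
    have h2 := (Finset.mem_filter.1 hg).2
    show c * (x * (c⁻¹ * BlockBasic.pReg (p := p) g * c)) * c⁻¹ = g
    calc c * (x * (c⁻¹ * BlockBasic.pReg (p := p) g * c)) * c⁻¹
        = (c * x * c⁻¹) * BlockBasic.pReg (p := p) g := by group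
      _ = g := by rw [← h2, BlockBasic.pPart_mul_pReg]
  · intro s hs
    rw [if_neg (Finset.mem_filter.1 hs).2, hF]

open scoped Classical in
/-- Brauer's count of the characters of a block by subsections. -/
theorem card_block_eq_sum_subsections (hM : Cfsg.IsPModular p M) {B : Set (Cfsg.IrrCharacter G)}
    (hB : Cfsg.IsPBlock M B) (X : Finset G) (hX : ∀ x ∈ X, ∃ k : ℕ, orderOf x = p ^ k)
    (hXrep : ∀ g : G, (∃ k : ℕ, orderOf g = p ^ k) → ∃! x, x ∈ X ∧ IsConj g x) :
    Nat.card B = ∑ x ∈ X, ∑ᶠ b ∈ {b : Set (Cfsg.IrrCharacter ↥(Subgroup.centralizer ({x} : Set G))) |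
      Cfsg.IsInducedBlock M (Subgroup.centralizer ({x} : Set G)) b B}, Cfsg.blockRank p b := by
  set F : G → ℂ := fun g => ∑ χ : Cfsg.IrrCharacter G, if χ ∈ B then
    conj ((χ : G → ℂ) g) * (χ : G → ℂ) g else 0 with hFdef
  have hF : Cfsg.IsClassFunction G F := fun g h => by
    simp only [hFdef, fun χ : Cfsg.IrrCharacter G => CharBasic.IsIrr.isClassFunction χ.2 g h]
  have htot : ∑ g : G, F g = (Nat.card G : ℂ) * (Nat.card B : ℂ) := by
    simp only [hFdef]
    rw [Finset.sum_comm, Nat.card_eq_fintype_card (α := B), Fintype.card_subtype,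
      Finset.card_filter, Nat.cast_sum, Finset.mul_sum]
    refine Finset.sum_congr rfl fun χ _ => ?_
    split_ifs with hχ
    · have h1 := CharBasic.classInner_irrCharacter χ χ
      rw [CharBasic.classInner_def, inv_mul_eq_iff_eq_mul₀ (Nat.cast_ne_zero.2 Nat.card_pos.ne'),
        if_pos rfl, mul_one] at h1
      rw [Nat.cast_one, mul_one, ← h1]
      exact Finset.sum_congr rfl fun g _ => mul_comm _ _
    · simp
  have hpart : ∑ g : G, F g = ∑ x ∈ X,
      ∑ g ∈ Finset.univ.filter (fun g : G => IsConj x (BlockBasic.pPart (p := p) g)), F g := by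
    have hrep : ∀ g : G, ∃! x, x ∈ X ∧ IsConj (BlockBasic.pPart (p := p) g) x :=
      fun g => hXrep _ (BlockBasic.exists_orderOf_pPart g)
    choose r hr hru using hrep
    rw [← Finset.sum_fiberwise_of_maps_to (g := r) (fun g _ => (hr g).1) F]
    refine Finset.sum_congr rfl fun x hx => Finset.sum_congr ?_ fun _ _ => rfl
    ext g
    simp only [Finset.mem_filter, Finset.mem_univ, true_and]
    exact ⟨fun h => h ▸ (hr g).2.symm, fun h => (hru g x ⟨hx, h.symm⟩).symm⟩
  have hG : (Nat.card G : ℂ) ≠ 0 := Nat.cast_ne_zero.2 Nat.card_pos.ne'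
  have key : (Nat.card G : ℂ) * (Nat.card B : ℂ) = (Nat.card G : ℂ) *
      ((∑ x ∈ X, ∑ᶠ b ∈ {b : Set (Cfsg.IrrCharacter ↥(Subgroup.centralizer ({x} : Set G))) |
        Cfsg.IsInducedBlock M (Subgroup.centralizer ({x} : Set G)) b B}, Cfsg.blockRank p b : ℕ) : ℂ) := by
    rw [← htot, hpart, Nat.cast_sum, Finset.mul_sum]
    refine Finset.sum_congr rfl fun x hx => ?_
    obtain ⟨k, hk⟩ := hX x hx
    haveI : Fintype ↥(Subgroup.centralizer ({x} : Set G)) := Fintype.ofFinite _
    rw [sum_section F hF hk, sum_section_sq hM hk hB, ← mul_assoc,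
      ← Nat.cast_mul, Subgroup.index_mul_card]
  exact_mod_cast mul_left_cancel₀ hG key

end Cfsg.Agent.H83
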