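import Cfsg.Agent.H83.CentralOrderP
import Cfsg.Agent.H83.SectionSum
import Cfsg.Agent.H35.Consequences
import Cfsg.Agent.H35.BlockInduction
import Cfsg.Agent.PGroups.Basic

/-!
A major subsection at a central element of order `p` of a defect group.
-/

open scoped ComplexConjugate

namespace Cfsg.Agent.H83

universe u

variable {G : Type u} [Group G] [Fintype G] {p : ℕ} [hp : Fact p.Prime] {M : Ideal Cfsg.AlgInt}

open scoped Classical in
/-- Every block of positive defect has a subsection of the same defect at an element of order `p`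
central in a defect group. -/
theorem exists_major_subsection (hM : Cfsg.IsPModular p M) {B : Set (Cfsg.IrrCharacter G)}
    (hB : Cfsg.IsPBlock M B) (hd : 0 < Cfsg.blockDefect p B) :
    ∃ z : G, orderOf z = p ∧ ∃ b : Set (Cfsg.IrrCharacter ↥(Subgroup.centralizer ({z} : Set G))),
      Cfsg.IsInducedBlock M (Subgroup.centralizer ({z} : Set G)) b B ∧
        Cfsg.blockDefect p b = Cfsg.blockDefect p B := by
  obtain ⟨y, hy⟩ := BlockBasic.exists_isDefectClass hM hB
  set P : Sylow p (Subgroup.centralizer ({y} : Set G)) := default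
  have hD : Cfsg.IsDefectGroup p M B (H35.sylImage P) := ⟨y, hy, P, rfl⟩
  have hcard := H35.card_defectGroup hM hB hD
  set D := H35.sylImage P with hDdef
  have hDp : IsPGroup p D := H35.sylImage_isPGroup P
  haveI : Nontrivial D := by
    rw [← Finite.one_lt_card_iff_nontrivial, hcard]
    exact Nat.one_lt_pow hd.ne' hp.out.one_lt
  haveI := hDp.center_nontrivial
  have hdvd : p ∣ Nat.card (Subgroup.center D) := by
    obtain ⟨n, hn⟩ := IsPGroup.iff_card.1 (hDp.to_subgroup (Subgroup.center D))
    rw [hn]
    refine dvd_pow_self p fun h => ?_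
    have := Finite.one_lt_card (α := Subgroup.center D)
    rw [hn, h, pow_zero] at this
    exact lt_irrefl 1 this
  obtain ⟨w, hw⟩ := exists_prime_orderOf_dvd_card' p hdvd
  set z : G := ((w : D) : G) with hz
  have hzo : orderOf z = p := by rw [hz, Subgroup.orderOf_coe, Subgroup.orderOf_coe, hw]
  have hzD : ∀ x ∈ D, z * x = x * z := fun x hx =>
    congrArg Subtype.val (Subgroup.mem_center_iff.1 w.2 ⟨x, hx⟩).symm
  refine ⟨z, hzo, ?_⟩
  set C := Subgroup.centralizer ({z} : Set G) with hCdef
  haveI : Fintype C := Fintype.ofFinite _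
  have hzy : Commute z y :=
    Subgroup.mem_centralizer_singleton_iff.1 (H35.sylImage_le P (w : D).2)
  have hyC : y ∈ C := Subgroup.mem_centralizer_singleton_iff.2 hzy.symm
  set yC : C := ⟨y, hyC⟩
  have hyreg : ¬ p ∣ orderOf yC := by
    rw [← Subgroup.orderOf_coe]
    exact H35.not_dvd_orderOf_of_isDefectClass hM hB hy
  have hzx : orderOf z = p ^ 1 := by rw [hzo, pow_one]
  obtain ⟨χ, hχ, h0⟩ := exists_height_zero hM hB
  have hunit := H35.unit_value_mul hM hB hy ⟨1, hzx⟩ hzy hχ h0
  set θ : C → ℂ := fun c => (χ : G → ℂ) (z * (c : G)) with hθ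
  have hexp := congrFun (CharBasic.classFunction_expansion (isClassFunction_shift (x := z) χ)) yC
  simp only [Finset.sum_apply, Pi.smul_apply, smul_eq_mul] at hexp
  have hfull : θ yC = ∑ b ∈ Finset.univ.filter
      (fun b : Set (Cfsg.IrrCharacter C) => Cfsg.IsPBlock M b), Cfsg.blockPart b θ yC := by
    rw [show θ yC = _ from hexp]
    simp only [Cfsg.blockPart, Subsingleton.elim (Fintype.ofFinite C) ‹Fintype C›,
      BlockBasic.finsum_mem_eq_sum_ite]
    rw [Finset.sum_comm]
    refine Finset.sum_congr rfl fun ψ _ => ?_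
    rw [Finset.sum_eq_single (Cfsg.blockOf M (ψ : C → ℂ))]
    · rw [if_pos (BlockBasic.self_mem_blockOf hM ψ)]
      congr!
    · exact fun b hb hne => if_neg fun h =>
        hne (BlockBasic.isPBlock_eq_blockOf hM (Finset.mem_filter.1 hb).2 h)
    · exact fun h => absurd (Finset.mem_filter.2 ⟨Finset.mem_univ _, BlockBasic.isPBlock_blockOf M ψ⟩) h
  obtain ⟨b, hb, hbu⟩ : ∃ b : Set (Cfsg.IrrCharacter C), Cfsg.IsPBlock M b ∧
      ¬ Cfsg.MemLocalIdeal M (Cfsg.blockPart b θ yC) := by
    by_contra h
    push Not at h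
    refine hunit ?_
    rw [show (χ : G → ℂ) (z * y) = θ yC from rfl, hfull]
    exact BlockBasic.memLocalIdeal_sum hM _ _ fun b hb => h b (Finset.mem_filter.1 hb).2
  have hind : Cfsg.IsInducedBlock M C b B := by
    by_contra hn
    refine hbu ?_
    rw [show Cfsg.blockPart b θ yC = 0 from Cores.second_main hM hzx hB hχ hb hn yC hyreg]
    exact BlockBasic.memLocalIdeal_zero hM
  refine ⟨b, hind, le_antisymm ?_ ?_⟩
  · obtain ⟨g, hg⟩ := BlockBasic.exists_isDefectClass hM hb
    obtain ⟨E, hE, hle⟩ := H35.defectGroup_le_induced hM C hind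
      (⟨g, hg, default, rfl⟩ : Cfsg.IsDefectGroup p M b
        (H35.sylImage (default : Sylow p (Subgroup.centralizer ({g} : Set C)))))
    have h1 := Subgroup.card_le_of_le hle
    rw [Subgroup.card_map_of_injective C.subtype_injective,
      H35.card_defectGroup hM hb (D := H35.sylImage (default : Sylow p (Subgroup.centralizer ({g} : Set C))))
        ⟨g, hg, default, rfl⟩, H35.card_defectGroup hM hB hE] at h1
    exact (Nat.pow_le_pow_iff_right hp.out.one_lt).1 h1
  · -- a character of the block with a unit value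
    obtain ⟨ψ, hψ, hψu⟩ : ∃ ψ ∈ b, ¬ Cfsg.MemLocalIdeal M ((ψ : C → ℂ) yC) := by
      by_contra h
      push Not at h
      refine hbu ?_
      set zC : C := ⟨z, Subgroup.mem_centralizer_singleton_iff.2 rfl⟩
      have hzC : zC ∈ Subgroup.center C := Subgroup.mem_center_iff.2 fun c =>
        Subtype.ext (mem_centralizer_comm c).symm
      have hzCo : orderOf zC = p := by rw [← Subgroup.orderOf_coe]; exact hzo
      choose c hc1 _ hc3 using fun ψ => exists_root (z := zC) hzC hzCo ψ
      have hexp2 : θ = ∑ ψ : Cfsg.IrrCharacter C, ((mult χ ψ : ℂ) * c ψ) • (ψ : C → ℂ) := by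
        funext s
        simp only [hθ, Finset.sum_apply, Pi.smul_apply, smul_eq_mul]
        rw [show z * (s : G) = ((zC * s : C) : G) from rfl, restrict_eq_sum]
        refine Finset.sum_congr rfl fun ψ _ => ?_
        have := hc3 ψ 1 s
        rw [pow_one, pow_one] at this
        rw [this]
        ring
      rw [Cfsg.blockPart, Subsingleton.elim (Fintype.ofFinite C) ‹Fintype C›,
        BlockBasic.finsum_mem_eq_sum_ite]
      refine BlockBasic.memLocalIdeal_sum hM _ _ fun ψ _ => ?_
      split_ifs with hψ
      · rw [hexp2, CharBasic.classInner_sum_irr]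
        refine BlockBasic.memLocalIdeal_mul hM (BlockBasic.memLocalRing_mul hM
          (BlockBasic.memLocalRing_natCast hM _) (BlockBasic.memLocalRing_of_isIntegral hM ?_)) (h ψ hψ)
        exact IsIntegral.of_pow hp.out.pos (by rw [hc1 ψ]; exact isIntegral_one)
      · exact BlockBasic.memLocalIdeal_zero hM
    have h1 := H35.degree_le_index hM ψ hψu
    have h2 := H35.factorization_index_add (p := p) yC
    have h3 : Cfsg.blockDefect p B ≤
        (Nat.card (Subgroup.centralizer ({yC} : Set C))).factorization p := by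
      have hDC : D ≤ C := fun x hx => Subgroup.mem_centralizer_singleton_iff.2 (hzD x hx).symm
      have hle : D.subgroupOf C ≤ Subgroup.centralizer ({yC} : Set C) := fun x hx =>
        Subgroup.mem_centralizer_singleton_iff.2 (Subtype.ext
          (Subgroup.mem_centralizer_singleton_iff.1 (H35.sylImage_le P hx)))
      have h4 := Subgroup.card_dvd_of_le hle
      rw [Nat.card_congr (Subgroup.subgroupOfEquivOfLe hDC).toEquiv, hcard] at h4
      exact (hp.out.pow_dvd_iff_le_factorization Nat.card_pos.ne').1 h4
    have h5 := minExp_le (p := p) hψ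
    rw [blockDefect_eq (p := p) b]
    omega

end Cfsg.Agent.H83
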