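import Mathlib.NumberTheory.Cyclotomic.Gal
import Mathlib.RingTheory.Norm.Transitivity
import Mathlib.RingTheory.IntegralClosure.IntegrallyClosed
import Mathlib.RingTheory.RootsOfUnity.Complex
import Mathlib.Analysis.SpecialFunctions.Log.Basic
import Mathlib.RingTheory.Polynomial.Cyclotomic.Roots
import Mathlib.Analysis.Complex.Polynomial.Basic

/-!
Integer polynomials evaluated at primitive roots of unity: Galois transfer, the norm bound and
the inequality of arithmetic and geometric means on conjugates.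
-/

namespace Cfsg.Agent.H83

open Polynomial

variable {n : ℕ} [NeZero n]

/-- A relation at one primitive root holds at every primitive root. -/
theorem aeval_eq_zero_transfer (P : ℤ[X]) {ζ η : ℂ} (hζ : IsPrimitiveRoot ζ n)
    (hη : IsPrimitiveRoot η n) (h : aeval ζ P = 0) : aeval η P = 0 := by
  have hdvd := minpoly.isIntegrallyClosed_dvd (hζ.isIntegral (NeZero.pos n)) h
  rw [← cyclotomic_eq_minpoly hζ (NeZero.pos n), cyclotomic_eq_minpoly hη (NeZero.pos n)] at hdvd
  obtain ⟨Q, rfl⟩ := hdvd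
  rw [map_mul, minpoly.aeval, zero_mul]

/-- The product of the conjugates of a nonzero cyclotomic integer has absolute value at least one. -/
theorem one_le_norm_prod_aeval (P : ℤ[X]) {ζ : ℂ} (hζ : IsPrimitiveRoot ζ n) (h : aeval ζ P ≠ 0) :
    1 ≤ ‖∏ η ∈ primitiveRoots n ℂ, aeval η P‖ := by
  classical
  haveI : NeZero ((n : ℕ) : ℚ) := ⟨by exact_mod_cast NeZero.ne n⟩
  let K := CyclotomicField n ℚ
  haveI : IsCyclotomicExtension {n} ℚ K := CyclotomicField.isCyclotomicExtension n ℚ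
  have hzK := IsCyclotomicExtension.zeta_spec n ℚ K
  set z := IsCyclotomicExtension.zeta n ℚ K with hz
  haveI : FiniteDimensional ℚ K := IsCyclotomicExtension.finiteDimensional {n} ℚ K
  have hirr : Irreducible (Polynomial.cyclotomic n ℚ) :=
    Polynomial.cyclotomic.irreducible_rat (NeZero.pos n)
  set x : K := aeval z P with hx
  have hσ : ∀ σ : K →ₐ[ℚ] ℂ, σ x = aeval (σ z) P := fun σ =>
    (aeval_algHom_apply (σ.restrictScalars ℤ) z P).symm
  have hprod : ∏ σ : K →ₐ[ℚ] ℂ, σ x = ∏ η ∈ primitiveRoots n ℂ, aeval η P := by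
    rw [← Finset.prod_coe_sort (primitiveRoots n ℂ) fun η => aeval η P]
    refine Fintype.prod_equiv (hzK.embeddingsEquivPrimitiveRoots ℂ hirr) _ _ fun σ => ?_
    rw [hσ]
    rfl
  have hnorm := Algebra.norm_eq_prod_embeddings ℚ ℂ x
  have hxint : IsIntegral ℤ x := by
    rw [hx, aeval_eq_sum_range]
    exact IsIntegral.sum _ fun i _ => ((hzK.isIntegral (NeZero.pos n)).pow i).smul _
  obtain ⟨N, hN⟩ := IsIntegrallyClosed.isIntegral_iff.1 (Algebra.isIntegral_norm ℚ hxint)
  have hx0 : x ≠ 0 := by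
    intro h0
    obtain ⟨σ, hσ'⟩ := (hzK.embeddingsEquivPrimitiveRoots ℂ hirr).surjective
      ⟨ζ, (mem_primitiveRoots (NeZero.pos n)).2 hζ⟩
    have hzζ : σ z = ζ := congrArg Subtype.val hσ'
    exact h (by rw [← hzζ, ← hσ, h0, map_zero])
  have hN0 : N ≠ 0 := fun h => by
    rw [h, map_zero] at hN
    exact (Algebra.norm_ne_zero_iff.2 hx0) hN.symm
  rw [← hprod, ← hnorm, ← hN]
  rw [show algebraMap ℚ ℂ (algebraMap ℤ ℚ N) = (N : ℂ) by simp, Complex.norm_intCast]
  exact_mod_cast Int.one_le_abs hN0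

/-- The squared absolute values of the conjugates of a nonzero cyclotomic integer average at
least one. -/
theorem card_le_sum_norm_sq_aeval (P : ℤ[X]) {ζ : ℂ} (hζ : IsPrimitiveRoot ζ n)
    (h : aeval ζ P ≠ 0) :
    ((primitiveRoots n ℂ).card : ℝ) ≤ ∑ η ∈ primitiveRoots n ℂ, ‖aeval η P‖ ^ 2 := by
  have hone := one_le_norm_prod_aeval P hζ h
  rw [norm_prod] at hone
  have hpos : ∀ η ∈ primitiveRoots n ℂ, 0 < ‖aeval η P‖ := by
    intro η hη
    refine lt_of_le_of_ne (norm_nonneg _) fun h0 => ?_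
    rw [Finset.prod_eq_zero hη h0.symm] at hone
    exact not_lt.2 hone one_pos
  have hlog : 0 ≤ ∑ η ∈ primitiveRoots n ℂ, Real.log (‖aeval η P‖ ^ 2) := by
    rw [← Real.log_prod fun η hη => (pow_pos (hpos η hη) 2).ne', Finset.prod_pow]
    exact Real.log_nonneg (one_le_pow₀ hone)
  have hle : ∑ η ∈ primitiveRoots n ℂ, Real.log (‖aeval η P‖ ^ 2) ≤
      ∑ η ∈ primitiveRoots n ℂ, (‖aeval η P‖ ^ 2 - 1) :=
    Finset.sum_le_sum fun η hη => Real.log_le_sub_one_of_pos (pow_pos (hpos η hη) 2)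
  simp only [Finset.sum_sub_distrib, Finset.sum_const, nsmul_eq_mul, mul_one] at hle
  linarith

omit [NeZero n] in
/-- Complex conjugation inverts roots of unity. -/
theorem conj_eq_pow_pred {η : ℂ} (hη : η ^ n = 1) (hn : n ≠ 0) :
    (starRingEnd ℂ) η = η ^ (n - 1) := by
  have hne : η ≠ 0 := fun h => by simp [h, zero_pow hn] at hη
  have hnorm : ‖η‖ = 1 := Complex.norm_eq_one_of_pow_eq_one hη hn
  rw [← Complex.inv_eq_conj hnorm]
  refine inv_eq_of_mul_eq_one_right ?_
  rw [← pow_succ', Nat.sub_add_cancel (Nat.one_le_iff_ne_zero.2 hn), hη]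

end Cfsg.Agent.H83
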