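import Cfsg.Agent.H83.RegInner
import Cfsg.Agent.H83.CycloNorm
import Cfsg.Agent.BlockBasic.Brauer
import Cfsg.Agent.Cores.SecondMain
import Cfsg.Agent.S4683
import Cfsg.Agent.H81.Central
import Cfsg.Agent.H82.PrincipalBlock
import Cfsg.Agent.H86.IrrOps

/-!
The contribution matrix of a subsection `(y, b)` of a block `B`: its entries are cyclotomic
integers, it is `p^q` times a projection, its trace is `p^q * l(b)`, and its entries at height zero
characters are nonzero modulo the maximal ideal.  This bounds the number of height zero characters.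
-/

open scoped ComplexConjugate
open Polynomial

namespace Cfsg.Agent.H83

universe u

variable {G : Type u} [Group G] [Fintype G] {p : ℕ} [hp : Fact p.Prime] {M : Ideal Cfsg.AlgInt}

/-- For a character of height zero an entry of the block matrix is a unit times a central
character value. -/
theorem card_part_mul_entry (hM : Cfsg.IsPModular p M) {B : Set (Cfsg.IrrCharacter G)}
    (hB : Cfsg.IsPBlock M B) {χ ψ : Cfsg.IrrCharacter G} (hχ : χ ∈ B) (hψ : ψ ∈ B)
    (h0 : Cfsg.blockHeight p B (ψ : G → ℂ) = 0) :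
    ((Nat.card G / p ^ (Nat.card G).factorization p : ℕ) : ℂ) * (entry p B χ ψ : ℂ) =
      ((Cfsg.charDegree (ψ : G → ℂ) / p ^ (Cfsg.charDegree (ψ : G → ℂ)).factorization p : ℕ) : ℂ) *
        BlockBasic.omega (ψ : G → ℂ) (regElt p χ) := by
  have hadd := defect_add_minExp hM hB
  set a := (Nat.card G).factorization p
  set d := Cfsg.blockDefect p B
  set c := minExp p B
  set U := Nat.card G / p ^ a with hU
  set u := Cfsg.charDegree (ψ : G → ℂ) / p ^ (Cfsg.charDegree (ψ : G → ℂ)).factorization p with hu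
  have hp0 : (p : ℂ) ≠ 0 := Nat.cast_ne_zero.2 hp.out.ne_zero
  have hG : (Nat.card G : ℂ) = (p : ℂ) ^ a * U := by
    rw [← Nat.cast_pow, ← Nat.cast_mul, hU, Nat.ordProj_mul_ordCompl_eq_self]
  have h1 : (ψ : G → ℂ) 1 = (p : ℂ) ^ c * u := by
    rw [BlockBasic.apply_one_eq_charDegree, ← Nat.cast_pow, ← Nat.cast_mul, hu,
      show c = (Cfsg.charDegree (ψ : G → ℂ)).factorization p by
        rw [factorization_eq hM hψ, h0, add_zero],
      Nat.ordProj_mul_ordCompl_eq_self]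
  have h2 := regInner_eq_omega (p := p) χ ψ
  rw [regInner_symm ψ χ, hG, h1, ← hadd, pow_add] at h2
  rw [entry_spec hM hB hχ ψ]
  apply mul_left_cancel₀ (pow_ne_zero c hp0)
  linear_combination h2

theorem omega_regElt_eq_zero (hM : Cfsg.IsPModular p M) {B : Set (Cfsg.IrrCharacter G)}
    (hB : Cfsg.IsPBlock M B) {χ ψ : Cfsg.IrrCharacter G} (hψ : ψ ∈ B) (hχ : χ ∉ B) :
    BlockBasic.omega (ψ : G → ℂ) (regElt p χ) = 0 := by
  have h := regInner_eq_omega (p := p) χ ψ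
  rw [regInner_eq_zero hM hB hψ hχ, mul_zero, eq_comm, mul_eq_zero] at h
  exact h.resolve_left (CharBasic.IsIrr.one_ne_zero ψ.2)

/-- The block matrix has rank one modulo `p`. -/
theorem entry_mul_congr (hM : Cfsg.IsPModular p M) {B : Set (Cfsg.IrrCharacter G)}
    (hB : Cfsg.IsPBlock M B) {θ : Cfsg.IrrCharacter G} (hθ : θ ∈ B)
    (h0 : Cfsg.blockHeight p B (θ : G → ℂ) = 0) {χ ψ : Cfsg.IrrCharacter G} (hχ : χ ∈ B)
    (hψ : ψ ∈ B) :
    (p : ℤ) ∣ entry p B χ ψ * entry p B θ θ - entry p B χ θ * entry p B ψ θ := by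
  by_cases hh : Cfsg.blockHeight p B (ψ : G → ℂ) = 0
  swap
  · have h1 : (p : ℤ) ∣ entry p B χ ψ := (dvd_pow_self _ hh).trans (dvd_entry hM hB hχ hψ)
    have h2 : (p : ℤ) ∣ entry p B ψ θ :=
      entry_symm hM hB hθ hψ ▸ (dvd_pow_self _ hh).trans (dvd_entry hM hB hθ hψ)
    exact dvd_sub (h1.mul_right _) (h2.mul_left _)
  set U := Nat.card G / p ^ (Nat.card G).factorization p
  set u := fun φ : Cfsg.IrrCharacter G =>
    Cfsg.charDegree (φ : G → ℂ) / p ^ (Cfsg.charDegree (φ : G → ℂ)).factorization p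
  have e1 := card_part_mul_entry hM hB hχ hψ hh
  have e2 := card_part_mul_entry hM hB hθ hθ h0
  have e3 := card_part_mul_entry hM hB hχ hθ h0
  have e4 := card_part_mul_entry hM hB hθ hψ hh
  rw [← entry_symm hM hB hψ hθ] at e4
  have hω := fun φ : Cfsg.IrrCharacter G => BlockBasic.omega_congr hM
    (CharBasic.IsIrr.isClassFunction ψ.2) (CharBasic.IsIrr.isClassFunction θ.2)
    (BlockBasic.isPBlock_sameBlock hM hB hψ hθ) (isCentralElt_regElt φ) (isIntElt_regElt hM φ)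
  have hloc : ∀ φ : Cfsg.IrrCharacter G,
      Cfsg.MemLocalRing M (BlockBasic.omega (θ : G → ℂ) (regElt p φ)) := fun φ =>
    BlockBasic.memLocalRing_omega hM θ.2 (isCentralElt_regElt φ) (isIntElt_regElt hM φ)
  have hn : ∀ k : ℕ, Cfsg.MemLocalRing M (k : ℂ) := BlockBasic.memLocalRing_natCast hM
  have hmem : Cfsg.MemLocalIdeal M
      (((U : ℂ) * U) * ((entry p B χ ψ * entry p B θ θ - entry p B χ θ * entry p B ψ θ : ℤ) : ℂ)) := by
    have h1 := BlockBasic.memLocalIdeal_mul hM (BlockBasic.memLocalRing_mul hM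
      (BlockBasic.memLocalRing_mul hM (hn (u ψ)) (hn (u θ))) (hloc θ)) (hω χ)
    have h2 := BlockBasic.memLocalIdeal_mul hM (BlockBasic.memLocalRing_mul hM
      (BlockBasic.memLocalRing_mul hM (hn (u ψ)) (hn (u θ))) (hloc χ)) (hω θ)
    convert BlockBasic.memLocalIdeal_sub hM h1 h2 using 1
    push_cast
    linear_combination (U : ℂ) * (entry p B θ θ : ℂ) * e1 +
      ((u ψ : ℕ) : ℂ) * BlockBasic.omega (ψ : G → ℂ) (regElt p χ) * e2
      - (U : ℂ) * (entry p B ψ θ : ℂ) * e3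
      - ((u θ : ℕ) : ℂ) * BlockBasic.omega (θ : G → ℂ) (regElt p χ) * e4
  have hU : ¬ p ∣ U := Nat.not_dvd_ordCompl hp.out Nat.card_pos.ne'
  rw [← BlockBasic.memLocalIdeal_intCast_iff hM]
  have h3 := BlockBasic.memLocalIdeal_mul hM (BlockBasic.memLocalRing_mul hM
    (BlockBasic.memLocalRing_natCast_inv hM hU) (BlockBasic.memLocalRing_natCast_inv hM hU)) hmem
  have hU0 : (U : ℂ) ≠ 0 := Nat.cast_ne_zero.2 fun h => hU (h ▸ dvd_zero p)
  convert h3 using 1
  field_simp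

section Subsection

variable {H : Subgroup G} [Fintype H]

/-- Multiplicity of `ψ` in the restriction of `χ`. -/
noncomputable def mult (χ : Cfsg.IrrCharacter G) (ψ : Cfsg.IrrCharacter H) : ℕ :=
  (CharBasic.classInner_isChar_nat
    (H86.isCharacter_comp (CharBasic.IsIrr.isCharacter χ.2) H.subtype)
    (CharBasic.IsIrr.isCharacter ψ.2)).choose

theorem mult_spec (χ : Cfsg.IrrCharacter G) (ψ : Cfsg.IrrCharacter H) :
    Cfsg.classInner (fun h : H => (χ : G → ℂ) (h : G)) (ψ : H → ℂ) = (mult χ ψ : ℂ) :=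
  (CharBasic.classInner_isChar_nat
    (H86.isCharacter_comp (CharBasic.IsIrr.isCharacter χ.2) H.subtype)
    (CharBasic.IsIrr.isCharacter ψ.2)).choose_spec

omit hp in
theorem restrict_eq_sum (χ : Cfsg.IrrCharacter G) (h : H) :
    (χ : G → ℂ) (h : G) = ∑ ψ : Cfsg.IrrCharacter H, (mult χ ψ : ℂ) * (ψ : H → ℂ) h := by
  have := congrFun (CharBasic.classFunction_expansion (ψ := fun h : H => (χ : G → ℂ) (h : G))
    (fun g x => by
      simpa using CharBasic.IsIrr.isClassFunction χ.2 (g : G) (x : G))) h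
  simp only [Finset.sum_apply, Pi.smul_apply, smul_eq_mul] at this
  rw [this]
  exact Finset.sum_congr rfl fun ψ _ => by rw [mult_spec]

/-- The coefficient of a pair of constituents in the contribution matrix. -/
noncomputable def contribCoeff {C : Subgroup G} [Fintype C] (p : ℕ) (b : Set (Cfsg.IrrCharacter C))
    (χ χ' : Cfsg.IrrCharacter G) (ψ ψ' : Cfsg.IrrCharacter C) : ℤ :=
  (mult χ ψ : ℤ) * (mult χ' ψ' : ℤ) * entry p b ψ ψ'

open scoped Classical in
/-- The contribution of a subsection, as a polynomial in a root of unity of order `N`. -/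
noncomputable def contribPoly {C : Subgroup G} [Fintype C] (p N : ℕ)
    (b : Set (Cfsg.IrrCharacter C)) (e : Cfsg.IrrCharacter C → ℕ)
    (χ χ' : Cfsg.IrrCharacter G) : ℤ[X] :=
  ∑ ψ ∈ Finset.univ.filter (fun ψ : Cfsg.IrrCharacter C => ψ ∈ b),
    ∑ ψ' ∈ Finset.univ.filter (fun ψ : Cfsg.IrrCharacter C => ψ ∈ b),
      Polynomial.C (contribCoeff p b χ χ' ψ ψ') * X ^ (e ψ + (N - 1) * e ψ')

open scoped Classical in
/-- The contribution read modulo the maximal ideal. -/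
noncomputable def contribSum {C : Subgroup G} [Fintype C] (p : ℕ) (b : Set (Cfsg.IrrCharacter C))
    (χ χ' : Cfsg.IrrCharacter G) : ℤ :=
  ∑ ψ ∈ Finset.univ.filter (fun ψ : Cfsg.IrrCharacter C => ψ ∈ b),
    ∑ ψ' ∈ Finset.univ.filter (fun ψ : Cfsg.IrrCharacter C => ψ ∈ b),
      contribCoeff p b χ χ' ψ ψ'

open scoped Classical in
/-- The coordinate of the column of a subsection at `κ`, as a polynomial in a root of unity. -/
noncomputable def colPoly {C : Subgroup G} [Fintype C] (p : ℕ) (b : Set (Cfsg.IrrCharacter C))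
    (e : Cfsg.IrrCharacter C → ℕ) (χ : Cfsg.IrrCharacter G) (κ : Cfsg.IrrCharacter C) : ℤ[X] :=
  ∑ ψ ∈ Finset.univ.filter (fun ψ : Cfsg.IrrCharacter C => ψ ∈ b),
    Polynomial.C ((mult χ ψ : ℤ) * entry p b ψ κ) * X ^ e ψ

open scoped Classical in
/-- As `exists_contrib_full`, with the action of `y` on the characters of its centralizer. -/
theorem exists_contrib_full_action (hM : Cfsg.IsPModular p M) {B : Set (Cfsg.IrrCharacter G)}
    {y : G} {n : ℕ} (hy : orderOf y = p ^ n)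
    (C : Subgroup G) [Fintype C] (hC : C = Subgroup.centralizer ({y} : Set G))
    {b : Set (Cfsg.IrrCharacter C)} (hind : Cfsg.IsInducedBlock M C b B) :
    ∃ (ζ : ℂ) (e : Cfsg.IrrCharacter C → ℕ), IsPrimitiveRoot ζ (p ^ n) ∧
      (∀ (ψ : Cfsg.IrrCharacter C) (hyC : y ∈ C) (c : C),
        (ψ : C → ℂ) (⟨y, hyC⟩ * c) = ζ ^ e ψ * (ψ : C → ℂ) c) ∧
      (∀ χ χ', aeval ζ (contribPoly p (p ^ n) b e χ χ') =
        (p : ℂ) ^ Cfsg.blockDefect p b * (Nat.card C : ℂ)⁻¹ *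
          ∑ s ∈ Finset.univ.filter (fun c : C => ¬ p ∣ orderOf c), (χ : G → ℂ) (y * (s : G)) *
            conj (∑ ψ ∈ Finset.univ.filter (fun ψ : Cfsg.IrrCharacter C => ψ ∈ b),
              (mult χ' ψ : ℂ) * ζ ^ e ψ * (ψ : C → ℂ) s)) ∧
      (∀ κ ∈ b, ∀ κ' ∈ b, ∑ χ ∈ Finset.univ.filter (fun χ : Cfsg.IrrCharacter G => χ ∈ B),
          aeval ζ (colPoly p b e χ κ) * conj (aeval ζ (colPoly p b e χ κ')) =
        (p : ℂ) ^ Cfsg.blockDefect p b * (entry p b κ κ' : ℂ)) ∧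
      (∀ η : ℂ, η ^ p ^ n = 1 → ∀ χ χ', aeval η (contribPoly p (p ^ n) b e χ' χ) =
        conj (aeval η (contribPoly p (p ^ n) b e χ χ'))) ∧
      (∀ χ, ∑ χ' ∈ Finset.univ.filter (fun χ : Cfsg.IrrCharacter G => χ ∈ B),
          aeval ζ (contribPoly p (p ^ n) b e χ χ') * aeval ζ (contribPoly p (p ^ n) b e χ' χ) =
        (p : ℂ) ^ Cfsg.blockDefect p b * aeval ζ (contribPoly p (p ^ n) b e χ χ)) ∧
      (∑ χ ∈ Finset.univ.filter (fun χ : Cfsg.IrrCharacter G => χ ∈ B),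
          aeval ζ (contribPoly p (p ^ n) b e χ χ) =
        (p : ℂ) ^ Cfsg.blockDefect p b * (Cfsg.blockRank p b : ℂ)) ∧
      (∀ χ χ', Cfsg.MemLocalIdeal M
        (aeval ζ (contribPoly p (p ^ n) b e χ χ') - (contribSum p b χ χ' : ℂ))) ∧
      ∀ χ ∈ B, Cfsg.blockHeight p B (χ : G → ℂ) = 0 → ∀ χ' ∈ B,
        Cfsg.blockHeight p B (χ' : G → ℂ) = 0 → ¬ (p : ℤ) ∣ contribSum p b χ χ' := by
  have hb := hind.1
  have hB := hind.2.1
  set q := Cfsg.blockDefect p b with hq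
  set N := p ^ n with hN
  haveI : NeZero N := ⟨pow_ne_zero n hp.out.ne_zero⟩
  have hN0 : N ≠ 0 := NeZero.ne N
  set ζ := Complex.exp (2 * Real.pi * Complex.I / N) with hζdef
  have hζ : IsPrimitiveRoot ζ N := Complex.isPrimitiveRoot_exp N hN0
  have hcomm : ∀ c : C, y * (c : G) = (c : G) * y := fun c =>
    (Subgroup.mem_centralizer_singleton_iff.1 (hC.le c.2)).symm
  let yC : C := ⟨y, hC.ge (Subgroup.mem_centralizer_singleton_iff.2 rfl)⟩
  have hyC : orderOf yC = N := by rw [← Subgroup.orderOf_coe]; exact hy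
  -- eigenvalue exponents
  have he : ∀ ψ : Cfsg.IrrCharacter C, ∃ i : ℕ, ∀ c : C,
      (ψ : C → ℂ) (yC * c) = ζ ^ i * (ψ : C → ℂ) c := by
    intro ψ
    obtain ⟨ω, hω, -⟩ := H81.exists_centralHom (Subgroup.zpowers yC)
      (by
        rw [Subgroup.zpowers_le, Subgroup.mem_center_iff]
        exact fun c => Subtype.ext (hcomm c).symm) ψ.2
    have hpow : ω ⟨yC, Subgroup.mem_zpowers yC⟩ ^ N = 1 := by
      rw [← map_pow, ← map_one ω]
      congr 1
      refine Subtype.ext ?_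
      rw [SubmonoidClass.coe_pow, OneMemClass.coe_one, ← hyC, pow_orderOf_eq_one]
    obtain ⟨i, -, hi⟩ := hζ.eq_pow_of_pow_eq_one hpow
    exact ⟨i, fun c => by rw [hi]; exact hω ⟨yC, Subgroup.mem_zpowers yC⟩ c⟩
  choose e he using he
  set θ : Cfsg.IrrCharacter G → C → ℂ := fun χ c => (χ : G → ℂ) (y * (c : G)) with hθ
  have hθsum : ∀ χ (c : C), θ χ c =
      ∑ ψ : Cfsg.IrrCharacter C, ((mult χ ψ : ℂ) * ζ ^ e ψ) * (ψ : C → ℂ) c := by
    intro χ c
    simp only [hθ]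
    rw [show y * (c : G) = ((yC * c : C) : G) from rfl, restrict_eq_sum]
    exact Finset.sum_congr rfl fun ψ _ => by rw [he]; ring
  set bf := Finset.univ.filter (fun ψ : Cfsg.IrrCharacter C => ψ ∈ b) with hbf
  have memb : ∀ {ψ}, ψ ∈ bf → ψ ∈ b := fun h => (Finset.mem_filter.1 h).2
  set φ : Cfsg.IrrCharacter G → C → ℂ := fun χ c =>
    ∑ ψ ∈ bf, ((mult χ ψ : ℂ) * ζ ^ e ψ) * (ψ : C → ℂ) c with hφ
  have hblock : ∀ χ, Cfsg.blockPart b (θ χ) = φ χ := by
    intro χ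
    funext c
    simp only [hφ, hbf]
    rw [Cfsg.blockPart, Subsingleton.elim (Fintype.ofFinite C) ‹Fintype C›,
      BlockBasic.finsum_mem_eq_sum_ite, Finset.sum_filter]
    refine Finset.sum_congr rfl fun ψ _ => ?_
    have h1 : θ χ = ∑ ψ : Cfsg.IrrCharacter C, ((mult χ ψ : ℂ) * ζ ^ e ψ) • (ψ : C → ℂ) :=
      funext fun c => by simp [hθsum]
    rw [h1, CharBasic.classInner_sum_irr]
  have hout : ∀ χ, χ ∉ B → ∀ c : C, ¬ p ∣ orderOf c → φ χ c = 0 := by
    intro χ hχ c hc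
    rw [← hblock]
    simp only [hθ]
    clear_value φ
    subst hC
    refine Cores.second_main hM hy (BlockBasic.isPBlock_blockOf M χ) (BlockBasic.self_mem_blockOf hM χ)
      hb (fun h => hχ ?_) c hc
    rw [BlockBasic.isInducedBlock_unique hM hind h]
    exact BlockBasic.self_mem_blockOf hM χ
  set R := Finset.univ.filter (fun c : C => ¬ p ∣ orderOf c) with hR
  have memR : ∀ {c}, c ∈ R → ¬ p ∣ orderOf c := fun h => (Finset.mem_filter.1 h).2
  -- orthogonality of the columns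
  set Bf := Finset.univ.filter (fun χ : Cfsg.IrrCharacter G => χ ∈ B) with hBf
  have hkey : ∀ s ∈ R, ∀ t ∈ R, ∑ χ ∈ Bf, conj (φ χ s) * φ χ t =
      ∑ ψ ∈ bf, conj ((ψ : C → ℂ) s) * (ψ : C → ℂ) t := by
    intro s hs t ht
    have hall : ∑ χ ∈ Bf, conj (φ χ s) * φ χ t =
        ∑ χ : Cfsg.IrrCharacter G, conj (φ χ s) * φ χ t := by
      refine Finset.sum_subset (Finset.subset_univ _) fun χ _ hχ => ?_
      rw [hout χ (fun h => hχ (Finset.mem_filter.2 ⟨Finset.mem_univ _, h⟩)) t (memR ht), mul_zero]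
    rw [hall]
    set A := fun c : C => if p ∣ orderOf c then 0 else BlockBasic.blockKernel b s c
    set A' := fun c : C => if p ∣ orderOf c then 0 else BlockBasic.blockKernel b t c
    have hrhs : ∑ ψ ∈ bf, conj ((ψ : C → ℂ) s) * (ψ : C → ℂ) t =
        ∑ ψ : Cfsg.IrrCharacter C, conj (Cfsg.blockPart b (ψ : C → ℂ) s) *
          Cfsg.blockPart b (ψ : C → ℂ) t := by
      rw [hbf, Finset.sum_filter]
      refine Finset.sum_congr rfl fun ψ _ => ?_
      rw [S4683.blockPart_irr, S4683.blockPart_irr]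
      split_ifs <;> simp
    rw [hrhs]
    simp only [← hblock, S4683.blockPart_regular hM hb _ (memR hs),
      S4683.blockPart_regular hM hb _ (memR ht), map_mul, map_sum, map_inv₀, Complex.conj_natCast]
    refine (S4683.sum_lin_mul (fun c => conj (A c)) A' (fun χ c => conj (θ χ c)) θ).trans
      (Eq.trans ?_ (S4683.sum_lin_mul (fun c => conj (A c)) A'
        (fun (ψ : Cfsg.IrrCharacter C) c => conj ((ψ : C → ℂ) c)) (fun ψ => (ψ : C → ℂ))).symm)
    congr 1
    refine Finset.sum_congr rfl fun c _ => Finset.sum_congr rfl fun d _ => ?_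
    by_cases hc : p ∣ orderOf c
    · simp [A, hc]
    by_cases hd : p ∣ orderOf d
    · simp [A', hd]
    congr 1
    simp only [hθ, mul_comm (conj _)]
    rw [CharBasic.second_orthogonality_count, CharBasic.second_orthogonality_count]
    congr 1
    have hpp : ∀ z : C, ¬ p ∣ orderOf z → BlockBasic.pPart (p := p) (y * (z : G)) = y :=
      fun z hz => BlockBasic.pPart_mul_of (hcomm z) ⟨n, hy⟩ (by rwa [Subgroup.orderOf_coe])
    have hcent : ∀ x : G, x * (y * (c : G)) * x⁻¹ = y * (d : G) → x * y = y * x := by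
      intro x hx
      have h := BlockBasic.pPart_conj (p := p) (y * (c : G)) x
      rw [hx, hpp c hc, hpp d hd] at h
      exact (mul_inv_eq_iff_eq_mul.1 h.symm)
    refine Nat.card_congr
      { toFun := fun x => ⟨⟨x.1, hC.ge (Subgroup.mem_centralizer_singleton_iff.2 (hcent x.1 x.2))⟩, ?_⟩
        invFun := fun x => ⟨(x.1 : G), ?_⟩
        left_inv := fun x => rfl
        right_inv := fun x => rfl }
    · refine Subtype.ext ?_
      show x.1 * (c : G) * x.1⁻¹ = (d : G)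
      have h2 := x.2
      rw [← mul_assoc x.1 y, hcent x.1 x.2, mul_assoc y, mul_assoc y] at h2
      exact mul_left_cancel h2
    · have h1 : (x.1 : G) * (c : G) * (x.1 : G)⁻¹ = (d : G) := congrArg Subtype.val x.2
      rw [← mul_assoc (x.1 : G) y, ← hcomm x.1, mul_assoc y, mul_assoc y, h1]
  -- the matrix
  set r : ℂ := (p : ℂ) ^ q * (Nat.card C : ℂ)⁻¹ with hr
  have hentry : ∀ ψ ∈ bf, ∀ ψ', (entry p b ψ ψ' : ℂ) =
      r * ∑ s ∈ R, (ψ : C → ℂ) s * conj ((ψ' : C → ℂ) s) := by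
    intro ψ hψ ψ'
    rw [entry_spec hM hb (memb hψ), regInner, CharBasic.classInner_def, hr, hR, Finset.sum_filter,
      mul_assoc]
    congr 2
    refine Finset.sum_congr rfl fun s _ => ?_
    by_cases hs : p ∣ orderOf s
    · rw [pRegularPart_eq_zero _ hs, zero_mul, if_neg (fun h => h hs)]
    · rw [pRegularPart_eq_self _ hs, if_pos hs]
  set P : Cfsg.IrrCharacter G → Cfsg.IrrCharacter G → ℤ[X] := contribPoly p N b e with hP
  have hPη : ∀ η : ℂ, η ^ N = 1 → ∀ χ χ', aeval η (P χ χ') =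
      ∑ ψ ∈ bf, ∑ ψ' ∈ bf, ((mult χ ψ : ℂ) * η ^ e ψ) * conj ((mult χ' ψ' : ℂ) * η ^ e ψ') *
        (entry p b ψ ψ' : ℂ) := by
    intro η hη χ χ'
    simp only [hP, contribPoly, contribCoeff, map_sum, map_mul, aeval_C, map_pow, aeval_X]
    refine Finset.sum_congr rfl fun ψ _ => Finset.sum_congr rfl fun ψ' _ => ?_
    rw [conj_eq_pow_pred hη hN0, ← pow_mul, pow_add]
    simp only [map_mul, eq_intCast, Int.cast_mul, Int.cast_natCast, Complex.conj_natCast]
    ring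
  have hPsymm : ∀ η : ℂ, η ^ N = 1 → ∀ χ χ', aeval η (P χ' χ) = conj (aeval η (P χ χ')) := by
    intro η hη χ χ'
    simp only [hPη η hη, map_sum, map_mul, Complex.conj_conj, Complex.conj_natCast, map_intCast]
    rw [Finset.sum_comm]
    refine Finset.sum_congr rfl fun ψ hψ => Finset.sum_congr rfl fun ψ' hψ' => ?_
    rw [entry_symm hM hb (memb hψ') (memb hψ)]
    ring
  have hPfun : ∀ χ χ', aeval ζ (P χ χ') = r * ∑ s ∈ R, φ χ s * conj (φ χ' s) := by
    intro χ χ'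
    rw [hPη ζ hζ.pow_eq_one]
    have hexp : ∀ s, φ χ s * conj (φ χ' s) = ∑ ψ ∈ bf, ∑ ψ' ∈ bf,
        (((mult χ ψ : ℂ) * ζ ^ e ψ) * (ψ : C → ℂ) s) *
          conj (((mult χ' ψ' : ℂ) * ζ ^ e ψ') * (ψ' : C → ℂ) s) := fun s => by
      simp only [hφ, map_sum, Finset.sum_mul_sum]
    simp only [hexp, Finset.mul_sum]
    symm
    rw [Finset.sum_comm]
    refine Finset.sum_congr rfl fun ψ hψ => ?_
    rw [Finset.sum_comm]
    refine Finset.sum_congr rfl fun ψ' _ => ?_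
    rw [hentry ψ hψ ψ', Finset.mul_sum, Finset.mul_sum]
    refine Finset.sum_congr rfl fun s _ => ?_
    simp only [map_mul]
    ring
  have htrace : ∑ χ ∈ Bf, aeval ζ (P χ χ) = (p : ℂ) ^ q * (Cfsg.blockRank p b : ℂ) := by
    simp only [hPfun, ← Finset.mul_sum]
    rw [Finset.sum_comm]
    have hC0 : (Nat.card C : ℂ) ≠ 0 := Nat.cast_ne_zero.2 Nat.card_pos.ne'
    have h := S4667.result p M hM b hb
    rw [show (∑ s ∈ R, ∑ χ ∈ Bf, φ χ s * conj (φ χ s)) = (Nat.card C : ℂ) * (Cfsg.blockRank p b : ℂ) from ?_]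
    · rw [hr]; field_simp
    rw [h, hR, Finset.sum_filter]
    refine Finset.sum_congr rfl fun s _ => ?_
    rw [BlockBasic.finsum_mem_eq_sum_ite]
    by_cases hs : p ∣ orderOf s
    · simp [pRegularPart_eq_zero _ hs, hs]
    · rw [if_pos hs, Finset.sum_congr rfl fun χ _ => mul_comm (φ χ s) (conj (φ χ s)),
        hkey s (Finset.mem_filter.2 ⟨Finset.mem_univ _, hs⟩) s
          (Finset.mem_filter.2 ⟨Finset.mem_univ _, hs⟩), hbf, Finset.sum_filter]
      refine Finset.sum_congr rfl fun ψ _ => ?_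
      rw [pRegularPart_eq_self _ hs]
      split_ifs
      · rw [BlockBasic.conj_apply_eq_inv]; ring
      · rfl
  have hproj : ∀ χ, ∑ χ' ∈ Bf, aeval ζ (P χ χ') * aeval ζ (P χ' χ) =
      (p : ℂ) ^ q * aeval ζ (P χ χ) := by
    intro χ
    have hv : ∀ ψ', ψ' ∈ bf → r * ∑ s ∈ R, φ χ s * conj ((ψ' : C → ℂ) s) =
        ∑ ψ ∈ bf, ((mult χ ψ : ℂ) * ζ ^ e ψ) * (entry p b ψ ψ' : ℂ) := by
      intro ψ' _
      simp only [hφ, Finset.sum_mul, Finset.mul_sum]
      rw [Finset.sum_comm]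
      refine Finset.sum_congr rfl fun ψ hψ => ?_
      rw [hentry ψ hψ ψ', Finset.mul_sum, Finset.mul_sum]
      exact Finset.sum_congr rfl fun s _ => by ring
    calc ∑ χ' ∈ Bf, aeval ζ (P χ χ') * aeval ζ (P χ' χ)
        = r * r * ∑ s ∈ R, ∑ t ∈ R, φ χ s * conj (φ χ t) *
            ∑ χ' ∈ Bf, conj (φ χ' s) * φ χ' t := by
          simp only [hPfun, Finset.mul_sum, Finset.sum_mul]
          rw [Finset.sum_comm]
          refine Eq.trans ?_ Finset.sum_comm
          refine Finset.sum_congr rfl fun t _ => ?_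
          rw [Finset.sum_comm]
          exact Finset.sum_congr rfl fun s _ => Finset.sum_congr rfl fun χ' _ => by ring
      _ = r * r * ∑ s ∈ R, ∑ t ∈ R, φ χ s * conj (φ χ t) *
            ∑ ψ ∈ bf, conj ((ψ : C → ℂ) s) * (ψ : C → ℂ) t := by
          congr 1
          exact Finset.sum_congr rfl fun s hs => Finset.sum_congr rfl fun t ht => by
            rw [hkey s hs t ht]
      _ = ∑ ψ ∈ bf, (r * ∑ s ∈ R, φ χ s * conj ((ψ : C → ℂ) s)) *
            conj (r * ∑ s ∈ R, φ χ s * conj ((ψ : C → ℂ) s)) := by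
          have hrc : conj r = r := by simp [hr]
          simp only [map_mul, map_sum, hrc, Complex.conj_conj, Finset.mul_sum, Finset.sum_mul]
          symm
          rw [Finset.sum_comm]
          refine Eq.trans ?_ Finset.sum_comm
          refine Finset.sum_congr rfl fun t _ => ?_
          rw [Finset.sum_comm]
          exact Finset.sum_congr rfl fun s _ => Finset.sum_congr rfl fun ψ _ => by ring
      _ = ∑ ψ' ∈ bf, (∑ ψ ∈ bf, ((mult χ ψ : ℂ) * ζ ^ e ψ) * (entry p b ψ ψ' : ℂ)) *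
            conj (∑ ψ ∈ bf, ((mult χ ψ : ℂ) * ζ ^ e ψ) * (entry p b ψ ψ' : ℂ)) :=
          Finset.sum_congr rfl fun ψ hψ => by rw [hv ψ hψ]
      _ = (p : ℂ) ^ q * aeval ζ (P χ χ) := by
          rw [hPη ζ hζ.pow_eq_one]
          simp only [map_sum, map_mul, map_intCast, Finset.sum_mul_sum]
          rw [Finset.sum_comm, Finset.mul_sum]
          refine Finset.sum_congr rfl fun ψ hψ => ?_
          rw [Finset.mul_sum]
          rw [Finset.sum_comm]
          refine Finset.sum_congr rfl fun ψ' hψ' => ?_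
          have hs : ∑ κ ∈ bf, entry p b ψ κ * entry p b κ ψ' = (p : ℤ) ^ q * entry p b ψ ψ' := by
            rw [← sum_entry_mul hM hb (memb hψ) (memb hψ')]
            refine Finset.sum_subset (Finset.subset_univ _) fun κ _ hκ => ?_
            rw [entry_eq_zero hM hb (memb hψ) (fun h => hκ (Finset.mem_filter.2 ⟨Finset.mem_univ _, h⟩)),
              zero_mul]
          have hs' : ∑ κ ∈ bf, (entry p b ψ κ : ℂ) * (entry p b κ ψ' : ℂ) =
              (p : ℂ) ^ q * (entry p b ψ ψ' : ℂ) := by exact_mod_cast hs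
          calc ∑ κ ∈ bf, ((mult χ ψ : ℂ) * ζ ^ e ψ) * (entry p b ψ κ : ℂ) *
                (conj (mult χ ψ' : ℂ) * conj (ζ ^ e ψ') * (entry p b ψ' κ : ℂ))
              = ((mult χ ψ : ℂ) * ζ ^ e ψ) * (conj (mult χ ψ' : ℂ) * conj (ζ ^ e ψ')) *
                  ∑ κ ∈ bf, (entry p b ψ κ : ℂ) * (entry p b κ ψ' : ℂ) := by
                rw [Finset.mul_sum]
                refine Finset.sum_congr rfl fun κ hκ => ?_
                rw [entry_symm hM hb (memb hψ') (memb hκ)]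
                ring
            _ = _ := by rw [hs', map_pow]; ring
  -- nonvanishing at height zero
  obtain ⟨ψ₀, hψ₀, h₀⟩ := exists_height_zero hM hb
  set I : Cfsg.IrrCharacter G → ℤ := fun χ => ∑ ψ ∈ bf, (mult χ ψ : ℤ) * entry p b ψ ψ₀ with hI
  have hIne : ∀ χ ∈ B, Cfsg.blockHeight p B (χ : G → ℂ) = 0 → ¬ (p : ℤ) ∣ I χ := by
    intro χ hχ hh hdvd
    have hne := not_dvd_entry_of_height_zero hM hB hχ hh hχ
    rw [dvd_entry_succ_iff hM hB hχ hχ hχ] at hne
    apply hne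
    have h1 := Cores.omega_resElt_congr (H := C) hM (CharBasic.IsIrr.isClassFunction χ.2)
      (hind.2.2 ψ₀ hψ₀ χ hχ) (isCentralElt_regElt χ) (isIntElt_regElt hM χ)
    have hres : BlockBasic.omega (ψ₀ : C → ℂ) (Cores.resElt C (regElt p χ)) =
        ∑ ψ ∈ bf, (mult χ ψ : ℂ) * BlockBasic.omega (ψ₀ : C → ℂ) (regElt p ψ) := by
      have : ∑ ψ ∈ bf, (mult χ ψ : ℂ) * BlockBasic.omega (ψ₀ : C → ℂ) (regElt p ψ) =
          ∑ ψ : Cfsg.IrrCharacter C, (mult χ ψ : ℂ) * BlockBasic.omega (ψ₀ : C → ℂ) (regElt p ψ) :=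
        Finset.sum_subset (Finset.subset_univ _) fun κ _ hκ => by
          rw [omega_regElt_eq_zero hM hb hψ₀
            (fun h => hκ (Finset.mem_filter.2 ⟨Finset.mem_univ _, h⟩)), mul_zero]
      rw [this]
      simp only [BlockBasic.omega, BlockBasic.chiLin, Cores.coeff_resElt, regElt,
        BlockBasic.coeff_ofFun, ← mul_div_assoc, ← Finset.sum_div, Finset.mul_sum]
      congr 1
      rw [Finset.sum_comm]
      refine Finset.sum_congr rfl fun c _ => ?_
      rw [Subgroup.orderOf_coe]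
      split_ifs
      · simp
      · rw [restrict_eq_sum, map_sum, Finset.sum_mul]
        exact Finset.sum_congr rfl fun ψ _ => by rw [map_mul, Complex.conj_natCast]; ring
    rw [hres] at h1
    set U := Nat.card C / p ^ (Nat.card C).factorization p
    set u₀ := Cfsg.charDegree (ψ₀ : C → ℂ) / p ^ (Cfsg.charDegree (ψ₀ : C → ℂ)).factorization p
    have hu0 : ¬ p ∣ u₀ := Nat.not_dvd_ordCompl hp.out (BlockBasic.charDegree_pos ψ₀).ne'
    have hUI : (U : ℂ) * (I χ : ℂ) =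
        (u₀ : ℂ) * ∑ ψ ∈ bf, (mult χ ψ : ℂ) * BlockBasic.omega (ψ₀ : C → ℂ) (regElt p ψ) := by
      simp only [hI, Int.cast_sum, Int.cast_mul, Int.cast_natCast, Finset.mul_sum]
      refine Finset.sum_congr rfl fun ψ hψ => ?_
      linear_combination (mult χ ψ : ℂ) * card_part_mul_entry hM hb (memb hψ) hψ₀ h₀
    have h2 := BlockBasic.memLocalIdeal_mul hM (BlockBasic.memLocalRing_natCast hM U)
      ((BlockBasic.memLocalIdeal_intCast_iff hM (I χ)).2 hdvd)
    rw [hUI] at h2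
    have hloc : Cfsg.MemLocalRing M
        (∑ ψ ∈ bf, (mult χ ψ : ℂ) * BlockBasic.omega (ψ₀ : C → ℂ) (regElt p ψ)) :=
      (BlockBasic.locRing hM).sum_mem fun ψ _ => BlockBasic.memLocalRing_mul hM
        (BlockBasic.memLocalRing_natCast hM _)
        (BlockBasic.memLocalRing_omega hM ψ₀.2 (isCentralElt_regElt ψ) (isIntElt_regElt hM ψ))
    have h3 := ((BlockBasic.memLocalIdeal_mul_iff hM (BlockBasic.memLocalRing_natCast hM u₀) hloc).1
      h2).resolve_left fun h => hu0 ((BlockBasic.memLocalIdeal_natCast_iff hM u₀).1 h)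
    simpa using BlockBasic.memLocalIdeal_sub hM h3 h1
  have hcongr : ∀ χ χ', Cfsg.MemLocalIdeal M
      (aeval ζ (P χ χ') - (contribSum p b χ χ' : ℂ)) := by
    intro χ χ'
    simp only [hP, contribPoly, contribSum, contribCoeff, map_sum, map_mul, aeval_C, map_pow,
      aeval_X, Int.cast_sum, ← Finset.sum_sub_distrib]
    refine BlockBasic.memLocalIdeal_sum hM _ _ fun ψ _ => BlockBasic.memLocalIdeal_sum hM _ _ fun ψ' _ => ?_
    have h1 : Cfsg.MemLocalIdeal M (ζ ^ (e ψ + (N - 1) * e ψ') - 1) :=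
      H82.memLocalIdeal_sub_one_of_pow_eq_one hM (k := n) (by
        rw [← hN, ← pow_mul, mul_comm, pow_mul, hζ.pow_eq_one, one_pow])
    have h2 := BlockBasic.memLocalIdeal_mul hM
      (x := (((mult χ ψ : ℤ) * (mult χ' ψ' : ℤ) * entry p b ψ ψ' : ℤ) : ℂ))
      (intCast_mem (BlockBasic.locRing hM) _) h1
    convert h2 using 1
    push_cast [eq_intCast]
    ring
  have hval : ∀ χ χ', aeval ζ (P χ χ') = r * ∑ s ∈ R, (χ : G → ℂ) (y * (s : G)) *
      conj (∑ ψ ∈ bf, (mult χ' ψ : ℂ) * ζ ^ e ψ * (ψ : C → ℂ) s) := by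
    intro χ χ'
    rw [hPfun, Finset.mul_sum, Finset.mul_sum]
    show ∑ s ∈ R, r * (φ χ s * conj (φ χ' s)) = ∑ s ∈ R, r * (θ χ s * conj (φ χ' s))
    simp only [hθsum, hφ, map_sum, Finset.mul_sum, Finset.sum_mul]
    rw [Finset.sum_comm]
    conv_rhs => rw [Finset.sum_comm]
    refine Finset.sum_congr rfl fun ψ' hψ' => ?_
    rw [Finset.sum_comm]
    conv_rhs => rw [Finset.sum_comm]
    refine Finset.sum_subset (Finset.subset_univ _) fun ψ _ hψ => ?_
    have h0 : r * ∑ s ∈ R, (ψ : C → ℂ) s * conj ((ψ' : C → ℂ) s) = 0 := by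
      have h := regInner_eq_zero hM hb (memb hψ')
        (fun h => hψ (Finset.mem_filter.2 ⟨Finset.mem_univ _, h⟩) : ψ ∉ b)
      rw [regInner_symm] at h
      have h2 := regInner_eq_sum (p := p) ψ ψ'
      rw [h, mul_zero] at h2
      rw [hR, Finset.sum_filter, show (∑ s : C, if ¬ p ∣ orderOf s then
          (ψ : C → ℂ) s * conj ((ψ' : C → ℂ) s) else 0) = 0 from Eq.trans
            (Finset.sum_congr rfl fun s _ => by split_ifs <;> rfl) h2.symm, mul_zero]
    rw [← mul_zero ((mult χ ψ : ℂ) * ζ ^ e ψ * conj ((mult χ' ψ' : ℂ) * ζ ^ e ψ')), ← h0,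
      Finset.mul_sum, Finset.mul_sum]
    refine Finset.sum_congr rfl fun s _ => ?_
    simp only [map_mul]
    ring
  have hcol : ∀ κ ∈ b, ∀ κ' ∈ b, ∑ χ ∈ Bf,
      aeval ζ (colPoly p b e χ κ) * conj (aeval ζ (colPoly p b e χ κ')) =
        (p : ℂ) ^ q * (entry p b κ κ' : ℂ) := by
    intro κ hκ κ' hκ'
    have hbmem : ∀ {κ}, κ ∈ b → κ ∈ bf := fun h => Finset.mem_filter.2 ⟨Finset.mem_univ _, h⟩
    have hv : ∀ χ κ, κ ∈ bf → aeval ζ (colPoly p b e χ κ) =
        r * ∑ s ∈ R, φ χ s * conj ((κ : C → ℂ) s) := by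
      intro χ κ _
      simp only [colPoly, map_sum, map_mul, aeval_C, map_pow, aeval_X, eq_intCast, map_intCast, map_natCast, Int.cast_mul,
        Int.cast_natCast, hφ, Finset.sum_mul, Finset.mul_sum, ← hbf]
      rw [Finset.sum_comm]
      refine Finset.sum_congr rfl fun ψ hψ => ?_
      rw [hentry ψ hψ κ, Finset.mul_sum, Finset.mul_sum, Finset.sum_mul]
      exact Finset.sum_congr rfl fun s _ => by ring
    have hrc : conj r = r := by simp [hr]
    calc ∑ χ ∈ Bf, aeval ζ (colPoly p b e χ κ) * conj (aeval ζ (colPoly p b e χ κ'))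
        = r * r * ∑ s ∈ R, ∑ t ∈ R, conj ((κ : C → ℂ) s) * (κ' : C → ℂ) t *
            ∑ χ ∈ Bf, conj (φ χ t) * φ χ s := by
          simp only [hv _ _ (hbmem hκ), hv _ _ (hbmem hκ'), map_mul, map_sum, hrc,
            Complex.conj_conj, Finset.mul_sum, Finset.sum_mul]
          rw [Finset.sum_comm]
          refine Eq.trans ?_ Finset.sum_comm
          refine Finset.sum_congr rfl fun t _ => ?_
          rw [Finset.sum_comm]
          exact Finset.sum_congr rfl fun s _ => Finset.sum_congr rfl fun χ _ => by ring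
      _ = r * r * ∑ s ∈ R, ∑ t ∈ R, conj ((κ : C → ℂ) s) * (κ' : C → ℂ) t *
            ∑ ψ ∈ bf, conj ((ψ : C → ℂ) t) * (ψ : C → ℂ) s := by
          congr 1
          exact Finset.sum_congr rfl fun s hs => Finset.sum_congr rfl fun t ht => by
            rw [hkey t ht s hs]
      _ = ∑ ψ ∈ bf, (entry p b ψ κ : ℂ) * conj (entry p b ψ κ' : ℂ) := by
          rw [Finset.sum_congr rfl (s₂ := bf) (g := fun ψ : Cfsg.IrrCharacter C =>
            (r * ∑ s ∈ R, (ψ : C → ℂ) s * conj ((κ : C → ℂ) s)) *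
              conj (r * ∑ s ∈ R, (ψ : C → ℂ) s * conj ((κ' : C → ℂ) s)))
            (f := fun ψ => (entry p b ψ κ : ℂ) * conj (entry p b ψ κ' : ℂ))
            fun ψ hψ => by rw [hentry ψ hψ κ, hentry ψ hψ κ']]
          simp only [map_mul, map_sum, hrc, Complex.conj_conj, Finset.mul_sum, Finset.sum_mul]
          symm
          rw [Finset.sum_comm]
          refine Eq.trans ?_ Finset.sum_comm
          refine Finset.sum_congr rfl fun t _ => ?_
          rw [Finset.sum_comm]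
          exact Finset.sum_congr rfl fun s _ => Finset.sum_congr rfl fun ψ _ => by ring
      _ = (p : ℂ) ^ q * (entry p b κ κ' : ℂ) := by
          have hs : ∑ ψ ∈ bf, entry p b κ ψ * entry p b ψ κ' = (p : ℤ) ^ q * entry p b κ κ' := by
            rw [← sum_entry_mul hM hb hκ hκ']
            refine Finset.sum_subset (Finset.subset_univ _) fun ψ _ hψ => ?_
            rw [entry_eq_zero hM hb hκ (fun h => hψ (hbmem h)), zero_mul]
          have hs' : ∑ ψ ∈ bf, (entry p b κ ψ : ℂ) * (entry p b ψ κ' : ℂ) =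
              (p : ℂ) ^ q * (entry p b κ κ' : ℂ) := by exact_mod_cast hs
          rw [← hs']
          refine Finset.sum_congr rfl fun ψ hψ => ?_
          rw [map_intCast, entry_symm hM hb (memb hψ) hκ]
  refine ⟨ζ, e, hζ, fun ψ _ c => he ψ c, hval, hcol, hPsymm, hproj, htrace, hcongr, fun χ hχ hh χ' hχ' hh' hpT => ?_⟩
  set T : ℤ := contribSum p b χ χ' with hTdef
  have hII : (p : ℤ) ∣ T * entry p b ψ₀ ψ₀ - I χ * I χ' := by
    have hIm : I χ * I χ' = ∑ ψ ∈ bf, ∑ ψ' ∈ bf,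
        ((mult χ ψ : ℤ) * entry p b ψ ψ₀) * ((mult χ' ψ' : ℤ) * entry p b ψ' ψ₀) :=
      Finset.sum_mul_sum _ _ _ _
    rw [hIm]
    have hTm : T * entry p b ψ₀ ψ₀ = ∑ ψ ∈ bf, ∑ ψ' ∈ bf,
        contribCoeff p b χ χ' ψ ψ' * entry p b ψ₀ ψ₀ := by
      simp only [hTdef, contribSum, Finset.sum_mul]
      congr!
    rw [hTm]
    simp only [contribCoeff, ← Finset.sum_sub_distrib]
    refine Finset.dvd_sum fun ψ hψ => Finset.dvd_sum fun ψ' hψ' => ?_
    have := (entry_mul_congr hM hb hψ₀ h₀ (memb hψ) (memb hψ')).mul_left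
      ((mult χ ψ : ℤ) * (mult χ' ψ' : ℤ))
    convert this using 1
    ring
  have hprime : Prime (p : ℤ) := Nat.prime_iff_prime_int.1 hp.out
  have h4 : (p : ℤ) ∣ I χ * I χ' := by
    have := dvd_sub (hpT.mul_right (entry p b ψ₀ ψ₀)) hII
    simpa using this
  exact (hprime.dvd_or_dvd h4).elim (hIne χ hχ hh) (hIne χ' hχ' hh')

open scoped Classical in
/-- The properties of the contribution matrix of a subsection, with its expression by characters. -/
theorem exists_contrib_full (hM : Cfsg.IsPModular p M) {B : Set (Cfsg.IrrCharacter G)}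
    {y : G} {n : ℕ} (hy : orderOf y = p ^ n)
    (C : Subgroup G) [Fintype C] (hC : C = Subgroup.centralizer ({y} : Set G))
    {b : Set (Cfsg.IrrCharacter C)} (hind : Cfsg.IsInducedBlock M C b B) :
    ∃ (ζ : ℂ) (e : Cfsg.IrrCharacter C → ℕ), IsPrimitiveRoot ζ (p ^ n) ∧
      (∀ χ χ', aeval ζ (contribPoly p (p ^ n) b e χ χ') =
        (p : ℂ) ^ Cfsg.blockDefect p b * (Nat.card C : ℂ)⁻¹ *
          ∑ s ∈ Finset.univ.filter (fun c : C => ¬ p ∣ orderOf c), (χ : G → ℂ) (y * (s : G)) *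
            conj (∑ ψ ∈ Finset.univ.filter (fun ψ : Cfsg.IrrCharacter C => ψ ∈ b),
              (mult χ' ψ : ℂ) * ζ ^ e ψ * (ψ : C → ℂ) s)) ∧
      (∀ κ ∈ b, ∀ κ' ∈ b, ∑ χ ∈ Finset.univ.filter (fun χ : Cfsg.IrrCharacter G => χ ∈ B),
          aeval ζ (colPoly p b e χ κ) * conj (aeval ζ (colPoly p b e χ κ')) =
        (p : ℂ) ^ Cfsg.blockDefect p b * (entry p b κ κ' : ℂ)) ∧
      (∀ η : ℂ, η ^ p ^ n = 1 → ∀ χ χ', aeval η (contribPoly p (p ^ n) b e χ' χ) =
        conj (aeval η (contribPoly p (p ^ n) b e χ χ'))) ∧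
      (∀ χ, ∑ χ' ∈ Finset.univ.filter (fun χ : Cfsg.IrrCharacter G => χ ∈ B),
          aeval ζ (contribPoly p (p ^ n) b e χ χ') * aeval ζ (contribPoly p (p ^ n) b e χ' χ) =
        (p : ℂ) ^ Cfsg.blockDefect p b * aeval ζ (contribPoly p (p ^ n) b e χ χ)) ∧
      (∑ χ ∈ Finset.univ.filter (fun χ : Cfsg.IrrCharacter G => χ ∈ B),
          aeval ζ (contribPoly p (p ^ n) b e χ χ) =
        (p : ℂ) ^ Cfsg.blockDefect p b * (Cfsg.blockRank p b : ℂ)) ∧
      (∀ χ χ', Cfsg.MemLocalIdeal M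
        (aeval ζ (contribPoly p (p ^ n) b e χ χ') - (contribSum p b χ χ' : ℂ))) ∧
      ∀ χ ∈ B, Cfsg.blockHeight p B (χ : G → ℂ) = 0 → ∀ χ' ∈ B,
        Cfsg.blockHeight p B (χ' : G → ℂ) = 0 → ¬ (p : ℤ) ∣ contribSum p b χ χ' := by
  obtain ⟨ζ, e, hζ, -, h⟩ := exists_contrib_full_action hM hy C hC hind
  exact ⟨ζ, e, hζ, h⟩

open scoped Classical in
/-- The properties of the contribution matrix of a subsection. -/
theorem exists_contrib (hM : Cfsg.IsPModular p M) {B : Set (Cfsg.IrrCharacter G)}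
    {y : G} {n : ℕ} (hy : orderOf y = p ^ n)
    (C : Subgroup G) [Fintype C] (hC : C = Subgroup.centralizer ({y} : Set G))
    {b : Set (Cfsg.IrrCharacter C)} (hind : Cfsg.IsInducedBlock M C b B) :
    ∃ (ζ : ℂ) (e : Cfsg.IrrCharacter C → ℕ), IsPrimitiveRoot ζ (p ^ n) ∧
      (∀ η : ℂ, η ^ p ^ n = 1 → ∀ χ χ', aeval η (contribPoly p (p ^ n) b e χ' χ) =
        conj (aeval η (contribPoly p (p ^ n) b e χ χ'))) ∧
      (∀ χ, ∑ χ' ∈ Finset.univ.filter (fun χ : Cfsg.IrrCharacter G => χ ∈ B),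
          aeval ζ (contribPoly p (p ^ n) b e χ χ') * aeval ζ (contribPoly p (p ^ n) b e χ' χ) =
        (p : ℂ) ^ Cfsg.blockDefect p b * aeval ζ (contribPoly p (p ^ n) b e χ χ)) ∧
      (∑ χ ∈ Finset.univ.filter (fun χ : Cfsg.IrrCharacter G => χ ∈ B),
          aeval ζ (contribPoly p (p ^ n) b e χ χ) =
        (p : ℂ) ^ Cfsg.blockDefect p b * (Cfsg.blockRank p b : ℂ)) ∧
      (∀ χ χ', Cfsg.MemLocalIdeal M
        (aeval ζ (contribPoly p (p ^ n) b e χ χ') - (contribSum p b χ χ' : ℂ))) ∧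
      ∀ χ ∈ B, Cfsg.blockHeight p B (χ : G → ℂ) = 0 → ∀ χ' ∈ B,
        Cfsg.blockHeight p B (χ' : G → ℂ) = 0 → ¬ (p : ℤ) ∣ contribSum p b χ χ' := by
  obtain ⟨ζ, e, hζ, -, -, h⟩ := exists_contrib_full hM hy C hC hind
  exact ⟨ζ, e, hζ, h⟩

/-- Passing the identities of the contribution matrix to all conjugates. -/
theorem contrib_conjugates {C : Subgroup G} [Fintype C] {b : Set (Cfsg.IrrCharacter C)}
    {N q l : ℕ} [NeZero N] {e : Cfsg.IrrCharacter C → ℕ} {ζ η : ℂ} (hζ : IsPrimitiveRoot ζ N)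
    (hη : IsPrimitiveRoot η N) (Bf : Finset (Cfsg.IrrCharacter G))
    (hsymm : ∀ η : ℂ, η ^ N = 1 → ∀ χ χ', aeval η (contribPoly p N b e χ' χ) =
      conj (aeval η (contribPoly p N b e χ χ')))
    (hproj : ∀ χ, ∑ χ' ∈ Bf,
        aeval ζ (contribPoly p N b e χ χ') * aeval ζ (contribPoly p N b e χ' χ) =
      (p : ℂ) ^ q * aeval ζ (contribPoly p N b e χ χ))
    (htrace : ∑ χ ∈ Bf, aeval ζ (contribPoly p N b e χ χ) = (p : ℂ) ^ q * (l : ℂ)) :
    (∀ χ, ∑ χ' ∈ Bf, ‖aeval η (contribPoly p N b e χ χ')‖ ^ 2 =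
        (p : ℝ) ^ q * (aeval η (contribPoly p N b e χ χ)).re) ∧
      (∑ χ ∈ Bf, (aeval η (contribPoly p N b e χ χ)).re = (p : ℝ) ^ q * (l : ℝ)) ∧
      ∀ χ, 0 ≤ (aeval η (contribPoly p N b e χ χ)).re := by
  set P := contribPoly p N b e
  have h0 : ∀ χ, ∑ χ' ∈ Bf, ‖aeval η (P χ χ')‖ ^ 2 = (p : ℝ) ^ q * (aeval η (P χ χ)).re := by
    intro χ
    have h1 := aeval_eq_zero_transfer
      (∑ χ' ∈ Bf, P χ χ' * P χ' χ - Polynomial.C ((p : ℤ) ^ q) * P χ χ) hζ hη
      (by simp [hproj χ])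
    simp only [map_sub, map_sum, map_mul, aeval_C, map_pow, sub_eq_zero] at h1
    have h2 : ∀ χ', aeval η (P χ χ') * aeval η (P χ' χ) =
        ((‖aeval η (P χ χ')‖ ^ 2 : ℝ) : ℂ) := fun χ' => by
      rw [hsymm η hη.pow_eq_one χ χ', Complex.mul_conj']; push_cast; rfl
    have h3 := congrArg Complex.re h1
    simp only [h2, Complex.re_sum, Complex.ofReal_re] at h3
    rw [h3]
    simp [Complex.mul_re, ← Complex.ofReal_natCast, ← Complex.ofReal_pow]
  refine ⟨h0, ?_, fun χ => ?_⟩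
  · have h1 := aeval_eq_zero_transfer
      (∑ χ ∈ Bf, P χ χ - Polynomial.C ((p : ℤ) ^ q * (l : ℤ))) hζ hη (by simp [htrace])
    simp only [map_sub, map_sum, aeval_C, sub_eq_zero] at h1
    have h3 := congrArg Complex.re h1
    rw [Complex.re_sum] at h3
    rw [h3]
    simp [← Complex.ofReal_natCast, ← Complex.ofReal_pow]
  · have hpq : (0 : ℝ) < (p : ℝ) ^ q := pow_pos (Nat.cast_pos.2 hp.out.pos) q
    exact (mul_nonneg_iff_of_pos_left hpq).1 (h0 χ ▸ Finset.sum_nonneg fun _ _ => sq_nonneg _)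

open scoped Classical in
/-- The number of height zero characters of `B` is bounded by any subsection `(y, b)` of `B`. -/
theorem sq_card_height_zero_le (hM : Cfsg.IsPModular p M) {B : Set (Cfsg.IrrCharacter G)}
    {y : G} {n : ℕ} (hy : orderOf y = p ^ n)
    (C : Subgroup G) [Fintype C] (hC : C = Subgroup.centralizer ({y} : Set G))
    {b : Set (Cfsg.IrrCharacter C)} (hind : Cfsg.IsInducedBlock M C b B) :
    (Finset.univ.filter fun χ : Cfsg.IrrCharacter G =>
        χ ∈ B ∧ Cfsg.blockHeight p B (χ : G → ℂ) = 0).card ^ 2 ≤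
      p ^ (2 * Cfsg.blockDefect p b) * Cfsg.blockRank p b := by
  set q := Cfsg.blockDefect p b with hq
  obtain ⟨ζ, e, hζ, hsymm, hproj, htrace, hcongr, hT⟩ := exists_contrib hM hy C hC hind
  set N := p ^ n with hN
  haveI : NeZero N := ⟨pow_ne_zero n hp.out.ne_zero⟩
  set P := contribPoly p N b e with hP
  set Bf := Finset.univ.filter (fun χ : Cfsg.IrrCharacter G => χ ∈ B)
  have hPne : ∀ χ ∈ B, Cfsg.blockHeight p B (χ : G → ℂ) = 0 → ∀ χ' ∈ B,
      Cfsg.blockHeight p B (χ' : G → ℂ) = 0 → aeval ζ (P χ χ') ≠ 0 := by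
    intro χ hχ hh χ' hχ' hh' h0
    have h1 := hcongr χ χ'
    rw [h0, zero_sub] at h1
    exact hT χ hχ hh χ' hχ' hh' ((BlockBasic.memLocalIdeal_intCast_iff hM _).1
      (by simpa using BlockBasic.memLocalIdeal_neg h1))
  -- averaging over the conjugates
  set K₀ := Finset.univ.filter (fun χ : Cfsg.IrrCharacter G =>
    χ ∈ B ∧ Cfsg.blockHeight p B (χ : G → ℂ) = 0) with hK₀
  have hK₀B : K₀ ⊆ Bf := fun χ hχ =>
    Finset.mem_filter.2 ⟨Finset.mem_univ _, (Finset.mem_filter.1 hχ).2.1⟩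
  set S := primitiveRoots N ℂ with hS
  have hSroot : ∀ η ∈ S, η ^ N = 1 := fun η hη =>
    ((mem_primitiveRoots (NeZero.pos N)).1 hη).pow_eq_one
  have hproj' : ∀ η ∈ S, ∀ χ, ∑ χ' ∈ Bf, ‖aeval η (P χ χ')‖ ^ 2 =
      (p : ℝ) ^ q * (aeval η (P χ χ)).re := fun η hη => (contrib_conjugates hζ
    ((mem_primitiveRoots (NeZero.pos N)).1 hη) Bf hsymm hproj htrace).1
  have htrace' : ∀ η ∈ S, ∑ χ ∈ Bf, (aeval η (P χ χ)).re =
      (p : ℝ) ^ q * (Cfsg.blockRank p b : ℝ) := fun η hη => (contrib_conjugates hζ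
    ((mem_primitiveRoots (NeZero.pos N)).1 hη) Bf hsymm hproj htrace).2.1
  have hdiag : ∀ η ∈ S, ∀ χ, 0 ≤ (aeval η (P χ χ)).re := fun η hη => (contrib_conjugates hζ
    ((mem_primitiveRoots (NeZero.pos N)).1 hη) Bf hsymm hproj htrace).2.2
  have hmain : (K₀.card : ℝ) ^ 2 * S.card ≤
      S.card * ((p : ℝ) ^ (2 * q) * (Cfsg.blockRank p b : ℝ)) := by
    calc (K₀.card : ℝ) ^ 2 * S.card = ∑ χ ∈ K₀, ∑ χ' ∈ K₀, (S.card : ℝ) := by
          simp; ring
      _ ≤ ∑ χ ∈ K₀, ∑ χ' ∈ K₀, ∑ η ∈ S, ‖aeval η (P χ χ')‖ ^ 2 := by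
          refine Finset.sum_le_sum fun χ hχ => Finset.sum_le_sum fun χ' hχ' => ?_
          obtain ⟨-, h1, h2⟩ := Finset.mem_filter.1 hχ
          obtain ⟨-, h1', h2'⟩ := Finset.mem_filter.1 hχ'
          exact card_le_sum_norm_sq_aeval _ hζ (hPne χ h1 h2 χ' h1' h2')
      _ = ∑ η ∈ S, ∑ χ ∈ K₀, ∑ χ' ∈ K₀, ‖aeval η (P χ χ')‖ ^ 2 := by
          rw [Finset.sum_comm (γ := ℂ)]
          exact Finset.sum_congr rfl fun χ _ => Finset.sum_comm
      _ ≤ ∑ η ∈ S, (p : ℝ) ^ q * ∑ χ ∈ Bf, (aeval η (P χ χ)).re := by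
          refine Finset.sum_le_sum fun η hη => ?_
          rw [Finset.mul_sum]
          calc ∑ χ ∈ K₀, ∑ χ' ∈ K₀, ‖aeval η (P χ χ')‖ ^ 2
              ≤ ∑ χ ∈ K₀, ∑ χ' ∈ Bf, ‖aeval η (P χ χ')‖ ^ 2 := Finset.sum_le_sum fun χ _ =>
                Finset.sum_le_sum_of_subset_of_nonneg hK₀B fun _ _ _ => sq_nonneg _
            _ = ∑ χ ∈ K₀, (p : ℝ) ^ q * (aeval η (P χ χ)).re :=
                Finset.sum_congr rfl fun χ _ => hproj' η hη χ
            _ ≤ _ := Finset.sum_le_sum_of_subset_of_nonneg hK₀B fun χ _ _ =>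
                mul_nonneg (pow_nonneg (Nat.cast_nonneg p) q) (hdiag η hη χ)
      _ = S.card * ((p : ℝ) ^ (2 * q) * (Cfsg.blockRank p b : ℝ)) := by
          rw [Finset.sum_congr rfl fun η hη => by rw [htrace' η hη], Finset.sum_const, nsmul_eq_mul]
          ring
  have hSpos : (0 : ℝ) < S.card := by
    rw [hS, hζ.card_primitiveRoots]
    exact Nat.cast_pos.2 (Nat.totient_pos.2 (NeZero.pos N))
  rw [mul_comm _ (S.card : ℝ)] at hmain
  exact_mod_cast le_of_mul_le_mul_left hmain hSpos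

end Subsection

end Cfsg.Agent.H83
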