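import Cfsg.Agent.H83.MajorContrib
import Cfsg.Agent.H82.MaxPair

/-!
The weight of a character at a subsection `(x, b)`, and the fact that the weights over all
subsections add up to the norm of the character.
-/

set_option linter.style.haveILetI false

open scoped ComplexConjugate
open Polynomial

namespace Cfsg.Agent.H83

universe u

variable {G : Type u} [Group G] [Fintype G] {p : ℕ} [hp : Fact p.Prime] {M : Ideal Cfsg.AlgInt}

open scoped Classical in
/-- The weight of `χ` at the element `x` seen through the coefficient function `z`. -/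
noncomputable def secWeight (p : ℕ) (χ : G → ℂ) (x : G) (z : G → ℂ) : ℝ :=
  (Nat.card ↥(Subgroup.centralizer ({x} : Set G)) : ℝ)⁻¹ *
    ∑ s ∈ Finset.univ.filter (fun s : G => s * x = x * s ∧ ¬ p ∣ orderOf s),
      ‖∑ c : G, z c * χ (x * c * s)‖ ^ 2

omit hp in
theorem secWeight_nonneg (χ : G → ℂ) (x : G) (z : G → ℂ) : 0 ≤ secWeight p χ x z :=
  mul_nonneg (inv_nonneg.2 (Nat.cast_nonneg _)) (Finset.sum_nonneg fun _ _ => sq_nonneg _)

omit hp in
theorem secWeight_conj (χ : Cfsg.IrrCharacter G) (g x : G) (z : G → ℂ) :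
    secWeight p (χ : G → ℂ) (g * x * g⁻¹) (fun c => z (g⁻¹ * c * g)) =
      secWeight p (χ : G → ℂ) x z := by
  classical
  unfold secWeight
  rw [H82.card_centralizer_conj g x]
  congr 1
  symm
  refine Finset.sum_equiv (MulAut.conj g).toEquiv (fun s => ?_) fun s _ => ?_
  · simp only [Finset.mem_filter, Finset.mem_univ, true_and, MulEquiv.toEquiv_eq_coe,
      MulEquiv.coe_toEquiv, MulAut.conj_apply]
    rw [← MulAut.conj_apply g s, MulEquiv.orderOf_eq, MulAut.conj_apply]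
    refine and_congr_left fun _ => ⟨fun h => ?_, fun h => ?_⟩
    · calc g * s * g⁻¹ * (g * x * g⁻¹) = g * (s * x) * g⁻¹ := by group
        _ = g * (x * s) * g⁻¹ := by rw [h]
        _ = g * x * g⁻¹ * (g * s * g⁻¹) := by group
    · calc s * x = g⁻¹ * (g * s * g⁻¹ * (g * x * g⁻¹)) * g := by group
        _ = g⁻¹ * (g * x * g⁻¹ * (g * s * g⁻¹)) * g := by rw [h]
        _ = x * s := by group
  · congr 2
    refine Fintype.sum_equiv (MulAut.conj g).toEquiv _ _ fun c => ?_
    simp only [MulEquiv.toEquiv_eq_coe, MulEquiv.coe_toEquiv, MulAut.conj_apply]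
    rw [show g⁻¹ * (g * c * g⁻¹) * g = c by group,
      show g * x * g⁻¹ * (g * c * g⁻¹) * (g * s * g⁻¹) = g * (x * c * s) * g⁻¹ by group,
      CharBasic.IsIrr.isClassFunction χ.2]

open scoped Classical in
omit hp in
/-- The idempotent of a set of characters cuts out its members. -/
theorem sum_blockCoeff_mul {H : Type u} [Group H] [Fintype H] (b : Set (Cfsg.IrrCharacter H))
    (ψ : Cfsg.IrrCharacter H) (s : H) :
    ∑ c : H, Cfsg.blockCoeff b c * (ψ : H → ℂ) (c * s) =
      if ψ ∈ b then (ψ : H → ℂ) s else 0 := by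
  have h := BlockBasic.chiLin_blockElem_mul b ψ (MonoidAlgebra.single s 1)
  rw [BlockBasic.chiLin_single, one_mul] at h
  rw [← h, BlockBasic.chiLin]
  refine Fintype.sum_equiv (Equiv.mulRight s) _ _ fun c => ?_
  rw [Equiv.coe_mulRight]
  congr 1
  rw [MonoidAlgebra.coeff_mul_single_eq_coeff_mul (m₂ := c) (fun d _ => by simp),
    BlockBasic.coeff_blockElem, mul_one]

omit hp in
theorem sum_subgroupBlockCoeff_mul {C : Subgroup G} [Fintype C] (b : Set (Cfsg.IrrCharacter C))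
    (F : G → ℂ) :
    ∑ c : G, Cfsg.subgroupBlockCoeff C b c * F c = ∑ c : C, Cfsg.blockCoeff b c * F (c : G) := by
  classical
  rw [← Finset.sum_subset (Finset.subset_univ ((Finset.univ : Finset G).filter (· ∈ C)))
    fun c _ hc => by
      rw [Cfsg.subgroupBlockCoeff, dif_neg fun h => hc (Finset.mem_filter.2 ⟨Finset.mem_univ _, h⟩),
        zero_mul]]
  rw [Finset.sum_subtype (p := fun c => c ∈ C) _ (fun c => by simp)]
  refine Finset.sum_congr rfl fun c _ => ?_
  rw [Cfsg.subgroupBlockCoeff, dif_pos c.2]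

open scoped Classical in
omit hp in
/-- The part of a translated character cut out by a set of characters of the centralizer. -/
theorem sum_subgroupBlockCoeff_shift {C : Subgroup G} [Fintype C] {y : G} (hy : y ∈ C)
    (b : Set (Cfsg.IrrCharacter C)) (χ : Cfsg.IrrCharacter G) (a : Cfsg.IrrCharacter C → ℂ)
    (ha : ∀ (ψ : Cfsg.IrrCharacter C) (c : C), (ψ : C → ℂ) (⟨y, hy⟩ * c) = a ψ * (ψ : C → ℂ) c)
    (s : C) :
    ∑ c : G, Cfsg.subgroupBlockCoeff C b c * (χ : G → ℂ) (y * c * (s : G)) =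
      ∑ ψ ∈ Finset.univ.filter (fun ψ : Cfsg.IrrCharacter C => ψ ∈ b),
        (mult χ ψ : ℂ) * a ψ * (ψ : C → ℂ) s := by
  rw [sum_subgroupBlockCoeff_mul, Finset.sum_filter]
  calc ∑ c : C, Cfsg.blockCoeff b c * (χ : G → ℂ) (y * (c : G) * (s : G))
      = ∑ c : C, ∑ ψ : Cfsg.IrrCharacter C,
          (mult χ ψ : ℂ) * a ψ * (Cfsg.blockCoeff b c * (ψ : C → ℂ) (c * s)) := by
        refine Finset.sum_congr rfl fun c _ => ?_
        rw [show y * (c : G) * (s : G) = ((⟨y, hy⟩ * (c * s) : C) : G) by push_cast; rw [mul_assoc],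
          restrict_eq_sum, Finset.mul_sum]
        exact Finset.sum_congr rfl fun ψ _ => by rw [ha]; ring
    _ = _ := by
        rw [Finset.sum_comm]
        refine Finset.sum_congr rfl fun ψ _ => ?_
        rw [← Finset.mul_sum, sum_blockCoeff_mul]
        split_ifs <;> simp

omit [Fintype G] hp in
theorem subgroup_scalars {C : Subgroup G} [Fintype C] {y : G} (hy : y ∈ C)
    (hcomm : ∀ c ∈ C, y * c = c * y) :
    ∃ a : Cfsg.IrrCharacter C → ℂ, ∀ (ψ : Cfsg.IrrCharacter C) (c : C),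
      (ψ : C → ℂ) (⟨y, hy⟩ * c) = a ψ * (ψ : C → ℂ) c := by
  have hle : Subgroup.zpowers (⟨y, hy⟩ : C) ≤ Subgroup.center C := by
    rw [Subgroup.zpowers_le, Subgroup.mem_center_iff]
    exact fun c => Subtype.ext (hcomm c c.2).symm
  choose ω hω _ using fun ψ : Cfsg.IrrCharacter C => H81.exists_centralHom _ hle ψ.2
  exact ⟨fun ψ => ω ψ ⟨_, Subgroup.mem_zpowers _⟩, fun ψ c => hω ψ ⟨_, Subgroup.mem_zpowers _⟩ c⟩

open scoped Classical in
/-- The block parts of a function are orthogonal on the regular elements. -/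
theorem sum_norm_sq_blockSplit (hM : Cfsg.IsPModular p M) {C : Type u} [Group C] [Fintype C]
    (a : Cfsg.IrrCharacter C → ℂ) :
    ∑ b ∈ Finset.univ.filter (fun b : Set (Cfsg.IrrCharacter C) => Cfsg.IsPBlock M b),
        ∑ s ∈ Finset.univ.filter (fun s : C => ¬ p ∣ orderOf s),
          ‖∑ ψ ∈ Finset.univ.filter (fun ψ : Cfsg.IrrCharacter C => ψ ∈ b),
            a ψ * (ψ : C → ℂ) s‖ ^ 2 =
      ∑ s ∈ Finset.univ.filter (fun s : C => ¬ p ∣ orderOf s),
        ‖∑ ψ : Cfsg.IrrCharacter C, a ψ * (ψ : C → ℂ) s‖ ^ 2 := by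
  set R := Finset.univ.filter (fun s : C => ¬ p ∣ orderOf s) with hR
  set K : Cfsg.IrrCharacter C → Cfsg.IrrCharacter C → ℂ := fun ψ ψ' =>
    ∑ s ∈ R, a ψ * (ψ : C → ℂ) s * conj (a ψ' * (ψ' : C → ℂ) s) with hK
  have hexp : ∀ S : Finset (Cfsg.IrrCharacter C),
      ((∑ s ∈ R, ‖∑ ψ ∈ S, a ψ * (ψ : C → ℂ) s‖ ^ 2 : ℝ) : ℂ) = ∑ ψ ∈ S, ∑ ψ' ∈ S, K ψ ψ' := by
    intro S
    simp only [hK]
    push_cast
    simp only [← Complex.mul_conj', map_sum, Finset.sum_mul_sum]
    rw [Finset.sum_comm]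
    exact Finset.sum_congr rfl fun ψ _ => Finset.sum_comm
  have hK0 : ∀ ψ ψ' : Cfsg.IrrCharacter C, ψ' ∉ Cfsg.blockOf M (ψ : C → ℂ) → K ψ ψ' = 0 := by
    intro ψ ψ' hne
    have h := regInner_eq_zero hM (BlockBasic.isPBlock_blockOf M ψ)
      (BlockBasic.self_mem_blockOf hM ψ) hne
    rw [regInner_symm] at h
    have h2 := regInner_eq_sum (p := p) ψ ψ'
    rw [regInner_symm, h, mul_zero] at h2
    have h3 : ∑ s ∈ R, (ψ : C → ℂ) s * conj ((ψ' : C → ℂ) s) = 0 := by
      rw [hR, Finset.sum_filter]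
      refine Eq.trans (Finset.sum_congr rfl fun s _ => ?_) h2.symm
      split_ifs <;> rfl
    have h4 : K ψ ψ' = a ψ * conj (a ψ') * ∑ s ∈ R, (ψ : C → ℂ) s * conj ((ψ' : C → ℂ) s) := by
      simp only [hK, Finset.mul_sum, map_mul]
      exact Finset.sum_congr rfl fun s _ => by ring
    rw [h4, h3, mul_zero]
  apply Complex.ofReal_injective
  rw [Complex.ofReal_sum, hexp, Finset.sum_congr rfl fun b _ => hexp _]
  simp only [Finset.sum_filter (fun ψ : Cfsg.IrrCharacter C => ψ ∈ _)]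
  rw [Finset.sum_comm]
  refine Finset.sum_congr rfl fun ψ _ => ?_
  rw [Finset.sum_eq_single (Cfsg.blockOf M (ψ : C → ℂ))]
  · rw [if_pos (BlockBasic.self_mem_blockOf hM ψ)]
    refine Finset.sum_congr rfl fun ψ' _ => ?_
    split_ifs with h
    · rfl
    · exact (hK0 ψ ψ' h).symm
  · exact fun b hb hne => if_neg fun h =>
      hne (BlockBasic.isPBlock_eq_blockOf hM (Finset.mem_filter.1 hb).2 h)
  · exact fun h => absurd (Finset.mem_filter.2 ⟨Finset.mem_univ _, BlockBasic.isPBlock_blockOf M ψ⟩) h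

open scoped Classical in
omit hp in
theorem sum_commute_regular {C : Subgroup G} [Fintype C] {x : G}
    (hC : C = Subgroup.centralizer ({x} : Set G)) {β : Type*} [AddCommMonoid β] (f : G → β) :
    ∑ s ∈ Finset.univ.filter (fun s : G => s * x = x * s ∧ ¬ p ∣ orderOf s), f s =
      ∑ s ∈ Finset.univ.filter (fun s : C => ¬ p ∣ orderOf s), f (s : G) := by
  refine (Finset.sum_bij (fun (s : C) _ => (s : G)) ?_ ?_ ?_ fun s _ => rfl).symm
  · intro s hs
    simp only [Finset.mem_filter, Finset.mem_univ, true_and, Subgroup.orderOf_coe] at hs ⊢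
    exact ⟨Subgroup.mem_centralizer_singleton_iff.1 (hC.le s.2), hs⟩
  · intro _ _ _ _ h
    exact Subtype.ext h
  · intro s hs
    simp only [Finset.mem_filter, Finset.mem_univ, true_and] at hs
    refine ⟨⟨s, hC.ge (Subgroup.mem_centralizer_singleton_iff.2 hs.1)⟩,
      Finset.mem_filter.2 ⟨Finset.mem_univ _, ?_⟩, rfl⟩
    rw [← Subgroup.orderOf_coe]
    exact hs.2

open scoped Classical in
/-- The weights of all blocks of the centralizer at one section. -/
theorem sum_blocks_secWeight (hM : Cfsg.IsPModular p M) (x : G) (C : Subgroup G) [Fintype C]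
    (hC : C = Subgroup.centralizer ({x} : Set G)) (χ : Cfsg.IrrCharacter G) :
    (Nat.card ↥(Subgroup.centralizer ({x} : Set G)) : ℝ) *
        ∑ b ∈ Finset.univ.filter (fun b : Set (Cfsg.IrrCharacter C) => Cfsg.IsPBlock M b),
          secWeight p (χ : G → ℂ) x (Cfsg.subgroupBlockCoeff C b) =
      ∑ s ∈ Finset.univ.filter (fun s : G => s * x = x * s ∧ ¬ p ∣ orderOf s),
        ‖(χ : G → ℂ) (x * s)‖ ^ 2 := by
  have hxC : x ∈ C := hC.ge (Subgroup.mem_centralizer_singleton_iff.2 rfl)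
  obtain ⟨a, ha⟩ := subgroup_scalars hxC fun c hc =>
    (Subgroup.mem_centralizer_singleton_iff.1 (hC.le hc)).symm
  have hC0 : (Nat.card ↥(Subgroup.centralizer ({x} : Set G)) : ℝ) ≠ 0 :=
    Nat.cast_ne_zero.2 Nat.card_pos.ne'
  rw [sum_commute_regular hC, Finset.mul_sum]
  have hl : ∀ s : C, (χ : G → ℂ) (x * (s : G)) =
      ∑ ψ : Cfsg.IrrCharacter C, ((mult χ ψ : ℂ) * a ψ) * (ψ : C → ℂ) s := fun s => by
    rw [show x * (s : G) = ((⟨x, hxC⟩ * s : C) : G) from rfl, restrict_eq_sum]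
    exact Finset.sum_congr rfl fun ψ _ => by rw [ha]; ring
  simp only [hl]
  rw [← sum_norm_sq_blockSplit hM fun ψ => (mult χ ψ : ℂ) * a ψ]
  refine Finset.sum_congr rfl fun b _ => ?_
  rw [secWeight, mul_inv_cancel_left₀ hC0, sum_commute_regular hC]
  exact Finset.sum_congr rfl fun s _ => by rw [sum_subgroupBlockCoeff_shift hxC b χ a ha s]

open scoped Classical in
omit hp in
theorem sum_norm_sq_eq_card (χ : Cfsg.IrrCharacter G) :
    ∑ g : G, ‖(χ : G → ℂ) g‖ ^ 2 = (Nat.card G : ℝ) := by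
  have h := CharBasic.classInner_irrCharacter χ χ
  rw [CharBasic.classInner_def, if_pos rfl, inv_mul_eq_iff_eq_mul₀
    (Nat.cast_ne_zero.2 Nat.card_pos.ne'), mul_one] at h
  apply Complex.ofReal_injective
  push_cast
  rw [← h]
  exact Finset.sum_congr rfl fun g _ => (Complex.mul_conj' _).symm

open scoped Classical in
/-- The elements of the group are sorted by their `p`-parts. -/
theorem sum_pElt_sections {β : Type*} [AddCommMonoid β] (f : G → β) :
    ∑ x ∈ Finset.univ.filter (fun x : G => ∃ k, orderOf x = p ^ k),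
        ∑ s ∈ Finset.univ.filter (fun s : G => s * x = x * s ∧ ¬ p ∣ orderOf s), f (x * s) =
      ∑ g : G, f g := by
  rw [← Finset.sum_fiberwise_of_maps_to (g := fun g : G => BlockBasic.pPart (p := p) g)
    (t := Finset.univ.filter (fun x : G => ∃ k, orderOf x = p ^ k))
    (fun g _ => Finset.mem_filter.2 ⟨Finset.mem_univ _, BlockBasic.exists_orderOf_pPart g⟩) f]
  refine Finset.sum_congr rfl fun x hx => ?_
  have hxk := (Finset.mem_filter.1 hx).2
  refine Finset.sum_bij' (fun s _ => x * s) (fun g _ => BlockBasic.pReg (p := p) g) ?_ ?_ ?_ ?_ ?_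
  · intro s hs
    obtain ⟨hs1, hs2⟩ := (Finset.mem_filter.1 hs).2
    exact Finset.mem_filter.2 ⟨Finset.mem_univ _, BlockBasic.pPart_mul_of hs1.symm hxk hs2⟩
  · intro g hg
    have h := (Finset.mem_filter.1 hg).2
    refine Finset.mem_filter.2 ⟨Finset.mem_univ _, ?_, BlockBasic.not_dvd_orderOf_pReg g⟩
    rw [← h]
    exact (BlockBasic.commute_pPart_pReg g).eq.symm
  · intro s hs
    obtain ⟨hs1, hs2⟩ := (Finset.mem_filter.1 hs).2
    rw [BlockBasic.pReg, BlockBasic.pPart_mul_of hs1.symm hxk hs2, inv_mul_cancel_left]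
  · intro g hg
    rw [← (Finset.mem_filter.1 hg).2, BlockBasic.pPart_mul_pReg]
  · intro s _
    rfl

omit [Fintype G] hp in
theorem centralizer_zpowers_singleton (x : G) :
    Subgroup.centralizer ((Subgroup.zpowers x : Subgroup G) : Set G) =
      Subgroup.centralizer ({x} : Set G) := by
  rw [Subgroup.zpowers_eq_closure, Subgroup.centralizer_closure]

open scoped Classical in
/-- The weights at all subsections add up to the group order. -/
theorem sum_all_secWeight (hM : Cfsg.IsPModular p M) (χ : Cfsg.IrrCharacter G) :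
    ∑ x ∈ Finset.univ.filter (fun x : G => ∃ k, orderOf x = p ^ k),
      (Nat.card ↥(Subgroup.centralizer ({x} : Set G)) : ℝ) *
        ∑ b ∈ Finset.univ.filter (fun b : Set (Cfsg.IrrCharacter
            ↥(Subgroup.centralizer ((Subgroup.zpowers x : Subgroup G) : Set G))) =>
          Cfsg.IsPBlock M b),
          secWeight p (χ : G → ℂ) x (Cfsg.subgroupBlockCoeff _ b) = (Nat.card G : ℝ) := by
  rw [← sum_norm_sq_eq_card χ,
    ← sum_pElt_sections (p := p) (fun g => ‖(χ : G → ℂ) g‖ ^ 2)]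
  exact Finset.sum_congr rfl fun x _ =>
    sum_blocks_secWeight hM x _ (centralizer_zpowers_singleton x) χ

open scoped Classical in
/-- The weight at the powers of `y` is the contribution at the conjugate roots of unity. -/
theorem secWeight_pow_eq (hM : Cfsg.IsPModular p M) {y : G} {n : ℕ} (C : Subgroup G) [Fintype C]
    {b : Set (Cfsg.IrrCharacter C)} (hb : Cfsg.IsPBlock M b) (hy : y ∈ C)
    {ζ : ℂ} (hζ : ζ ^ p ^ n = 1) {e : Cfsg.IrrCharacter C → ℕ}
    (hact : ∀ (ψ : Cfsg.IrrCharacter C) (hy : y ∈ C) (c : C),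
      (ψ : C → ℂ) (⟨y, hy⟩ * c) = ζ ^ e ψ * (ψ : C → ℂ) c)
    (χ : Cfsg.IrrCharacter G) (a : ℕ) (hC : C = Subgroup.centralizer ({y ^ a} : Set G)) :
    (p : ℝ) ^ Cfsg.blockDefect p b * secWeight p (χ : G → ℂ) (y ^ a) (Cfsg.subgroupBlockCoeff C b) =
      (aeval (ζ ^ a) (contribPoly p (p ^ n) b e χ χ)).re := by
  set bf := Finset.univ.filter (fun ψ : Cfsg.IrrCharacter C => ψ ∈ b) with hbf
  set R := Finset.univ.filter (fun s : C => ¬ p ∣ orderOf s) with hR
  set η := ζ ^ a with hη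
  have hηN : η ^ p ^ n = 1 := by rw [hη, ← pow_mul, mul_comm, pow_mul, hζ, one_pow]
  have hN0 : p ^ n ≠ 0 := pow_ne_zero _ hp.out.ne_zero
  have hpow : ∀ (k : ℕ) (ψ : Cfsg.IrrCharacter C) (c : C),
      (ψ : C → ℂ) (⟨y, hy⟩ ^ k * c) = (ζ ^ e ψ) ^ k * (ψ : C → ℂ) c := by
    intro k ψ
    induction k with
    | zero => intro c; simp
    | succ k ih => intro c; rw [pow_succ', mul_assoc, hact, ih, pow_succ']; ring
  have hphi : ∀ s : C, ∑ c : G, Cfsg.subgroupBlockCoeff C b c * (χ : G → ℂ) (y ^ a * c * (s : G)) =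
      ∑ ψ ∈ bf, (mult χ ψ : ℂ) * η ^ e ψ * (ψ : C → ℂ) s := fun s =>
    sum_subgroupBlockCoeff_shift (pow_mem hy a) b χ (fun ψ => η ^ e ψ)
      (fun ψ c => by
        rw [show (⟨y ^ a, pow_mem hy a⟩ : C) = ⟨y, hy⟩ ^ a from Subtype.ext (by simp), hpow, hη,
          ← pow_mul, ← pow_mul, mul_comm (e ψ) a]) s
  set r : ℂ := (p : ℂ) ^ Cfsg.blockDefect p b * (Nat.card C : ℂ)⁻¹ with hr
  have hentry : ∀ ψ ∈ bf, ∀ ψ', (entry p b ψ ψ' : ℂ) =
      r * ∑ s ∈ R, (ψ : C → ℂ) s * conj ((ψ' : C → ℂ) s) := by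
    intro ψ hψ ψ'
    rw [entry_spec hM hb (Finset.mem_filter.1 hψ).2, regInner, CharBasic.classInner_def, hr, hR,
      Finset.sum_filter, mul_assoc]
    congr 2
    refine Finset.sum_congr rfl fun s _ => ?_
    by_cases hs : p ∣ orderOf s
    · rw [pRegularPart_eq_zero _ hs, zero_mul, if_neg (fun h => h hs)]
    · rw [pRegularPart_eq_self _ hs, if_pos hs]
  have hP : aeval η (contribPoly p (p ^ n) b e χ χ) = r * ∑ s ∈ R,
      (∑ ψ ∈ bf, (mult χ ψ : ℂ) * η ^ e ψ * (ψ : C → ℂ) s) *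
        conj (∑ ψ ∈ bf, (mult χ ψ : ℂ) * η ^ e ψ * (ψ : C → ℂ) s) := by
    simp only [contribPoly, contribCoeff, map_sum, map_mul, aeval_C, map_pow, aeval_X, ← hbf,
      Finset.sum_mul_sum]
    symm
    rw [Finset.sum_comm, Finset.mul_sum]
    refine Finset.sum_congr rfl fun ψ hψ => ?_
    rw [Finset.sum_comm, Finset.mul_sum]
    refine Finset.sum_congr rfl fun ψ' _ => ?_
    rw [show η ^ (e ψ + (p ^ n - 1) * e ψ') = η ^ e ψ * conj η ^ e ψ' by
      clear_value η
      rw [conj_eq_pow_pred hηN hN0, ← pow_mul, pow_add]]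
    simp only [eq_intCast, Int.cast_mul, Int.cast_natCast, hentry ψ hψ ψ', Complex.conj_natCast,
      Finset.mul_sum, Finset.sum_mul]
    exact Finset.sum_congr rfl fun s _ => by ring
  have hsum : aeval η (contribPoly p (p ^ n) b e χ χ) =
      (((p : ℝ) ^ Cfsg.blockDefect p b * (Nat.card C : ℝ)⁻¹ * ∑ s ∈ R,
        ‖∑ ψ ∈ bf, (mult χ ψ : ℂ) * η ^ e ψ * (ψ : C → ℂ) s‖ ^ 2 : ℝ) : ℂ) := by
    rw [hP, hr]
    push_cast
    simp only [← Complex.mul_conj']
  rw [hsum, Complex.ofReal_re, secWeight, sum_commute_regular hC, mul_assoc]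
  congr 1
  rw [show Nat.card ↥(Subgroup.centralizer ({y ^ a} : Set G)) = Nat.card C from by
    conv_rhs => rw [hC]]
  congr 1
  exact Finset.sum_congr rfl fun s _ => by rw [hphi]

open scoped Classical in
/-- The weights at the generators of a major subsection. -/
theorem card_mul_le_sum_secWeight (hM : Cfsg.IsPModular p M) {B : Set (Cfsg.IrrCharacter G)}
    {y : G} {n : ℕ} (hy : orderOf y = p ^ n) (C : Subgroup G) [Fintype C]
    (hC : C = Subgroup.centralizer ({y} : Set G)) {b : Set (Cfsg.IrrCharacter C)}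
    (hind : Cfsg.IsInducedBlock M C b B)
    (hbd : Cfsg.blockDefect p b = Cfsg.blockDefect p B) {χ : Cfsg.IrrCharacter G} (hχ : χ ∈ B) :
    ((Finset.univ.filter fun v : G => Subgroup.zpowers v = Subgroup.zpowers y).card : ℝ) *
        (p : ℝ) ^ Cfsg.blockHeight p B (χ : G → ℂ) ≤
      (p : ℝ) ^ Cfsg.blockDefect p B *
        ∑ v ∈ Finset.univ.filter (fun v : G => Subgroup.zpowers v = Subgroup.zpowers y),
          secWeight p (χ : G → ℂ) v (Cfsg.subgroupBlockCoeff C b) := by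
  subst hC
  obtain ⟨ζ, e, hζ, hact, -, hsymm, hconj, hdiv⟩ := exists_major_contrib_action hM hy hind hbd
  have hB := hind.2.1
  haveI : NeZero (p ^ n) := ⟨pow_ne_zero _ hp.out.ne_zero⟩
  set h := Cfsg.blockHeight p B (χ : G → ℂ)
  have hp0 : (p : ℂ) ≠ 0 := Nat.cast_ne_zero.2 hp.out.ne_zero
  obtain ⟨H, hH, -⟩ := hdiv χ hχ χ hχ
  have hP0 : aeval ζ (contribPoly p (p ^ n) b e χ χ) ≠ 0 := by
    intro h0
    obtain ⟨θ, hθ, hθ0⟩ := exists_height_zero hM hB
    obtain ⟨H', hH', hH'M⟩ := hdiv χ hχ θ hθ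
    have h1 := (hconj ζ hζ).1 χ
    rw [h0, Complex.zero_re, mul_zero,
      Finset.sum_eq_zero_iff_of_nonneg fun _ _ => sq_nonneg _] at h1
    have h2 := h1 θ (Finset.mem_filter.2 ⟨Finset.mem_univ _, hθ⟩)
    rw [sq_eq_zero_iff, norm_eq_zero, hH' ζ hζ, mul_eq_zero] at h2
    rw [h2.resolve_left (pow_ne_zero _ hp0)] at hH'M
    have := hH'M.1 (BlockBasic.memLocalIdeal_zero hM)
    omega
  have hre : ∀ η : ℂ, IsPrimitiveRoot η (p ^ n) →
      (aeval η (contribPoly p (p ^ n) b e χ χ)).re = (p : ℝ) ^ h * (aeval η H).re := by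
    intro η hη
    rw [hH η hη, show (p : ℂ) ^ h = (((p : ℝ) ^ h : ℝ) : ℂ) by push_cast; rfl,
      Complex.re_ofReal_mul]
  have hreal : ∀ η : ℂ, IsPrimitiveRoot η (p ^ n) → conj (aeval η H) = aeval η H := by
    intro η hη
    have h1 := (hsymm η hη.pow_eq_one χ χ).symm
    rw [hH η hη, map_mul, map_pow, Complex.conj_natCast] at h1
    exact mul_left_cancel₀ (pow_ne_zero _ hp0) h1
  have hpR : (0 : ℝ) < (p : ℝ) ^ h := pow_pos (Nat.cast_pos.2 hp.out.pos) _
  have hpos : ∀ η : ℂ, IsPrimitiveRoot η (p ^ n) → 0 ≤ (aeval η H).re := fun η hη => by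
    have h1 := (hconj η hη).2.2 χ
    rw [hre η hη] at h1
    exact (mul_nonneg_iff_of_pos_left hpR).1 h1
  have hH0 : aeval ζ H ≠ 0 := fun h0 => hP0 (by rw [hH ζ hζ, h0, mul_zero])
  have hmain := (sum_re_ge hζ H hreal hpos hH0).1
  set A := (Finset.range (p ^ n)).filter (fun a => a.Coprime (p ^ n)) with hA
  have hA' : ∀ {a}, a ∈ A → a < p ^ n ∧ a.Coprime (p ^ n) := fun ha =>
    ⟨Finset.mem_range.1 (Finset.mem_filter.1 ha).1, (Finset.mem_filter.1 ha).2⟩
  have hcop : ∀ a, a.Coprime (p ^ n) → Subgroup.zpowers (y ^ a) = Subgroup.zpowers y := by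
    intro a ha
    refine Subgroup.eq_of_le_of_card_ge (Subgroup.zpowers_le.2
      (pow_mem (Subgroup.mem_zpowers y) a)) ?_
    rw [Nat.card_zpowers, Nat.card_zpowers]
    exact (Nat.Coprime.orderOf_pow (by rw [hy]; exact ha.symm)).ge
  have himg : (Finset.univ.filter fun v : G => Subgroup.zpowers v = Subgroup.zpowers y) =
      A.image (fun a => y ^ a) := by
    ext v
    simp only [Finset.mem_filter, Finset.mem_univ, true_and, Finset.mem_image]
    constructor
    · intro hv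
      obtain ⟨a, ha, rfl⟩ := (isOfFinOrder_of_finite y).mem_powers_iff_mem_range_orderOf.1
        ((isOfFinOrder_of_finite y).mem_powers_iff_mem_zpowers.2
          (hv ▸ Subgroup.mem_zpowers v)) |> fun h => by
            simpa only [Finset.mem_image, Finset.mem_range] using h
      refine ⟨a, Finset.mem_filter.2 ⟨Finset.mem_range.2 (hy ▸ ha), ?_⟩, rfl⟩
      have h1 : orderOf (y ^ a) = orderOf y := by
        rw [← Nat.card_zpowers, hv, Nat.card_zpowers]
      rw [orderOf_pow, Nat.div_eq_self] at h1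
      rw [← hy, Nat.coprime_comm]
      exact h1.resolve_left (orderOf_pos y).ne'
    · rintro ⟨a, ha, rfl⟩
      exact hcop a (hA' ha).2
  have hinj : Set.InjOn (fun a : ℕ => y ^ a) (A : Set ℕ) := fun a ha c hc hac =>
    pow_injOn_Iio_orderOf (x := y) (by rw [Set.mem_Iio, hy]; exact (hA' ha).1)
      (by rw [Set.mem_Iio, hy]; exact (hA' hc).1) hac
  have hroots : primitiveRoots (p ^ n) ℂ = A.image (fun a => ζ ^ a) := by
    ext η
    rw [mem_primitiveRoots (NeZero.pos _), hζ.isPrimitiveRoot_iff, Finset.mem_image]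
    simp only [hA, Finset.mem_filter, Finset.mem_range, and_assoc]
  have hinj' : Set.InjOn (fun a : ℕ => ζ ^ a) (A : Set ℕ) := fun a ha c hc hac =>
    hζ.pow_inj (hA' ha).1 (hA' hc).1 hac
  rw [himg, Finset.card_image_of_injOn hinj, Finset.sum_image hinj, Finset.mul_sum]
  rw [hroots, Finset.card_image_of_injOn hinj', Finset.sum_image hinj'] at hmain
  have hcalc : ∀ a ∈ A, (p : ℝ) ^ Cfsg.blockDefect p B * secWeight p (χ : G → ℂ) (y ^ a)
      (Cfsg.subgroupBlockCoeff _ b) = (p : ℝ) ^ h * (aeval (ζ ^ a) H).re := by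
    intro a ha
    rw [← hre _ (hζ.pow_of_coprime a (hA' ha).2), ← hbd]
    refine secWeight_pow_eq hM _ hind.1 (Subgroup.mem_centralizer_singleton_iff.2 rfl)
      hζ.pow_eq_one hact χ a ?_
    rw [← centralizer_zpowers_singleton, ← centralizer_zpowers_singleton, hcop a (hA' ha).2]
  rw [Finset.sum_congr rfl hcalc, ← Finset.mul_sum, mul_comm ((p : ℝ) ^ h)]
  exact mul_le_mul_of_nonneg_right hmain hpR.le

end Cfsg.Agent.H83
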