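import Cfsg.Agent.H82.PairStab
import Cfsg.Agent.H82.PairSaturated
import Cfsg.Agent.BlockBasic.LocalBlocks
import Cfsg.Agent.H83.HeightWeight

/-!
The maximal Brauer pair attached to a root, the major subsections below it, and the control of
their fusion by the stabilizer of the root.
-/

set_option linter.style.haveILetI false

open scoped ComplexConjugate

namespace Cfsg.Agent.H83

open MonoidAlgebra BlockBasic CharBasic

universe u

variable {G : Type u} [Group G] [Fintype G] {p : ℕ} [hp : Fact p.Prime] {M : Ideal Cfsg.AlgInt}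

set_option maxHeartbeats 1000000 in
open scoped Classical in
/-- A root of a block at a defect group gives a maximal pair, whose stabilizer normalizes the
root. -/
theorem exists_pair_of_root (hM : Cfsg.IsPModular p M) {B : Set (Cfsg.IrrCharacter G)}
    (hB : Cfsg.IsPBlock M B) {D : Subgroup G} (hBD : Cfsg.IsDefectGroup p M B D) {H : Subgroup G}
    (hH : H = D ⊔ Subgroup.centralizer (D : Set G)) {b : Set (Cfsg.IrrCharacter H)}
    (hind : Cfsg.IsInducedBlock M H b B) :
    ∃ e : Set (Cfsg.IrrCharacter (Subgroup.centralizer (D : Set G))),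
      Cfsg.IsMaximalBrauerPair p M B D e ∧
        ∀ n : G, H82.conjPair n ⟨D, e⟩ = ⟨D, e⟩ →
          n ∈ Subgroup.normalizer (D : Set G) ∧ ∀ θ ∈ b, ∀ θ' : Cfsg.IrrCharacter H,
            (∀ h h' : H, (h' : G) = n * h * n⁻¹ → (θ' : H → ℂ) h' = (θ : H → ℂ) h) → θ' ∈ b := by
  haveI : Fintype H := Fintype.ofFinite _
  obtain ⟨g₀, hg₀, P₀, hP₀⟩ := hBD
  have hBD : Cfsg.IsDefectGroup p M B D := ⟨g₀, hg₀, P₀, hP₀⟩
  have hDp : IsPGroup p D := hP₀ ▸ P₀.isPGroup'.map _
  have hDH : D ≤ H := hH ▸ le_sup_left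
  have hCH : Subgroup.centralizer (D : Set G) ≤ H := hH ▸ le_sup_right
  have hHN : H ≤ Subgroup.normalizer (D : Set G) :=
    hH ▸ sup_le Subgroup.le_normalizer (Subgroup.centralizer_le_normalizer _)
  set D' := D.subgroupOf H
  haveI : D'.Normal := (Subgroup.normal_subgroupOf_iff_le_normalizer hDH).mpr hHN
  have hD'p : IsPGroup p D' := hDp.of_equiv (Subgroup.subgroupOfEquivOfLe hDH).symm
  -- a pair of the root
  obtain ⟨k, hk⟩ : ∃ k, Cfsg.IsBrauerPairOf p M b D' k := by
    cases nonempty_fintype {k : Set (IrrCharacter (Subgroup.centralizer (D' : Set H))) // IsPBlock M k}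
    by_contra hne
    push Not at hne
    obtain ⟨χ, hχ⟩ := isPBlock_nonempty hM hind.1
    have h0 : blockElem b = 0 := by
      rw [H82.blockElem_eq_sum_blockUp hM D' hD'p hind.1]
      exact Finset.sum_eq_zero fun k hk => absurd (Finset.mem_filter.1 hk).2 (hne k)
    have h1 := omega_blockElem b χ
    rw [if_pos hχ, h0] at h1
    simp [omega, chiLin] at h1
  have hC : Subgroup.centralizer (D : Set G) =
      (Subgroup.centralizer (D' : Set H)).map H.subtype := by
    have h := H82.centralizer_sup_eq_map (Q := D) hCH hDH (Or.inr le_rfl)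
    rwa [sup_idem] at h
  set e : Set (IrrCharacter (Subgroup.centralizer (D : Set G))) :=
    H83.irrComp (H82.localCent hC).symm '' k with he
  have hpair : IsBrauerPair p M D e := ⟨hDp, H82.isPBlock_image_irrComp _ hk.1.2⟩
  obtain ⟨η, hη⟩ := isPBlock_nonempty hM hk.1.2
  set ξ := H83.irrComp (H82.localCent hC).symm η with hξdef
  have hξ : ξ ∈ e := Set.mem_image_of_mem _ hη
  have hξη : H83.irrComp (H82.localCent hC) ξ = η := H83.irrComp_symm' _ η
  obtain ⟨θ₀, hθ₀⟩ := isPBlock_nonempty hM hind.1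
  obtain ⟨χ₀, hχ₀⟩ := isPBlock_nonempty hM hB
  -- it is a pair of `B`
  have hDe : IsBrauerPairOf p M B D e := by
    refine H82.isBrauerPairOf_of_mem hM hB hpair hξ ?_
    have hz : IsCentralElt (brauerMap D H (blockElem B)) :=
      isCentralElt_brauerMap hHN (isCentralElt_blockElem B)
    have h1 := H82.brOmega_congr_centralChar hM hk hη hθ₀ hz
      (isIntElt_brauerMap hM (isIntElt_blockElem hM hB))
    have h2 := omega_brauerMap_of_induced hM hDp hDH hCH hHN hind hθ₀ hχ₀
      (isCentralElt_blockElem B) (isIntElt_blockElem hM hB)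
    rw [omega_blockElem, if_pos hχ₀] at h2
    have h3 := memLocalIdeal_add hM h1 h2
    rw [sub_add_sub_cancel] at h3
    convert h3 using 2
    rw [← hξη]
    have h4 := H82.brOmega_localCent hC ξ (z := brauerMap D H (blockElem B))
      (w := ofFun fun g => if g ∈ Subgroup.centralizer (D : Set G) then (blockElem B).coeff g else 0)
      (fun h => by rw [coeff_brauerMap, coeff_ofFun])
    rw [h4]
    simp only [H82.brOmega, Cfsg.brauerOmega, coeff_ofFun]
    exact finsum_congr fun c => by rw [if_pos c.2]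
  have hcard : Nat.card D = p ^ blockDefect p B := H35.card_defectGroup hM hB hBD
  refine ⟨e, H82.isMaximal_of_card hM hDe hcard.ge, fun n hn => ?_⟩
  obtain ⟨hnN, -⟩ := (H82.stabilizesBlock_iff_conjPair hM hpair.2).mpr hn
  refine ⟨hnN, ?_⟩
  have hst : ∀ h ∈ H, h ∈ Subgroup.normalizer (D : Set G) ∧
      StabilizesBlock (Subgroup.centralizer (D : Set G)) e h := by
    intro h hh
    refine (H82.mem_pairStab hM hpair.2 h).1 ?_
    have hle : D ⊔ Subgroup.centralizer (D : Set G) ≤ H82.pairStab ⟨D, e⟩ := sup_le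
      (fun x hx => H82.conjPair_of_mem e hx) (fun x hx => H82.conjPair_of_centralizes e hx)
    exact hle (hH.le hh)
  obtain ⟨F, hF⟩ := H82.exists_localBlock hM hpair hCH hDH hst
  have hFb : F = b := by
    refine isPBlock_eq_of_mem hM hF.block hind.1 ?_ hθ₀
    by_contra hne
    have h1 := H82.brOmega_congr_centralChar hM hk hη hθ₀ (isCentralElt_blockElem F)
      (isIntElt_blockElem hM hF.block)
    rw [omega_blockElem, if_neg hne, ← hξη, H82.brOmega_localCent hC ξ (z := blockElem F)
      (w := H82.blockUp (Subgroup.centralizer (D : Set G)) e) hF.coeff_blockElem, sub_zero] at h1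
    have h2 : H82.brOmega D (ξ : _ → ℂ) (H82.blockUp (Subgroup.centralizer (D : Set G)) e) = 1 := by
      have h3 := omega_blockElem e ξ
      rw [if_pos hξ] at h3
      rw [← h3, H82.brOmega_eq]
      congr 1
      refine coeff_injective (Finsupp.ext fun c => ?_)
      rw [H82.coeff_br, H82.coeff_blockUp_of_mem, coeff_blockElem]
    rw [h2] at h1
    exact not_memLocalIdeal_one hM h1
  have hup : H82.blockUp H b = H82.blockUp (Subgroup.centralizer (D : Set G)) e := by
    refine coeff_injective (Finsupp.ext fun g => ?_)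
    by_cases hg : g ∈ H
    · have h1 := hF.coeff ⟨g, hg⟩
      rw [hFb] at h1
      rw [H82.coeff_blockUp, H82.coeff_blockUp, subgroupBlockCoeff, dif_pos hg]
      exact h1
    · rw [H82.coeff_blockUp, H82.coeff_blockUp, subgroupBlockCoeff, subgroupBlockCoeff, dif_neg hg,
        dif_neg fun h => hg (hCH h)]
  have hnH : n ∈ Subgroup.normalizer (H : Set G) := by
    refine H82.mem_normalizer_of_map_conj_eq ?_
    rw [hH, Subgroup.map_sup, H82.map_conj_eq_of_mem_normalizer hnN,
      H82.map_conj_eq_of_mem_normalizer (H82.normalizer_le_normalizer_centralizer D hnN)]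
  have hinv : ∀ g, (H82.blockUp H b).coeff (n * g * n⁻¹) = (H82.blockUp H b).coeff g := by
    intro g
    rw [hup]
    have h1 : H82.conjElt n (H82.blockUp (Subgroup.centralizer (D : Set G)) e) =
        H82.blockUp (Subgroup.centralizer (D : Set G)) e := by
      rw [← H82.blockUp_conjBlock]
      have h0 : ∀ a b : Cfsg.BrauerPairIdx G, a = b →
          H82.blockUp (Subgroup.centralizer (a.1 : Set G)) a.2 =
            H82.blockUp (Subgroup.centralizer (b.1 : Set G)) b.2 := by
        rintro a _ rfl; rfl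
      have h1 := h0 _ _ hn
      simp only [H82.conjPair] at h1
      exact h1
    conv_lhs => rw [← h1]
    rw [H82.coeff_conjElt']
    congr 1
    group
  intro θ hθ θ' hθ'
  have hmem : θ' ∈ H82.conjSet H n b := ⟨θ, hθ, hθ'⟩
  have heq : H82.conjSet H n b = b := H82.blockElem_injective fun c => by
    obtain ⟨g, hg⟩ : ∃ g, n * g * n⁻¹ = (c : G) := ⟨n⁻¹ * c * n, by group⟩
    have h1 := H82.coeff_blockUp_conjSet hnH b g
    rw [← hinv g, hg, H82.coeff_blockUp_of_mem, H82.coeff_blockUp_of_mem] at h1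
    exact h1
  rwa [heq] at hmem

open scoped Classical in
/-- A pair below a maximal one at a cyclic central subgroup is a major subsection. -/
theorem major_of_le (hM : Cfsg.IsPModular p M) {B : Set (Cfsg.IrrCharacter G)} {D : Subgroup G}
    {e : Set (Cfsg.IrrCharacter (Subgroup.centralizer (D : Set G)))}
    (hmax : Cfsg.IsMaximalBrauerPair p M B D e) {Q : Subgroup G} (hQp : IsPGroup p Q)
    (hQ : Q ≤ Subgroup.centralizer (Q : Set G))
    (hDC : D ≤ Subgroup.centralizer (Q : Set G))
    {f : Set (Cfsg.IrrCharacter (Subgroup.centralizer (Q : Set G)))}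
    (hle : Cfsg.SubpairLE p M Q f D e) :
    Cfsg.IsInducedBlock M (Subgroup.centralizer (Q : Set G)) f B ∧
      Cfsg.blockDefect p f = Cfsg.blockDefect p B := by
  haveI : Fintype (Subgroup.centralizer (Q : Set G)) := Fintype.ofFinite _
  have hQf := H82.isBrauerPairOf_of_le hM hmax.1 hle
  obtain ⟨ξ, hξ⟩ := isPBlock_nonempty hM hQf.1.2
  have hind : IsInducedBlock M (Subgroup.centralizer (Q : Set G)) f B := by
    rw [isPBlock_eq_blockOf hM hQf.1.2 hξ, induced_iff_brauer_unit hM hQp hQ le_rfl
      (Subgroup.centralizer_le_normalizer _) hQf.2.1]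
    have h1 := H82.brOmega_blockElem_of_isBrauerPairOf hQf hξ
    have h2 : omega (ξ : _ → ℂ) (brauerMap Q (Subgroup.centralizer (Q : Set G)) (blockElem B)) =
        H82.brOmega Q (ξ : _ → ℂ) (blockElem B) := by
      rw [H82.brOmega_eq]
      congr 1
      refine coeff_injective (Finsupp.ext fun c => ?_)
      rw [coeff_brauerMap, if_pos c.2, H82.coeff_br]
    rw [h2]
    intro h
    exact not_memLocalIdeal_one hM (by simpa using memLocalIdeal_sub hM h h1)
  refine ⟨hind, le_antisymm ?_ ?_⟩
  · obtain ⟨g, hg⟩ := exists_isDefectClass (p := p) hM hind.1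
    obtain ⟨E, hE, hDE⟩ := H35.defectGroup_le_induced hM _ hind
      (⟨g, hg, default, rfl⟩ : IsDefectGroup p M f (H35.sylImage
        (default : Sylow p (Subgroup.centralizer ({g} : Set (Subgroup.centralizer (Q : Set G)))))))
    have hc := Subgroup.card_le_of_le hDE
    rw [Subgroup.card_map_of_injective (Subgroup.subtype_injective _),
      H35.card_defectGroup hM hind.1 (D := H35.sylImage
        (default : Sylow p (Subgroup.centralizer ({g} : Set (Subgroup.centralizer (Q : Set G))))))
        ⟨g, hg, default, rfl⟩, H35.card_defectGroup hM hind.2.1 hE] at hc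
    exact (Nat.pow_le_pow_iff_right hp.out.one_lt).1 hc
  · have h := (H82.isLocalBlock_centralizer hM hQf.1).card_inf_le hM hmax.1.1 hle
    rw [inf_eq_left.2 hDC, H82.card_of_maximal hM hmax] at h
    exact (Nat.pow_le_pow_iff_right hp.out.one_lt).1 h

/-- A pair containing `(Q, f)` normally, seen in a local subgroup. -/
theorem exists_local_pair (hM : Cfsg.IsPModular p M) {Q H : Subgroup G}
    {f : Set (Cfsg.IrrCharacter (Subgroup.centralizer (Q : Set G)))}
    {F : Set (Cfsg.IrrCharacter H)} (h : H82.IsLocalBlock p M Q f H F) {R : Subgroup G}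
    (hRH : R ≤ H) (hQR : Q ≤ R)
    {k : Set (Cfsg.IrrCharacter (Subgroup.centralizer (R : Set G)))}
    (hk : Cfsg.IsBrauerPair p M R k) (hle : Cfsg.SubpairLE p M Q f R k) :
    ∃ k' : Set (Cfsg.IrrCharacter (Subgroup.centralizer ((R.subgroupOf H : Subgroup H) : Set H))),
      Cfsg.IsBrauerPairOf p M F (R.subgroupOf H) k' ∧
        ∀ x : H, (H82.blockUp (Subgroup.centralizer ((R.subgroupOf H : Subgroup H) : Set H)) k').coeff x =
          (H82.blockUp (Subgroup.centralizer (R : Set G)) k).coeff (x : G) := by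
  suffices key : ∀ (S : Subgroup G), Q ⊔ R = S →
      ∀ k : Set (Cfsg.IrrCharacter (Subgroup.centralizer (S : Set G))),
      Cfsg.IsBrauerPair p M S k → Cfsg.SubpairLE p M Q f S k →
      ∃ k' : Set (Cfsg.IrrCharacter (Subgroup.centralizer ((R.subgroupOf H : Subgroup H) : Set H))),
        Cfsg.IsBrauerPairOf p M F (R.subgroupOf H) k' ∧
          ∀ x : H, (H82.blockUp (Subgroup.centralizer ((R.subgroupOf H : Subgroup H) : Set H)) k').coeff x =
            (H82.blockUp (Subgroup.centralizer (S : Set G)) k).coeff (x : G) from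
    key R (sup_eq_right.2 hQR) k hk hle
  rintro S rfl k hk hle
  have hC := H82.centralizer_sup_eq_map (Q := Q) h.cent_le hRH (Or.inr hQR)
  have hn := H82.isNormalSubpair_of_le hM hk
    (sup_le Subgroup.le_normalizer fun r hr => (h.stab r (hRH hr)).1) hle
  refine ⟨H83.irrComp (H82.localCent hC) '' k, h.exists_pair_of_normal hM hRH (Or.inr hQR) hn,
    fun x => ?_⟩
  rw [H82.coeff_blockUp, H82.coeff_blockUp, Cfsg.subgroupBlockCoeff, Cfsg.subgroupBlockCoeff]
  have hiff : x ∈ Subgroup.centralizer ((R.subgroupOf H : Subgroup H) : Set H) ↔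
      (x : G) ∈ Subgroup.centralizer ((Q ⊔ R : Subgroup G) : Set G) := by
    rw [hC]
    exact ⟨fun h => ⟨x, h, rfl⟩, fun ⟨y, hy, hyx⟩ => (Subtype.ext hyx : y = x) ▸ hy⟩
  by_cases hx : x ∈ Subgroup.centralizer ((R.subgroupOf H : Subgroup H) : Set H)
  · rw [dif_pos hx, dif_pos (hiff.mp hx), H82.blockCoeff_image_irrComp]
    rfl
  · rw [dif_neg hx, dif_neg fun h => hx (hiff.mpr h)]

set_option maxHeartbeats 800000 in
open scoped Classical in
/-- Fusion of the major subsections below a maximal pair is controlled by its stabilizer. -/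
theorem exists_stab_conj (hM : Cfsg.IsPModular p M) {B : Set (Cfsg.IrrCharacter G)}
    {D : Subgroup G} {e : Set (Cfsg.IrrCharacter (Subgroup.centralizer (D : Set G)))}
    (hmax : Cfsg.IsMaximalBrauerPair p M B D e) {u v : G}
    (hu : u ∈ D) (hv : v ∈ D) (huC : ∀ d ∈ D, d * u = u * d) (hvC : ∀ d ∈ D, d * v = v * d)
    {f₁ : Set (Cfsg.IrrCharacter (Subgroup.centralizer ((Subgroup.zpowers u : Subgroup G) : Set G)))}
    {f₂ : Set (Cfsg.IrrCharacter (Subgroup.centralizer ((Subgroup.zpowers v : Subgroup G) : Set G)))}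
    (h₁ : Cfsg.SubpairLE p M (Subgroup.zpowers u) f₁ D e)
    (h₂ : Cfsg.SubpairLE p M (Subgroup.zpowers v) f₂ D e) {g : G} (hguv : g * u * g⁻¹ = v)
    (hco : ∀ c, (H82.blockUp (Subgroup.centralizer ((Subgroup.zpowers v : Subgroup G) : Set G)) f₂).coeff c =
      (H82.blockUp (Subgroup.centralizer ((Subgroup.zpowers u : Subgroup G) : Set G)) f₁).coeff (g⁻¹ * c * g)) :
    ∃ n : G, H82.conjPair n ⟨D, e⟩ = ⟨D, e⟩ ∧ n * u * n⁻¹ = v := by
  have hQ : (Subgroup.zpowers u).map (MulAut.conj g).toMonoidHom = (Subgroup.zpowers v) := by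
    rw [MonoidHom.map_zpowers, ← hguv]
    rfl
  have hfe : H82.conjPair g (⟨(Subgroup.zpowers u), f₁⟩ : Cfsg.BrauerPairIdx G) = ⟨(Subgroup.zpowers v), f₂⟩ := by
    refine H82.pair_ext hQ ?_
    rw [H82.blockUp_conjBlock]
    refine coeff_injective (Finsupp.ext fun c => ?_)
    rw [H82.coeff_conjElt', hco]
  have h₁' : Relation.ReflTransGen (Cfsg.NormalSubpairRel p M) ⟨(Subgroup.zpowers v), f₂⟩ (H82.conjPair g ⟨D, e⟩) :=
    hfe ▸ H82.subpairLE_conjPair hM g h₁
  have hQvp : IsPGroup p (Subgroup.zpowers v) := hmax.1.1.1.to_le (Subgroup.zpowers_le.2 hv)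
  have hQvf := (H82.isBrauerPairOf_of_le hM hmax.1 h₂).1
  have hDC : D ≤ (Subgroup.centralizer ((Subgroup.zpowers v : Subgroup G) : Set G)) := fun d hd => by
    rw [centralizer_zpowers_singleton, Subgroup.mem_centralizer_singleton_iff]
    exact hvC d hd
  have hgDC : (H82.conjPair g ⟨D, e⟩).1 ≤ (Subgroup.centralizer ((Subgroup.zpowers v : Subgroup G) : Set G)) := by
    rintro _ ⟨d, hd, rfl⟩
    rw [centralizer_zpowers_singleton, Subgroup.mem_centralizer_singleton_iff, ← hguv]
    show g * d * g⁻¹ * (g * u * g⁻¹) = g * u * g⁻¹ * (g * d * g⁻¹)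
    calc g * d * g⁻¹ * (g * u * g⁻¹) = g * (d * u) * g⁻¹ := by group
      _ = g * (u * d) * g⁻¹ := by rw [huC d hd]
      _ = g * u * g⁻¹ * (g * d * g⁻¹) := by group
  have hloc := H82.isLocalBlock_centralizer hM hQvf
  haveI : Fintype (Subgroup.centralizer ((Subgroup.zpowers v : Subgroup G) : Set G)) := Fintype.ofFinite _
  obtain ⟨k₁, hk₁, hk₁c⟩ := exists_local_pair hM hloc hDC (Subgroup.zpowers_le.2 hv) hmax.1.1 h₂
  obtain ⟨k₂, hk₂, hk₂c⟩ := exists_local_pair hM hloc hgDC (H82.le_of_reflTransGen h₁')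
    (H82.isBrauerPair_conjPair hmax.1.1) h₁'
  have hQvQ : (Subgroup.zpowers v) ≤ (Subgroup.centralizer ((Subgroup.zpowers v : Subgroup G) : Set G)) := (Subgroup.zpowers_le.2 hv).trans hDC
  have hd := (major_of_le hM hmax hQvp hQvQ hDC h₂).2
  have hcard : p ^ blockDefect p f₂ = Nat.card D := by rw [hd, H82.card_of_maximal hM hmax]
  have hm₁ := H82.isMaximal_of_card hM hk₁ (by
    rw [hcard, Nat.card_congr (Subgroup.subgroupOfEquivOfLe hDC).toEquiv])
  have hm₂ := H82.isMaximal_of_card hM hk₂ (by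
    rw [hcard, Nat.card_congr (Subgroup.subgroupOfEquivOfLe hgDC).toEquiv]
    exact (Subgroup.card_map_of_injective (MulAut.conj g).injective).ge)
  obtain ⟨x, hx⟩ := H82.exists_conj_maximal hM hm₁ hm₂
  have hxv : (x : G) * v = v * (x : G) := by
    have h : ∀ y : G, y ∈ Subgroup.centralizer ((Subgroup.zpowers v : Subgroup G) : Set G) →
        y * v = v * y := fun y hy => by
      rwa [centralizer_zpowers_singleton, Subgroup.mem_centralizer_singleton_iff] at hy
    exact h _ x.2
  refine ⟨(x : G) * g, ?_, ?_⟩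
  swap
  · calc (x : G) * g * u * ((x : G) * g)⁻¹ = x * (g * u * g⁻¹) * (x : G)⁻¹ := by group
      _ = v := by rw [hguv, hxv, mul_inv_cancel_right]
  rw [H82.conjPair_mul]
  have hsub : ((H82.conjPair g ⟨D, e⟩).1).map (MulAut.conj (x : G)).toMonoidHom = D := by
    have h1 : ((H82.conjPair g ⟨D, e⟩).1.subgroupOf (Subgroup.centralizer ((Subgroup.zpowers v : Subgroup G) : Set G))).map (MulAut.conj x).toMonoidHom =
        D.subgroupOf (Subgroup.centralizer ((Subgroup.zpowers v : Subgroup G) : Set G)) := congrArg Sigma.fst hx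
    have h2 := congrArg (fun S : Subgroup (Subgroup.centralizer ((Subgroup.zpowers v : Subgroup G) : Set G)) => S.map (Subgroup.centralizer ((Subgroup.zpowers v : Subgroup G) : Set G)).subtype) h1
    simp only [Subgroup.map_map] at h2
    rw [show ((Subgroup.centralizer ((Subgroup.zpowers v : Subgroup G) : Set G)).subtype.comp (MulAut.conj x).toMonoidHom) =
        (MulAut.conj (x : G)).toMonoidHom.comp (Subgroup.centralizer ((Subgroup.zpowers v : Subgroup G) : Set G)).subtype from MonoidHom.ext fun y => rfl,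
      ← Subgroup.map_map, Subgroup.map_subgroupOf_eq_of_le hgDC,
      Subgroup.map_subgroupOf_eq_of_le hDC] at h2
    exact h2
  refine H82.pair_ext hsub ?_
  rw [H82.blockUp_conjBlock]
  refine coeff_injective (Finsupp.ext fun c => ?_)
  rw [H82.coeff_conjElt']
  by_cases hc : c ∈ (Subgroup.centralizer ((Subgroup.zpowers v : Subgroup G) : Set G))
  · have h0 : ∀ a b : Cfsg.BrauerPairIdx (Subgroup.centralizer ((Subgroup.zpowers v : Subgroup G) : Set G)), a = b →
        H82.blockUp (Subgroup.centralizer (a.1 : Set (Subgroup.centralizer ((Subgroup.zpowers v : Subgroup G) : Set G)))) a.2 =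
          H82.blockUp (Subgroup.centralizer (b.1 : Set (Subgroup.centralizer ((Subgroup.zpowers v : Subgroup G) : Set G)))) b.2 := by
      rintro a _ rfl; rfl
    have h3 := h0 _ _ hx
    have h3' : H82.conjElt x (H82.blockUp _ k₂) = H82.blockUp _ k₁ := by
      rw [← H82.blockUp_conjBlock]
      exact h3
    have h4 := congrArg (fun z : MonoidAlgebra ℂ (Subgroup.centralizer ((Subgroup.zpowers v : Subgroup G) : Set G)) => z.coeff ⟨c, hc⟩) h3'
    simp only [H82.coeff_conjElt'] at h4
    rw [hk₁c, hk₂c] at h4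
    exact h4
  · rw [H82.coeff_blockUp, H82.coeff_blockUp, subgroupBlockCoeff, subgroupBlockCoeff,
      dif_neg, dif_neg]
    · exact fun h => hc (Subgroup.centralizer_le (Subgroup.zpowers_le.2 hv) h)
    · intro h
      have h5 := Subgroup.centralizer_le (H82.le_of_reflTransGen h₁') h
      exact hc (by
        have := (Subgroup.centralizer ((Subgroup.zpowers v : Subgroup G) : Set G)).mul_mem ((Subgroup.centralizer ((Subgroup.zpowers v : Subgroup G) : Set G)).mul_mem x.2 h5) ((Subgroup.centralizer ((Subgroup.zpowers v : Subgroup G) : Set G)).inv_mem x.2)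
        simpa [mul_assoc] using this)

end Cfsg.Agent.H83
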