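import Cfsg.Agent.H83.StarLocal
import Cfsg.Agent.H82.PairConjugacy
import Cfsg.Prelude.Def_BlockFusion

/-!
The weight attached to a linear character of the defect group trivial on the focal subgroup.
-/

set_option linter.style.haveILetI false

namespace Cfsg.Agent.H83.Star

open MonoidAlgebra BlockBasic BlockAlgebra CharBasic

universe u

variable {p : ℕ} {M : Ideal Cfsg.AlgInt} {G : Type u} [Group G] [Fintype G]

/-- The idempotent `E` at `q` is a conjugate of the idempotent of the pair below `(P, e)` at `u`. -/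
def SeenAt (p : ℕ) (M : Ideal Cfsg.AlgInt) (P : Subgroup G)
    (e : Set (Cfsg.IrrCharacter (Subgroup.centralizer (P : Set G)))) (q : G)
    (E : MonoidAlgebra ℂ G) (u : P) : Prop :=
  ∃ g : G, ∃ b : Set (Cfsg.IrrCharacter (cen (u : G))),
    Cfsg.SubpairLE p M (Subgroup.zpowers (u : G)) b P e ∧ g * (u : G) * g⁻¹ = q ∧
      cj g (H82.blockUp (cen (u : G)) b) = E

open scoped Classical in
/-- The weight of a linear character of `P`. -/
noncomputable def starLam (p : ℕ) (M : Ideal Cfsg.AlgInt) (P : Subgroup G)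
    (e : Set (Cfsg.IrrCharacter (Subgroup.centralizer (P : Set G)))) (lam : P →* ℂˣ) (q : G)
    (E : MonoidAlgebra ℂ G) : ℂ :=
  if h : ∃ u, SeenAt p M P e q E u then (lam h.choose : ℂ) else 1

/-- The linear characters of `P` trivial on the focal subgroup of `F`. -/
def focalDual {P : Subgroup G} (F : Cfsg.FusionSystem P) : Subgroup (P →* ℂˣ) where
  carrier := {lam | ∀ u : P, (u : G) ∈ F.focalSubgroup → lam u = 1}
  mul_mem' := fun {a b} ha hb u hu => by
    rw [MonoidHom.mul_apply, ha u hu, hb u hu, one_mul]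
  one_mem' := fun _ _ => rfl
  inv_mem' := fun {a} ha u hu => by rw [MonoidHom.inv_apply, ha u hu, inv_one]

variable [hp : Fact p.Prime] {P : Subgroup G}
  {e : Set (Cfsg.IrrCharacter (Subgroup.centralizer (P : Set G)))}
  {B : Set (Cfsg.IrrCharacter G)} {F : Cfsg.FusionSystem P}

omit hp in
theorem seenAt_of_le {R : Subgroup G}
    {c : Set (Cfsg.IrrCharacter (Subgroup.centralizer (R : Set G)))}
    (hle : Cfsg.SubpairLE p M R c P e) {u : P} (hR : R = Subgroup.zpowers (u : G)) {g q : G}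
    (hq : g * (u : G) * g⁻¹ = q) {E : MonoidAlgebra ℂ G}
    (hE : cj g (H82.blockUp (Subgroup.centralizer (R : Set G)) c) = E) :
    SeenAt p M P e q E u := by
  subst hR
  exact ⟨g, c, hle, hq, hE⟩

omit hp in
theorem seenAt_self {u : P} {b : Set (Cfsg.IrrCharacter (cen (u : G)))}
    (hb : Cfsg.SubpairLE p M (Subgroup.zpowers (u : G)) b P e) :
    SeenAt p M P e (u : G) (H82.blockUp (cen (u : G)) b) u :=
  ⟨1, b, hb, by group, cj_one_apply _⟩

omit hp in
theorem seenAt_cj {q : G} {E : MonoidAlgebra ℂ G} {u : P} (h : SeenAt p M P e q E u) (x : G) :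
    SeenAt p M P e (x * q * x⁻¹) (cj x E) u := by
  obtain ⟨g, b, hb, hq, hE⟩ := h
  exact ⟨x * g, b, hb, by rw [← hq]; group, by rw [cj_mul_left, hE]⟩

/-- Two sightings differ by a map of the fusion system. -/
theorem mem_focal_of_seenAt (hF : Cfsg.IsBlockFusionSystemOn p M B P e F) {q : G}
    {E : MonoidAlgebra ℂ G} {u u' : P} (h : SeenAt p M P e q E u) (h' : SeenAt p M P e q E u') :
    (u : G)⁻¹ * (u' : G) ∈ F.focalSubgroup := by
  obtain ⟨g, b, hb, hq, hE⟩ := h
  obtain ⟨g', b', hb', hq', hE'⟩ := h'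
  set x := g'⁻¹ * g with hx
  have hxu : x * (u : G) * x⁻¹ = u' := by
    calc x * (u : G) * x⁻¹ = g'⁻¹ * (g * (u : G) * g⁻¹) * g' := by rw [hx]; group
      _ = g'⁻¹ * (g' * (u' : G) * g'⁻¹) * g' := by rw [hq, hq']
      _ = u' := by group
  have hpair : H82.conjPair x ⟨Subgroup.zpowers (u : G), b⟩ = ⟨Subgroup.zpowers (u' : G), b'⟩ := by
    refine H82.pair_ext (f' := b') ?_ ?_
    · rw [MonoidHom.map_zpowers]
      exact congrArg Subgroup.zpowers hxu
    · show H82.blockUp _ (Cfsg.conjBlock _ x b) = _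
      rw [cj_blockUp (p := p)]
      show cj x (H82.blockUp (cen (u : G)) b) = H82.blockUp (cen (u' : G)) b'
      rw [hx, cj_mul_left, hE, ← hE', ← cj_mul_left, inv_mul_cancel, cj_one_apply]
  let φ : Subgroup.zpowers (u : G) →* G :=
    (MulAut.conj x).toMonoidHom.comp (Subgroup.zpowers (u : G)).subtype
  have hle : Cfsg.SubpairLE p M (H82.conjPair x ⟨Subgroup.zpowers (u : G), b⟩).1
      (H82.conjPair x ⟨Subgroup.zpowers (u : G), b⟩).2 P e := by
    rw [hpair]; exact hb'
  have hmem : φ ∈ F.Hom (Subgroup.zpowers (u : G)) := by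
    refine (hF.2 _ φ).2 ⟨Subgroup.zpowers_le.2 u.2, x, fun _ => rfl, ?_, b, hb, hle⟩
    rw [MonoidHom.map_zpowers, Subgroup.zpowers_le]
    show x * (u : G) * x⁻¹ ∈ P
    rw [hxu]
    exact u'.2
  refine Subgroup.subset_closure ⟨_, φ, ⟨(u : G), Subgroup.mem_zpowers _⟩, hmem, ?_⟩
  show (u : G)⁻¹ * (u' : G) = (u : G)⁻¹ * (x * (u : G) * x⁻¹)
  rw [hxu]

theorem lam_eq_of_seenAt (hF : Cfsg.IsBlockFusionSystemOn p M B P e F) {lam : P →* ℂˣ}
    (hlam : lam ∈ focalDual F) {q : G} {E : MonoidAlgebra ℂ G} {u u' : P}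
    (h : SeenAt p M P e q E u) (h' : SeenAt p M P e q E u') : lam u = lam u' := by
  have h1 := hlam (u⁻¹ * u') (mem_focal_of_seenAt hF h h')
  rwa [map_mul, map_inv, inv_mul_eq_one] at h1

theorem starLam_eq (hF : Cfsg.IsBlockFusionSystemOn p M B P e F) {lam : P →* ℂˣ}
    (hlam : lam ∈ focalDual F) {q : G} {E : MonoidAlgebra ℂ G} {u : P}
    (h : SeenAt p M P e q E u) : starLam p M P e lam q E = lam u := by
  rw [starLam, dif_pos ⟨u, h⟩]
  exact congrArg _ (lam_eq_of_seenAt hF hlam (Exists.choose_spec (⟨u, h⟩ : ∃ u, _)) h)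

omit hp in
theorem starLam_of_not {lam : P →* ℂˣ} {q : G} {E : MonoidAlgebra ℂ G}
    (h : ¬ ∃ u, SeenAt p M P e q E u) : starLam p M P e lam q E = 1 := dif_neg h

omit hp in
theorem norm_starLam (lam : P →* ℂˣ) (q : G) (E : MonoidAlgebra ℂ G) :
    ‖starLam p M P e lam q E‖ = 1 := by
  rw [starLam]
  split_ifs
  · exact CharInduce.norm_hom lam _
  · exact norm_one

omit hp in
theorem isIntegral_starLam (lam : P →* ℂˣ) (q : G) (E : MonoidAlgebra ℂ G) :
    IsIntegral ℤ (starLam p M P e lam q E) := by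
  rw [starLam]
  split_ifs with h
  · refine IsIntegral.of_pow (orderOf_pos h.choose) ?_
    rw [← Units.val_pow_eq_pow_val, ← map_pow, pow_orderOf_eq_one, map_one, Units.val_one]
    exact isIntegral_one
  · exact isIntegral_one

omit hp in
theorem starLam_at_one (lam : P →* ℂˣ) (E : MonoidAlgebra ℂ G) :
    starLam p M P e lam 1 E = 1 := by
  rw [starLam]
  split_ifs with h
  · obtain ⟨g, b, -, hq, -⟩ := h.choose_spec
    rw [show h.choose = 1 from Subtype.ext (conj_eq_one_iff.1 hq), map_one, Units.val_one]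
  · rfl

omit hp in
theorem starLam_one (q : G) (E : MonoidAlgebra ℂ G) : starLam p M P e 1 q E = 1 := by
  rw [starLam]
  split_ifs <;> simp

theorem starLam_mul (hF : Cfsg.IsBlockFusionSystemOn p M B P e F) {lam mu : P →* ℂˣ}
    (hlam : lam ∈ focalDual F) (hmu : mu ∈ focalDual F) (q : G) (E : MonoidAlgebra ℂ G) :
    starLam p M P e (lam * mu) q E = starLam p M P e lam q E * starLam p M P e mu q E := by
  by_cases h : ∃ u, SeenAt p M P e q E u
  · obtain ⟨u, hu⟩ := h
    rw [starLam_eq hF hlam hu, starLam_eq hF hmu hu,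
      starLam_eq hF ((focalDual F).mul_mem hlam hmu) hu, MonoidHom.mul_apply, Units.val_mul]
  · rw [starLam_of_not h, starLam_of_not h, starLam_of_not h, one_mul]

/-- The weight is compatible with conjugation and given by characters below every pair. -/
theorem isWeight_starLam (hM : Cfsg.IsPModular p M)
    (hF : Cfsg.IsBlockFusionSystemOn p M B P e F) {lam : P →* ℂˣ} (hlam : lam ∈ focalDual F) :
    IsWeight p M (starLam p M P e lam) where
  cjInv x q E := by
    by_cases h : ∃ u, SeenAt p M P e q E u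
    · obtain ⟨u, hu⟩ := h
      rw [starLam_eq hF hlam hu, starLam_eq hF hlam (seenAt_cj hu x)]
    · rw [starLam_of_not h, starLam_of_not]
      rintro ⟨u, hu⟩
      refine h ⟨u, ?_⟩
      have := seenAt_cj hu x⁻¹
      rwa [show x⁻¹ * (x * q * x⁻¹) * x⁻¹⁻¹ = q by group, ← cj_mul_left, inv_mul_cancel,
        cj_one_apply] at this
  hom Q hQ f hf := by
    classical
    by_cases hx : ∃ x, Cfsg.SubpairLE p M (H82.conjPair x ⟨Q, f⟩).1 (H82.conjPair x ⟨Q, f⟩).2 P e
    · obtain ⟨x, hx⟩ := hx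
      have hQP : Q.map (MulAut.conj x).toMonoidHom ≤ P := H82.le_of_subpairLE hx
      refine ⟨lam.comp (((MulAut.conj x).toMonoidHom.comp Q.subtype).codRestrict P
        fun q => hQP ⟨q, q.2, rfl⟩), fun q b hb => ?_⟩
      refine starLam_eq hF hlam (seenAt_of_le (g := x⁻¹)
        ((H82.subpairLE_conjPair hM x hb).trans hx) ?_ ?_ ?_)
      · show (Subgroup.zpowers (q : G)).map _ = Subgroup.zpowers _
        rw [MonoidHom.map_zpowers]
        rfl
      · show x⁻¹ * (x * (q : G) * x⁻¹) * x⁻¹⁻¹ = q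
        group
      · show cj x⁻¹ (H82.blockUp _ (Cfsg.conjBlock _ x b)) = _
        rw [cj_blockUp (p := p), ← cj_mul_left, inv_mul_cancel, cj_one_apply]
    · refine ⟨1, fun q b hb => ?_⟩
      rw [MonoidHom.one_apply, Units.val_one]
      refine starLam_of_not ?_
      rintro ⟨u, g, b', hb', hq, hE⟩
      have hub := H82.isBrauerPairOf_of_le hM hF.1.1 hb'
      have hconj := H82.isBrauerPairOf_conjPair hM g (a := ⟨_, b'⟩) hub
      have hpair : H82.conjPair g ⟨Subgroup.zpowers (u : G), b'⟩ =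
          ⟨Subgroup.zpowers (q : G), b⟩ := by
        refine H82.pair_ext (f' := b) ?_ ?_
        · rw [MonoidHom.map_zpowers]
          exact congrArg Subgroup.zpowers hq
        · show H82.blockUp _ (Cfsg.conjBlock _ g b') = _
          rw [cj_blockUp (p := p)]
          exact hE
      rw [hpair] at hconj
      obtain ⟨ξ, hξ⟩ := isPBlock_nonempty hM hf
      obtain ⟨η, hη⟩ := isPBlock_nonempty hM hconj.1.2
      have hc := isCentralElt_blockElem B
      have h1 := H82.brOmega_congr_of_subpairLE hM hb ⟨hQ, hf⟩ hξ hη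
        (H82.isInvElt_of_isCentralElt hc _) (H82.isInvElt_of_isCentralElt hc _)
        (isIntElt_blockElem hM hF.1.1.2.1)
      have h2 := memLocalIdeal_add hM h1 (H82.brOmega_blockElem_of_isBrauerPairOf hconj hη)
      rw [sub_add_sub_cancel] at h2
      exact hx (H82.exists_conj_le hM hF.1
        (H82.isBrauerPairOf_of_mem hM hF.1.1.2.1 ⟨hQ, hf⟩ hξ h2))

end Cfsg.Agent.H83.Star
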