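import Cfsg.Agent.H83.StarNorm
import Cfsg.Agent.H83.StarWeight
import Cfsg.Agent.H83.HeightPairs
import Cfsg.Agent.S4659

/-!
Fixed points of the star action: a character of height zero sees every element of the defect
group, and every character sees the central elements.
-/

set_option linter.style.haveILetI false

open scoped ComplexConjugate

namespace Cfsg.Agent.H83.Star

open MonoidAlgebra BlockBasic BlockAlgebra CharBasic

universe u

variable {p : ℕ} {M : Ideal Cfsg.AlgInt} {G : Type u} [Group G] [Fintype G]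
  [hp : Fact p.Prime] {hM : Cfsg.IsPModular p M}

/-- The trace form of a function on the residue group algebra. -/
noncomputable def tau (hM : Cfsg.IsPModular p M) (f : G → ℂ)
    (z : MonoidAlgebra (Residue hM) G) : Residue hM :=
  ∑ g, z.coeff g * res hM (f g)

theorem tau_trunc {f : G → ℂ} (hf : Cfsg.IsClassFunction G f) {T : Subgroup G}
    (hT : IsPGroup p T) {z : MonoidAlgebra (Residue hM) G} (hz : InvBy T z) :
    tau hM f z = tau hM f (trunc (Subgroup.centralizer (T : Set G)) z) := by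
  classical
  rw [tau, sum_eq_sum_centralizer (residue_p_eq_zero hM) hT fun q hq x => by
    rw [hz.coeff_eq hq, hf x q], tau, Finset.sum_filter]
  exact Finset.sum_congr rfl fun x _ => by rw [coeff_trunc, ite_mul, zero_mul]

omit hp in
theorem tau_cj {f : G → ℂ} (hf : Cfsg.IsClassFunction G f) (x : G)
    (z : MonoidAlgebra (Residue hM) G) : tau hM f (cj x z) = tau hM f z := by
  rw [tau, tau]
  refine (Fintype.sum_equiv (MulAut.conj x).toEquiv _ _ fun g => ?_).symm
  simp only [MulEquiv.toEquiv_eq_coe, MulEquiv.coe_toEquiv, MulAut.conj_apply]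
  rw [coeff_cj, show x⁻¹ * (x * g * x⁻¹) * x = g by group, hf g x]

omit [Group G] hp in
theorem tau_sum {ι : Type*} (f : G → ℂ) (s : Finset ι) (z : ι → MonoidAlgebra (Residue hM) G) :
    tau hM f (∑ i ∈ s, z i) = ∑ i ∈ s, tau hM f (z i) := by
  simp only [tau, coeff_sum, Finsupp.finsetSum_apply, Finset.sum_mul]
  exact Finset.sum_comm

omit hp in
theorem tau_smul (f : G → ℂ) (c : Residue hM) (z : MonoidAlgebra (Residue hM) G) :
    tau hM f (c • z) = c * tau hM f z := by
  simp only [tau, coeff_smul_apply, smul_eq_mul, mul_assoc, Finset.mul_sum]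

omit hp in
theorem tau_red (χ : Cfsg.IrrCharacter G) {z : MonoidAlgebra ℂ G} (hz : IsIntElt M z) :
    tau hM (χ : G → ℂ) (red hM z) = res hM (chiLin (χ : G → ℂ) z) := by
  have hχ : ∀ g, Cfsg.MemLocalRing M ((χ : G → ℂ) g) := fun g =>
    memLocalRing_of_isIntegral hM (IsChar.isIntegral (IsIrr.isCharacter χ.2) g)
  rw [chiLin, res_sum hM _ fun g _ => memLocalRing_mul hM (hz g) (hχ g), tau]
  exact Finset.sum_congr rfl fun g _ => by rw [res_mul hM (hz g) (hχ g), coeff_red]

omit hp in
theorem exists_single_of_tau_mul {f : G → ℂ} {L : Subgroup G}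
    {e w : MonoidAlgebra (Residue hM) G} (hw : SuppIn L w) (h : tau hM f (e * w) ≠ 0) :
    ∃ c ∈ L, tau hM f (e * single c 1) ≠ 0 := by
  classical
  by_contra hc
  push Not at hc
  refine h ?_
  rw [show w = ∑ g : G, w.coeff g • single g (1 : Residue hM) from
    coeff_injective (Finsupp.ext fun y => by simp [coeff_sum]),
    Finset.mul_sum, tau_sum]
  refine Finset.sum_eq_zero fun g _ => ?_
  rw [mul_smul_comm, tau_smul]
  by_cases hg : g ∈ L
  · rw [hc g hg, mul_zero]
  · rw [hw g hg, zero_mul]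

omit [Fintype G] hp in
/-- Truncations of invariant elements are invariant. -/
theorem invBy_trunc_centralizer {K : Subgroup G} {z : MonoidAlgebra (Residue hM) G}
    (hz : InvBy K z) : InvBy K (trunc K z) :=
  hz.trunc fun _ hh => Subgroup.le_normalizer hh

omit hp in
theorem blockUp_eq_of_pair_eq {Q Q' : Subgroup G}
    {f : Set (Cfsg.IrrCharacter (Subgroup.centralizer (Q : Set G)))}
    {f' : Set (Cfsg.IrrCharacter (Subgroup.centralizer (Q' : Set G)))}
    (h : (⟨Q, f⟩ : Cfsg.BrauerPairIdx G) = ⟨Q', f'⟩) :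
    H82.blockUp (Subgroup.centralizer (Q : Set G)) f =
      H82.blockUp (Subgroup.centralizer (Q' : Set G)) f' := by
  cases h
  rfl

/-- A character of height zero is nonzero modulo `M` on a pair at the defect group. -/
theorem exists_tau_maximal {B : Set (Cfsg.IrrCharacter G)} {P : Subgroup G}
    {e : Set (Cfsg.IrrCharacter (Subgroup.centralizer (P : Set G)))}
    (hmax : Cfsg.IsMaximalBrauerPair p M B P e) {χ : Cfsg.IrrCharacter G} (hχ : χ ∈ B)
    (h0 : Cfsg.blockHeight p B (χ : G → ℂ) = 0) :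
    ∃ c ∈ Subgroup.centralizer (P : Set G), tau hM (χ : G → ℂ)
      (ebar hM (Subgroup.centralizer (P : Set G)) e * single c 1) ≠ 0 := by
  classical
  have hB := hmax.1.2.1
  have hf := IsIrr.isClassFunction χ.2
  obtain ⟨g, hg, S, hS⟩ := S4659.result p M hM B P e hmax
  have hgC : g ∈ Subgroup.centralizer (P : Set G) := by
    refine H82.le_centralizer_singleton_iff.1 ?_
    rw [hS]
    exact Subgroup.map_subtype_le _
  have hBi : IsIntElt M (blockElem B) := isIntElt_blockElem hM hB
  have hgi : IsIntElt M (single g (1 : ℂ)) := isIntElt_single hM g (locRing hM).one_mem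
  have hPp := hmax.1.1.1
  have hBinv : ∀ K : Subgroup G, InvBy K (red hM (blockElem B)) := fun K =>
    (invBy_of_coeff fun x hx y =>
      H82.isInvElt_of_isCentralElt (isCentralElt_blockElem B) K x hx y).red
  have hsg : SuppIn (Subgroup.centralizer (P : Set G)) (single g (1 : Residue hM)) := fun y hy => by
    rw [coeff_single, Finsupp.single_eq_of_ne]
    rintro rfl
    exact hy hgC
  have h1 : tau hM (χ : G → ℂ) (red hM (blockElem B) * single g 1) ≠ 0 := by
    rw [← red_single hM, ← red_mul hM hBi hgi, tau_red χ (hBi.mul hM hgi),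
      chiLin_blockElem_mul, if_pos hχ, chiLin_single, one_mul]
    intro h
    exact H35.unit_value_of_height_zero hM hB hg hχ h0 ((res_eq_zero_iff hM
      (memLocalRing_of_isIntegral hM (IsChar.isIntegral (IsIrr.isCharacter χ.2) g))).1 h)
  rw [tau_trunc hf hPp ((hBinv P).mul hsg.invBy),
    trunc_mul (residue_p_eq_zero hM) hPp (hBinv P) hsg.invBy, trunc_of_suppIn hsg] at h1
  set z := trunc (Subgroup.centralizer (P : Set G)) (red hM (blockElem B)) with hz
  rw [← one_mul (single g (1 : Residue hM)), ← sum_ebar hM (Subgroup.centralizer (P : Set G)),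
    ← mul_assoc, Finset.mul_sum, Finset.sum_mul, tau_sum] at h1
  obtain ⟨b, hb, hb1⟩ := Finset.exists_ne_zero_of_sum_ne_zero h1
  have hb' := mem_blocksOf.1 hb
  have hzz : z * z = z := by
    rw [hz, ← trunc_mul (residue_p_eq_zero hM) hPp (hBinv P) (hBinv P), ← red_mul hM hBi hBi,
      blockElem_idem]
  have hzi : InvBy (Subgroup.centralizer (P : Set G)) z :=
    invBy_trunc_centralizer (hBinv (Subgroup.centralizer (P : Set G)))
  rcases mul_ebar_eq hM hb' (suppIn_trunc _ _) hzi hzz with hzb | hzb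
  · rw [hzb, zero_mul] at hb1
    exact absurd (by simp [tau]) hb1
  rw [hzb] at hb1
  obtain ⟨ξ, hξ⟩ := isPBlock_nonempty hM hb'
  have hpair : Cfsg.IsBrauerPairOf p M B P b := by
    refine H82.isBrauerPairOf_of_mem hM hB ⟨hPp, hb'⟩ hξ ?_
    have h2 := memLocalIdeal_brOmega_of_trunc hM hb' hξ (z := 1 - blockElem B)
      ((isIntElt_one hM).sub hM hBi) (invBy_of_coeff fun x hx y => by
        rw [coeff_sub, Finsupp.sub_apply, Finsupp.sub_apply,
          H82.isInvElt_of_isCentralElt (z := (1 : MonoidAlgebra ℂ G)) (fun a c => by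
            simp [one_def, coeff_single, Finsupp.single_apply, eq_comm (a := (1 : G))]) _ x hx y,
          H82.isInvElt_of_isCentralElt (isCentralElt_blockElem B) _ x hx y]) ?_
    · rw [H82.brOmega_sub, H82.brOmega_one ξ.2] at h2
      simpa using memLocalIdeal_neg h2
    · rw [red_sub' hM (isIntElt_one hM) hBi, red_one, trunc_sub,
        trunc_of_suppIn (SuppIn.one _), ← hz, sub_mul, one_mul, hzb, sub_self]
  obtain ⟨x, hx⟩ := H82.exists_conj_maximal hM hmax
    (H82.isMaximal_of_card hM hpair (H82.card_of_maximal hM hmax).ge)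
  have hcj : cj x (H82.blockUp (Subgroup.centralizer (P : Set G)) b) =
      H82.blockUp (Subgroup.centralizer (P : Set G)) e := by
    rw [← cj_blockUp (p := p)]
    exact blockUp_eq_of_pair_eq hx
  have hxN : x ∈ Subgroup.normalizer (P : Set G) :=
    H82.mem_normalizer_of_map_conj_eq (congrArg Sigma.fst hx)
  refine ⟨x * g * x⁻¹, (Subgroup.mem_normalizer_iff.1
    (H82.normalizer_le_normalizer_centralizer P hxN) g).1 hgC, ?_⟩
  rw [ebar, ← hcj, red_cj, show single (x * g * x⁻¹) (1 : Residue hM) = cj x (single g 1) by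
    simp [cj_eq_single, single_mul_single], ← map_mul, tau_cj hf]
  exact hb1

/-- Nonvanishing passes down normal inclusions. -/
theorem exists_tau_normal {χ : Cfsg.IrrCharacter G} {S T : Subgroup G}
    {f : Set (Cfsg.IrrCharacter (Subgroup.centralizer (S : Set G)))}
    {f' : Set (Cfsg.IrrCharacter (Subgroup.centralizer (T : Set G)))}
    (h : Cfsg.IsNormalSubpair p M S f T f') {c : G}
    (hc : c ∈ Subgroup.centralizer (T : Set G))
    (hne : tau hM (χ : G → ℂ) (ebar hM (Subgroup.centralizer (T : Set G)) f' * single c 1) ≠ 0) :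
    ∃ d ∈ Subgroup.centralizer (S : Set G),
      tau hM (χ : G → ℂ) (ebar hM (Subgroup.centralizer (S : Set G)) f * single d 1) ≠ 0 := by
  have hf := IsIrr.isClassFunction χ.2
  obtain ⟨hSf, hTf, hST, -, hst, -⟩ := id h
  have hfT : InvBy T (ebar hM (Subgroup.centralizer (S : Set G)) f) :=
    (invBy_of_coeff fun x hx g => H82.isInvElt_blockUp_of_stabilizes hM hSf.2 hst x hx g).red
  have hw : SuppIn (Subgroup.centralizer (T : Set G))
      (ebar hM (Subgroup.centralizer (T : Set G)) f' * single c 1) := by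
    refine (suppIn_ebar hM _ f').mul fun y hy => ?_
    rw [coeff_single, Finsupp.single_eq_of_ne]
    rintro rfl
    exact hy hc
  obtain ⟨d, hd, hd'⟩ := exists_single_of_tau_mul hw
    (f := (χ : G → ℂ)) (e := ebar hM (Subgroup.centralizer (S : Set G)) f) (by
      rwa [tau_trunc hf hTf.1 (hfT.mul hw.invBy),
        trunc_mul (residue_p_eq_zero hM) hTf.1 hfT hw.invBy, trunc_of_suppIn hw, ← mul_assoc,
        trunc_ebar_mul_of_normal hM h])
  exact ⟨d, H82.centralizer_mono hST hd, hd'⟩

/-- A character of height zero sees every element of the defect group. -/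
theorem exists_part_ne_zero (hM : Cfsg.IsPModular p M) {B : Set (Cfsg.IrrCharacter G)}
    {P : Subgroup G} {e : Set (Cfsg.IrrCharacter (Subgroup.centralizer (P : Set G)))}
    (hmax : Cfsg.IsMaximalBrauerPair p M B P e) {χ : Cfsg.IrrCharacter G} (hχ : χ ∈ B)
    (h0 : Cfsg.blockHeight p B (χ : G → ℂ) = 0) {u : G} (hu : u ∈ P)
    {b : Set (Cfsg.IrrCharacter (cen u))}
    (hb : Cfsg.SubpairLE p M (Subgroup.zpowers u) b P e) :
    ∃ s, Commute u s ∧ ¬ p ∣ orderOf s ∧
      chiLin (χ : G → ℂ) (single u 1 * H82.blockUp (cen u) b * single s 1) ≠ 0 := by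
  classical
  have hdown : ∀ a : Cfsg.BrauerPairIdx G,
      Relation.ReflTransGen (Cfsg.NormalSubpairRel p M) a ⟨P, e⟩ →
      ∃ c ∈ Subgroup.centralizer (a.1 : Set G), tau hM (χ : G → ℂ)
        (ebar hM (Subgroup.centralizer (a.1 : Set G)) a.2 * single c 1) ≠ 0 := by
    intro a ha
    induction ha using Relation.ReflTransGen.head_induction_on with
    | refl => exact exists_tau_maximal hmax hχ h0
    | head hac _ ih =>
      obtain ⟨c, hc, hne⟩ := ih
      exact exists_tau_normal hac hc hne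
  obtain ⟨c, hc, hne⟩ := hdown ⟨_, b⟩ hb
  have hbB := (H82.isBrauerPairOf_of_le hM hmax.1 hb).1.2
  cases nonempty_fintype (cen u)
  obtain ⟨a, ha⟩ := subgroup_scalars (self_mem_cen u) fun y hy => (mem_cen_iff.1 hy).eq
  set c' : cen u := ⟨c, hc⟩ with hc'
  set s : cen u := pReg (p := p) c' with hsdef
  have hsreg : ¬ p ∣ orderOf s := not_dvd_orderOf_pReg c'
  refine ⟨(s : G), mem_cen_iff.1 s.2, by rwa [Subgroup.orderOf_coe], fun h0' => hne ?_⟩
  have hbi := H82.isIntElt_blockUp hM hbB
  have hci : IsIntElt M (single c (1 : ℂ)) := isIntElt_single hM c (locRing hM).one_mem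
  show tau hM (χ : G → ℂ) (ebar hM (cen u) b * single c 1) = 0
  rw [ebar, ← red_single hM, ← red_mul hM hbi hci, tau_red χ (hbi.mul hM hci), res_eq_zero_iff hM]
  swap
  · exact (locRing hM).sum_mem fun g _ => memLocalRing_mul hM ((hbi.mul hM hci) g)
      (memLocalRing_of_isIntegral hM (IsChar.isIntegral (IsIrr.isCharacter χ.2) g))
  have e1 : chiLin (χ : G → ℂ) (H82.blockUp (cen u) b * single c 1) =
      ∑ ψ ∈ Finset.univ.filter (fun ψ : Cfsg.IrrCharacter (cen u) => ψ ∈ b),
        (mult χ ψ : ℂ) * (ψ : cen u → ℂ) c' := by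
    rw [show H82.blockUp (cen u) b * single c 1 =
        single (1 : G) (1 : ℂ) * H82.blockUp (cen u) b * single (c' : G) 1 by
      rw [← one_def, one_mul], chiLin_shift]
    simp only [H82.coeff_blockUp]
    refine (sum_subgroupBlockCoeff_shift (cen u).one_mem b χ (fun _ => 1)
      (fun ψ y => ?_) c').trans (by simp only [mul_one])
    rw [show (⟨1, (cen u).one_mem⟩ : cen u) = 1 from rfl, one_mul, one_mul]
  have e2 : chiLin (χ : G → ℂ) (single u 1 * H82.blockUp (cen u) b * single (s : G) 1) =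
      ∑ ψ ∈ Finset.univ.filter (fun ψ : Cfsg.IrrCharacter (cen u) => ψ ∈ b),
        (mult χ ψ : ℂ) * (ψ : cen u → ℂ) (⟨u, self_mem_cen u⟩ * s) := by
    rw [chiLin_shift]
    simp only [H82.coeff_blockUp]
    rw [sum_subgroupBlockCoeff_shift (self_mem_cen u) b χ a ha s]
    exact Finset.sum_congr rfl fun ψ _ => by rw [ha, mul_assoc]
  have hu' : ∃ k, orderOf (⟨u, self_mem_cen u⟩ : cen u) = p ^ k := by
    obtain ⟨k, hk⟩ := exists_orderOf_of_mem hmax.1.1.1 hu
    exact ⟨k, by rw [← Subgroup.orderOf_coe]; exact hk⟩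
  have hcomm : Commute (⟨u, self_mem_cen u⟩ : cen u) s :=
    Subtype.ext (mem_cen_iff.1 s.2).eq
  have hdiff : Cfsg.MemLocalIdeal M
      (chiLin (χ : G → ℂ) (H82.blockUp (cen u) b * single c 1) -
        chiLin (χ : G → ℂ) (single u 1 * H82.blockUp (cen u) b * single (s : G) 1)) := by
    rw [e1, e2, ← Finset.sum_sub_distrib]
    refine memLocalIdeal_sum hM _ _ fun ψ _ => ?_
    rw [← mul_sub]
    refine memLocalIdeal_mul hM (memLocalRing_natCast hM _) ?_
    have hψ := IsIrr.isCharacter ψ.2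
    have h1 := H35.char_mul_congr hM hψ (commute_pPart_pReg (p := p) c')
      (exists_orderOf_pPart c') hsreg
    rw [← hsdef, hsdef, pPart_mul_pReg, ← hsdef] at h1
    have h2 := H35.char_mul_congr hM hψ hcomm hu' hsreg
    have := memLocalIdeal_sub hM h1 h2
    rwa [sub_sub_sub_cancel_right] at this
  simpa [h0'] using hdiff

/-- The height zero characters are moved by every nontrivial weight. -/
theorem lam_eq_one_of_fixed_height_zero (hM : Cfsg.IsPModular p M)
    {B : Set (Cfsg.IrrCharacter G)} {P : Subgroup G}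
    {e : Set (Cfsg.IrrCharacter (Subgroup.centralizer (P : Set G)))} {F : Cfsg.FusionSystem P}
    (hF : Cfsg.IsBlockFusionSystemOn p M B P e F) {lam : P →* ℂˣ} (hlam : lam ∈ focalDual F)
    {χ : Cfsg.IrrCharacter G} (hχ : χ ∈ B) (h0 : Cfsg.blockHeight p B (χ : G → ℂ) = 0)
    (hfix : starChar p M (χ : G → ℂ) (starLam p M P e lam) = (χ : G → ℂ)) : lam = 1 := by
  refine MonoidHom.ext fun u => Units.ext ?_
  have hPe := hF.1.1.1
  obtain ⟨b, hbp, hb⟩ := H82.exists_subpair hM hPe (Subgroup.zpowers_le.2 u.2)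
  obtain ⟨s, hs, hsreg, hne⟩ := exists_part_ne_zero hM hF.1 hχ h0 u.2 hb
  have := weight_eq_one_of_fixed hM hfix (exists_orderOf_of_mem hPe.1 u.2)
    (mem_idemsOf.2 ⟨b, hbp.2, rfl⟩) hs hsreg hne
  rw [starLam_eq hF hlam (seenAt_self hb)] at this
  rw [this, MonoidHom.one_apply, Units.val_one]

/-- A fixed character forces a weight trivial on the centre. -/
theorem lam_eq_one_of_fixed_center (hM : Cfsg.IsPModular p M)
    {B : Set (Cfsg.IrrCharacter G)} {P : Subgroup G}
    {e : Set (Cfsg.IrrCharacter (Subgroup.centralizer (P : Set G)))} {F : Cfsg.FusionSystem P}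
    (hF : Cfsg.IsBlockFusionSystemOn p M B P e F) {lam : P →* ℂˣ} (hlam : lam ∈ focalDual F)
    {χ : Cfsg.IrrCharacter G} (hχ : χ ∈ B)
    (hfix : starChar p M (χ : G → ℂ) (starLam p M P e lam) = (χ : G → ℂ))
    {u : P} (hu : (u : G) ∈ Subgroup.centralizer (P : Set G)) : lam u = 1 := by
  classical
  have hPe := hF.1.1.1
  obtain ⟨n, hn⟩ := exists_orderOf_of_mem hPe.1 u.2
  obtain ⟨b, hbp, hb⟩ := H82.exists_subpair hM hPe (Subgroup.zpowers_le.2 u.2)
  obtain ⟨hind, hbd⟩ := major_of_le hM hF.1 hbp.1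
    (fun y hy => Subgroup.mem_centralizer_iff.2 fun z hz => by
      obtain ⟨i, rfl⟩ := Subgroup.mem_zpowers_iff.1 hy
      obtain ⟨j, rfl⟩ := Subgroup.mem_zpowers_iff.1 hz
      exact ((Commute.refl (u : G)).zpow_zpow j i).eq)
    (fun y hy => mem_cen_iff.2 (Subgroup.mem_centralizer_iff.1 hu y hy).symm) hb
  cases nonempty_fintype (cen (u : G))
  have hle := card_mul_le_sum_secWeight hM hn (cen (u : G)) (cen_eq_singleton _) hind hbd hχ
  have hpos : 0 < ((Finset.univ.filter fun v : G =>
      Subgroup.zpowers v = Subgroup.zpowers (u : G)).card : ℝ) *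
      (p : ℝ) ^ Cfsg.blockHeight p B (χ : G → ℂ) :=
    mul_pos (Nat.cast_pos.2 (Finset.card_pos.2
      ⟨(u : G), Finset.mem_filter.2 ⟨Finset.mem_univ _, rfl⟩⟩))
      (pow_pos (Nat.cast_pos.2 hp.out.pos) _)
  obtain ⟨v, hv, hv0⟩ := Finset.exists_ne_zero_of_sum_ne_zero
    (right_ne_zero_of_mul (ne_of_gt (lt_of_lt_of_le hpos hle)))
  have hv' := (Finset.mem_filter.1 hv).2
  obtain ⟨s, hs, hs0⟩ := Finset.exists_ne_zero_of_sum_ne_zero
    (right_ne_zero_of_mul (by rw [secWeight] at hv0; exact hv0))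
  obtain ⟨hsv, hsreg⟩ := (Finset.mem_filter.1 hs).2
  rw [pow_ne_zero_iff two_ne_zero, norm_ne_zero_iff] at hs0
  have hvP : v ∈ P := Subgroup.zpowers_le.2 u.2 (hv' ▸ Subgroup.mem_zpowers v)
  have hcen : cen v = cen (u : G) := by rw [cen, cen, hv']
  have hE : H82.blockUp (cen (u : G)) b ∈ idemsOf M (cen v) := by
    rw [hcen]; exact mem_idemsOf.2 ⟨b, hbp.2, rfl⟩
  have hne : chiLin (χ : G → ℂ)
      (single v 1 * H82.blockUp (cen (u : G)) b * single s 1) ≠ 0 := by
    rw [chiLin_shift]
    simp only [H82.coeff_blockUp]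
    exact hs0
  have h1 := weight_eq_one_of_fixed hM hfix (exists_orderOf_of_mem hPe.1 hvP) hE
    (show Commute v s from hsv.symm) hsreg hne
  rw [starLam_eq hF hlam (seenAt_of_le (u := ⟨v, hvP⟩) (g := 1) hb hv'.symm
    (show (1 : G) * v * 1⁻¹ = v by group) (cj_one_apply _))] at h1
  have h2 : lam ⟨v, hvP⟩ = 1 := Units.ext h1
  obtain ⟨k, hk⟩ := Subgroup.mem_zpowers_iff.1
    (show (u : G) ∈ Subgroup.zpowers v from hv' ▸ Subgroup.mem_zpowers (u : G))
  rw [show u = (⟨v, hvP⟩ : P) ^ k from Subtype.ext (by push_cast; exact hk.symm), map_zpow, h2,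
    one_zpow]

end Cfsg.Agent.H83.Star
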