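import Mathlib.FieldTheory.IsAlgClosed.Basic
import Mathlib.FieldTheory.Minpoly.Field
import Mathlib.LinearAlgebra.Eigenspace.Triangularizable
import Mathlib.RingTheory.Nilpotent.Basic
import Mathlib.Algebra.Algebra.Subalgebra.Basic
import Mathlib.RingTheory.Adjoin.Polynomial.Basic

/-!
Primitive idempotents of a subalgebra of a finite dimensional algebra over an algebraically closed
field: local corners, their residual scalars, decompositions, and invariance of weighted traces.
-/

namespace Cfsg.Agent.H83.Star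

variable {k A : Type*} [Field k] [Ring A] [Algebra k A]

/-- Membership in the corner of `i` in `R`. -/
def InCorner (R : Subalgebra k A) (i x : A) : Prop := x ∈ R ∧ i * x = x ∧ x * i = x

/-- Primitive idempotents of a subalgebra. -/
def IsPrim (R : Subalgebra k A) (i : A) : Prop :=
  i ∈ R ∧ i * i = i ∧ i ≠ 0 ∧ ∀ e, InCorner R i e → e * e = e → e = 0 ∨ e = i

open scoped Classical in
/-- The residual scalar of a corner element. -/
noncomputable def scal (i x : A) : k :=
  if h : ∃ c : k, IsNilpotent (x - c • i) then h.choose else 0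

variable {R : Subalgebra k A}

theorem InCorner.self {i : A} (hi : IsPrim R i) : InCorner R i i := ⟨hi.1, hi.2.1, hi.2.1⟩

theorem InCorner.mul {i x y : A} (hx : InCorner R i x) (hy : InCorner R i y) :
    InCorner R i (x * y) :=
  ⟨R.mul_mem hx.1 hy.1, by rw [← mul_assoc, hx.2.1], by rw [mul_assoc, hy.2.2]⟩

theorem InCorner.add {i x y : A} (hx : InCorner R i x) (hy : InCorner R i y) :
    InCorner R i (x + y) :=
  ⟨R.add_mem hx.1 hy.1, by rw [mul_add, hx.2.1, hy.2.1], by rw [add_mul, hx.2.2, hy.2.2]⟩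

theorem InCorner.sub {i x y : A} (hx : InCorner R i x) (hy : InCorner R i y) :
    InCorner R i (x - y) :=
  ⟨R.sub_mem hx.1 hy.1, by rw [mul_sub, hx.2.1, hy.2.1], by rw [sub_mul, hx.2.2, hy.2.2]⟩

theorem InCorner.smul {i x : A} (c : k) (hx : InCorner R i x) : InCorner R i (c • x) :=
  ⟨R.smul_mem hx.1 c, by rw [mul_smul_comm, hx.2.1], by rw [smul_mul_assoc, hx.2.2]⟩

theorem InCorner.of_mem {i x : A} (hi : i ∈ R) (hii : i * i = i) (hx : x ∈ R) :
    InCorner R i (i * x * i) :=
  ⟨R.mul_mem (R.mul_mem hi hx) hi, by rw [← mul_assoc, ← mul_assoc, hii], by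
    rw [mul_assoc (i * x), hii]⟩

variable [FiniteDimensional k A]

open Polynomial in
/-- A non nilpotent element has a nonzero idempotent multiple, by a polynomial in it. -/
theorem exists_idem_of_not_nilpotent {y : A} (hy : ¬ IsNilpotent y) (hyR : y ∈ R) :
    ∃ z ∈ R, Commute y z ∧ y * z * (y * z) = y * z ∧ y * z ≠ 0 := by
  have hy' : IsIntegral k y := IsIntegral.of_finite k y
  obtain ⟨g, hfg, hg⟩ := exists_eq_pow_rootMultiplicity_mul_and_not_dvd (minpoly k y)
    (minpoly.ne_zero hy') (0 : k)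
  set n := (minpoly k y).rootMultiplicity 0
  rw [map_zero, sub_zero] at hfg hg
  have hg0 : g.coeff 0 ≠ 0 := fun h => hg (X_dvd_iff.2 h)
  have h0 := congrArg (aeval y) hfg
  rw [minpoly.aeval] at h0
  conv_rhs at h0 => rw [← X_mul_divX_add g]
  simp only [map_mul, map_pow, map_add, aeval_X, aeval_C] at h0
  set d := aeval y g.divX
  set h := -((g.coeff 0)⁻¹ • d) with hh
  have hdR : d ∈ R := by
    have h1 : d ∈ Algebra.adjoin k {y} := aeval_mem_adjoin_singleton k y
    exact (Algebra.adjoin_le (by simpa using hyR)) h1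
  have hyd : Commute y d := (Polynomial.commute_X _).map (aeval y) |> fun h => by
    simpa only [aeval_X] using h
  have hyh : Commute y h := (hyd.smul_right _).neg_right
  have hstep : y ^ n * (y * h) = y ^ n := by
    rw [mul_add, Algebra.algebraMap_eq_smul_one, mul_smul_comm, mul_one] at h0
    have h1 : y ^ n * (y * d) = -(g.coeff 0 • y ^ n) := eq_neg_of_add_eq_zero_left h0.symm
    rw [hh, mul_neg, mul_smul_comm, mul_neg, mul_smul_comm, h1, smul_neg, neg_neg, smul_smul,
      inv_mul_cancel₀ hg0, one_smul]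
  have hsucc : y ^ (n + 1) * (y * h) = y ^ (n + 1) := by rw [pow_succ', mul_assoc, hstep]
  have hiter : ∀ m : ℕ, y ^ (n + 1) * (y * h) ^ m = y ^ (n + 1) := by
    intro m
    induction m with
    | zero => rw [pow_zero, mul_one]
    | succ m ih => rw [pow_succ' (y * h), ← mul_assoc, hsucc, ih]
  refine ⟨y ^ n * h ^ (n + 1), R.mul_mem (R.pow_mem hyR n)
    (R.pow_mem (R.neg_mem (R.smul_mem hdR _)) _),
    ((Commute.refl y).pow_right n).mul_right (hyh.pow_right _), ?_, ?_⟩
  all_goals rw [← mul_assoc y, ← pow_succ']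
  · have h2 : h ^ (n + 1) * y ^ (n + 1) = y ^ (n + 1) * h ^ (n + 1) := (hyh.pow_pow _ _).eq.symm
    calc y ^ (n + 1) * h ^ (n + 1) * (y ^ (n + 1) * h ^ (n + 1))
        = h ^ (n + 1) * (y ^ (n + 1) * (y * h) ^ (n + 1)) := by
          rw [hyh.mul_pow]
          conv_rhs => rw [← mul_assoc, h2]
      _ = y ^ (n + 1) * h ^ (n + 1) := by rw [hiter, h2]
  · rw [← hyh.mul_pow]
    intro h3
    have := hiter (n + 1)
    rw [h3, mul_zero] at this
    exact hy ⟨n + 1, this.symm⟩

/-- Non nilpotent elements of a primitive corner are invertible there. -/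
theorem exists_inv_of_not_nilpotent {i x : A} (hi : IsPrim R i) (hx : InCorner R i x)
    (hxn : ¬ IsNilpotent x) : ∃ z, InCorner R i z ∧ x * z = i ∧ z * x = i := by
  obtain ⟨z, hz, hxz, he, he0⟩ := exists_idem_of_not_nilpotent hxn hx.1
  have hc : InCorner R i (x * z) := ⟨R.mul_mem hx.1 hz, by rw [← mul_assoc, hx.2.1], by
    rw [hxz.eq, mul_assoc, hx.2.2]⟩
  have hxi := (hi.2.2.2 _ hc he).resolve_left he0
  refine ⟨i * z * i, InCorner.of_mem hi.1 hi.2.1 hz, ?_, ?_⟩
  · rw [← mul_assoc, ← mul_assoc, hx.2.2, hxi, hi.2.1]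
  · rw [mul_assoc, hx.2.1, mul_assoc, ← hxz.eq, hxi, hi.2.1]

omit [FiniteDimensional k A] in
theorem not_isNilpotent_of_mul_eq {i x z : A} (hi : IsPrim R i) (hz : InCorner R i z)
    (h : z * x = i) : ¬ IsNilpotent x := by
  rintro ⟨n, hn⟩
  have key : ∀ m : ℕ, z ^ (m + 1) * x ^ (m + 1) = i := by
    intro m
    induction m with
    | zero => rw [pow_one, pow_one, h]
    | succ m ih =>
      rw [pow_succ' z, pow_succ x, mul_assoc, ← mul_assoc (z ^ (m + 1)), ih, ← mul_assoc, hz.2.2, h]
  exact hi.2.2.1 (by rw [← key n, pow_succ x, hn, zero_mul, mul_zero])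

theorem isNilpotent_mul_left {i x y : A} (hi : IsPrim R i) (hx : InCorner R i x)
    (hy : InCorner R i y) (h : IsNilpotent y) : IsNilpotent (x * y) := by
  by_contra hn
  obtain ⟨z, hz, -, hzx⟩ := exists_inv_of_not_nilpotent hi (hx.mul hy) hn
  rw [← mul_assoc] at hzx
  exact not_isNilpotent_of_mul_eq hi (hz.mul hx) hzx h

theorem isNilpotent_add {i x y : A} (hi : IsPrim R i) (hx : InCorner R i x) (hy : InCorner R i y)
    (hxn : IsNilpotent x) (hyn : IsNilpotent y) : IsNilpotent (x + y) := by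
  by_contra hn
  obtain ⟨z, hz, -, hzs⟩ := exists_inv_of_not_nilpotent hi (hx.add hy) hn
  rw [mul_add] at hzs
  have hzy : IsNilpotent (z * y) := isNilpotent_mul_left hi hz hy hyn
  have hzx : IsNilpotent (z * x) := isNilpotent_mul_left hi hz hx hxn
  obtain ⟨m, hm⟩ := hzy
  -- `i - z * y` is a unit of the corner
  have key : ∀ m : ℕ, ∃ w, InCorner R i w ∧ w * (i - z * y) = i - (z * y) ^ (m + 1) := by
    intro m
    induction m with
    | zero => exact ⟨i, InCorner.self hi, by rw [pow_one, mul_sub, hi.2.1, (hz.mul hy).2.1]⟩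
    | succ m ih =>
      obtain ⟨w, hw, he⟩ := ih
      have hc : ∀ l : ℕ, InCorner R i ((z * y) ^ (l + 1)) := by
        intro l
        induction l with
        | zero => rw [pow_one]; exact hz.mul hy
        | succ l ih => rw [pow_succ]; exact ih.mul (hz.mul hy)
      refine ⟨w + (z * y) ^ (m + 1), hw.add (hc m), ?_⟩
      rw [add_mul, he, mul_sub, (hc m).2.2, ← pow_succ]
      abel
  obtain ⟨w, hw, he⟩ := key m
  rw [pow_succ, hm, zero_mul, sub_zero, ← eq_sub_of_add_eq hzs] at he
  exact not_isNilpotent_of_mul_eq hi hw he hzx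

variable [IsAlgClosed k]

theorem exists_scal {i x : A} (hi : IsPrim R i) (hx : InCorner R i x) :
    ∃ c : k, IsNilpotent (x - c • i) := by
  set W : Submodule k A := LinearMap.range (LinearMap.mulLeft k i) with hW
  have hmap : ∀ v ∈ W, LinearMap.mulLeft k x v ∈ W := by
    rintro _ ⟨v, rfl⟩
    exact ⟨x * v, by simp only [LinearMap.mulLeft_apply, ← mul_assoc, hx.2.1, hx.2.2]⟩
  have : Nontrivial W := by
    refine ⟨⟨i, ⟨1, by simp⟩⟩, 0, fun h => hi.2.2.1 (congrArg Subtype.val h)⟩
  obtain ⟨c, hc⟩ := Module.End.exists_eigenvalue ((LinearMap.mulLeft k x).restrict hmap)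
  obtain ⟨v, hv⟩ := hc.exists_hasEigenvector
  refine ⟨c, ?_⟩
  by_contra hn
  obtain ⟨z, hz, -, hzy⟩ := exists_inv_of_not_nilpotent hi (hx.sub ((InCorner.self hi).smul c)) hn
  have hiv : i * (v : A) = v := by
    obtain ⟨w, hw⟩ := v.2
    rw [← hw, LinearMap.mulLeft_apply, ← mul_assoc, hi.2.1]
  have hxv : x * (v : A) = c • (v : A) := congrArg Subtype.val hv.apply_eq_smul
  apply hv.2
  refine Subtype.ext ?_
  rw [ZeroMemClass.coe_zero, ← hiv, ← hzy, mul_assoc, sub_mul, smul_mul_assoc, hiv, hxv, sub_self,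
    mul_zero]

theorem scal_spec {i x : A} (hi : IsPrim R i) (hx : InCorner R i x) :
    IsNilpotent (x - scal (k := k) i x • i) := by
  classical
  rw [scal, dif_pos (exists_scal hi hx)]
  exact (exists_scal hi hx).choose_spec

theorem scal_unique {i x : A} (hi : IsPrim R i) (hx : InCorner R i x) {c : k}
    (hc : IsNilpotent (x - c • i)) : scal i x = c := by
  by_contra hne
  have h1 := scal_spec hi hx
  have hcs := fun d : k => hx.sub ((InCorner.self hi).smul d)
  have h2 : InCorner R i (-(x - c • i)) := by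
    have := (hcs c).smul (-1 : k)
    simpa using this
  have h3 := isNilpotent_add hi (hcs _) h2 h1 hc.neg
  rw [show x - scal (k := k) i x • i + -(x - c • i) = (c - scal (k := k) i x) • i by
    rw [sub_smul]; abel] at h3
  refine not_isNilpotent_of_mul_eq hi ((InCorner.self hi).smul (c - scal (k := k) i x)⁻¹) ?_ h3
  rw [smul_mul_assoc, mul_smul_comm, hi.2.1, smul_smul,
    inv_mul_cancel₀ (sub_ne_zero.2 (Ne.symm hne)), one_smul]

theorem scal_add {i x y : A} (hi : IsPrim R i) (hx : InCorner R i x) (hy : InCorner R i y) :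
    scal (k := k) i (x + y) = scal i x + scal i y := by
  refine scal_unique hi (hx.add hy) ?_
  have h := isNilpotent_add hi (hx.sub ((InCorner.self hi).smul _))
    (hy.sub ((InCorner.self hi).smul _)) (scal_spec hi hx) (scal_spec hi hy)
  rwa [add_smul, add_sub_add_comm]

theorem scal_self {i : A} (hi : IsPrim R i) : scal (k := k) i i = 1 :=
  scal_unique hi (InCorner.self hi) (by rw [one_smul, sub_self]; exact IsNilpotent.zero)

theorem scal_zero {i : A} (hi : IsPrim R i) : scal (k := k) i (0 : A) = 0 := by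
  refine scal_unique hi ⟨R.zero_mem, mul_zero i, zero_mul i⟩ ?_
  rw [zero_smul, sub_zero]
  exact IsNilpotent.zero

theorem scal_smul {i x : A} (hi : IsPrim R i) (hx : InCorner R i x) (c : k) :
    scal (k := k) i (c • x) = c * scal i x := by
  refine scal_unique hi (hx.smul c) ?_
  rw [mul_smul, ← smul_sub]
  exact (scal_spec hi hx).smul c

theorem scal_sum {i : A} (hi : IsPrim R i) {ι : Type*} (s : Finset ι) (x : ι → A)
    (hx : ∀ m ∈ s, InCorner R i (x m)) :
    scal (k := k) i (∑ m ∈ s, x m) = ∑ m ∈ s, scal i (x m) := by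
  classical
  induction s using Finset.induction with
  | empty => simp [scal_zero hi]
  | insert a s ha ih =>
    have hs : ∀ m ∈ s, InCorner R i (x m) := fun m hm => hx m (Finset.mem_insert_of_mem hm)
    rw [Finset.sum_insert ha, Finset.sum_insert ha, scal_add hi (hx a (Finset.mem_insert_self a s))
      (Finset.sum_induction x (InCorner R i) (fun _ _ => InCorner.add)
        ⟨R.zero_mem, mul_zero i, zero_mul i⟩ hs), ih hs]

theorem scal_eq_zero_iff {i x : A} (hi : IsPrim R i) (hx : InCorner R i x) :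
    scal (k := k) i x = 0 ↔ IsNilpotent x := by
  refine ⟨fun h => ?_, fun h => scal_unique hi hx (by rwa [zero_smul, sub_zero])⟩
  have := scal_spec (k := k) hi hx
  rwa [h, zero_smul, sub_zero] at this

/-- Two primitive idempotents joined by a non nilpotent product are equivalent, and then the
residual scalars of the two products agree. -/
theorem scal_swap {e f a b : A} (he : IsPrim R e) (hf : IsPrim R f) (ha : a ∈ R) (hb : b ∈ R)
    (hea : e * a = a) (haf : a * f = a) (hfb : f * b = b) (hbe : b * e = b) :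
    scal (k := k) e (a * b) = scal f (b * a) ∧ (¬ IsNilpotent (a * b) →
      ∃ a' b', a' ∈ R ∧ b' ∈ R ∧ a' * b' = e ∧ b' * a' = f) := by
  have hab : InCorner R e (a * b) :=
    ⟨R.mul_mem ha hb, by rw [← mul_assoc, hea], by rw [mul_assoc, hbe]⟩
  have hba : InCorner R f (b * a) :=
    ⟨R.mul_mem hb ha, by rw [← mul_assoc, hfb], by rw [mul_assoc, haf]⟩
  have hpow : ∀ (u v : A) (n : ℕ), (v * u) ^ (n + 1) = v * (u * v) ^ n * u := by
    intro u v n
    induction n with
    | zero => simp
    | succ n ih => rw [pow_succ, ih, pow_succ (u * v)]; simp only [mul_assoc]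
  by_cases hn : IsNilpotent (a * b)
  · obtain ⟨n, hn'⟩ := hn
    refine ⟨?_, fun h => absurd ⟨n, hn'⟩ h⟩
    rw [(scal_eq_zero_iff hf hba).2 ⟨n + 1, by rw [hpow, hn', mul_zero, zero_mul]⟩]
    exact (scal_eq_zero_iff he hab).2 ⟨n, hn'⟩
  · have hn2 : ¬ IsNilpotent (b * a) := by
      rintro ⟨n, hn'⟩
      exact hn ⟨n + 1, by rw [hpow, hn', mul_zero, zero_mul]⟩
    refine ⟨(scal_unique hf hba ?_).symm, fun _ => ?_⟩
    · obtain ⟨n, hn'⟩ := scal_spec (k := k) he hab
      obtain ⟨z, hz, hbz, -⟩ := exists_inv_of_not_nilpotent hf hba hn2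
      set c := scal (k := k) e (a * b)
      have hcomm : (b * a - c • f) * b = b * (a * b - c • e) := by
        rw [sub_mul, mul_sub, smul_mul_assoc, mul_smul_comm, hfb, hbe, mul_assoc]
      have hcommn : ∀ m : ℕ, (b * a - c • f) ^ m * b = b * (a * b - c • e) ^ m := by
        intro m
        induction m with
        | zero => simp
        | succ m ih =>
          rw [pow_succ, mul_assoc, hcomm, ← mul_assoc, ih, mul_assoc, ← pow_succ]
      have h1 : (b * a - c • f) ^ n * b * a = 0 := by rw [hcommn, hn', mul_zero, zero_mul]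
      refine ⟨n + 1, ?_⟩
      have h2 : (b * a - c • f) ^ n * f = 0 := by
        have h3 : (b * a - c • f) ^ n * f = (b * a - c • f) ^ n * b * a * z := by
          rw [mul_assoc ((b * a - c • f) ^ n) b a, mul_assoc ((b * a - c • f) ^ n) (b * a) z, hbz]
        rw [h3, h1, zero_mul]
      calc (b * a - c • f) ^ (n + 1) = (b * a - c • f) ^ n * (b * a - c • f) := pow_succ _ _
        _ = (b * a - c • f) ^ n * (f * (b * a - c • f)) := by
          rw [(hba.sub ((InCorner.self hf).smul c)).2.1]
        _ = 0 := by rw [← mul_assoc, h2, zero_mul]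
    · obtain ⟨z, hz, -, hzab⟩ := exists_inv_of_not_nilpotent he hab hn
      refine ⟨z * a, b, R.mul_mem hz.1 ha, hb, by rw [mul_assoc, hzab], ?_⟩
      have hidem : b * (z * a) * (b * (z * a)) = b * (z * a) := by
        rw [mul_assoc b, ← mul_assoc (z * a), mul_assoc z a b, hzab, ← mul_assoc e, ← hz.2.1]
        simp only [← mul_assoc, he.2.1]
      refine (hf.2.2.2 _ ⟨R.mul_mem hb (R.mul_mem hz.1 ha), by rw [← mul_assoc, hfb], by
        rw [mul_assoc, mul_assoc, haf]⟩ hidem).resolve_left fun h0 => ?_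
      apply he.2.2.1
      have : e * e = z * a * (b * (z * a)) * b := by
        rw [← mul_assoc (z * a), mul_assoc z a b, hzab, mul_assoc, mul_assoc z a b, hzab]
      rwa [h0, mul_zero, zero_mul, he.2.1] at this

/-- A decomposition of an idempotent into orthogonal primitive idempotents. -/
def IsDecomp (R : Subalgebra k A) (i : A) (s : Finset A) : Prop :=
  (∀ j ∈ s, IsPrim R j) ∧ (∀ j ∈ s, ∀ l ∈ s, j ≠ l → j * l = 0) ∧ ∑ j ∈ s, j = i

omit [IsAlgClosed k] [FiniteDimensional k A] in
theorem IsDecomp.mul_left {i : A} {s : Finset A} (h : IsDecomp R i s) {j : A} (hj : j ∈ s) :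
    i * j = j := by
  rw [← h.2.2, Finset.sum_mul, Finset.sum_eq_single j (fun l hl hlj => h.2.1 l hl j hj hlj)
    (fun h' => absurd hj h'), (h.1 j hj).2.1]

omit [IsAlgClosed k] [FiniteDimensional k A] in
theorem IsDecomp.mul_right {i : A} {s : Finset A} (h : IsDecomp R i s) {j : A} (hj : j ∈ s) :
    j * i = j := by
  rw [← h.2.2, Finset.mul_sum, Finset.sum_eq_single j (fun l hl hlj => h.2.1 j hj l hl hlj.symm)
    (fun h' => absurd hj h'), (h.1 j hj).2.1]

omit [IsAlgClosed k] in
theorem exists_decomp {i : A} (hi : i ∈ R) (hii : i * i = i) : ∃ s, IsDecomp R i s := by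
  classical
  suffices key : ∀ n, ∀ i ∈ R, i * i = i →
      Module.finrank k (LinearMap.range (LinearMap.mulLeft k i)) < n →
        ∃ s, IsDecomp R i s from key _ i hi hii (Nat.lt_succ_self _)
  intro n
  induction n with
  | zero => exact fun _ _ _ h => absurd h (Nat.not_lt_zero _)
  | succ n ih =>
    intro i hi hii hn
    by_cases h0 : i = 0
    · exact ⟨∅, by simp, by simp, by simp [h0]⟩
    by_cases hp : ∀ e, InCorner R i e → e * e = e → e = 0 ∨ e = i
    · refine ⟨{i}, fun j hj => ?_, fun j hj l hl hjl => ?_, Finset.sum_singleton _ _⟩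
      · rw [Finset.mem_singleton.1 hj]; exact ⟨hi, hii, h0, hp⟩
      · exact absurd ((Finset.mem_singleton.1 hj).trans (Finset.mem_singleton.1 hl).symm) hjl
    push Not at hp
    obtain ⟨e, he, hee, he0, hei⟩ := hp
    have hlt : ∀ e', InCorner R i e' → e' * e' = e' → e' ≠ i →
        Module.finrank k (LinearMap.range (LinearMap.mulLeft k e')) < n := by
      intro e' he' he'e hne
      refine lt_of_lt_of_le (Submodule.finrank_lt_finrank_of_lt ?_) (Nat.lt_succ_iff.1 hn)
      refine lt_of_le_of_ne ?_ fun h => hne ?_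
      · rintro _ ⟨v, rfl⟩
        exact ⟨e' * v, by simp only [LinearMap.mulLeft_apply, ← mul_assoc, he'.2.1]⟩
      · obtain ⟨v, hv⟩ : i ∈ LinearMap.range (LinearMap.mulLeft k e') := by
          rw [h]; exact ⟨i, hii⟩
        calc e' = e' * i := he'.2.2.symm
          _ = e' * (e' * v) := congrArg (e' * ·) hv.symm
          _ = i := by rw [← mul_assoc, he'e]; exact hv
    have he' : InCorner R i (i - e) :=
      ⟨R.sub_mem hi he.1, by rw [mul_sub, hii, he.2.1], by rw [sub_mul, hii, he.2.2]⟩
    have he'e : (i - e) * (i - e) = i - e := by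
      simp only [mul_sub, sub_mul, hii, he.2.1, he.2.2, hee, sub_self, sub_zero]
    obtain ⟨s, hs⟩ := ih e he.1 hee (hlt e he hee hei)
    obtain ⟨t, ht⟩ := ih (i - e) he'.1 he'e
      (hlt _ he' he'e fun h => he0 (sub_eq_self.1 h))
    have hst : ∀ j ∈ s, ∀ l ∈ t, j * l = 0 ∧ l * j = 0 := by
      intro j hj l hl
      refine ⟨?_, ?_⟩
      · rw [← hs.mul_right hj, ← ht.mul_left hl, mul_assoc, ← mul_assoc e, mul_sub, he.2.2, hee,
          sub_self, zero_mul, mul_zero]
      · rw [← ht.mul_right hl, ← hs.mul_left hj, mul_assoc, ← mul_assoc (i - e), sub_mul, he.2.1,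
          hee, sub_self, zero_mul, mul_zero]
    have hdisj : Disjoint s t := Finset.disjoint_left.2 fun j hj hj' =>
      (hs.1 j hj).2.2.1 (by rw [← (hs.1 j hj).2.1]; exact (hst j hj j hj').1)
    refine ⟨s ∪ t, fun j hj => ?_, fun j hj l hl hjl => ?_, ?_⟩
    · exact (Finset.mem_union.1 hj).elim (hs.1 j) (ht.1 j)
    · rcases Finset.mem_union.1 hj with hj | hj <;> rcases Finset.mem_union.1 hl with hl | hl
      · exact hs.2.1 j hj l hl hjl
      · exact (hst j hj l hl).1
      · exact (hst l hl j hj).2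
      · exact ht.2.1 j hj l hl hjl
    · rw [Finset.sum_union hdisj, hs.2.2, ht.2.2, add_sub_cancel]

/-- The weighted sum of residual scalars does not depend on the decomposition. -/
theorem sum_scal_eq {i x : A} {s t : Finset A} (hs : IsDecomp R i s) (ht : IsDecomp R i t)
    (hx : x ∈ R) (ψ : A → k)
    (hψ : ∀ e f a b, IsPrim R e → IsPrim R f → a ∈ R → b ∈ R → a * b = e → b * a = f →
      ψ e = ψ f) :
    ∑ j ∈ s, ψ j * scal j (j * x * j) = ∑ l ∈ t, ψ l * scal l (l * x * l) := by
  classical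
  have hterm : ∀ j ∈ s, ψ j * scal (k := k) j (j * x * j) =
      ∑ l ∈ t, ∑ l' ∈ t, ψ l * scal l (l * j * (j * l' * x * l)) := by
    intro j hj
    have hj' := hs.1 j hj
    have hexp : j * x * j = ∑ l ∈ t, ∑ l' ∈ t, j * l' * x * l * (l * j) := by
      conv_lhs => rw [show j * x * j = j * i * x * (i * j) by rw [hs.mul_left hj, hs.mul_right hj]]
      rw [← ht.2.2]
      simp only [Finset.mul_sum, Finset.sum_mul]
      refine Finset.sum_congr rfl fun l hl => Finset.sum_congr rfl fun l' hl' => ?_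
      conv_lhs => rw [← (ht.1 l hl).2.1]
      simp only [mul_assoc]
    have hc : ∀ l ∈ t, ∀ l' ∈ t, InCorner R j (j * l' * x * l * (l * j)) := by
      intro l hl l' hl'
      refine ⟨?_, by simp only [← mul_assoc, hj'.2.1], by simp only [mul_assoc, hj'.2.1]⟩
      exact R.mul_mem (R.mul_mem (R.mul_mem (R.mul_mem hj'.1 (ht.1 l' hl').1) hx) (ht.1 l hl).1)
        (R.mul_mem (ht.1 l hl).1 hj'.1)
    rw [hexp, scal_sum hj' _ _ fun l hl => Finset.sum_induction _ (InCorner R j)
      (fun _ _ => InCorner.add) ⟨R.zero_mem, mul_zero j, zero_mul j⟩ (hc l hl), Finset.mul_sum]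
    refine Finset.sum_congr rfl fun l hl => ?_
    rw [scal_sum hj' _ _ (hc l hl), Finset.mul_sum]
    refine Finset.sum_congr rfl fun l' hl' => ?_
    have hl'' := ht.1 l hl
    obtain ⟨heq, hequiv⟩ := scal_swap (k := k) hj' hl'' (a := j * l' * x * l) (b := l * j)
      (R.mul_mem (R.mul_mem (R.mul_mem hj'.1 (ht.1 l' hl').1) hx) hl''.1)
      (R.mul_mem hl''.1 hj'.1) (by simp only [← mul_assoc, hj'.2.1])
      (by simp only [mul_assoc, hl''.2.1]) (by simp only [← mul_assoc, hl''.2.1])
      (by simp only [mul_assoc, hj'.2.1])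
    rw [← heq]
    by_cases hn : IsNilpotent (j * l' * x * l * (l * j))
    · rw [(scal_eq_zero_iff hj' (hc l hl l' hl')).2 hn, mul_zero, mul_zero]
    · obtain ⟨a', b', ha', hb', hab, hba⟩ := hequiv hn
      rw [hψ j l a' b' hj' hl'' ha' hb' hab hba]
  rw [Finset.sum_congr rfl hterm, Finset.sum_comm]
  refine Finset.sum_congr rfl fun l hl => ?_
  have hl' := ht.1 l hl
  rw [Finset.sum_comm]
  simp only [← Finset.mul_sum]
  congr 1
  have hin : ∀ j ∈ s, ∀ l' ∈ t, InCorner R l (l * j * (j * l' * x * l)) := by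
    intro j hj l' hl''
    refine ⟨?_, by simp only [← mul_assoc, hl'.2.1], by simp only [mul_assoc, hl'.2.1]⟩
    exact R.mul_mem (R.mul_mem hl'.1 (hs.1 j hj).1)
      (R.mul_mem (R.mul_mem (R.mul_mem (hs.1 j hj).1 (ht.1 l' hl'').1) hx) hl'.1)
  have hsum : l * x * l = ∑ l' ∈ t, ∑ j ∈ s, l * j * (j * l' * x * l) := by
    have h1 : ∀ l' ∈ t, ∑ j ∈ s, l * j * (j * l' * x * l) = l * l' * x * l := by
      intro l' hl''
      have h2 : ∑ j ∈ s, l * j * (j * l' * x * l) = l * (∑ j ∈ s, j) * l' * x * l := by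
        simp only [Finset.mul_sum, Finset.sum_mul]
        refine Finset.sum_congr rfl fun j hj => ?_
        conv_rhs => rw [← (hs.1 j hj).2.1]
        simp only [mul_assoc]
      rw [h2, hs.2.2, ht.mul_right hl]
    rw [Finset.sum_congr rfl h1, Finset.sum_eq_single l (fun l' hl'' hne => by
        rw [ht.2.1 l hl l' hl'' hne.symm, zero_mul, zero_mul]) (fun h => absurd hl h), hl'.2.1]
  rw [hsum, scal_sum hl' _ _ fun l' hl'' => Finset.sum_induction _ (InCorner R l)
    (fun _ _ => InCorner.add) ⟨R.zero_mem, mul_zero l, zero_mul l⟩ fun j hj => hin j hj l' hl'']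
  exact Finset.sum_congr rfl fun l' hl'' => (scal_sum hl' _ _ fun j hj => hin j hj l' hl'').symm

end Cfsg.Agent.H83.Star
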