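import Cfsg.Agent.H83.StarResidue
import Mathlib.GroupTheory.Sylow
import Mathlib.GroupTheory.IndexNormal
import Mathlib.GroupTheory.SpecificGroups.Cyclic.Basic

/-!
The fixed point subalgebra of a subgroup, subgroups of index `p` with their traces, and the
splitting of fixed elements without fixed support into such traces.
-/

set_option linter.style.haveILetI false

namespace Cfsg.Agent.H83.Star

open MonoidAlgebra

variable {R : Type*} [CommRing R] {G : Type*} [Group G]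

/-- The fixed points of a subgroup as a subalgebra. -/
def fixAlg (R : Type*) [CommRing R] (Q : Subgroup G) : Subalgebra R (MonoidAlgebra R G) where
  carrier := {z | InvBy Q z}
  mul_mem' := InvBy.mul
  add_mem' := InvBy.add
  algebraMap_mem' r := by
    show InvBy Q _
    rw [Algebra.algebraMap_eq_smul_one]
    exact (InvBy.one Q).smul r

theorem mem_fixAlg {Q : Subgroup G} {z : MonoidAlgebra R G} : z ∈ fixAlg R Q ↔ InvBy Q z := Iff.rfl

theorem InvBy.trunc {Q L : Subgroup G} {z : MonoidAlgebra R G} (hz : InvBy Q z)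
    (hL : ∀ h ∈ Q, h ∈ Subgroup.normalizer (L : Set G)) : InvBy Q (Star.trunc L z) := by
  classical
  refine invBy_of_coeff fun h hh g => ?_
  rw [coeff_trunc, coeff_trunc]
  exact if_congr (Subgroup.mem_normalizer_iff.1 (hL h hh) g).symm (hz.coeff_eq hh g) rfl

/-- A subgroup of index `p` together with an element outside. -/
structure MaxData (p : ℕ) (Q S : Subgroup G) (t : G) : Prop where
  le : S ≤ Q
  mem : t ∈ Q
  not_mem : t ∉ S
  normal : ∀ q ∈ Q, ∀ s ∈ S, q * s * q⁻¹ ∈ S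
  gen : ∀ u ∈ Q, u ∉ S → ∀ q ∈ Q, ∃ m < p, (u ^ m)⁻¹ * q ∈ S
  uniq : ∀ l m, l < p → m < p → (t ^ l)⁻¹ * t ^ m ∈ S → l = m
  card : Nat.card Q = p * Nat.card S

variable {p : ℕ} [hp : Fact p.Prime]

theorem exists_maxData [Finite G] {Q H : Subgroup G} (hQ : IsPGroup p Q) (hH : H < Q) :
    ∃ S t, H ≤ S ∧ MaxData p Q S t := by
  obtain ⟨n, hn⟩ := IsPGroup.iff_card.1 hQ
  obtain ⟨m, hm⟩ := IsPGroup.iff_card.1 (hQ.to_le hH.le)
  have hmn : m < n := by
    refine (Nat.pow_lt_pow_iff_right hp.out.one_lt).1 ?_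
    rw [← hm, ← hn]
    refine lt_of_le_of_ne (Subgroup.card_le_of_le hH.le) fun h => hH.ne ?_
    exact Subgroup.eq_of_le_of_card_ge hH.le h.ge
  obtain ⟨k, rfl⟩ : ∃ k, n = k + 1 := ⟨n - 1, by omega⟩
  obtain ⟨S', hS', hle⟩ := Sylow.exists_subgroup_card_pow_prime_le (G := Q) p (n := m) (m := k)
    (by rw [hn]; exact Dvd.intro _ (pow_succ p k).symm) (H.subgroupOf Q)
    (by rw [Nat.card_congr (Subgroup.subgroupOfEquivOfLe hH.le).toEquiv, hm]) (by omega)
  have hidx : S'.index = p := by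
    have := Subgroup.card_mul_index S'
    rw [hS', hn, pow_succ] at this
    exact Nat.eq_of_mul_eq_mul_left (pow_pos hp.out.pos k) this
  haveI : S'.Normal := Subgroup.normal_of_index_eq_minFac_card (by
    rw [hidx, hn, Nat.pow_minFac k.succ_ne_zero, hp.out.minFac_eq])
  set S : Subgroup G := S'.map Q.subtype with hS
  have hSQ : S ≤ Q := Subgroup.map_subtype_le S'
  have hmemS : ∀ {x : G} (hx : x ∈ Q), x ∈ S ↔ (⟨x, hx⟩ : Q) ∈ S' := by
    intro x hx
    rw [hS, Subgroup.mem_map]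
    exact ⟨fun ⟨y, hy, he⟩ => (Subtype.ext he : y = ⟨x, hx⟩) ▸ hy, fun h => ⟨_, h, rfl⟩⟩
  have hcardq : Nat.card (Q ⧸ S') = p := hidx
  have hne : S' ≠ ⊤ := fun h => hp.out.ne_one (by rw [← hidx, h, Subgroup.index_top])
  obtain ⟨⟨t, ht⟩, -, htS⟩ := SetLike.exists_of_lt (lt_top_iff_ne_top.2 hne)
  have hgen : ∀ u ∈ Q, u ∉ S → ∀ q ∈ Q, ∃ l < p, (u ^ l)⁻¹ * q ∈ S := by
    intro u hu huS q hq
    set π := QuotientGroup.mk' S'
    have hπu : π ⟨u, hu⟩ ≠ 1 := fun h => huS ((hmemS hu).2 ((QuotientGroup.eq_one_iff _).1 h))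
    obtain ⟨l, hl⟩ := Submonoid.mem_powers_iff _ _ |>.1
      (mem_powers_of_prime_card hcardq hπu (g' := π ⟨q, hq⟩))
    refine ⟨l % p, Nat.mod_lt _ hp.out.pos, ?_⟩
    have hord : orderOf (π ⟨u, hu⟩) = p := by
      rcases hp.out.eq_one_or_self_of_dvd _ (hcardq ▸ orderOf_dvd_natCard (π ⟨u, hu⟩)) with h | h
      · exact absurd (orderOf_eq_one_iff.1 h) hπu
      · exact h
    have h1 : π (⟨u, hu⟩ ^ (l % p)) = π ⟨q, hq⟩ := by
      rw [map_pow, ← hl]
      conv_lhs => rw [← hord, ← pow_mod_orderOf]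
      rw [Nat.mod_mod, pow_mod_orderOf]
    have h2 := QuotientGroup.eq.1 h1
    exact (hmemS (Q.mul_mem (Q.inv_mem (Q.pow_mem hu _)) hq)).2 h2
  refine ⟨S, t, fun x hx => (hmemS (hH.le hx)).2 (hle hx), ⟨hSQ, ht, fun h => htS ((hmemS ht).1 h),
    fun q hq s hs => ?_, hgen, fun l m hl hm h => ?_, ?_⟩⟩
  · exact (hmemS (Q.mul_mem (Q.mul_mem hq (hSQ hs)) (Q.inv_mem hq))).2
      (Subgroup.Normal.conj_mem ‹S'.Normal› _ ((hmemS (hSQ hs)).1 hs) ⟨q, hq⟩)
  · have h1 : QuotientGroup.mk' S' (⟨t, ht⟩ ^ l) = QuotientGroup.mk' S' (⟨t, ht⟩ ^ m) :=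
      QuotientGroup.eq.2 ((hmemS (Q.mul_mem (Q.inv_mem (Q.pow_mem ht _)) (Q.pow_mem ht _))).1 h)
    rw [map_pow, map_pow] at h1
    have hπ : QuotientGroup.mk' S' ⟨t, ht⟩ ≠ 1 := fun h => htS ((QuotientGroup.eq_one_iff _).1 h)
    have hord : orderOf (QuotientGroup.mk' S' ⟨t, ht⟩) = p := by
      rcases hp.out.eq_one_or_self_of_dvd _
        (hcardq ▸ orderOf_dvd_natCard (QuotientGroup.mk' S' ⟨t, ht⟩)) with h | h
      · exact absurd (orderOf_eq_one_iff.1 h) hπ
      · exact h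
    exact pow_injOn_Iio_orderOf (by rwa [Set.mem_Iio, hord]) (by rwa [Set.mem_Iio, hord]) h1
  · rw [hS, Subgroup.card_map_of_injective Q.subtype_injective, hS', hn, pow_succ']

omit hp in
theorem MaxData.pow_prime_mem {Q S : Subgroup G} {t : G} (h : MaxData p Q S t) {l : ℕ}
    (hl : l < p) (hm : t ^ l ∈ S) : l = 0 :=
  (h.uniq 0 l (lt_of_le_of_lt (Nat.zero_le l) hl) hl (by simpa using hm)).symm

/-- The trace along the powers of `t`. -/
noncomputable def trOp (p : ℕ) (t : G) (a : MonoidAlgebra R G) : MonoidAlgebra R G :=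
  ∑ l ∈ Finset.range p, cj (t ^ l) a

omit hp in
theorem mul_trOp_mul {Q : Subgroup G} {t : G} (ht : t ∈ Q) {v w : MonoidAlgebra R G}
    (hv : InvBy Q v) (hw : InvBy Q w) (a : MonoidAlgebra R G) :
    v * trOp p t a * w = trOp p t (v * a * w) := by
  simp only [trOp, Finset.mul_sum, Finset.sum_mul, map_mul]
  exact Finset.sum_congr rfl fun l _ => by rw [hv _ (Q.pow_mem ht l), hw _ (Q.pow_mem ht l)]

variable [Fintype G]

/-- Splitting off one orbit of a fixed element as a trace from a subgroup of index `p`. -/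
theorem exists_peel {Q : Subgroup G} (hQ : IsPGroup p Q) {z : MonoidAlgebra R G} (hz : InvBy Q z)
    {g : G} (hg : g ∉ Subgroup.centralizer (Q : Set G)) :
    ∃ S t a, MaxData p Q S t ∧ InvBy S a ∧ InvBy Q (z - trOp p t a) ∧
      (z - trOp p t a).coeff g = 0 ∧
      (∀ y, z.coeff y = 0 → (z - trOp p t a).coeff y = 0) ∧
      trunc (Subgroup.centralizer (Q : Set G)) (z - trOp p t a) =
        trunc (Subgroup.centralizer (Q : Set G)) z := by
  classical
  have hH : Q ⊓ Subgroup.centralizer ({g} : Set G) < Q := by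
    refine lt_of_le_of_ne inf_le_left fun h => hg (Subgroup.mem_centralizer_iff.2 fun q hq => ?_)
    exact Subgroup.mem_centralizer_singleton_iff.1 (inf_eq_left.1 h hq)
  obtain ⟨S, t, hHS, hS⟩ := exists_maxData hQ hH
  let a : MonoidAlgebra R G := .ofCoeff (Finsupp.equivFunOnFinite.symm fun y =>
    if ∃ s ∈ S, s * g * s⁻¹ = y then z.coeff g else 0)
  have hac : ∀ y, a.coeff y = if ∃ s ∈ S, s * g * s⁻¹ = y then z.coeff g else 0 := fun y => by
    simp [a]
  have haS : InvBy S a := invBy_of_coeff fun h hh y => by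
    rw [hac, hac]
    refine if_congr ⟨?_, ?_⟩ rfl rfl
    · rintro ⟨s, hs, he⟩
      exact ⟨h⁻¹ * s, S.mul_mem (S.inv_mem hh) hs, by
        rw [show h⁻¹ * s * g * (h⁻¹ * s)⁻¹ = h⁻¹ * (s * g * s⁻¹) * h by group, he]; group⟩
    · rintro ⟨s, hs, rfl⟩
      exact ⟨h * s, S.mul_mem hh hs, by group⟩
  have htr : ∀ y, (trOp p t a).coeff y = if ∃ q ∈ Q, q * g * q⁻¹ = y then z.coeff y else 0 := by
    intro y
    rw [trOp, coeff_sum, Finsupp.finsetSum_apply]
    simp only [coeff_cj, hac]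
    split_ifs with hy
    · obtain ⟨q, hq, rfl⟩ := hy
      obtain ⟨m, hm, hms⟩ := hS.gen t hS.mem hS.not_mem q hq
      rw [Finset.sum_eq_single m]
      · rw [if_pos ⟨(t ^ m)⁻¹ * q, hms, by group⟩, hz.coeff_eq hq]
      · intro l hl hlm
        refine if_neg ?_
        rintro ⟨s, hs, he⟩
        refine hlm (hS.uniq l m (Finset.mem_range.1 hl) hm ?_)
        have hst : s⁻¹ * ((t ^ l)⁻¹ * q) ∈ Q ⊓ Subgroup.centralizer ({g} : Set G) := by
          refine ⟨Q.mul_mem (Q.inv_mem (hS.le hs)) (Q.mul_mem (Q.inv_mem (Q.pow_mem hS.mem l)) hq),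
            Subgroup.mem_centralizer_singleton_iff.2 ?_⟩
          calc s⁻¹ * ((t ^ l)⁻¹ * q) * g
              = s⁻¹ * ((t ^ l)⁻¹ * (q * g * q⁻¹) * t ^ l) * s * (s⁻¹ * ((t ^ l)⁻¹ * q)) := by group
            _ = s⁻¹ * (s * g * s⁻¹) * s * (s⁻¹ * ((t ^ l)⁻¹ * q)) := by rw [he]
            _ = g * (s⁻¹ * ((t ^ l)⁻¹ * q)) := by group
        have h1 := S.mul_mem hs (hHS hst)
        rw [mul_inv_cancel_left] at h1
        have h2 := S.mul_mem h1 (S.inv_mem hms)
        simpa [mul_assoc] using h2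
      · exact fun h => absurd (Finset.mem_range.2 hm) h
    · refine Finset.sum_eq_zero fun l _ => if_neg ?_
      rintro ⟨s, hs, he⟩
      exact hy ⟨t ^ l * s, Q.mul_mem (Q.pow_mem hS.mem l) (hS.le hs), by
        rw [show t ^ l * s * g * (t ^ l * s)⁻¹ = t ^ l * (s * g * s⁻¹) * (t ^ l)⁻¹ by group, he]
        group⟩
  refine ⟨S, t, a, hS, haS, invBy_of_coeff fun h hh y => ?_, ?_, fun y hy => ?_, ?_⟩
  · simp only [coeff_sub, Finsupp.sub_apply, htr, hz.coeff_eq hh]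
    congr 1
    refine if_congr ⟨?_, ?_⟩ rfl rfl
    · rintro ⟨q, hq, he⟩
      exact ⟨h⁻¹ * q, Q.mul_mem (Q.inv_mem hh) hq, by
        rw [show h⁻¹ * q * g * (h⁻¹ * q)⁻¹ = h⁻¹ * (q * g * q⁻¹) * h by group, he]; group⟩
    · rintro ⟨q, hq, rfl⟩
      exact ⟨h * q, Q.mul_mem hh hq, by group⟩
  · rw [coeff_sub, Finsupp.sub_apply, htr, if_pos ⟨1, Q.one_mem, by group⟩, sub_self]
  · rw [coeff_sub, Finsupp.sub_apply, htr, hy, ite_self, sub_zero]
  · apply coeff_injective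
    ext y
    simp only [coeff_trunc, coeff_sub, Finsupp.sub_apply, htr]
    by_cases hy : y ∈ Subgroup.centralizer (Q : Set G)
    · rw [if_pos hy, if_pos hy, if_neg, sub_zero]
      rintro ⟨q, hq, rfl⟩
      apply hg
      have h1 := Subgroup.mem_centralizer_iff.1 hy q⁻¹ (Q.inv_mem hq)
      have h2 : g = q * g * q⁻¹ := by
        have : q⁻¹ * (q * g * q⁻¹) * q = q * g * q⁻¹ := by rw [h1, mul_assoc, inv_mul_cancel, mul_one]
        rw [← this]; group
      exact h2 ▸ hy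
    · rw [if_neg hy, if_neg hy]

end Cfsg.Agent.H83.Star
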