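import Cfsg.Agent.H83.StarBlocks
import Cfsg.Agent.H83.StarFix
import Cfsg.Agent.H83.StarCorner
import Cfsg.Agent.H82.PairConj
import Cfsg.Agent.H82.MaxPair
import Cfsg.Agent.CharInduce.Ops

/-!
The local integrality behind the star action: for a `p`-group `Q` and an idempotent of the residue
algebra fixed by `Q`, the weighted values at the block components of the Brauer images form a
generalized character of `Q`.
-/

set_option linter.style.haveILetI false

open scoped ComplexConjugate

namespace Cfsg.Agent.H83.Star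

open MonoidAlgebra BlockBasic BlockAlgebra CharBasic

universe u

variable {p : ℕ} {M : Ideal Cfsg.AlgInt} {G : Type u} [Group G] [Fintype G]

open scoped Classical in
/-- The block idempotents of a subgroup inside the big group algebra. -/
noncomputable def idemsOf (M : Ideal Cfsg.AlgInt) (K : Subgroup G) : Finset (MonoidAlgebra ℂ G) :=
  (blocksOf M K).image (H82.blockUp K)

theorem mem_idemsOf {K : Subgroup G} {E : MonoidAlgebra ℂ G} :
    E ∈ idemsOf M K ↔ ∃ b, Cfsg.IsPBlock M b ∧ H82.blockUp K b = E := by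
  classical
  simp only [idemsOf, Finset.mem_image, mem_blocksOf]

/-- A sum over the block idempotents as a sum over the blocks. -/
theorem sum_idemsOf (hM : Cfsg.IsPModular p M) (K : Subgroup G) {β : Type*} [AddCommMonoid β]
    (F : MonoidAlgebra ℂ G → β) :
    ∑ E ∈ idemsOf M K, F E = ∑ b ∈ blocksOf M K, F (H82.blockUp K b) := by
  classical
  rw [idemsOf, Finset.sum_image fun b hb b' hb' h =>
    ebar_inj hM K (mem_blocksOf.1 hb) (mem_blocksOf.1 hb') (congrArg (red hM) h)]

theorem cj_blockUp [Fact p.Prime] (Q : Subgroup G) (x : G)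
    (b : Set (Cfsg.IrrCharacter (Subgroup.centralizer (Q : Set G)))) :
    H82.blockUp (Subgroup.centralizer ((Q.map (MulAut.conj x).toMonoidHom : Subgroup G) : Set G))
        (Cfsg.conjBlock Q x b) =
      cj x (H82.blockUp (Subgroup.centralizer (Q : Set G)) b) := by
  rw [H82.blockUp_conjBlock]
  apply coeff_injective
  ext g
  rw [H82.coeff_conjElt', coeff_cj]

theorem cj_mem_idemsOf [Fact p.Prime] (x q : G) {E : MonoidAlgebra ℂ G}
    (hE : E ∈ idemsOf M (cen q)) : cj x E ∈ idemsOf M (cen (x * q * x⁻¹)) := by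
  obtain ⟨b, hb, rfl⟩ := mem_idemsOf.1 hE
  have key : ∀ R : Subgroup G, R = (Subgroup.zpowers q).map (MulAut.conj x).toMonoidHom →
      cj x (H82.blockUp (cen q) b) ∈ idemsOf M (Subgroup.centralizer (R : Set G)) := by
    rintro R rfl
    exact mem_idemsOf.2 ⟨_, H82.isPBlock_conjBlock _ x hb, cj_blockUp (p := p) _ x b⟩
  refine key (Subgroup.zpowers (x * q * x⁻¹)) ?_
  rw [MonoidHom.map_zpowers]
  rfl

open scoped Classical in
theorem idemsOf_conj [Fact p.Prime] (x q : G) :
    idemsOf M (cen (x * q * x⁻¹)) = (idemsOf M (cen q)).image (cj x) := by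
  ext E
  rw [Finset.mem_image]
  constructor
  · intro hE
    refine ⟨cj x⁻¹ E, ?_, by rw [← cj_mul_left, mul_inv_cancel, cj_one_apply]⟩
    have h := cj_mem_idemsOf (p := p) (M := M) x⁻¹ (x * q * x⁻¹) hE
    rwa [show x⁻¹ * (x * q * x⁻¹) * x⁻¹⁻¹ = q by group] at h
  · rintro ⟨E', hE', rfl⟩
    exact cj_mem_idemsOf (p := p) x q hE'

theorem red_idem {hM : Cfsg.IsPModular p M} {K : Subgroup G} {E : MonoidAlgebra ℂ G}
    (hE : E ∈ idemsOf M K) :
    red hM E * red hM E = red hM E ∧ SuppIn K (red hM E) ∧ InvBy K (red hM E) := by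
  obtain ⟨b, hb, rfl⟩ := mem_idemsOf.1 hE
  exact ⟨ebar_idem hM K hb, suppIn_ebar hM K b, invBy_ebar hM K b⟩

/-- The weighted value at the block components of the truncation of `i`. -/
noncomputable def starG (hM : Cfsg.IsPModular p M) (f : G → ℂ)
    (Lam : G → MonoidAlgebra ℂ G → ℂ) (i : MonoidAlgebra (Residue hM) G) (q : G) : ℂ :=
  ∑ E ∈ idemsOf M (cen q), Lam q E * starVal hM f q (trunc (cen q) i * red hM E)

/-- Weights compatible with conjugation and given by characters along inclusions of pairs. -/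
structure IsWeight (p : ℕ) (M : Ideal Cfsg.AlgInt) (Lam : G → MonoidAlgebra ℂ G → ℂ) : Prop where
  cjInv : ∀ (h q : G) (E : MonoidAlgebra ℂ G), Lam (h * q * h⁻¹) (cj h E) = Lam q E
  hom : ∀ Q : Subgroup G, IsPGroup p Q →
    ∀ f : Set (Cfsg.IrrCharacter (Subgroup.centralizer (Q : Set G))), Cfsg.IsPBlock M f →
      ∃ μ : Q →* ℂˣ, ∀ (q : Q) (b : Set (Cfsg.IrrCharacter (cen (q : G)))),
        Cfsg.SubpairLE p M (Subgroup.zpowers (q : G)) b Q f →
          Lam (q : G) (H82.blockUp (cen (q : G)) b) = (μ q : ℂ)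

variable [hp : Fact p.Prime] {hM : Cfsg.IsPModular p M} {f : G → ℂ}
  {Lam : G → MonoidAlgebra ℂ G → ℂ}

omit [Fintype G] hp in
theorem zpowers_le_of_mem {Q : Subgroup G} {q : G} (hq : q ∈ Q) : Subgroup.zpowers q ≤ Q :=
  Subgroup.zpowers_le.2 hq

omit [Fintype G] in
theorem exists_orderOf_of_mem {Q : Subgroup G} (hQ : IsPGroup p Q) {q : G} (hq : q ∈ Q) :
    ∃ k, orderOf q = p ^ k := by
  obtain ⟨k, hk⟩ := IsPGroup.iff_orderOf.1 hQ ⟨q, hq⟩
  exact ⟨k, by rw [← hk, ← Subgroup.orderOf_coe]⟩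

omit [Fintype G] hp in
theorem isPGroup_zpowers_of_mem {Q : Subgroup G} (hQ : IsPGroup p Q) {q : G} (hq : q ∈ Q) :
    IsPGroup p (Subgroup.zpowers q) := hQ.to_le (zpowers_le_of_mem hq)

/-- Truncation at `q` of products of fixed elements. -/
theorem trunc_cen_mul {Q : Subgroup G} (hQ : IsPGroup p Q) {q : G} (hq : q ∈ Q)
    {z w : MonoidAlgebra (Residue hM) G} (hz : InvBy Q z) (hw : InvBy Q w) :
    trunc (cen q) (z * w) = trunc (cen q) z * trunc (cen q) w :=
  trunc_mul (residue_p_eq_zero hM) (isPGroup_zpowers_of_mem hQ hq)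
    (hz.mono (zpowers_le_of_mem hq)) (hw.mono (zpowers_le_of_mem hq))

theorem trunc_red_idem {Q : Subgroup G} (hQ : IsPGroup p Q) {q : G} (hq : q ∈ Q)
    {i : MonoidAlgebra (Residue hM) G} (hi : InvBy Q i) (hii : i * i = i) {E : MonoidAlgebra ℂ G}
    (hE : E ∈ idemsOf M (cen q)) :
    trunc (cen q) i * red hM E * (trunc (cen q) i * red hM E) = trunc (cen q) i * red hM E ∧
      SuppIn (cen q) (trunc (cen q) i * red hM E) := by
  obtain ⟨he, hes, hei⟩ := red_idem (hM := hM) hE
  refine ⟨?_, (suppIn_trunc _ i).mul hes⟩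
  rw [mul_assoc, ← mul_assoc (red hM E), ← ((suppIn_trunc (cen q) i).commute hei).eq,
    mul_assoc (trunc (cen q) i) (red hM E), he, ← mul_assoc, ← trunc_cen_mul hQ hq hi hi, hii]

theorem starG_conj (hf : Cfsg.IsClassFunction G f) (hL : IsWeight p M Lam) {Q : Subgroup G}
    (hQ : IsPGroup p Q) {q : G} (hq : q ∈ Q) (h : G) {i : MonoidAlgebra (Residue hM) G}
    (hi : InvBy Q i) (hii : i * i = i) :
    starG hM f Lam (cj h i) (h * q * h⁻¹) = starG hM f Lam i q := by
  classical
  obtain ⟨e, he⟩ := exists_orderOf_of_mem hQ hq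
  rw [starG, starG, idemsOf_conj (p := p) h q, Finset.sum_image fun a _ b _ hab => by
    simpa [← cj_mul_left, cj_one_apply] using congrArg (cj h⁻¹) hab]
  refine Finset.sum_congr rfl fun E hE => ?_
  obtain ⟨h1, h2⟩ := trunc_red_idem hQ hq hi hii hE
  rw [hL.cjInv, red_cj, ← map_cen, ← cj_trunc, ← map_mul, starVal_cj hM hf he h h1 h2]

theorem starG_sum (hf : Cfsg.IsClassFunction G f) {Q : Subgroup G} (hQ : IsPGroup p Q) {q : G}
    (hq : q ∈ Q) {i : MonoidAlgebra (Residue hM) G} {s : Finset (MonoidAlgebra (Residue hM) G)}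
    (hs : IsDecomp (fixAlg (Residue hM) Q) i s) :
    starG hM f Lam i q = ∑ j ∈ s, starG hM f Lam j q := by
  classical
  obtain ⟨e, he⟩ := exists_orderOf_of_mem hQ hq
  simp only [starG]
  rw [Finset.sum_comm]
  refine Finset.sum_congr rfl fun E hE => ?_
  rw [← Finset.mul_sum, ← hs.2.2, trunc_sum, Finset.sum_mul]
  congr 1
  refine starVal_sum hM hf he s _ (fun j hj => (trunc_red_idem hQ hq (hs.1 j hj).1 (hs.1 j hj).2.1
    hE).1) (fun j hj l hl hjl => ?_) fun j hj => (trunc_red_idem hQ hq (hs.1 j hj).1 (hs.1 j hj).2.1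
    hE).2
  rw [mul_assoc, ← mul_assoc (red hM E),
    ← ((suppIn_trunc (cen q) l).commute (red_idem (hM := hM) hE).2.2).eq,
    mul_assoc (trunc (cen q) l), (red_idem (hM := hM) hE).1, ← mul_assoc,
    ← trunc_cen_mul hQ hq (hs.1 j hj).1 (hs.1 l hl).1, hs.2.1 j hj l hl hjl, trunc_zero, zero_mul]

theorem starG_equiv (hf : Cfsg.IsClassFunction G f) {Q : Subgroup G} (hQ : IsPGroup p Q) {q : G}
    (hq : q ∈ Q) {a b : MonoidAlgebra (Residue hM) G} (ha : InvBy Q a) (hb : InvBy Q b)
    (hab : a * b * (a * b) = a * b) (hba : b * a * (b * a) = b * a) :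
    starG hM f Lam (a * b) q = starG hM f Lam (b * a) q := by
  obtain ⟨e, he⟩ := exists_orderOf_of_mem hQ hq
  refine Finset.sum_congr rfl fun E hE => ?_
  congr 1
  obtain ⟨hidE, hes, hei⟩ := red_idem (hM := hM) hE
  have hx : ∀ x y : MonoidAlgebra (Residue hM) G, InvBy Q x → InvBy Q y →
      trunc (cen q) (x * y) * red hM E =
        trunc (cen q) x * red hM E * (trunc (cen q) y * red hM E) := fun x y hx hy => by
    rw [mul_assoc (trunc (cen q) x), ← mul_assoc (red hM E),
      ← ((suppIn_trunc (cen q) y).commute hei).eq, mul_assoc (trunc (cen q) y), hidE, ← mul_assoc,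
      trunc_cen_mul hQ hq hx hy]
  have h1 := (trunc_red_idem hQ hq (ha.mul hb) hab hE).1
  have h2 := (trunc_red_idem hQ hq (hb.mul ha) hba hE).1
  rw [hx a b ha hb] at h1
  rw [hx b a hb ha] at h2
  rw [hx a b ha hb, hx b a hb ha, starVal_equiv hM hf he ((suppIn_trunc _ a).mul hes)
    ((suppIn_trunc _ b).mul hes) h1 h2]

theorem isClassFunction_starG (hf : Cfsg.IsClassFunction G f) (hL : IsWeight p M Lam)
    {Q : Subgroup G} (hQ : IsPGroup p Q) {i : MonoidAlgebra (Residue hM) G} (hi : InvBy Q i)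
    (hii : i * i = i) : Cfsg.IsClassFunction Q (fun q : Q => starG hM f Lam i (q : G)) := by
  intro q h
  show starG hM f Lam i ((h : G) * (q : G) * (h : G)⁻¹) = _
  conv_lhs => rw [← hi _ h.2]
  exact starG_conj hf hL hQ q.2 _ hi hii

/-- The truncated idempotent meets a single block when the corner is local. -/
theorem exists_block_trunc {Q : Subgroup G} (hQ : IsPGroup p Q)
    {i : MonoidAlgebra (Residue hM) G} (hprim : IsPrim (fixAlg (Residue hM) Q) i)
    (h0 : trunc (Subgroup.centralizer (Q : Set G)) i ≠ 0) :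
    ∃ b, Cfsg.IsPBlock M b ∧ trunc (Subgroup.centralizer (Q : Set G)) i *
      ebar hM (Subgroup.centralizer (Q : Set G)) b = trunc (Subgroup.centralizer (Q : Set G)) i := by
  haveI := isAlgClosed_residue hM
  haveI : Module.Finite (Residue hM) (MonoidAlgebra (Residue hM) G) :=
    Module.Finite.of_basis (MonoidAlgebra.basis G (Residue hM))
  have hR := residue_p_eq_zero hM
  have hi : InvBy Q i := hprim.1
  set L := Subgroup.centralizer (Q : Set G) with hL
  set t := trunc L i with ht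
  have htt : t * t = t := by rw [ht, hL, ← trunc_mul hR hQ hi hi, hprim.2.1]
  obtain ⟨b, hb, hne⟩ : ∃ b ∈ blocksOf M L, t * ebar hM L b ≠ 0 := by
    by_contra hc
    push Not at hc
    apply h0
    rw [← mul_one t, ← sum_ebar hM L, Finset.mul_sum, Finset.sum_eq_zero hc]
  have hb' := mem_blocksOf.1 hb
  refine ⟨b, hb', ?_⟩
  set e := ebar hM L b with he
  have hes := suppIn_ebar hM L b
  have hte : Commute t e := (suppIn_trunc L i).commute (invBy_ebar hM L b)
  have hy : InCorner (fixAlg (Residue hM) Q) i (i * e * i) :=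
    InCorner.of_mem hprim.1 hprim.2.1 (SuppIn.invBy (Q := Q) hes)
  have hytr : trunc L (i * e * i) = t * e := by
    rw [hL, trunc_mul hR hQ (hi.mul hes.invBy) hi, trunc_mul hR hQ hi hes.invBy,
      trunc_of_suppIn hes, ← hL, ← ht, mul_assoc, ← hte.eq, ← mul_assoc, htt]
  have hid : t * e * (t * e) = t * e := by
    rw [mul_assoc, ← mul_assoc e, ← hte.eq, mul_assoc t e, ebar_idem hM L hb', ← mul_assoc, htt]
  by_cases hn : IsNilpotent (i * e * i)
  · exfalso
    obtain ⟨n, hn⟩ := hn
    have hpow : ∀ m : ℕ, trunc L ((i * e * i) ^ (m + 1)) = t * e ∧ InvBy Q ((i * e * i) ^ (m + 1)) := by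
      intro m
      induction m with
      | zero => rw [pow_one]; exact ⟨hytr, hy.1⟩
      | succ m ih =>
        rw [pow_succ]
        refine ⟨?_, ih.2.mul hy.1⟩
        rw [hL, trunc_mul hR hQ ih.2 hy.1, ← hL, ih.1, hytr, hid]
    have := (hpow n).1
    rw [pow_succ, hn, zero_mul, trunc_zero] at this
    exact hne this.symm
  · obtain ⟨z, hz, -, hzy⟩ := exists_inv_of_not_nilpotent hprim hy hn
    have h1 := congrArg (trunc L) hzy
    rw [hL, trunc_mul hR hQ hz.1 hy.1, ← hL, hytr, ← ht] at h1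
    have h2 := congrArg (· * (t * e)) h1
    simp only [mul_assoc (trunc L z), hid] at h2
    rw [h1, ← mul_assoc, htt] at h2
    exact h2.symm

set_option maxHeartbeats 800000 in
/-- Uniqueness of the pairs seen by a local idempotent. -/
theorem trunc_mul_ebar_below {Q : Subgroup G} (hQ : IsPGroup p Q)
    {i : MonoidAlgebra (Residue hM) G} (hprim : IsPrim (fixAlg (Residue hM) Q) i)
    (h0 : trunc (Subgroup.centralizer (Q : Set G)) i ≠ 0)
    {b : Set (Cfsg.IrrCharacter (Subgroup.centralizer (Q : Set G)))} (hb : Cfsg.IsPBlock M b)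
    (hib : trunc (Subgroup.centralizer (Q : Set G)) i * ebar hM (Subgroup.centralizer (Q : Set G)) b =
      trunc (Subgroup.centralizer (Q : Set G)) i) :
    ∀ (S : Subgroup G) (c : Set (Cfsg.IrrCharacter (Subgroup.centralizer (S : Set G)))),
      Cfsg.SubpairLE p M S c Q b →
        trunc (Subgroup.centralizer (S : Set G)) i * ebar hM (Subgroup.centralizer (S : Set G)) c =
          trunc (Subgroup.centralizer (S : Set G)) i := by
  classical
  haveI := isAlgClosed_residue hM
  haveI : Module.Finite (Residue hM) (MonoidAlgebra (Residue hM) G) :=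
    Module.Finite.of_basis (MonoidAlgebra.basis G (Residue hM))
  have hR := residue_p_eq_zero hM
  have hi : InvBy Q i := hprim.1
  have hQb : Cfsg.IsBrauerPair p M Q b := ⟨hQ, hb⟩
  haveI : Group.IsNilpotent Q := hQ.isNilpotent
  intro S
  induction hn : Nat.card Q - Nat.card S using Nat.strong_induction_on generalizing S with
  | _ n ih =>
  intro c hc
  have hSQ := H82.le_of_subpairLE hc
  rcases hSQ.lt_or_eq with hlt | rfl
  swap
  · rw [H82.subpair_unique hM hQb hc Relation.ReflTransGen.refl]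
    exact hib
  have hSp : IsPGroup p S := hQ.to_le hSQ
  have hSc := H82.isBrauerPair_of_subpairLE hc hQb
  set T' := Q ⊓ Subgroup.normalizer (S : Set G) with hT'
  have hT'p : IsPGroup p T' := hQ.to_le inf_le_left
  have hstab : ∀ x ∈ T', Cfsg.StabilizesBlock (Subgroup.centralizer (S : Set G)) c x := by
    obtain ⟨d, -, hd⟩ := H82.exists_subpair hM hQb (inf_le_left : T' ≤ Q)
    exact (H82.isNormalSubpair_of_le hM (H82.isBrauerPair_of_subpairLE hd hQb) inf_le_right
      (H82.subpairLE_of_le hM hQb (le_inf hSQ Subgroup.le_normalizer) hc hd)).2.2.2.2.1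
  set e := ebar hM (Subgroup.centralizer (S : Set G)) c with he
  set t := trunc (Subgroup.centralizer (S : Set G)) i with ht
  set x := t - t * e with hx
  have hNL : ∀ h ∈ T', h ∈ Subgroup.normalizer ((Subgroup.centralizer (S : Set G)) : Set G) := fun h hh =>
    H82.normalizer_le_normalizer_centralizer S hh.2
  have heT : InvBy T' e := by
    refine InvBy.red (z := H82.blockUp (Subgroup.centralizer (S : Set G)) c) ?_
    exact invBy_of_coeff fun h hh g => H82.isInvElt_blockUp_of_stabilizes hM hSc.2 hstab h hh g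
  have htT : InvBy T' t := (hi.mono inf_le_left).trunc hNL
  have hxT : InvBy T' x := htT.sub (htT.mul heT)
  have hts := suppIn_trunc (Subgroup.centralizer (S : Set G)) i
  have hxs : SuppIn (Subgroup.centralizer (S : Set G)) x := hts.sub (hts.mul (suppIn_ebar hM (Subgroup.centralizer (S : Set G)) c))
  -- the truncations of `x` above `S` vanish
  have hxtr : ∀ T : Subgroup G, S < T → T ≤ T' → trunc (Subgroup.centralizer (T : Set G)) x = 0 := by
    intro T hST hTT'
    obtain ⟨d, hd, hdQ⟩ := H82.exists_subpair hM hQb (hTT'.trans inf_le_left)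
    have hTp : IsPGroup p T := hd.1
    have hnorm := H82.isNormalSubpair_of_le hM hd (hTT'.trans inf_le_right)
      (H82.subpairLE_of_le hM hQb hST.le hc hdQ)
    have hsub : Subgroup.centralizer (T : Set G) ≤ (Subgroup.centralizer (S : Set G)) := H82.centralizer_mono hST.le
    have hTd := ih (Nat.card Q - Nat.card T) (by
      have h1 : Nat.card S < Nat.card T := lt_of_le_of_ne (Subgroup.card_le_of_le hST.le)
        fun h => hST.ne (Subgroup.eq_of_le_of_card_ge hST.le h.ge)
      have h2 := Subgroup.card_le_of_le (hTT'.trans inf_le_left)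
      omega) T rfl d hdQ
    have h3 := trunc_ebar_mul_of_normal hM hnorm
    have hcomm : Commute (trunc (Subgroup.centralizer (T : Set G)) e)
        (ebar hM (Subgroup.centralizer (T : Set G)) d) :=
      (suppIn_trunc _ e).commute (invBy_ebar hM _ d)
    rw [hx, trunc_sub, trunc_mul hR hTp (htT.mono hTT') (heT.mono hTT'), ht, trunc_trunc hsub,
      ← hTd, mul_assoc, ← hcomm.eq, he, h3, sub_self]
  -- so its support has stabilizer exactly `S`
  have hstabS : ∀ g, x.coeff g ≠ 0 → ∀ r ∈ Q, r * g = g * r → r ∈ S := by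
    intro g hg r hr hrg
    have hgL : g ∈ (Subgroup.centralizer (S : Set G)) := by
      by_contra h
      exact hg (hxs g h)
    by_contra hrS
    set H := Q ⊓ Subgroup.centralizer ({g} : Set G)
    have hSH : S ≤ H := fun y hy => ⟨hSQ hy, Subgroup.mem_centralizer_singleton_iff.2
      (Subgroup.mem_centralizer_iff.1 hgL y hy)⟩
    have hlt' : S < H := lt_of_le_of_ne hSH fun h =>
      hrS (h ▸ ⟨hr, Subgroup.mem_centralizer_singleton_iff.2 hrg⟩)
    haveI : Group.IsNilpotent H := (hQ.to_le inf_le_left).isNilpotent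
    have h1 := congrArg (fun z => z.coeff g)
      (hxtr (H ⊓ Subgroup.normalizer (S : Set G)) (H82.lt_inf_normalizer hlt')
        (inf_le_inf_right _ inf_le_left))
    simp only [coeff_trunc, coeff_zero, Finsupp.coe_zero, Pi.zero_apply] at h1
    rw [if_pos] at h1
    · exact hg h1
    · exact Subgroup.mem_centralizer_iff.2 fun y hy =>
        Subgroup.mem_centralizer_singleton_iff.1 hy.1.2
  -- a conjugation moving the support into the centralizer of `S` normalizes `S`
  have hmove : ∀ r ∈ Q, ∀ g, x.coeff (r * g * r⁻¹) ≠ 0 → g ∈ (Subgroup.centralizer (S : Set G)) → r ∈ T' := by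
    intro r hr g hg hgL
    refine ⟨hr, H82.mem_normalizer_of_map_conj_eq (Subgroup.eq_of_le_of_card_ge ?_
      (Subgroup.card_map_of_injective (MulAut.conj r).injective).ge)⟩
    rintro _ ⟨y, hy, rfl⟩
    refine hstabS _ hg _ (Q.mul_mem (Q.mul_mem hr (hSQ hy)) (Q.inv_mem hr)) ?_
    have h1 : y * g = g * y := Subgroup.mem_centralizer_iff.1 hgL y hy
    show r * y * r⁻¹ * (r * g * r⁻¹) = r * g * r⁻¹ * (r * y * r⁻¹)
    calc r * y * r⁻¹ * (r * g * r⁻¹) = r * (y * g) * r⁻¹ := by group
      _ = r * (g * y) * r⁻¹ := by rw [h1]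
      _ = _ := by group
  have huniq : ∀ y : G, ∀ r₁ ∈ Q, ∀ r₂ ∈ Q, x.coeff (r₁ * y * r₁⁻¹) ≠ 0 →
      x.coeff (r₂ * y * r₂⁻¹) ≠ 0 → x.coeff (r₂ * y * r₂⁻¹) = x.coeff (r₁ * y * r₁⁻¹) := by
    intro y r₁ hr₁ r₂ hr₂ h₁ h₂
    have e1 : r₂ * r₁⁻¹ * (r₁ * y * r₁⁻¹) * (r₂ * r₁⁻¹)⁻¹ = r₂ * y * r₂⁻¹ := by group
    have hm := hmove (r₂ * r₁⁻¹) (Q.mul_mem hr₂ (Q.inv_mem hr₁)) (r₁ * y * r₁⁻¹)
      (by rwa [e1]) (by
        by_contra h
        exact h₁ (hxs _ h))
    rw [← hxT.coeff_eq hm (r₁ * y * r₁⁻¹), e1]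
  -- the invariant element with truncation `x`
  let a' : MonoidAlgebra (Residue hM) G := .ofCoeff (Finsupp.equivFunOnFinite.symm fun y =>
    if h : ∃ r ∈ Q, x.coeff (r * y * r⁻¹) ≠ 0 then x.coeff (h.choose * y * h.choose⁻¹) else 0)
  have hac : ∀ y, a'.coeff y =
      if h : ∃ r ∈ Q, x.coeff (r * y * r⁻¹) ≠ 0 then x.coeff (h.choose * y * h.choose⁻¹) else 0 :=
    fun y => by simp [a']
  have hac' : ∀ y r, r ∈ Q → x.coeff (r * y * r⁻¹) ≠ 0 → a'.coeff y = x.coeff (r * y * r⁻¹) := by
    intro y r hr h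
    have hex : ∃ r ∈ Q, x.coeff (r * y * r⁻¹) ≠ 0 := ⟨r, hr, h⟩
    rw [hac, dif_pos hex]
    exact huniq y r hr _ hex.choose_spec.1 h hex.choose_spec.2
  have hac0 : ∀ y, (∀ r ∈ Q, x.coeff (r * y * r⁻¹) = 0) → a'.coeff y = 0 := fun y h => by
    rw [hac, dif_neg]
    rintro ⟨r, hr, h'⟩
    exact h' (h r hr)
  have ha'Q : InvBy Q a' := by
    refine invBy_of_coeff fun h hh y => ?_
    have e1 : ∀ r : G, r * h * y * (r * h)⁻¹ = r * (h * y * h⁻¹) * r⁻¹ := fun r => by group
    by_cases hex : ∃ r ∈ Q, x.coeff (r * (h * y * h⁻¹) * r⁻¹) ≠ 0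
    · obtain ⟨r, hr, hrne⟩ := hex
      rw [hac' _ r hr hrne, hac' y (r * h) (Q.mul_mem hr hh) (by rwa [e1]), e1]
    · push Not at hex
      rw [hac0 _ hex, hac0 y]
      intro r hr
      have := hex (r * h⁻¹) (Q.mul_mem hr (Q.inv_mem hh))
      rwa [show r * h⁻¹ * (h * y * h⁻¹) * (r * h⁻¹)⁻¹ = r * y * r⁻¹ by group] at this
  have ha'S : trunc (Subgroup.centralizer (S : Set G)) a' = x := by
    apply coeff_injective
    ext y
    rw [coeff_trunc]
    split_ifs with hy
    · by_cases hex : ∃ r ∈ Q, x.coeff (r * y * r⁻¹) ≠ 0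
      · obtain ⟨r, hr, hrne⟩ := hex
        rw [hac' y r hr hrne, hxT.coeff_eq (hmove r hr y hrne hy)]
      · push Not at hex
        rw [hac0 y hex]
        simpa using (hex 1 Q.one_mem).symm
    · exact (hxs y hy).symm
  have ha'Qtr : trunc (Subgroup.centralizer (Q : Set G)) a' = 0 := by
    apply coeff_injective
    ext y
    rw [coeff_trunc, coeff_zero, Finsupp.coe_zero, Pi.zero_apply]
    split_ifs with hy
    · refine hac0 y fun r hr => ?_
      rw [Subgroup.mem_centralizer_iff.1 hy r hr, mul_inv_cancel_right]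
      by_contra h
      refine hlt.ne (le_antisymm hSQ fun q hq => hstabS y h q hq ?_)
      exact Subgroup.mem_centralizer_iff.1 hy q hq
    · rfl
  -- the corner element is nilpotent
  set a := i * a' * i with ha
  have hacorner : InCorner (fixAlg (Residue hM) Q) i a := InCorner.of_mem hprim.1 hprim.2.1 ha'Q
  have htrQ : trunc (Subgroup.centralizer (Q : Set G)) a = 0 := by
    rw [ha, trunc_mul hR hQ (hi.mul ha'Q) hi, trunc_mul hR hQ hi ha'Q, ha'Qtr, mul_zero, zero_mul]
  have hnil : IsNilpotent a := by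
    by_contra hnn
    obtain ⟨z, hz, -, hza⟩ := exists_inv_of_not_nilpotent hprim hacorner hnn
    apply h0
    rw [← hza, trunc_mul hR hQ hz.1 hacorner.1, htrQ, mul_zero]
  have hte : Commute t e := hts.commute (invBy_ebar hM (Subgroup.centralizer (S : Set G)) c)
  have htt : t * t = t := by
    rw [ht, ← trunc_mul hR hSp (hi.mono hSQ) (hi.mono hSQ), hprim.2.1]
  have htx : t * x = x ∧ x * t = x :=
    ⟨by rw [hx, mul_sub, ← mul_assoc, htt],
      by rw [hx, sub_mul, mul_assoc, ← hte.eq, ← mul_assoc, htt]⟩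
  have hxx : x * x = x := by
    have he2 : e * e = e := ebar_idem hM (Subgroup.centralizer (S : Set G)) hSc.2
    have h4 : t * e * (t * e) = t * e := by
      rw [mul_assoc, ← mul_assoc e, ← hte.eq, mul_assoc t e, he2, ← mul_assoc, htt]
    have h5 : t * e * t = t * e := by rw [mul_assoc, ← hte.eq, ← mul_assoc, htt]
    rw [hx]
    simp only [mul_sub, sub_mul, htt, ← mul_assoc t t, h4, h5]
    abel
  have haS : trunc (Subgroup.centralizer (S : Set G)) a = x := by
    rw [ha, trunc_mul hR hSp ((hi.mul ha'Q).mono hSQ) (hi.mono hSQ),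
      trunc_mul hR hSp (hi.mono hSQ) (ha'Q.mono hSQ), ha'S, ← ht, htx.1, htx.2]
  obtain ⟨m, hm⟩ := hnil
  have hpow : ∀ l : ℕ, trunc (Subgroup.centralizer (S : Set G)) (a ^ (l + 1)) = x ∧ InvBy Q (a ^ (l + 1)) := by
    intro l
    induction l with
    | zero => rw [pow_one]; exact ⟨haS, hacorner.1⟩
    | succ l ih =>
      rw [pow_succ]
      refine ⟨?_, ih.2.mul hacorner.1⟩
      rw [trunc_mul hR hSp (ih.2.mono hSQ) (hacorner.1.mono hSQ), ih.1, haS, hxx]
  have hx0 : x = 0 := by
    rw [← (hpow m).1, pow_succ, hm, zero_mul, trunc_zero]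
  exact (sub_eq_zero.1 hx0).symm

/-- A character of the group cut by a fixed idempotent. -/
theorem isCharacter_cut {χ : Cfsg.IrrCharacter G} {Q : Subgroup G} {E : MonoidAlgebra ℂ G}
    (hE : E * E = E) (hQE : InvBy Q E) :
    Cfsg.IsCharacter Q (fun q : Q => chiLin (χ : G → ℂ) (single (q : G) 1 * E)) := by
  obtain ⟨n, ρ, -, hρ⟩ := χ.2
  set P := ρ.asAlgebraHom E with hP
  have hPP : P * P = P := by rw [hP, ← map_mul, hE]
  have hcomm : ∀ q : Q, Commute (ρ (q : G)) P := fun q => by
    have := (hQE.commute q.2).map ρ.asAlgebraHom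
    rwa [Representation.asAlgebraHom_single_one] at this
  set W := LinearMap.range P
  have hW : ∀ q : Q, ∀ w ∈ W, ρ (q : G) w ∈ W := by
    rintro q _ ⟨v, rfl⟩
    exact ⟨ρ (q : G) v, (LinearMap.congr_fun (hcomm q).eq v).symm⟩
  let σ : Representation ℂ Q W :=
    { toFun := fun q => (ρ (q : G)).restrict (hW q)
      map_one' := by ext; simp
      map_mul' := fun a b => by ext; simp }
  have hσ : (fun q : Q => chiLin (χ : G → ℂ) (single (q : G) 1 * E)) = σ.character := by
    funext q
    rw [← hρ, chiLin_eq_trace, map_mul, Representation.asAlgebraHom_single_one, ← hP, (hcomm q).eq]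
    have hfix : ∀ w ∈ W, P w = w := by
      rintro _ ⟨v, rfl⟩
      exact LinearMap.congr_fun hPP v
    rw [show P * ρ (q : G) = W.subtype ∘ₗ (P ∘ₗ ρ (q : G)).codRestrict W
      (fun v => LinearMap.mem_range_self P _) from rfl, LinearMap.trace_comp_comm']
    show LinearMap.trace ℂ W _ = LinearMap.trace ℂ W _
    congr 1
    apply LinearMap.ext
    intro w
    exact Subtype.ext (hfix _ (hW q w w.2))
  rw [hσ]
  exact isCharacter_character σ

/-- The local integrality for one primitive idempotent with fixed support. -/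
theorem isGen_starG_local {χ : Cfsg.IrrCharacter G} (hL : IsWeight p M Lam) {Q : Subgroup G}
    (hQ : IsPGroup p Q) {i : MonoidAlgebra (Residue hM) G}
    (hprim : IsPrim (fixAlg (Residue hM) Q) i)
    (h0 : trunc (Subgroup.centralizer (Q : Set G)) i ≠ 0) :
    Cfsg.IsGeneralizedCharacter Q (fun q : Q => starG hM (χ : G → ℂ) Lam i (q : G)) := by
  classical
  have hf := IsIrr.isClassFunction χ.2
  obtain ⟨b, hb, hib⟩ := exists_block_trunc hQ hprim h0
  obtain ⟨μ, hμ⟩ := hL.hom Q hQ b hb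
  obtain ⟨E, hE, hEi, hEr, -, hEQ⟩ := exists_idem_lift hM hprim.2.1
  have hkey : (fun q : Q => starG hM (χ : G → ℂ) Lam i (q : G)) =
      fun q : Q => (μ q : ℂ) * chiLin (χ : G → ℂ) (single (q : G) 1 * E) := by
    funext q
    obtain ⟨e, he⟩ := exists_orderOf_of_mem hQ q.2
    obtain ⟨c, hc, hcle⟩ := H82.exists_subpair hM ⟨hQ, hb⟩ (zpowers_le_of_mem q.2)
    have htc := trunc_mul_ebar_below hQ hprim h0 hb hib _ c hcle
    rw [starG, sum_idemsOf hM, Finset.sum_eq_single c]
    · have hz : InvBy (Subgroup.zpowers (q : G)) E :=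
        (hEQ Q hprim.1).mono (zpowers_le_of_mem q.2)
      rw [hμ q c hcle, ← starVal_eq hM hf he (E := E) ⟨hE, hEi, hz, by rw [hEr]⟩]
      exact congrArg (fun z => (μ q : ℂ) * starVal hM (χ : G → ℂ) (q : G) z) htc
    · intro d hd hne
      have : trunc (cen (q : G)) i * red hM (H82.blockUp (cen (q : G)) d) = 0 := by
        rw [← htc, mul_assoc]
        have := ebar_mul_of_ne hM (cen (q : G)) hc.2 (mem_blocksOf.1 hd) hne.symm
        exact (congrArg (trunc (cen (q : G)) i * ·) this).trans (mul_zero _)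
      rw [this, starVal_zero hM hf he, mul_zero]
    · exact fun h => absurd (mem_blocksOf.2 hc.2) h
  rw [hkey]
  refine CharInduce.IsGen.mul (CharInduce.IsGen.of_char ?_)
    (CharInduce.IsGen.of_char (isCharacter_cut hE (hEQ Q hprim.1)))
  exact CharInduce.isCharacter_hom μ

end Cfsg.Agent.H83.Star
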