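import Cfsg.Agent.H83.BlockAlgebra
import Mathlib.GroupTheory.GroupAction.ConjAct
import Mathlib.Algebra.MonoidAlgebra.MapDomain

/-!
Truncation, conjugation and orbit sums in group algebras over rings where `p` vanishes; sections of
the reduction modulo the maximal ideal.
-/

set_option linter.style.haveILetI false

namespace Cfsg.Agent.H83.Star

open MonoidAlgebra BlockBasic BlockAlgebra

section General

variable {R : Type*} [CommRing R] {G : Type*} [Group G]

/-- Vanishing of the coefficients outside `L`. -/
def SuppIn (L : Subgroup G) (z : MonoidAlgebra R G) : Prop :=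
  ∀ g, g ∉ L → z.coeff g = 0

/-- Conjugation by `h`. -/
noncomputable def cj (h : G) : MonoidAlgebra R G →+* MonoidAlgebra R G :=
  MonoidAlgebra.mapDomainRingHom R (MulAut.conj h).toMonoidHom

theorem coeff_cj (h : G) (z : MonoidAlgebra R G) (g : G) :
    (cj h z).coeff g = z.coeff (h⁻¹ * g * h) := by
  have hg : g = (MulAut.conj h) (h⁻¹ * g * h) := by simp [MulAut.conj_apply]; group
  conv_lhs => rw [hg]
  exact Finsupp.mapDomain_apply (MulAut.conj h).injective z.coeff _

theorem cj_mul_left (a b : G) (z : MonoidAlgebra R G) : cj (a * b) z = cj a (cj b z) := by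
  apply coeff_injective
  ext g
  simp only [coeff_cj, mul_inv_rev, mul_assoc]

theorem cj_one_apply (z : MonoidAlgebra R G) : cj (1 : G) z = z := by
  apply coeff_injective
  ext g
  simp [coeff_cj]

theorem cj_smul (h : G) (c : R) (z : MonoidAlgebra R G) : cj h (c • z) = c • cj h z := by
  apply coeff_injective
  ext g
  simp [coeff_cj]

theorem cj_eq_single (h : G) (z : MonoidAlgebra R G) :
    cj h z = single h 1 * z * single h⁻¹ 1 := by
  apply coeff_injective
  ext g
  simp [coeff_cj, coeff_mul_single_apply, coeff_single_mul_apply, mul_assoc]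

/-- Fixed points of the conjugation by a set of elements. -/
def InvBy (Q : Subgroup G) (z : MonoidAlgebra R G) : Prop :=
  ∀ h ∈ Q, cj h z = z

theorem InvBy.mono {Q S : Subgroup G} (hle : S ≤ Q) {z : MonoidAlgebra R G} (hz : InvBy Q z) :
    InvBy S z := fun h hh => hz h (hle hh)

theorem InvBy.mul {Q : Subgroup G} {z w : MonoidAlgebra R G} (hz : InvBy Q z) (hw : InvBy Q w) :
    InvBy Q (z * w) := fun h hh => by rw [map_mul, hz h hh, hw h hh]

theorem InvBy.add {Q : Subgroup G} {z w : MonoidAlgebra R G} (hz : InvBy Q z) (hw : InvBy Q w) :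
    InvBy Q (z + w) := fun h hh => by rw [map_add, hz h hh, hw h hh]

theorem InvBy.sub {Q : Subgroup G} {z w : MonoidAlgebra R G} (hz : InvBy Q z) (hw : InvBy Q w) :
    InvBy Q (z - w) := fun h hh => by rw [map_sub, hz h hh, hw h hh]

theorem InvBy.smul {Q : Subgroup G} (c : R) {z : MonoidAlgebra R G} (hz : InvBy Q z) :
    InvBy Q (c • z) := fun h hh => by rw [cj_smul, hz h hh]

theorem InvBy.one (Q : Subgroup G) : InvBy Q (1 : MonoidAlgebra R G) := fun _ _ => map_one _

theorem InvBy.zero (Q : Subgroup G) : InvBy Q (0 : MonoidAlgebra R G) := fun _ _ => map_zero _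

theorem InvBy.coeff_eq {Q : Subgroup G} {z : MonoidAlgebra R G} (hz : InvBy Q z) {h : G}
    (hh : h ∈ Q) (g : G) : z.coeff (h * g * h⁻¹) = z.coeff g := by
  conv_lhs => rw [← hz h hh]
  rw [coeff_cj]
  congr 1
  group

theorem invBy_of_coeff {Q : Subgroup G} {z : MonoidAlgebra R G}
    (hz : ∀ h ∈ Q, ∀ g, z.coeff (h * g * h⁻¹) = z.coeff g) : InvBy Q z := fun h hh => by
  apply coeff_injective
  ext g
  rw [coeff_cj]
  simpa using hz h⁻¹ (Q.inv_mem hh) g

theorem InvBy.commute {Q : Subgroup G} {z : MonoidAlgebra R G} (hz : InvBy Q z) {h : G}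
    (hh : h ∈ Q) : Commute (single h (1 : R)) z := by
  have h1 := congrArg (· * single h (1 : R)) (hz h hh)
  simp only [cj_eq_single, mul_assoc, single_mul_single, inv_mul_cancel, mul_one, ← one_def] at h1
  exact h1

theorem SuppIn.add {L : Subgroup G} {z w : MonoidAlgebra R G} (hz : SuppIn L z) (hw : SuppIn L w) :
    SuppIn L (z + w) := fun g hg => by simp [hz g hg, hw g hg]

theorem SuppIn.sub {L : Subgroup G} {z w : MonoidAlgebra R G} (hz : SuppIn L z) (hw : SuppIn L w) :
    SuppIn L (z - w) := fun g hg => by simp [hz g hg, hw g hg]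

theorem SuppIn.smul {L : Subgroup G} (c : R) {z : MonoidAlgebra R G} (hz : SuppIn L z) :
    SuppIn L (c • z) := fun g hg => by simp [hz g hg]

theorem SuppIn.zero (L : Subgroup G) : SuppIn L (0 : MonoidAlgebra R G) := fun g _ => by simp

theorem SuppIn.one (L : Subgroup G) : SuppIn L (1 : MonoidAlgebra R G) := fun g hg => by
  classical
  rw [one_def, coeff_single, Finsupp.single_apply, if_neg fun h : (1 : G) = g => hg (h ▸ L.one_mem)]

theorem SuppIn.mono {L K : Subgroup G} (hle : L ≤ K) {z : MonoidAlgebra R G} (hz : SuppIn L z) :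
    SuppIn K z := fun g hg => hz g fun h => hg (hle h)

theorem coeff_mul_fintype [Fintype G] (z w : MonoidAlgebra R G) (g : G) :
    (z * w).coeff g = ∑ x, z.coeff x * w.coeff (x⁻¹ * g) := by
  rw [coeff_mul_apply_left, Finsupp.sum_fintype _ _ (by simp)]

theorem SuppIn.mul [Fintype G] {L : Subgroup G} {z w : MonoidAlgebra R G} (hz : SuppIn L z)
    (hw : SuppIn L w) : SuppIn L (z * w) := fun g hg => by
  rw [coeff_mul_fintype]
  refine Finset.sum_eq_zero fun x _ => ?_
  by_cases hx : x ∈ L
  · rw [hw _ fun h => hg (by simpa using L.mul_mem hx h), mul_zero]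
  · rw [hz x hx, zero_mul]

theorem suppIn_single {L : Subgroup G} {g : G} (hg : g ∈ L) (c : R) :
    SuppIn L (single g c) := fun x hx => by
  classical
  rw [coeff_single, Finsupp.single_apply, if_neg fun h : g = x => hx (h ▸ hg)]

/-- Elements supported on the centralizer of `Q` are fixed by `Q`. -/
theorem SuppIn.invBy {Q : Subgroup G} {z : MonoidAlgebra R G}
    (hz : SuppIn (Subgroup.centralizer (Q : Set G)) z) : InvBy Q z := by
  refine invBy_of_coeff fun h hh g => ?_
  by_cases hg : g ∈ Subgroup.centralizer (Q : Set G)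
  · rw [Subgroup.mem_centralizer_iff.1 hg h hh, mul_inv_cancel_right]
  · rw [hz g hg, hz]
    intro h1
    have h2 : g = h⁻¹ * (h * g * h⁻¹) * h := by group
    rw [Subgroup.mem_centralizer_iff.1 h1 _ (Q.inv_mem hh), inv_mul_cancel_right] at h2
    exact hg (h2 ▸ h1)

open scoped Classical in
/-- Truncation to a subgroup. -/
noncomputable def trunc (L : Subgroup G) (z : MonoidAlgebra R G) : MonoidAlgebra R G :=
  .ofCoeff (z.coeff.filter (· ∈ L))

open scoped Classical in
theorem coeff_trunc (L : Subgroup G) (z : MonoidAlgebra R G) (g : G) :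
    (trunc L z).coeff g = if g ∈ L then z.coeff g else 0 := by
  simp [trunc, Finsupp.filter_apply]

theorem suppIn_trunc (L : Subgroup G) (z : MonoidAlgebra R G) : SuppIn L (trunc L z) :=
  fun g hg => by classical rw [coeff_trunc, if_neg hg]

theorem trunc_of_suppIn {L : Subgroup G} {z : MonoidAlgebra R G} (hz : SuppIn L z) :
    trunc L z = z := by
  classical
  apply coeff_injective
  ext g
  rw [coeff_trunc]
  split_ifs with h
  · rfl
  · exact (hz g h).symm

theorem trunc_add (L : Subgroup G) (z w : MonoidAlgebra R G) :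
    trunc L (z + w) = trunc L z + trunc L w := by
  classical
  apply coeff_injective
  ext g
  simp only [coeff_trunc, coeff_add, Finsupp.add_apply]
  split_ifs <;> simp

theorem trunc_sub (L : Subgroup G) (z w : MonoidAlgebra R G) :
    trunc L (z - w) = trunc L z - trunc L w := by
  classical
  apply coeff_injective
  ext g
  simp only [coeff_trunc, coeff_sub, Finsupp.sub_apply]
  split_ifs <;> simp

theorem trunc_zero (L : Subgroup G) : trunc L (0 : MonoidAlgebra R G) = 0 :=
  trunc_of_suppIn (SuppIn.zero L)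

theorem trunc_one (L : Subgroup G) : trunc L (1 : MonoidAlgebra R G) = 1 :=
  trunc_of_suppIn (SuppIn.one L)

theorem trunc_smul (L : Subgroup G) (c : R) (z : MonoidAlgebra R G) :
    trunc L (c • z) = c • trunc L z := by
  classical
  apply coeff_injective
  ext g
  simp only [coeff_trunc, coeff_smul, Finsupp.smul_apply]
  split_ifs <;> simp

theorem trunc_sum (L : Subgroup G) {ι : Type*} (s : Finset ι) (f : ι → MonoidAlgebra R G) :
    trunc L (∑ i ∈ s, f i) = ∑ i ∈ s, trunc L (f i) := by
  classical
  induction s using Finset.induction with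
  | empty => simp [trunc_zero]
  | insert i s hi ih => rw [Finset.sum_insert hi, Finset.sum_insert hi, trunc_add, ih]

theorem trunc_trunc {L K : Subgroup G} (hle : L ≤ K) (z : MonoidAlgebra R G) :
    trunc L (trunc K z) = trunc L z := by
  classical
  apply coeff_injective
  ext g
  simp only [coeff_trunc]
  split_ifs with h1 h2
  · rfl
  · exact absurd (hle h1) h2
  · rfl

theorem cj_trunc (h : G) (L : Subgroup G) (z : MonoidAlgebra R G) :
    cj h (trunc L z) = trunc (L.map (MulAut.conj h).toMonoidHom) (cj h z) := by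
  classical
  apply coeff_injective
  ext g
  simp only [coeff_cj, coeff_trunc]
  refine if_congr ?_ rfl rfl
  rw [Subgroup.mem_map]
  constructor
  · intro hg
    exact ⟨_, hg, by simp [mul_assoc]⟩
  · rintro ⟨y, hy, rfl⟩
    simpa [mul_assoc] using hy

end General

section OrbitSum

variable {R : Type*} [CommRing R] {p : ℕ} [Fact p.Prime]

open scoped Classical in
/-- An invariant sum is the sum over the fixed points when `p` vanishes. -/
theorem sum_eq_sum_fixed (hR : (p : R) = 0) {P X : Type*} [Group P] [MulAction P X] [Fintype X]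
    (hP : IsPGroup p P) {f : X → R} (hinv : ∀ (q : P) (x : X), f (q • x) = f x) :
    ∑ x, f x = ∑ x with ∀ q : P, q • x = x, f x := by
  rw [← Finset.sum_filter_add_sum_filter_not Finset.univ (fun x : X => ∀ q : P, q • x = x) f,
    add_eq_left]
  let π : X → Quotient (MulAction.orbitRel P X) := Quotient.mk''
  rw [← Finset.sum_fiberwise_of_maps_to
    (s := Finset.univ.filter fun x : X => ¬ ∀ q : P, q • x = x)
    (t := (Finset.univ.filter fun x : X => ¬ ∀ q : P, q • x = x).image π)
    (g := π) (fun x hx => Finset.mem_image_of_mem _ hx) f]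
  refine Finset.sum_eq_zero fun ω hω => ?_
  obtain ⟨y, hy, rfl⟩ := Finset.mem_image.mp hω
  have hyn : ¬ ∀ q : P, q • y = y := (Finset.mem_filter.mp hy).2
  have hfib : ((Finset.univ.filter fun x : X => ¬ ∀ q : P, q • x = x).filter fun x => π x = π y) =
      (MulAction.orbit P y).toFinset := by
    ext x
    simp only [Finset.mem_filter, Finset.mem_univ, true_and, Set.mem_toFinset, π, Quotient.eq'',
      MulAction.orbitRel_apply]
    refine ⟨fun h => h.2, fun h => ⟨fun hfix => hyn ?_, h⟩⟩
    obtain ⟨q, rfl⟩ := MulAction.mem_orbit_iff.mp h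
    intro r
    have h1 := hfix (q⁻¹)
    rw [inv_smul_smul] at h1
    have h2 := hfix r
    rw [← h1] at h2
    exact h2
  rw [hfib, Finset.sum_congr rfl (g := fun _ => f y) (fun x hx => by
    obtain ⟨q, rfl⟩ := MulAction.mem_orbit_iff.mp (Set.mem_toFinset.mp hx)
    exact hinv q y), Finset.sum_const, nsmul_eq_mul]
  obtain ⟨n, hn⟩ := hP.card_orbit y
  rcases n with _ | n
  · exfalso
    apply hyn
    intro q
    have : (MulAction.orbit P y).Subsingleton := by
      rw [← Set.ncard_le_one_iff_subsingleton, ← Nat.card_coe_set_eq, hn, pow_zero]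
    exact this (MulAction.mem_orbit y q) (MulAction.mem_orbit_self y)
  · rw [Set.toFinset_card, ← Nat.card_eq_fintype_card, hn, pow_succ, Nat.cast_mul, hR, mul_zero,
      zero_mul]

variable {G : Type*} [Group G] [Fintype G]

open scoped Classical in
theorem sum_eq_sum_centralizer (hR : (p : R) = 0) {Q : Subgroup G} (hQ : IsPGroup p Q)
    {f : G → R} (hinv : ∀ q ∈ Q, ∀ x : G, f (q * x * q⁻¹) = f x) :
    ∑ x, f x = ∑ x with x ∈ Subgroup.centralizer (Q : Set G), f x := by
  let act : MulAction Q G :=
    MulAction.compHom G ((ConjAct.toConjAct : G ≃* ConjAct G).toMonoidHom.comp Q.subtype)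
  let := act
  have hsmul : ∀ (q : Q) (x : G), q • x = (q : G) * x * (q : G)⁻¹ := fun q x =>
    ConjAct.toConjAct_smul (q : G) x
  refine (sum_eq_sum_fixed hR hQ fun q x => by rw [hsmul]; exact hinv q q.2 x).trans ?_
  refine Finset.sum_congr (Finset.ext fun x => ?_) fun _ _ => rfl
  simp only [Finset.mem_filter, Finset.mem_univ, true_and, hsmul, Subgroup.mem_centralizer_iff,
    Subtype.forall]
  exact forall₂_congr fun q _ => mul_inv_eq_iff_eq_mul

/-- The truncation to the centralizer is multiplicative on fixed elements. -/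
theorem trunc_mul (hR : (p : R) = 0) {Q : Subgroup G} (hQ : IsPGroup p Q)
    {z w : MonoidAlgebra R G} (hz : InvBy Q z) (hw : InvBy Q w) :
    trunc (Subgroup.centralizer (Q : Set G)) (z * w) =
      trunc (Subgroup.centralizer (Q : Set G)) z * trunc (Subgroup.centralizer (Q : Set G)) w := by
  classical
  set L := Subgroup.centralizer (Q : Set G) with hL
  apply coeff_injective
  ext g
  rw [coeff_trunc]
  split_ifs with hg
  · rw [coeff_mul_fintype, coeff_mul_fintype]
    rw [sum_eq_sum_centralizer hR hQ (f := fun x => z.coeff x * w.coeff (x⁻¹ * g)) ?_,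
      Finset.sum_filter]
    · refine Finset.sum_congr rfl fun x _ => ?_
      simp only [coeff_trunc]
      by_cases hx : x ∈ L
      · rw [if_pos hx, if_pos hx, if_pos (L.mul_mem (L.inv_mem hx) hg)]
      · rw [if_neg hx, if_neg hx, zero_mul]
    · intro q hq x
      rw [hz.coeff_eq hq]
      congr 1
      rw [show (q * x * q⁻¹)⁻¹ * g = q * (x⁻¹ * g) * q⁻¹ by
        have hc : q⁻¹ * g = g * q⁻¹ := Subgroup.mem_centralizer_iff.1 hg _ (Q.inv_mem hq)
        simp only [mul_inv_rev, inv_inv, mul_assoc, hc], hw.coeff_eq hq]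
  · exact ((suppIn_trunc L z).mul (suppIn_trunc L w) g hg).symm

end OrbitSum

section Residue

variable {p : ℕ} {M : Ideal Cfsg.AlgInt} {G : Type*} [Group G]

theorem residue_p_eq_zero (hM : Cfsg.IsPModular p M) : (p : Residue hM) = 0 := by
  have h := Ideal.Quotient.eq_zero_iff_mem.2 (natCast_p_mem_locMax hM)
  rwa [map_natCast] at h

theorem residue_intCast_eq_zero (hM : Cfsg.IsPModular p M) {n : ℤ} :
    (n : Residue hM) = 0 ↔ (p : ℤ) ∣ n := by
  have h : toResidue hM (n : Cfsg.AlgInt) = (n : Residue hM) := map_intCast _ n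
  rw [← h, toResidue_apply, res_eq_zero_iff hM (memLocalRing_coe hM _)]
  rw [show ((n : Cfsg.AlgInt) : ℂ) = (n : ℂ) by simp]
  exact memLocalIdeal_intCast_iff hM n

open scoped Classical in
/-- A section of the reduction with values in the algebraic integers. -/
noncomputable def sect (hM : Cfsg.IsPModular p M) (y : Residue hM) : Cfsg.AlgInt :=
  if y = 0 then 0 else (toResidue_surjective hM y).choose

theorem toResidue_sect (hM : Cfsg.IsPModular p M) (y : Residue hM) :
    toResidue hM (sect hM y) = y := by
  classical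
  unfold sect
  split_ifs with h
  · rw [map_zero, h]
  · exact (toResidue_surjective hM y).choose_spec

theorem sect_zero (hM : Cfsg.IsPModular p M) : sect hM (0 : Residue hM) = 0 := by
  classical
  simp [sect]

variable [Finite G]

/-- The lift of an element of the residue group algebra. -/
noncomputable def lft (hM : Cfsg.IsPModular p M) (z : MonoidAlgebra (Residue hM) G) :
    MonoidAlgebra ℂ G :=
  ofFun fun g => (sect hM (z.coeff g) : ℂ)

theorem coeff_lft (hM : Cfsg.IsPModular p M) (z : MonoidAlgebra (Residue hM) G) (g : G) :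
    (lft hM z).coeff g = (sect hM (z.coeff g) : ℂ) := coeff_ofFun _ _

theorem isIntElt_lft (hM : Cfsg.IsPModular p M) (z : MonoidAlgebra (Residue hM) G) :
    IsIntElt M (lft hM z) := fun g => by
  rw [coeff_lft]
  exact memLocalRing_coe hM _

theorem red_lft (hM : Cfsg.IsPModular p M) (z : MonoidAlgebra (Residue hM) G) :
    red hM (lft hM z) = z := by
  apply coeff_injective
  ext g
  rw [coeff_red, coeff_lft, ← toResidue_apply, toResidue_sect]

theorem SuppIn.lft {hM : Cfsg.IsPModular p M} {L : Subgroup G}
    {z : MonoidAlgebra (Residue hM) G} (hz : SuppIn L z) : SuppIn L (Star.lft hM z) := fun g hg => by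
  rw [coeff_lft, hz g hg, sect_zero]
  rfl

theorem InvBy.lft {hM : Cfsg.IsPModular p M} {Q : Subgroup G}
    {z : MonoidAlgebra (Residue hM) G} (hz : InvBy Q z) : InvBy Q (Star.lft hM z) :=
  invBy_of_coeff fun h hh g => by rw [coeff_lft, coeff_lft, hz.coeff_eq hh]

theorem SuppIn.red {hM : Cfsg.IsPModular p M} {L : Subgroup G} {z : MonoidAlgebra ℂ G}
    (hz : SuppIn L z) : SuppIn L (BlockBasic.red hM z) := fun g hg => by
  rw [coeff_red, hz g hg, res_zero]

theorem InvBy.red {hM : Cfsg.IsPModular p M} {Q : Subgroup G} {z : MonoidAlgebra ℂ G}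
    (hz : InvBy Q z) : InvBy Q (BlockBasic.red hM z) :=
  invBy_of_coeff fun h hh g => by rw [coeff_red, coeff_red, hz.coeff_eq hh]

theorem red_cj (hM : Cfsg.IsPModular p M) (h : G) (z : MonoidAlgebra ℂ G) :
    red hM (cj h z) = cj h (red hM z) := by
  apply coeff_injective
  ext g
  rw [coeff_red, coeff_cj, coeff_cj, coeff_red]

theorem red_trunc (hM : Cfsg.IsPModular p M) (L : Subgroup G) (z : MonoidAlgebra ℂ G) :
    red hM (trunc L z) = trunc L (red hM z) := by
  classical
  apply coeff_injective
  ext g
  rw [coeff_red, coeff_trunc, coeff_trunc]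
  split_ifs
  · rw [coeff_red]
  · exact res_zero hM

end Residue

end Cfsg.Agent.H83.Star
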