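import Cfsg.Agent.H83.StarChar
import Cfsg.Agent.BlockBasic.Kernel

/-!
The star product of an irreducible character is irreducible, lies in the same block, and the star
products compose.
-/

set_option linter.style.haveILetI false

open scoped ComplexConjugate

namespace Cfsg.Agent.H83.Star

open MonoidAlgebra BlockBasic BlockAlgebra CharBasic

universe u

variable {p : ℕ} {M : Ideal Cfsg.AlgInt} {G : Type u} [Group G] [Fintype G]
  [hp : Fact p.Prime] {Lam Mu : G → MonoidAlgebra ℂ G → ℂ}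

omit [Fintype G] hp in
theorem cen_eq_singleton (x : G) : cen x = Subgroup.centralizer ({x} : Set G) :=
  centralizer_zpowers_singleton x

/-- The values at a section as a combination of the irreducible characters of the centralizer. -/
theorem starChar_section (hM : Cfsg.IsPModular p M) (χ : Cfsg.IrrCharacter G) {x : G}
    (hx : ∃ k, orderOf x = p ^ k) [Fintype (cen x)] {a : Cfsg.IrrCharacter (cen x) → ℂ}
    (ha : ∀ (ψ : Cfsg.IrrCharacter (cen x)) (c : cen x),
      (ψ : cen x → ℂ) (⟨x, self_mem_cen x⟩ * c) = a ψ * (ψ : cen x → ℂ) c)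
    {s : cen x} (hs : ¬ p ∣ orderOf s) :
    starChar p M (χ : G → ℂ) Lam (x * (s : G)) = ∑ ψ : Cfsg.IrrCharacter (cen x),
      Lam x (H82.blockUp (cen x) (Cfsg.blockOf M (ψ : cen x → ℂ))) * (mult χ ψ : ℂ) * a ψ *
        (ψ : cen x → ℂ) s := by
  classical
  rw [starChar_mul (mem_cen_iff.1 s.2) hx (by rwa [Subgroup.orderOf_coe]), sum_idemsOf hM]
  rw [← Finset.sum_fiberwise_of_maps_to (s := (Finset.univ : Finset (Cfsg.IrrCharacter (cen x))))
    (t := blocksOf M (cen x)) (g := fun ψ => Cfsg.blockOf M (ψ : cen x → ℂ))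
    (fun ψ _ => mem_blocksOf.2 (isPBlock_blockOf M ψ))]
  refine Finset.sum_congr rfl fun b hb => ?_
  rw [chiLin_shift]
  simp only [H82.coeff_blockUp]
  rw [sum_subgroupBlockCoeff_shift (self_mem_cen x) b χ a ha s, Finset.mul_sum]
  have hfib : (Finset.univ.filter fun ψ : Cfsg.IrrCharacter (cen x) => ψ ∈ b) =
      Finset.univ.filter fun ψ : Cfsg.IrrCharacter (cen x) => Cfsg.blockOf M (ψ : cen x → ℂ) = b := by
    ext ψ
    simp only [Finset.mem_filter, Finset.mem_univ, true_and]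
    exact ⟨fun h => (isPBlock_eq_blockOf hM (mem_blocksOf.1 hb) h).symm,
      fun h => h ▸ self_mem_blockOf hM ψ⟩
  rw [hfib]
  refine Finset.sum_congr rfl fun ψ hψ => ?_
  rw [(Finset.mem_filter.1 hψ).2]
  ring

/-- Without weights the character itself. -/
theorem starChar_one (hM : Cfsg.IsPModular p M) (f : G → ℂ) (g : G) :
    starChar p M f (fun _ _ => (1 : ℂ)) g = f g := by
  classical
  haveI : Fintype {B : Set (Cfsg.IrrCharacter (cen (pPart (p := p) g))) // Cfsg.IsPBlock M B} :=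
    Fintype.ofFinite _
  simp only [starChar, one_mul]
  rw [← chiLin_sum', ← Finset.sum_mul, ← Finset.mul_sum, sum_idemsOf hM]
  rw [Finset.sum_subtype (p := fun b => Cfsg.IsPBlock M b) _ (fun b => mem_blocksOf),
    H82.sum_blockUp hM, mul_one, single_mul_single, mul_one, chiLin_single, one_mul, pPart_mul_pReg]

open scoped Classical in
/-- The norm at one section does not depend on the weights. -/
theorem sum_section_norm (hM : Cfsg.IsPModular p M) (hn : ∀ q E, ‖Lam q E‖ = 1)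
    (χ : Cfsg.IrrCharacter G) {x : G} (hx : ∃ k, orderOf x = p ^ k) :
    ∑ s ∈ Finset.univ.filter (fun s : G => s * x = x * s ∧ ¬ p ∣ orderOf s),
        ‖starChar p M (χ : G → ℂ) Lam (x * s)‖ ^ 2 =
      ∑ s ∈ Finset.univ.filter (fun s : G => s * x = x * s ∧ ¬ p ∣ orderOf s),
        ‖(χ : G → ℂ) (x * s)‖ ^ 2 := by
  cases nonempty_fintype (cen x)
  obtain ⟨a, ha⟩ := subgroup_scalars (self_mem_cen x) fun c hc => (mem_cen_iff.1 hc).eq
  have key : ∀ L : G → MonoidAlgebra ℂ G → ℂ, (∀ q E, ‖L q E‖ = 1) →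
      ∑ s ∈ Finset.univ.filter (fun s : G => s * x = x * s ∧ ¬ p ∣ orderOf s),
          ‖starChar p M (χ : G → ℂ) L (x * s)‖ ^ 2 =
        ∑ b ∈ Finset.univ.filter (fun b : Set (Cfsg.IrrCharacter (cen x)) => Cfsg.IsPBlock M b),
          ∑ s ∈ Finset.univ.filter (fun s : cen x => ¬ p ∣ orderOf s),
            ‖∑ ψ ∈ Finset.univ.filter (fun ψ : Cfsg.IrrCharacter (cen x) => ψ ∈ b),
              (mult χ ψ : ℂ) * a ψ * (ψ : cen x → ℂ) s‖ ^ 2 := by
    intro L hL
    rw [sum_commute_regular (p := p) (cen_eq_singleton x),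
      Finset.sum_congr rfl fun s hs => by
        rw [starChar_section hM χ hx ha (Finset.mem_filter.1 hs).2],
      ← sum_norm_sq_blockSplit hM fun ψ =>
        L x (H82.blockUp (cen x) (Cfsg.blockOf M (ψ : cen x → ℂ))) * (mult χ ψ : ℂ) * a ψ]
    refine Finset.sum_congr rfl fun b hb => Finset.sum_congr rfl fun s _ => ?_
    rw [show ∑ ψ ∈ Finset.univ.filter (fun ψ : Cfsg.IrrCharacter (cen x) => ψ ∈ b),
        L x (H82.blockUp (cen x) (Cfsg.blockOf M (ψ : cen x → ℂ))) * (mult χ ψ : ℂ) * a ψ *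
          (ψ : cen x → ℂ) s = L x (H82.blockUp (cen x) b) *
        ∑ ψ ∈ Finset.univ.filter (fun ψ : Cfsg.IrrCharacter (cen x) => ψ ∈ b),
          (mult χ ψ : ℂ) * a ψ * (ψ : cen x → ℂ) s by
      rw [Finset.mul_sum]
      refine Finset.sum_congr rfl fun ψ hψ => ?_
      rw [← isPBlock_eq_blockOf hM (Finset.mem_filter.1 hb).2 (Finset.mem_filter.1 hψ).2]
      ring, norm_mul, hL, one_mul]
  rw [key Lam hn, ← key (fun _ _ => 1) fun _ _ => norm_one]
  exact Finset.sum_congr rfl fun s _ => by rw [starChar_one hM]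

/-- The value at a regular element. -/
theorem starChar_regular (hM : Cfsg.IsPModular p M) (h1 : ∀ E, Lam 1 E = 1) (f : G → ℂ) {g : G}
    (hg : ¬ p ∣ orderOf g) : starChar p M f Lam g = f g := by
  conv_rhs => rw [← starChar_one hM f g]
  have hx : pPart (p := p) g = 1 := (pPart_eq_one_iff g).2 hg
  rw [starChar, starChar, hx]
  exact Finset.sum_congr rfl fun E _ => by rw [h1]

/-- Weights of norm one, integral and trivial at the identity. -/
structure IsUnitWeight (p : ℕ) (M : Ideal Cfsg.AlgInt) (Lam : G → MonoidAlgebra ℂ G → ℂ) :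
    Prop extends IsWeight p M Lam where
  norm_eq : ∀ q E, ‖Lam q E‖ = 1
  integral : ∀ q E, IsIntegral ℤ (Lam q E)
  at_one : ∀ E, Lam 1 E = 1

open scoped Classical in
/-- The star product of an irreducible character is irreducible. -/
theorem exists_irr_starChar (hM : Cfsg.IsPModular p M) (hL : IsUnitWeight p M Lam)
    (χ : Cfsg.IrrCharacter G) :
    ∃ ψ : Cfsg.IrrCharacter G, (ψ : G → ℂ) = starChar p M (χ : G → ℂ) Lam := by
  have hgen := isGen_starChar hM hL.toIsWeight hL.integral χ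
  have hnorm : Cfsg.classInner (starChar p M (χ : G → ℂ) Lam) (starChar p M (χ : G → ℂ) Lam) = 1 := by
    rw [classInner_self_eq, ← sum_pElt_sections (p := p) fun g =>
      ‖starChar p M (χ : G → ℂ) Lam g‖ ^ 2,
      Finset.sum_congr rfl fun x hx => sum_section_norm hM hL.norm_eq χ (Finset.mem_filter.1 hx).2,
      sum_pElt_sections (p := p) fun g => ‖(χ : G → ℂ) g‖ ^ 2, sum_norm_sq_eq_card,
      inv_mul_cancel₀ (Nat.cast_ne_zero.2 Nat.card_pos.ne')]
    norm_num
  obtain ⟨ψ, hψ | hψ⟩ := CharInduce.IsGen.eq_irr_or_neg hgen hnorm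
  · exact ⟨ψ, hψ.symm⟩
  · exfalso
    have h1 : starChar p M (χ : G → ℂ) Lam 1 = (χ : G → ℂ) 1 :=
      starChar_regular hM hL.at_one _ (by rw [orderOf_one, Nat.dvd_one]; exact hp.out.ne_one)
    rw [hψ, Pi.neg_apply] at h1
    obtain ⟨n, hn0, hn, -⟩ := IsIrr.degree_dvd χ.2
    obtain ⟨m, hm0, hm, -⟩ := IsIrr.degree_dvd ψ.2
    rw [hn, hm] at h1
    have h2 : ((-(m : ℤ) : ℤ) : ℂ) = ((n : ℤ) : ℂ) := by push_cast; exact h1
    have := Int.cast_injective (α := ℂ) h2
    omega

/-- The star product as an irreducible character. -/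
noncomputable def starIrr (hM : Cfsg.IsPModular p M) (hL : IsUnitWeight p M Lam)
    (χ : Cfsg.IrrCharacter G) : Cfsg.IrrCharacter G :=
  (exists_irr_starChar hM hL χ).choose

theorem coe_starIrr (hM : Cfsg.IsPModular p M) (hL : IsUnitWeight p M Lam)
    (χ : Cfsg.IrrCharacter G) :
    (starIrr hM hL χ : G → ℂ) = starChar p M (χ : G → ℂ) Lam :=
  (exists_irr_starChar hM hL χ).choose_spec

theorem starIrr_regular (hM : Cfsg.IsPModular p M) (hL : IsUnitWeight p M Lam)
    (χ : Cfsg.IrrCharacter G) {g : G} (hg : ¬ p ∣ orderOf g) :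
    (starIrr hM hL χ : G → ℂ) g = (χ : G → ℂ) g := by
  rw [coe_starIrr, starChar_regular hM hL.at_one _ hg]

theorem starIrr_mem (hM : Cfsg.IsPModular p M) (hL : IsUnitWeight p M Lam)
    {B : Set (Cfsg.IrrCharacter G)} (hB : Cfsg.IsPBlock M B) {χ : Cfsg.IrrCharacter G}
    (hχ : χ ∈ B) : starIrr hM hL χ ∈ B := by
  rw [isPBlock_eq_blockOf hM hB hχ]
  refine sameBlock_of_congr_regular (p := p) hM fun g hg => ?_
  rw [Cfsg.centralChar, Cfsg.centralChar, starIrr_regular hM hL χ hg,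
    starIrr_regular hM hL χ (g := 1) (by rw [orderOf_one, Nat.dvd_one]; exact hp.out.ne_one),
    sub_self]
  exact memLocalIdeal_zero hM

theorem blockHeight_starIrr (hM : Cfsg.IsPModular p M) (hL : IsUnitWeight p M Lam)
    (B : Set (Cfsg.IrrCharacter G)) (χ : Cfsg.IrrCharacter G) :
    Cfsg.blockHeight p B (starIrr hM hL χ : G → ℂ) = Cfsg.blockHeight p B (χ : G → ℂ) := by
  simp only [Cfsg.blockHeight, Cfsg.charDegree,
    starIrr_regular hM hL χ (g := 1) (by rw [orderOf_one, Nat.dvd_one]; exact hp.out.ne_one)]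

/-- The block parts of a star product. -/
theorem chiLin_starChar (hM : Cfsg.IsPModular p M) {χ ψ : Cfsg.IrrCharacter G}
    (hψ : (ψ : G → ℂ) = starChar p M (χ : G → ℂ) Lam) {x : G} (hx : ∃ k, orderOf x = p ^ k)
    {E : MonoidAlgebra ℂ G} (hE : E ∈ idemsOf M (cen x)) {s : G} (hsx : Commute x s)
    (hs : ¬ p ∣ orderOf s) :
    chiLin (ψ : G → ℂ) (single x 1 * E * single s 1) =
      Lam x E * chiLin (χ : G → ℂ) (single x 1 * E * single s 1) := by
  classical
  cases nonempty_fintype (cen x)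
  obtain ⟨b, hb, rfl⟩ := mem_idemsOf.1 hE
  obtain ⟨a, ha⟩ := subgroup_scalars (self_mem_cen x) fun c hc => (mem_cen_iff.1 hc).eq
  set d : Cfsg.IrrCharacter (cen x) → ℂ := fun θ => (mult ψ θ : ℂ) * a θ -
    Lam x (H82.blockUp (cen x) (Cfsg.blockOf M (θ : cen x → ℂ))) * (mult χ θ : ℂ) * a θ with hd
  have hzero : ∀ t : cen x, ¬ p ∣ orderOf t → ∑ θ, d θ * (θ : cen x → ℂ) t = 0 := by
    intro t ht
    simp only [hd, sub_mul, Finset.sum_sub_distrib]
    rw [← starChar_section hM χ hx ha ht, ← hψ, sub_eq_zero,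
      show x * (t : G) = ((⟨x, self_mem_cen x⟩ * t : cen x) : G) from rfl, restrict_eq_sum]
    exact Finset.sum_congr rfl fun θ _ => by rw [ha]; ring
  have h1 := sum_norm_sq_blockSplit (p := p) hM d
  conv_rhs at h1 => rw [Finset.sum_eq_zero fun t ht => by
    rw [hzero t (Finset.mem_filter.1 ht).2, norm_zero, zero_pow two_ne_zero]]
  rw [Finset.sum_eq_zero_iff_of_nonneg fun _ _ => Finset.sum_nonneg fun _ _ => sq_nonneg _] at h1
  set t : cen x := ⟨s, mem_cen_iff.2 hsx⟩
  have h2 := (Finset.sum_eq_zero_iff_of_nonneg fun _ _ => sq_nonneg _).1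
    (h1 b (Finset.mem_filter.2 ⟨Finset.mem_univ _, hb⟩)) t
    (Finset.mem_filter.2 ⟨Finset.mem_univ _, by rwa [← Subgroup.orderOf_coe]⟩)
  rw [sq_eq_zero_iff, norm_eq_zero] at h2
  simp only [hd, sub_mul, Finset.sum_sub_distrib, sub_eq_zero] at h2
  rw [chiLin_shift, chiLin_shift]
  simp only [H82.coeff_blockUp]
  rw [show s = (t : G) from rfl, sum_subgroupBlockCoeff_shift (self_mem_cen x) b ψ a ha t,
    sum_subgroupBlockCoeff_shift (self_mem_cen x) b χ a ha t, h2, Finset.mul_sum]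
  refine Finset.sum_congr rfl fun θ hθ => ?_
  rw [← isPBlock_eq_blockOf hM hb (Finset.mem_filter.1 hθ).2]
  ring

/-- The star products compose. -/
theorem starChar_starChar (hM : Cfsg.IsPModular p M) {χ ψ : Cfsg.IrrCharacter G}
    (hψ : (ψ : G → ℂ) = starChar p M (χ : G → ℂ) Lam) :
    starChar p M (ψ : G → ℂ) Mu = starChar p M (χ : G → ℂ) (fun q E => Mu q E * Lam q E) := by
  funext g
  refine Finset.sum_congr rfl fun E hE => ?_
  rw [chiLin_starChar hM hψ (exists_orderOf_pPart g) hE (commute_pPart_pReg g)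
    (not_dvd_orderOf_pReg g)]
  simp only [mul_assoc]

/-- A fixed character sees only blocks of weight one. -/
theorem weight_eq_one_of_fixed (hM : Cfsg.IsPModular p M) {χ : Cfsg.IrrCharacter G}
    (hfix : starChar p M (χ : G → ℂ) Lam = (χ : G → ℂ)) {x : G} (hx : ∃ k, orderOf x = p ^ k)
    {E : MonoidAlgebra ℂ G} (hE : E ∈ idemsOf M (cen x)) {s : G} (hsx : Commute x s)
    (hs : ¬ p ∣ orderOf s)
    (hne : chiLin (χ : G → ℂ) (single x 1 * E * single s 1) ≠ 0) : Lam x E = 1 := by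
  have h := chiLin_starChar hM (ψ := χ) hfix.symm hx hE hsx hs
  exact (mul_eq_right₀ hne).1 h.symm

end Cfsg.Agent.H83.Star
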