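import Cfsg.Agent.H83.StarFree
import Mathlib.GroupTheory.FiniteAbelian.Duality
import Mathlib.RingTheory.RootsOfUnity.AlgebraicallyClosed
import Mathlib.Analysis.Complex.Polynomial.Basic
import Mathlib.GroupTheory.GroupAction.Quotient

/-!
The linear characters of the defect group modulo the focal subgroup act on the characters of each
height of the block; the orbit lengths give the divisibilities.
-/

set_option linter.style.haveILetI false

namespace Cfsg.Agent.H83.Star

open MonoidAlgebra BlockBasic BlockAlgebra CharBasic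

universe u

variable {p : ℕ} {M : Ideal Cfsg.AlgInt} {G : Type u} [Group G] [Fintype G]
  [hp : Fact p.Prime] {B : Set (Cfsg.IrrCharacter G)} {P : Subgroup G}
  {e : Set (Cfsg.IrrCharacter (Subgroup.centralizer (P : Set G)))} {F : Cfsg.FusionSystem P}

/-- The weight of a linear character trivial on the focal subgroup is a unit weight. -/
theorem isUnitWeight_starLam (hM : Cfsg.IsPModular p M)
    (hF : Cfsg.IsBlockFusionSystemOn p M B P e F) {lam : P →* ℂˣ} (hlam : lam ∈ focalDual F) :
    IsUnitWeight p M (starLam p M P e lam) where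
  toIsWeight := isWeight_starLam hM hF hlam
  norm_eq := norm_starLam lam
  integral := isIntegral_starLam lam
  at_one := starLam_at_one lam

omit hp in
/-- Conjugation by elements of the defect group lands in the focal subgroup. -/
theorem commutator_mem_focal (hF : Cfsg.IsBlockFusionSystemOn p M B P e F) (a b : P) :
    (a : G)⁻¹ * ((b : G) * (a : G) * (b : G)⁻¹) ∈ F.focalSubgroup := by
  have hpair : H82.conjPair (b : G) ⟨P, e⟩ = ⟨P, e⟩ := H82.conjPair_of_mem e b.2
  let φ : P →* G := (MulAut.conj (b : G)).toMonoidHom.comp P.subtype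
  have hle : Cfsg.SubpairLE p M (H82.conjPair (b : G) ⟨P, e⟩).1
      (H82.conjPair (b : G) ⟨P, e⟩).2 P e := by
    rw [hpair]; exact Relation.ReflTransGen.refl
  have hmem : φ ∈ F.Hom P := (hF.2 P φ).2 ⟨le_rfl, b, fun _ => rfl,
    (H82.map_conj_eq_of_mem_normalizer (Subgroup.le_normalizer b.2)).le, e,
    Relation.ReflTransGen.refl, hle⟩
  exact Subgroup.subset_closure ⟨P, φ, a, hmem, rfl⟩

omit hp in
theorem normal_focal (hF : Cfsg.IsBlockFusionSystemOn p M B P e F) :
    (F.focalSubgroup.subgroupOf P).Normal where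
  conj_mem n hn g := by
    rw [Subgroup.mem_subgroupOf] at hn ⊢
    have := Subgroup.mul_mem _ hn (commutator_mem_focal hF n g)
    rw [mul_inv_cancel_left] at this
    push_cast
    exact this

/-- Divisibility from stabilizers inside a subgroup. -/
theorem index_dvd_card_of_stabilizer_le {Γ : Type*} [Group Γ] [Finite Γ] {X : Type*} [Finite X]
    [MulAction Γ X] {K : Subgroup Γ} (h : ∀ x : X, MulAction.stabilizer Γ x ≤ K) :
    K.index ∣ Nat.card X := by
  classical
  cases nonempty_fintype (MulAction.orbitRel.Quotient Γ X)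
  rw [Nat.card_congr (MulAction.selfEquivSigmaOrbits Γ X), Nat.card_sigma]
  refine Finset.dvd_sum fun ω _ => ?_
  rw [Nat.card_coe_set_eq, ← MulAction.index_stabilizer]
  exact Subgroup.index_dvd_of_le (h _)

/-- If fixed characters force the weight to be trivial on `Z`, the image of `Z` modulo the focal
subgroup divides the number of characters. -/
theorem card_map_dvd_count (hM : Cfsg.IsPModular p M)
    (hF : Cfsg.IsBlockFusionSystemOn p M B P e F) (h : ℕ) (Z : Subgroup P)
    (hfix : ∀ lam ∈ focalDual F, ∀ χ : Cfsg.IrrCharacter G, χ ∈ B →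
      Cfsg.blockHeight p B (χ : G → ℂ) = h →
      starChar p M (χ : G → ℂ) (starLam p M P e lam) = (χ : G → ℂ) → ∀ z ∈ Z, lam z = 1) :
    (F.focalSubgroup.subgroupOf P).relIndex Z ∣
      Nat.card {χ : Cfsg.IrrCharacter G // χ ∈ B ∧ Cfsg.blockHeight p B (χ : G → ℂ) = h} := by
  classical
  haveI := normal_focal hF
  let N := F.focalSubgroup.subgroupOf P
  letI : CommGroup (P ⧸ N) :=
    { (inferInstance : Group (P ⧸ N)) with
      mul_comm := fun x y => by
        obtain ⟨a, rfl⟩ := QuotientGroup.mk_surjective x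
        obtain ⟨b, rfl⟩ := QuotientGroup.mk_surjective y
        refine QuotientGroup.eq.2 (Subgroup.mem_subgroupOf.2 ?_)
        have h1 := commutator_mem_focal hF b a⁻¹
        push_cast at h1 ⊢
        convert h1 using 1
        group }
  let π : P →* P ⧸ N := QuotientGroup.mk' N
  have hmem : ∀ μ : (P ⧸ N) →* ℂˣ, μ.comp π ∈ focalDual F := fun μ u hu => by
    show μ (π u) = 1
    rw [show π u = 1 from (QuotientGroup.eq_one_iff u).2 hu, map_one]
  let X := {χ : Cfsg.IrrCharacter G // χ ∈ B ∧ Cfsg.blockHeight p B (χ : G → ℂ) = h}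
  haveI : Finite (Cfsg.IrrCharacter G) := CharBasic.finite_irrCharacter
  let act : MulAction ((P ⧸ N) →* ℂˣ) X :=
    { smul := fun μ χ => ⟨starIrr hM (isUnitWeight_starLam hM hF (hmem μ)) χ.1,
        starIrr_mem hM _ hF.1.1.2.1 χ.2.1, by rw [blockHeight_starIrr]; exact χ.2.2⟩
      one_smul := fun χ => by
        refine Subtype.ext (Subtype.ext ?_)
        show (starIrr hM (isUnitWeight_starLam hM hF (hmem 1)) χ.1 : G → ℂ) = _
        rw [coe_starIrr]
        funext g
        refine Eq.trans ?_ (starChar_one hM (p := p) (χ.1 : G → ℂ) g)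
        rw [MonoidHom.one_comp, show starLam p M P e 1 = fun _ _ => (1 : ℂ) from
          funext fun q => funext fun E => starLam_one q E]
      mul_smul := fun μ ν χ => by
        refine Subtype.ext (Subtype.ext ?_)
        show (starIrr hM (isUnitWeight_starLam hM hF (hmem (μ * ν))) χ.1 : G → ℂ) =
          (starIrr hM (isUnitWeight_starLam hM hF (hmem μ)) (starIrr hM (isUnitWeight_starLam hM hF (hmem ν)) χ.1) : G → ℂ)
        rw [coe_starIrr, coe_starIrr,
          starChar_starChar hM (coe_starIrr hM (isUnitWeight_starLam hM hF (hmem ν)) χ.1),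
          MonoidHom.mul_comp]
        congr 1
        funext q E
        exact starLam_mul hF (hmem μ) (hmem ν) q E }
  let _ := act
  let Ψ := MonoidHom.domRestrictHom (Z.map π) ℂˣ
  have hK : ∀ x : X, MulAction.stabilizer ((P ⧸ N) →* ℂˣ) x ≤ Ψ.ker := by
    intro x μ hμ
    have h1 : (starIrr hM (isUnitWeight_starLam hM hF (hmem μ)) x.1 : G → ℂ) = (x.1 : G → ℂ) :=
      congrArg (fun y : X => ((y.1 : Cfsg.IrrCharacter G) : G → ℂ))
        (MulAction.mem_stabilizer_iff.1 hμ)
    rw [coe_starIrr] at h1
    refine MonoidHom.mem_ker.2 (MonoidHom.ext fun z => ?_)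
    obtain ⟨u, hu, huz⟩ := z.2
    show μ (z : P ⧸ N) = 1
    rw [← huz]
    exact hfix _ (hmem μ) x.1 x.2.1 x.2.2 h1 u hu
  haveI : Finite ((P ⧸ N) →* ℂˣ) := Nat.finite_of_card_ne_zero (by
    rw [CommGroup.card_monoidHom_of_hasEnoughRootsOfUnity]; exact Nat.card_pos.ne')
  have hidx : Ψ.ker.index = (F.focalSubgroup.subgroupOf P).relIndex Z := by
    rw [Subgroup.index_ker, MonoidHom.range_eq_top.2 (MonoidHom.domRestrict_surjective ℂ _),
      Subgroup.card_top, CommGroup.card_monoidHom_of_hasEnoughRootsOfUnity, ← Subgroup.relIndex_ker,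
      QuotientGroup.ker_mk']
  rw [← hidx]
  exact index_dvd_card_of_stabilizer_le hK

end Cfsg.Agent.H83.Star
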