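import Cfsg.Agent.H83.StarNecklace
import Cfsg.Agent.H83.StarResidue
import Mathlib.RingTheory.Polynomial.ScaleRoots
import Mathlib.RingTheory.IntegralClosure.Algebra.Basic
import Mathlib.RingTheory.Finiteness.Basic

/-!
Exact lifts of idempotents of the residue group algebra, and the values of a class function at
`q` times the lift of an idempotent supported on the centralizer of `q`.
-/

set_option linter.style.haveILetI false

namespace Cfsg.Agent.H83.Star

open MonoidAlgebra BlockBasic BlockAlgebra

variable {p : ℕ} {M : Ideal Cfsg.AlgInt} {G : Type*} [Group G] [Fintype G]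

open Polynomial in
/-- The local ring contains the roots of its monic polynomials. -/
theorem memLocalRing_of_root (hM : Cfsg.IsPModular p M) {f : (locRing hM)[X]} (hf : f.Monic) {r : ℂ}
    (hr : eval₂ (locRing hM).subtype r f = 0) : Cfsg.MemLocalRing M r := by
  classical
  set P := f.map (locRing hM).subtype with hP
  have hPm : P.Monic := hf.map _
  choose a b hb hab using fun i => (f.coeff i).2
  set c : Cfsg.AlgInt := ∏ i ∈ Finset.range P.natDegree, b i with hc
  have hcM : c ∉ M := by
    rw [hc]
    refine Finset.prod_induction b (fun z => z ∉ M) (fun x y hx hy => mul_not_mem hM hx hy)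
      (one_not_mem hM) fun i _ => hb i
  have hPcoeff : ∀ i, P.coeff i = (a i : ℂ) / (b i : ℂ) := fun i => by
    rw [hP, Polynomial.coeff_map, hab i]
    rfl
  have hlifts : P.scaleRoots (c : ℂ) ∈ Polynomial.lifts Cfsg.AlgInt.subtype := by
    refine (lifts_iff_coeff_lifts _).2 fun i => ?_
    rw [coeff_scaleRoots]
    rcases lt_trichotomy i P.natDegree with hi | hi | hi
    · obtain ⟨d, hd⟩ : b i ∣ c := Finset.dvd_prod_of_mem _ (Finset.mem_range.2 hi)
      obtain ⟨m, hm⟩ : ∃ m, P.natDegree - i = m + 1 := ⟨P.natDegree - i - 1, by omega⟩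
      refine ⟨a i * d * c ^ m, ?_⟩
      rw [hm, pow_succ', hPcoeff]
      conv_rhs => arg 2; arg 1; rw [hd]
      push_cast
      have := coe_ne_zero (b i) (hb i)
      rw [show ∀ z : Cfsg.AlgInt, Cfsg.AlgInt.subtype z = (z : ℂ) from fun _ => rfl]
      push_cast
      field_simp
    · refine ⟨1, ?_⟩
      rw [hi, hPm.coeff_natDegree, Nat.sub_self, pow_zero, one_mul, map_one]
    · exact ⟨0, by rw [coeff_eq_zero_of_natDegree_lt hi, zero_mul, map_zero]⟩
  obtain ⟨g, hg, -, hgm⟩ := lifts_and_degree_eq_and_monic hlifts ((monic_scaleRoots_iff _).2 hPm)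
  have hroot : eval₂ Cfsg.AlgInt.subtype ((c : ℂ) * r) g = 0 := by
    rw [← eval_map, hg]
    have h0 : eval₂ (RingHom.id ℂ) r P = 0 := by
      rw [eval₂_id, hP, eval_map]
      exact hr
    have h1 := scaleRoots_eval₂_eq_zero (s := (c : ℂ)) (RingHom.id ℂ) h0
    rw [eval₂_id] at h1
    exact h1
  have hint : IsIntegral ℤ ((c : ℂ) * r) := by
    haveI : Algebra.IsIntegral ℤ Cfsg.AlgInt := ⟨fun a =>
      (isIntegral_algebraMap_iff (A := Cfsg.AlgInt) (B := ℂ) Subtype.coe_injective).1
        (algInt_isIntegral a)⟩
    exact isIntegral_trans (A := Cfsg.AlgInt) ((c : ℂ) * r) ⟨g, hgm, hroot⟩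
  exact ⟨⟨_, hint⟩, c, hcM, mul_div_cancel_left₀ r (coe_ne_zero c hcM)⟩

/-- Evaluation of a polynomial with local integral coefficients. -/
noncomputable def ev (hM : Cfsg.IsPModular p M) (x : MonoidAlgebra ℂ G) :
    Polynomial (locRing hM) →+* MonoidAlgebra ℂ G :=
  (Polynomial.aeval x).toRingHom.comp (Polynomial.mapRingHom (locRing hM).subtype)

omit [Fintype G] in
theorem ev_monomial (hM : Cfsg.IsPModular p M) (x : MonoidAlgebra ℂ G) (n : ℕ) (c : locRing hM) :
    ev hM x (Polynomial.monomial n c) = (c : ℂ) • x ^ n := by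
  simp [ev, Polynomial.aeval_monomial, Algebra.smul_def]

theorem red_add' (hM : Cfsg.IsPModular p M) {z w : MonoidAlgebra ℂ G} (hz : IsIntElt M z)
    (hw : IsIntElt M w) : red hM (z + w) = red hM z + red hM w := by
  apply coeff_injective
  ext g
  simp only [coeff_red, coeff_add, Finsupp.add_apply, res_add hM (hz g) (hw g)]

theorem red_smul' (hM : Cfsg.IsPModular p M) {z : MonoidAlgebra ℂ G} (hz : IsIntElt M z) {c : ℂ}
    (hc : Cfsg.MemLocalRing M c) : red hM (c • z) = res hM c • red hM z := by
  apply coeff_injective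
  ext g
  simp only [coeff_red, coeff_smul_apply, smul_eq_mul, res_mul hM hc (hz g)]

theorem red_sub' (hM : Cfsg.IsPModular p M) {z w : MonoidAlgebra ℂ G} (hz : IsIntElt M z)
    (hw : IsIntElt M w) : red hM (z - w) = red hM z - red hM w := by
  rw [eq_sub_iff_add_eq, ← red_add' hM (hz.sub hM hw) hw, sub_add_cancel]

/-- Evaluation preserves integrality and commutes with reduction. -/
theorem ev_spec (hM : Cfsg.IsPModular p M) {x : MonoidAlgebra ℂ G} (hx : IsIntElt M x)
    (q : Polynomial (locRing hM)) :
    IsIntElt M (ev hM x q) ∧ red hM (ev hM x q) =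
      Polynomial.aeval (red hM x) (q.map (Ideal.Quotient.mk (locMax hM))) := by
  induction q using Polynomial.induction_on' with
  | add f g hf hg =>
    rw [map_add, Polynomial.map_add, map_add]
    exact ⟨hf.1.add hM hg.1, by rw [red_add' hM hf.1 hg.1, hf.2, hg.2]⟩
  | monomial n c =>
    rw [ev_monomial, Polynomial.map_monomial, Polynomial.aeval_monomial, ← Algebra.smul_def]
    refine ⟨(hx.pow hM n).smul hM c.2, ?_⟩
    rw [red_smul' hM (hx.pow hM n) c.2, red_pow hM hx, res_apply hM c.2]

omit [Fintype G] in
theorem InvBy.ev {hM : Cfsg.IsPModular p M} {Q : Subgroup G} {x : MonoidAlgebra ℂ G}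
    (hx : InvBy Q x) (q : Polynomial (locRing hM)) : InvBy Q (Star.ev hM x q) := by
  induction q using Polynomial.induction_on' with
  | add f g hf hg => rw [map_add]; exact hf.add hg
  | monomial n c =>
    rw [ev_monomial]
    refine InvBy.smul _ ?_
    induction n with
    | zero => rw [pow_zero]; exact InvBy.one Q
    | succ n ih => rw [pow_succ]; exact ih.mul hx

theorem SuppIn.ev {hM : Cfsg.IsPModular p M} {L : Subgroup G} {x : MonoidAlgebra ℂ G}
    (hx : SuppIn L x) (q : Polynomial (locRing hM)) : SuppIn L (Star.ev hM x q) := by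
  induction q using Polynomial.induction_on' with
  | add f g hf hg => rw [map_add]; exact hf.add hg
  | monomial n c =>
    rw [ev_monomial]
    refine SuppIn.smul _ ?_
    induction n with
    | zero => rw [pow_zero]; exact SuppIn.one L
    | succ n ih => rw [pow_succ]; exact ih.mul hx

open Polynomial in
theorem exists_monic_ev_eq_zero (hM : Cfsg.IsPModular p M) {x : MonoidAlgebra ℂ G}
    (hx : IsIntElt M x) : ∃ f : (locRing hM)[X], f.Monic ∧ ev hM x f = 0 := by
  let j : MonoidAlgebra (locRing hM) G →+* MonoidAlgebra ℂ G :=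
    MonoidAlgebra.mapRingHom G (locRing hM).subtype
  let x' : MonoidAlgebra (locRing hM) G :=
    .ofCoeff (Finsupp.equivFunOnFinite.symm fun g => ⟨x.coeff g, hx g⟩)
  have hjx : j x' = x := by
    apply MonoidAlgebra.coeff_injective
    ext g
    simp [j, x']
  haveI : Module.Finite (locRing hM) (MonoidAlgebra (locRing hM) G) :=
    Module.Finite.of_basis (MonoidAlgebra.basis G (locRing hM))
  obtain ⟨f, hf, hfx⟩ := IsIntegral.of_finite (R := locRing hM) x'
  refine ⟨f, hf, ?_⟩
  have h := congrArg j hfx
  rw [map_zero, hom_eval₂, hjx] at h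
  rw [← h]
  show aeval x (f.map (locRing hM).subtype) = _
  rw [aeval_def, eval₂_map]
  congr 1
  ext c
  simp [j]

open Polynomial in
theorem aeval_idem {k A : Type*} [CommRing k] [Ring A] [Algebra k A] {a : A} (ha : a * a = a)
    (q : k[X]) : aeval a q = q.eval 0 • (1 - a) + q.eval 1 • a := by
  induction q using Polynomial.induction_on' with
  | add f g hf hg => simp only [map_add, hf, hg, eval_add, add_smul]; abel
  | monomial n c =>
    rw [aeval_monomial, eval_monomial, eval_monomial, ← Algebra.smul_def, one_pow, mul_one]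
    rcases n with _ | n
    · simp [← smul_add]
    · rw [zero_pow n.succ_ne_zero, mul_zero, zero_smul, zero_add]
      congr 1
      induction n with
      | zero => rw [pow_one]
      | succ n ih => rw [pow_succ, ih, ha]

open Polynomial in
/-- An element reducing to an idempotent gives an idempotent by a polynomial without constant
term. -/
theorem exists_idem_poly (hM : Cfsg.IsPModular p M) {x : MonoidAlgebra ℂ G} (hx : IsIntElt M x)
    (ha : red hM x * red hM x = red hM x) :
    ∃ g : (locRing hM)[X], x * ev hM x g * (x * ev hM x g) = x * ev hM x g ∧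
      red hM (x * ev hM x g) = red hM x := by
  classical
  obtain ⟨f, hf, hfx⟩ := exists_monic_ev_eq_zero hM hx
  set P := f.map (locRing hM).subtype with hP
  have hPm : P.Monic := hf.map _
  have hroots : ∀ r ∈ P.roots, r ∈ locRing hM := fun r hr =>
    memLocalRing_of_root hM hf (by rw [← eval_map]; exact ((mem_roots').1 hr).2)
  let s : Multiset (locRing hM) := P.roots.pmap (fun r hr => ⟨r, hr⟩) hroots
  have hfs : f = (s.map fun r => X - C r).prod := by
    refine map_injective (locRing hM).subtype (locRing hM).subtype_injective ?_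
    rw [← hP, Polynomial.map_multiset_prod, Multiset.map_map]
    conv_lhs => rw [← prod_multiset_X_sub_C_of_monic_of_roots_card_eq hPm
      IsAlgClosed.card_roots_eq_natDegree]
    congr 1
    simp only [s, Function.comp_def, Polynomial.map_sub, map_X, map_C]
    rw [Multiset.map_pmap]
    exact (Multiset.pmap_eq_map _ (fun r => X - C r) _ hroots).symm
  let one' : locRing hM → Prop := fun r => r - 1 ∈ locMax hM
  set P₁ : (locRing hM)[X] := (X - C 1) * ((s.filter one').map fun r => X - C r).prod with hP₁
  set P₂ : (locRing hM)[X] := ((s.filter fun r => ¬ one' r).map fun r => X - C r).prod with hP₂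
  set P₀ : (locRing hM)[X] := (X - C 0) * P₂ with hP₀
  have hunit : ∀ r r' : locRing hM, ¬ one' r → one' r' → IsUnit (r - r') := by
    intro r r' hr hr'
    rw [isUnit_iff_not_mem_locMax]
    intro h
    exact hr (by have := (locMax hM).add_mem h hr'; rwa [sub_add_sub_cancel] at this)
  have h1 : one' 1 := by simp [one']
  have h0 : ¬ one' 0 := by
    intro h
    apply (locMax_isMaximal hM).ne_top
    rw [Ideal.eq_top_iff_one]
    simpa [one'] using (locMax hM).neg_mem h
  have hc1 : ∀ r, ¬ one' r → IsCoprime (X - C r) P₁ := by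
    intro r hr
    rw [hP₁]
    refine IsCoprime.mul_right (isCoprime_X_sub_C_of_isUnit_sub (hunit r 1 hr h1)) ?_
    have key : ∀ t : Multiset (locRing hM), (∀ r' ∈ t, one' r') →
        IsCoprime (X - C r) (t.map fun r => X - C r).prod := by
      intro t
      induction t using Multiset.induction with
      | empty => exact fun _ => by simpa using isCoprime_one_right
      | cons a t ih =>
        intro h
        rw [Multiset.map_cons, Multiset.prod_cons]
        exact IsCoprime.mul_right
          (isCoprime_X_sub_C_of_isUnit_sub (hunit r a hr (h a (Multiset.mem_cons_self a t))))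
          (ih fun r' hr' => h r' (Multiset.mem_cons_of_mem hr'))
    exact key _ fun r' hr' => (Multiset.mem_filter.1 hr').2
  have hcop : IsCoprime P₀ P₁ := by
    rw [hP₀]
    refine IsCoprime.mul_left (hc1 0 h0) ?_
    have key : ∀ t : Multiset (locRing hM), (∀ r ∈ t, ¬ one' r) →
        IsCoprime (t.map fun r => X - C r).prod P₁ := by
      intro t
      induction t using Multiset.induction with
      | empty => exact fun _ => by simpa using isCoprime_one_left
      | cons a t ih =>
        intro h
        rw [Multiset.map_cons, Multiset.prod_cons]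
        exact IsCoprime.mul_left (hc1 a (h a (Multiset.mem_cons_self a t)))
          (ih fun r' hr' => h r' (Multiset.mem_cons_of_mem hr'))
    exact key _ fun r' hr' => (Multiset.mem_filter.1 hr').2
  obtain ⟨u, v, huv⟩ := hcop
  refine ⟨u * P₂, ?_, ?_⟩ <;>
    rw [show x * ev hM x (u * P₂) = ev hM x (u * P₀) by
      have hX : ev hM x (X - C 0) = x := by simp [ev]
      rw [hP₀, show u * ((X - C 0) * P₂) = (X - C 0) * (u * P₂) by ring]
      simp only [map_mul, hX]]
  · have hmul : ev hM x (u * P₀ * (v * P₁)) = 0 := by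
      rw [show u * P₀ * (v * P₁) = u * v * ((X - C 0) * (X - C 1)) * f by
        rw [hP₀, hP₁, hP₂, hfs, ← Multiset.filter_add_not one' s, Multiset.map_add,
          Multiset.prod_add, Multiset.filter_add_not]
        ring, map_mul, hfx, mul_zero]
    rw [show v * P₁ = 1 - u * P₀ from eq_sub_of_add_eq' huv, mul_sub, mul_one, map_sub,
      sub_eq_zero, map_mul (ev hM x) (u * P₀) (u * P₀)] at hmul
    exact hmul.symm
  · rw [(ev_spec hM hx _).2, aeval_idem ha]
    have hz : ∀ (q : (locRing hM)[X]) (c : locRing hM),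
        (((X - C c) * q).map (Ideal.Quotient.mk (locMax hM))).eval (Ideal.Quotient.mk (locMax hM) c) =
          0 := by
      intro q c
      simp
    have he0 : ((u * P₀).map (Ideal.Quotient.mk (locMax hM))).eval 0 = 0 := by
      have := hz (u * P₂) 0
      rw [map_zero] at this
      rwa [hP₀, show u * ((X - C 0) * P₂) = (X - C 0) * (u * P₂) by ring]
    have he1 : ((u * P₀).map (Ideal.Quotient.mk (locMax hM))).eval 1 = 1 := by
      have := hz (v * ((s.filter one').map fun r => X - C r).prod) 1
      rw [map_one] at this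
      rw [eq_sub_of_add_eq huv, Polynomial.map_sub, eval_sub, Polynomial.map_one, eval_one,
        hP₁, show v * ((X - C 1) * ((s.filter one').map fun r => X - C r).prod) =
          (X - C 1) * (v * ((s.filter one').map fun r => X - C r).prod) by ring, this, sub_zero]
    rw [he0, he1, zero_smul, zero_add, one_smul]

/-- An idempotent with coefficients in the ideal vanishes. -/
theorem idem_eq_zero_of_ideal (hM : Cfsg.IsPModular p M) {z : MonoidAlgebra ℂ G}
    (hzi : IsIntElt M z) (hz : z * z = z) (h : red hM z = 0) : z = 0 := by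
  classical
  have hI := (red_eq_zero_iff hM hzi).1 h
  have h1 := sum_coeff_eq_of_congr hM (1 : G) (e := 0) (by simp) z 0 hzi
    (fun g => by rw [coeff_zero]; exact (locRing hM).zero_mem) hz (by simp) (fun g => by simp) (fun g => by simp)
    (fun g _ => by simpa using hI g) ({1} : Finset G) (fun g h hg => by
      rw [Finset.mem_singleton] at hg ⊢
      simp [hg])
  simp at h1
  have h2 := natCast_finrank_mulLeft hz
  rw [h1, mul_zero, Nat.cast_eq_zero] at h2
  haveI : Module.Finite ℂ (MonoidAlgebra ℂ G) := Module.Finite.of_basis (MonoidAlgebra.basis G ℂ)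
  rw [Submodule.finrank_eq_zero, LinearMap.range_eq_bot] at h2
  simpa using LinearMap.congr_fun h2 1

/-- An exact lift of an idempotent with the invariance and the support of the idempotent. -/
theorem exists_idem_lift (hM : Cfsg.IsPModular p M) {a : MonoidAlgebra (Residue hM) G}
    (ha : a * a = a) :
    ∃ E : MonoidAlgebra ℂ G, E * E = E ∧ IsIntElt M E ∧ red hM E = a ∧
      (∀ L : Subgroup G, SuppIn L a → SuppIn L E) ∧ ∀ Q : Subgroup G, InvBy Q a → InvBy Q E := by
  have hr := red_lft hM a
  obtain ⟨g, hg1, hg2⟩ := exists_idem_poly hM (isIntElt_lft hM a) (by rw [hr, ha])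
  exact ⟨_, hg1, (isIntElt_lft hM a).mul hM (ev_spec hM (isIntElt_lft hM a) g).1, hg2.trans hr,
    fun L hL => hL.lft.mul (hL.lft.ev g), fun Q hQ => hQ.lft.mul (hQ.lft.ev g)⟩

omit [Fintype G] in
theorem ev_commute (hM : Cfsg.IsPModular p M) {x y : MonoidAlgebra ℂ G} (hxy : Commute y x)
    (q : Polynomial (locRing hM)) : Commute y (ev hM x q) := by
  induction q using Polynomial.induction_on' with
  | add f g hf hg => rw [map_add]; exact hf.add_right hg
  | monomial n c => rw [ev_monomial]; exact (hxy.pow_right n).smul_right _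

/-- A lift inside the corner of a given lift. -/
theorem exists_idem_lift_corner (hM : Cfsg.IsPModular p M) {a : MonoidAlgebra (Residue hM) G}
    (ha : a * a = a) {E : MonoidAlgebra ℂ G} (hE : E * E = E) (hEi : IsIntElt M E)
    (haE : red hM E * a = a) (haE' : a * red hM E = a) :
    ∃ E₁ : MonoidAlgebra ℂ G, E₁ * E₁ = E₁ ∧ IsIntElt M E₁ ∧ red hM E₁ = a ∧ E * E₁ = E₁ ∧
      E₁ * E = E₁ ∧
      (∀ L : Subgroup G, SuppIn L a → SuppIn L E → SuppIn L E₁) ∧
        ∀ Q : Subgroup G, InvBy Q a → InvBy Q E → InvBy Q E₁ := by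
  set x := E * lft hM a * E with hx
  have hxi : IsIntElt M x := (hEi.mul hM (isIntElt_lft hM a)).mul hM hEi
  have hxr : red hM x = a := by
    rw [hx, red_mul hM (hEi.mul hM (isIntElt_lft hM a)) hEi, red_mul hM hEi (isIntElt_lft hM a),
      red_lft, haE, haE']
  obtain ⟨g, hg1, hg2⟩ := exists_idem_poly hM hxi (by rw [hxr, ha])
  have hEx : E * x = x := by rw [hx, ← mul_assoc, ← mul_assoc, hE]
  have hxE : x * E = x := by rw [hx, mul_assoc (E * lft hM a), hE]
  refine ⟨_, hg1, hxi.mul hM (ev_spec hM hxi g).1, hg2.trans hxr, ?_, ?_, fun L hL hLE => ?_,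
    fun Q hQ hQE => ?_⟩
  · rw [← mul_assoc, hEx]
  · rw [(ev_commute hM (Commute.refl x) g).eq, mul_assoc, hxE]
  · exact ((hLE.mul hL.lft).mul hLE).mul (((hLE.mul hL.lft).mul hLE).ev g)
  · exact ((hQE.mul hQ.lft).mul hQE).mul (((hQE.mul hQ.lft).mul hQE).ev g)

end Cfsg.Agent.H83.Star
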