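import Cfsg.Agent.H83.StarLift

/-!
The value of a class function at a `p`-element `q` times a lift of an idempotent of the residue
algebra supported on the centralizer of `q`.
-/

set_option linter.style.haveILetI false

namespace Cfsg.Agent.H83.Star

open MonoidAlgebra BlockBasic BlockAlgebra

variable {p : ℕ} {M : Ideal Cfsg.AlgInt} {G : Type*} [Group G] [Fintype G]

/-- The centralizer of the cyclic group generated by `q`. -/
abbrev cen (q : G) : Subgroup G := Subgroup.centralizer ((Subgroup.zpowers q : Subgroup G) : Set G)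

omit [Fintype G] in
theorem mem_cen_iff {q g : G} : g ∈ cen q ↔ Commute q g := by
  rw [cen, Subgroup.mem_centralizer_iff]
  refine ⟨fun h => h q (Subgroup.mem_zpowers q), fun h y hy => ?_⟩
  obtain ⟨n, rfl⟩ := Subgroup.mem_zpowers_iff.1 hy
  exact h.zpow_left n

omit [Fintype G] in
theorem self_mem_cen (q : G) : q ∈ cen q := mem_cen_iff.2 (Commute.refl q)

omit [Fintype G] in
theorem map_cen (h q : G) : (cen q).map (MulAut.conj h).toMonoidHom = cen (h * q * h⁻¹) := by
  ext g
  rw [Subgroup.mem_map, mem_cen_iff]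
  constructor
  · rintro ⟨y, hy, rfl⟩
    exact (mem_cen_iff.1 hy).map (MulAut.conj h).toMonoidHom
  · intro hg
    refine ⟨(MulAut.conj h⁻¹) g, mem_cen_iff.2 ?_, by simp [mul_assoc]⟩
    have h1 := hg.map (MulAut.conj h⁻¹).toMonoidHom
    simpa [mul_assoc] using h1

theorem chiLin_mul_comm {f : G → ℂ} (hf : Cfsg.IsClassFunction G f) (z w : MonoidAlgebra ℂ G) :
    chiLin f (z * w) = chiLin f (w * z) := by
  induction z using MonoidAlgebra.induction_linear with
  | zero => simp
  | add a b ha hb => rw [add_mul, mul_add, chiLin_add, chiLin_add, ha, hb]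
  | single g c =>
    induction w using MonoidAlgebra.induction_linear with
    | zero => simp
    | add a b ha hb => rw [add_mul, mul_add, chiLin_add, chiLin_add, ha, hb]
    | single h d =>
      rw [single_mul_single, single_mul_single, chiLin_single, chiLin_single, mul_comm c d]
      congr 1
      have := hf (h * g) g
      rwa [← mul_assoc, mul_inv_cancel_right] at this

theorem chiLin_cj {f : G → ℂ} (hf : Cfsg.IsClassFunction G f) (h : G) (z : MonoidAlgebra ℂ G) :
    chiLin f (cj h z) = chiLin f z := by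
  rw [cj_eq_single, chiLin_mul_comm hf, ← mul_assoc, single_mul_single, inv_mul_cancel, mul_one,
    ← one_def, one_mul]

/-- An exact idempotent at `q` over the idempotent `ε` of the residue algebra. -/
def IsLiftAt (hM : Cfsg.IsPModular p M) (q : G) (ε : MonoidAlgebra (Residue hM) G)
    (E : MonoidAlgebra ℂ G) : Prop :=
  E * E = E ∧ IsIntElt M E ∧ InvBy (Subgroup.zpowers q) E ∧ trunc (cen q) (red hM E) = ε

open scoped Classical in
/-- The value of `f` at `q` times a lift of `ε`. -/
noncomputable def starVal (hM : Cfsg.IsPModular p M) (f : G → ℂ) (q : G)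
    (ε : MonoidAlgebra (Residue hM) G) : ℂ :=
  if h : ∃ E, IsLiftAt hM q ε E then chiLin f (single q 1 * h.choose) else 0

theorem starVal_eq (hM : Cfsg.IsPModular p M) {f : G → ℂ} (hf : Cfsg.IsClassFunction G f) {q : G}
    {e : ℕ} (hq : orderOf q = p ^ e) {ε : MonoidAlgebra (Residue hM) G} {E : MonoidAlgebra ℂ G}
    (hE : IsLiftAt hM q ε E) : starVal hM f q ε = chiLin f (single q 1 * E) := by
  have h : ∃ E, IsLiftAt hM q ε E := ⟨E, hE⟩
  rw [starVal, dif_pos h]
  set E' := h.choose
  have hE' : IsLiftAt hM q ε E' := h.choose_spec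
  refine chiLin_single_mul_eq hM q hq E' E hE'.2.1 hE.2.1 hE'.1 hE.1
    (fun g => hE'.2.2.1.coeff_eq (Subgroup.mem_zpowers q) g)
    (fun g => hE.2.2.1.coeff_eq (Subgroup.mem_zpowers q) g) (fun g hg => ?_) hf
  classical
  have h1 := congrArg (fun z => z.coeff g) (hE'.2.2.2.trans hE.2.2.2.symm)
  simp only [coeff_trunc, if_pos (mem_cen_iff.2 hg)] at h1
  have h2 : (red hM (E' - E)).coeff g = 0 := by
    rw [red_sub' hM hE'.2.1 hE.2.1, coeff_sub, Finsupp.sub_apply, h1, sub_self]
  rw [coeff_red, res_eq_zero_iff hM ((hE'.2.1.sub hM hE.2.1) g)] at h2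
  simpa using h2

theorem isLiftAt_of_suppIn (hM : Cfsg.IsPModular p M) {q : G}
    {ε : MonoidAlgebra (Residue hM) G} (hε : SuppIn (cen q) ε) {E : MonoidAlgebra ℂ G}
    (hE : E * E = E) (hEi : IsIntElt M E) (hEs : SuppIn (cen q) E) (hr : red hM E = ε) :
    IsLiftAt hM q ε E :=
  ⟨hE, hEi, hEs.invBy, by rw [hr, trunc_of_suppIn hε]⟩

theorem starVal_zero (hM : Cfsg.IsPModular p M) {f : G → ℂ} (hf : Cfsg.IsClassFunction G f) {q : G}
    {e : ℕ} (hq : orderOf q = p ^ e) : starVal hM f q 0 = 0 := by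
  have h : red hM (0 : MonoidAlgebra ℂ G) = 0 := by
    apply coeff_injective
    ext g
    simp [res_zero]
  rw [starVal_eq hM hf hq (isLiftAt_of_suppIn hM (SuppIn.zero _) (mul_zero 0)
    (fun g => by rw [coeff_zero]; exact (locRing hM).zero_mem) (SuppIn.zero _) h), mul_zero]
  simp [chiLin]

theorem starVal_add (hM : Cfsg.IsPModular p M) {f : G → ℂ} (hf : Cfsg.IsClassFunction G f) {q : G}
    {e : ℕ} (hq : orderOf q = p ^ e) {ε₁ ε₂ : MonoidAlgebra (Residue hM) G}
    (h₁ : ε₁ * ε₁ = ε₁) (h₂ : ε₂ * ε₂ = ε₂) (h₁₂ : ε₁ * ε₂ = 0) (h₂₁ : ε₂ * ε₁ = 0)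
    (hs₁ : SuppIn (cen q) ε₁) (hs₂ : SuppIn (cen q) ε₂) :
    starVal hM f q (ε₁ + ε₂) = starVal hM f q ε₁ + starVal hM f q ε₂ := by
  obtain ⟨E, hE, hEi, hEr, hEs, -⟩ := exists_idem_lift hM (a := ε₁ + ε₂) (by
    simp only [add_mul, mul_add, h₁, h₂, h₁₂, h₂₁, add_zero, zero_add])
  obtain ⟨E₁, hE₁, hE₁i, hE₁r, hEE₁, hE₁E, hE₁s, -⟩ := exists_idem_lift_corner hM h₁ hE hEi
    (by rw [hEr, add_mul, h₁, h₂₁, add_zero]) (by rw [hEr, mul_add, h₁, h₁₂, add_zero])
  have hs := hEs _ (hs₁.add hs₂)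
  have hs1' := hE₁s _ hs₁ hs
  rw [starVal_eq hM hf hq (isLiftAt_of_suppIn hM (hs₁.add hs₂) hE hEi hs hEr),
    starVal_eq hM hf hq (isLiftAt_of_suppIn hM hs₁ hE₁ hE₁i hs1' hE₁r),
    starVal_eq hM hf hq (isLiftAt_of_suppIn hM hs₂ (E := E - E₁) (by
      simp only [mul_sub, sub_mul, hE, hE₁, hEE₁, hE₁E, sub_self, sub_zero]) (hEi.sub hM hE₁i)
      (hs.sub hs1') (by rw [red_sub' hM hEi hE₁i, hEr, hE₁r, add_sub_cancel_left]))]
  rw [mul_sub, chiLin_sub, add_sub_cancel]

theorem starVal_sum (hM : Cfsg.IsPModular p M) {f : G → ℂ} (hf : Cfsg.IsClassFunction G f) {q : G}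
    {e : ℕ} (hq : orderOf q = p ^ e) {ι : Type*} (s : Finset ι)
    (ε : ι → MonoidAlgebra (Residue hM) G) (hid : ∀ m ∈ s, ε m * ε m = ε m)
    (horth : ∀ m ∈ s, ∀ n ∈ s, m ≠ n → ε m * ε n = 0) (hs : ∀ m ∈ s, SuppIn (cen q) (ε m)) :
    starVal hM f q (∑ m ∈ s, ε m) = ∑ m ∈ s, starVal hM f q (ε m) := by
  classical
  induction s using Finset.induction with
  | empty => simp [starVal_zero hM hf hq]
  | insert a s ha ih =>
    have hmem : ∀ m ∈ s, m ∈ insert a s := fun m hm => Finset.mem_insert_of_mem hm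
    have hne : ∀ m ∈ s, a ≠ m := fun m hm h => ha (h ▸ hm)
    have hsum : (∑ m ∈ s, ε m) * ∑ m ∈ s, ε m = ∑ m ∈ s, ε m := by
      rw [Finset.sum_mul]
      refine Finset.sum_congr rfl fun m hm => ?_
      rw [Finset.mul_sum, Finset.sum_eq_single m
        (fun n hn hnm => horth m (hmem m hm) n (hmem n hn) hnm.symm) (fun h => absurd hm h),
        hid m (hmem m hm)]
    have hsupp : ∀ t : Finset ι, (∀ m ∈ t, SuppIn (cen q) (ε m)) →
        SuppIn (cen q) (∑ m ∈ t, ε m) := by
      intro t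
      induction t using Finset.induction with
      | empty => exact fun _ => by simpa using SuppIn.zero _
      | insert b t hb ih =>
        intro h
        rw [Finset.sum_insert hb]
        exact (h b (Finset.mem_insert_self b t)).add
          (ih fun m hm => h m (Finset.mem_insert_of_mem hm))
    rw [Finset.sum_insert ha, Finset.sum_insert ha, starVal_add hM hf hq
      (hid a (Finset.mem_insert_self a s)) hsum
      (by rw [Finset.mul_sum]; exact Finset.sum_eq_zero fun m hm =>
        horth a (Finset.mem_insert_self a s) m (hmem m hm) (hne m hm))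
      (by rw [Finset.sum_mul]; exact Finset.sum_eq_zero fun m hm =>
        horth m (hmem m hm) a (Finset.mem_insert_self a s) (hne m hm).symm)
      (hs a (Finset.mem_insert_self a s)) (hsupp s fun m hm => hs m (hmem m hm)),
      ih (fun m hm => hid m (hmem m hm)) (fun m hm n hn => horth m (hmem m hm) n (hmem n hn))
        (fun m hm => hs m (hmem m hm))]

/-- Equivalent idempotents give the same value. -/
theorem starVal_equiv (hM : Cfsg.IsPModular p M) {f : G → ℂ} (hf : Cfsg.IsClassFunction G f) {q : G}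
    {e : ℕ} (hq : orderOf q = p ^ e) {a b : MonoidAlgebra (Residue hM) G}
    (ha : SuppIn (cen q) a) (hb : SuppIn (cen q) b) (hab : a * b * (a * b) = a * b)
    (hba : b * a * (b * a) = b * a) :
    starVal hM f q (a * b) = starVal hM f q (b * a) := by
  obtain ⟨E, hE, hEi, hEr, hEs, -⟩ := exists_idem_lift hM hab
  obtain ⟨E', hE', hE'i, hE'r, hE's, -⟩ := exists_idem_lift hM hba
  have hs := hEs _ (ha.mul hb)
  have hs' := hE's _ (hb.mul ha)
  set A := E * lft hM a * E' with hA
  set B := E' * lft hM b * E with hB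
  have hai := isIntElt_lft hM a
  have hbi := isIntElt_lft hM b
  have hAi : IsIntElt M A := (hEi.mul hM hai).mul hM hE'i
  have hBi : IsIntElt M B := (hE'i.mul hM hbi).mul hM hEi
  have hAr : red hM A = a * b * a * (b * a) := by
    rw [hA, red_mul hM (hEi.mul hM hai) hE'i, red_mul hM hEi hai, red_lft, hEr, hE'r]
  have hBr : red hM B = b * a * b * (a * b) := by
    rw [hB, red_mul hM (hE'i.mul hM hbi) hEi, red_mul hM hE'i hbi, red_lft, hEr, hE'r]
  -- `1 + (A * B - E)` is invertible with integral inverse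
  set x := 1 + (A * B - E) with hx
  have hxi : IsIntElt M x := (isIntElt_one hM).add hM ((hAi.mul hM hBi).sub hM hEi)
  have hxr : red hM x = 1 := by
    rw [hx, red_add' hM (isIntElt_one hM) ((hAi.mul hM hBi).sub hM hEi), red_one,
      red_sub' hM (hAi.mul hM hBi) hEi, red_mul hM hAi hBi, hAr, hBr, hEr]
    have h1 : a * b * a * (b * a) * (b * a * b * (a * b)) = a * b := by
      have h2 : a * b * a * (b * a) * (b * a * b * (a * b)) =
          a * b * (a * b) * (a * b) * (a * b) * (a * b) := by simp only [mul_assoc]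
      rw [h2, hab, hab, hab, hab]
    rw [h1, sub_self, add_zero]
  obtain ⟨g, hg1, hg2⟩ := exists_idem_poly hM hxi (by rw [hxr, mul_one])
  set u := ev hM x g with hu
  have hxu : x * u = 1 := by
    have hi : IsIntElt M (x * u) := hxi.mul hM (ev_spec hM hxi g).1
    have := idem_eq_zero_of_ideal hM (z := 1 - x * u) ((isIntElt_one hM).sub hM hi)
      (by simp only [mul_sub, sub_mul, one_mul, mul_one, hg1, sub_self, sub_zero])
      (by rw [red_sub' hM (isIntElt_one hM) hi, red_one, hg2, hxr, sub_self])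
    exact (sub_eq_zero.1 this).symm
  have hcxu : Commute x u := ev_commute hM (Commute.refl x) g
  have hEA : E * A = A := by rw [hA, ← mul_assoc, ← mul_assoc, hE]
  have hAE' : A * E' = A := by rw [hA, mul_assoc (E * lft hM a), hE']
  have hBE : B * E = B := by rw [hB, mul_assoc (E' * lft hM b), hE]
  have hE'B : E' * B = B := by rw [hB, ← mul_assoc, ← mul_assoc, hE']
  have hEx : Commute E x := by
    refine (Commute.one_right E).add_right ?_
    rw [Commute, SemiconjBy, mul_sub, sub_mul, hE, ← mul_assoc, hEA, mul_assoc A B, hBE]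
  have hEu : Commute E u := ev_commute hM hEx g
  have hxE : x * E = A * B := by
    rw [hx, add_mul, one_mul, sub_mul, hE, mul_assoc, hBE, add_sub_cancel]
  set A' := u * A with hA'
  have hA'B : A' * B = E := by
    rw [hA', mul_assoc, ← hxE, ← mul_assoc, ← hcxu.eq, hxu, one_mul]
  have hEA' : E * A' = A' := by rw [hA', ← mul_assoc, hEu.eq, mul_assoc, hEA]
  have hA'E' : A' * E' = A' := by rw [hA', mul_assoc, hAE']
  have hidem : B * A' * (B * A') = B * A' := by
    rw [mul_assoc, ← mul_assoc A', hA'B, hEA']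
  have hui : IsIntElt M u := (ev_spec hM hxi g).1
  have hur : red hM u = 1 := by
    have h := congrArg (red hM) hxu
    rw [red_mul hM hxi hui, hxr, one_mul, red_one] at h
    exact h
  have hr : red hM (B * A') = b * a := by
    rw [red_mul hM hBi (hui.mul hM hAi), red_mul hM hui hAi, hur, one_mul, hAr, hBr]
    have h2 : b * a * b * (a * b) * (a * b * a * (b * a)) =
        b * a * (b * a) * (b * a) * (b * a) * (b * a) := by simp only [mul_assoc]
    rw [h2, hba, hba, hba, hba]
  have hE'eq : E' = B * A' := by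
    refine sub_eq_zero.1 (idem_eq_zero_of_ideal hM (hE'i.sub hM (hBi.mul hM (hui.mul hM hAi))) ?_ ?_)
    · simp only [mul_sub, sub_mul, hE', hidem, ← mul_assoc E', hE'B, mul_assoc B A' E', hA'E',
        sub_self, sub_zero]
    · rw [red_sub' hM hE'i (hBi.mul hM (hui.mul hM hAi)), hE'r, hr, sub_self]
  have hsA : SuppIn (cen q) A := (hs.mul ha.lft).mul hs'
  have hsB : SuppIn (cen q) B := (hs'.mul hb.lft).mul hs
  have hqB : Commute (single q (1 : ℂ)) B := hsB.invBy.commute (Subgroup.mem_zpowers q)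
  rw [starVal_eq hM hf hq (isLiftAt_of_suppIn hM (ha.mul hb) hE hEi hs hEr),
    starVal_eq hM hf hq (isLiftAt_of_suppIn hM (hb.mul ha) hE' hE'i hs' hE'r), hE'eq,
    ← hA'B, ← mul_assoc, chiLin_mul_comm hf, ← mul_assoc, ← hqB.eq, mul_assoc]

theorem starVal_cj (hM : Cfsg.IsPModular p M) {f : G → ℂ} (hf : Cfsg.IsClassFunction G f) {q : G}
    {e : ℕ} (hq : orderOf q = p ^ e) (h : G) {ε : MonoidAlgebra (Residue hM) G} (hε : ε * ε = ε)
    (hs : SuppIn (cen q) ε) : starVal hM f (h * q * h⁻¹) (cj h ε) = starVal hM f q ε := by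
  obtain ⟨E, hE, hEi, hEr, hEs, -⟩ := exists_idem_lift hM hε
  have hq' : orderOf (h * q * h⁻¹) = p ^ e := by
    rw [← MulAut.conj_apply, MulEquiv.orderOf_eq, hq]
  have hss : ∀ {R : Type} [CommRing R] (z : MonoidAlgebra R G), SuppIn (cen q) z →
      SuppIn (cen (h * q * h⁻¹)) (cj h z) := by
    intro R _ z hz g hg
    rw [coeff_cj, hz]
    intro hm
    rw [← map_cen] at hg
    exact hg ⟨_, hm, by simp [mul_assoc]⟩
  rw [starVal_eq hM hf hq (isLiftAt_of_suppIn hM hs hE hEi (hEs _ hs) hEr),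
    starVal_eq hM hf hq' (isLiftAt_of_suppIn hM (E := cj h E) (hss ε hs) (by rw [← map_mul, hE])
      (fun g => by rw [coeff_cj]; exact hEi _) (hss E (hEs _ hs)) (by rw [red_cj, hEr]))]
  rw [show single (h * q * h⁻¹) (1 : ℂ) = cj h (single q 1) by
    simp [cj_eq_single, single_mul_single], ← map_mul, chiLin_cj hf]

end Cfsg.Agent.H83.Star
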