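import Cfsg.Agent.H83.SimpleTrace
import Cfsg.Agent.H83.BlockAlgebra
import Cfsg.Agent.H83.StarLift
import Cfsg.Agent.H83.StarOmega
import Cfsg.Agent.H83.RegInner
import Cfsg.Agent.H35.BrauerHom
import Cfsg.Agent.CharInduce.Brauer
import Mathlib.RingTheory.Idempotents
import Mathlib.LinearAlgebra.Matrix.NonsingularInverse

/-!
Decomposition numbers through lifted idempotents: the projective indecomposable idempotents of
each simple factor, the dual functions on the regular elements, their integrality.
-/

set_option autoImplicit false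
set_option linter.style.haveILetI false

open scoped ComplexConjugate

namespace Cfsg.Agent.H83.Decomp

open MonoidAlgebra BlockBasic CharBasic BlockAlgebra SimpleTrace

universe u

variable {G : Type u} [Group G] [Fintype G] {p : ℕ} [hp : Fact p.Prime] {M : Ideal Cfsg.AlgInt}

section Units

omit hp

theorem exists_inverse_of_red_one (hM : IsPModular p M) {z : MonoidAlgebra ℂ G}
    (hz : IsIntElt M z) (h1 : red hM z = 1) :
    ∃ w : MonoidAlgebra ℂ G, IsIntElt M w ∧ z * w = 1 ∧ w * z = 1 := by
  classical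
  let A : Matrix G G (locRing hM) := Matrix.of fun g h => ⟨z.coeff (g * h⁻¹), hz _⟩
  have hA : A.map (Ideal.Quotient.mk (locMax hM)) = 1 := by
    ext g h
    rw [Matrix.map_apply]
    show Ideal.Quotient.mk (locMax hM) ⟨z.coeff (g * h⁻¹), hz _⟩ = _
    rw [← res_apply hM (hz _), ← coeff_red hM, h1, one_def,
      coeff_single, Finsupp.single_apply, Matrix.one_apply]
    exact if_congr (by rw [eq_comm, mul_inv_eq_one]) rfl rfl
  have hdet : IsUnit A.det := by
    rw [isUnit_iff_not_mem_locMax]
    intro h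
    have h2 := RingHom.map_det (Ideal.Quotient.mk (locMax hM)) A
    rw [RingHom.mapMatrix_apply, hA, Matrix.det_one, Ideal.Quotient.eq_zero_iff_mem.2 h] at h2
    exact (locMax_isMaximal hM).ne_top ((Ideal.eq_top_iff_one _).2 (by
      rw [← Ideal.Quotient.eq_zero_iff_mem, map_one, ← h2]))
  set v : G → locRing hM := A⁻¹.mulVec (Pi.single 1 1) with hv
  have hAv : A.mulVec v = Pi.single 1 1 := by
    rw [hv, Matrix.mulVec_mulVec, Matrix.mul_nonsing_inv _ hdet, Matrix.one_mulVec]
  refine ⟨ofFun fun g => (v g : ℂ), fun g => by rw [coeff_ofFun]; exact (v g).2, ?_⟩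
  have hzw : z * ofFun (fun g => (v g : ℂ)) = 1 := by
    refine coeff_injective (Finsupp.ext fun g => ?_)
    have h2 := congrArg (Subtype.val (p := fun x => x ∈ locRing hM)) (congrFun hAv g)
    simp only [Matrix.mulVec, dotProduct, AddSubmonoidClass.coe_finsetSum, MulMemClass.coe_mul,
      Matrix.of_apply, A, Subring.coe_mul] at h2
    rw [H35.coeff_mul_sum, one_def, coeff_single, Finsupp.single_apply]
    rw [show (if (1 : G) = g then (1 : ℂ) else 0) =
        (((Pi.single 1 1 : G → locRing hM) g : locRing hM) : ℂ) by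
      rw [Pi.single_apply]; by_cases h : g = 1 <;> simp [h, eq_comm], ← h2]
    refine Fintype.sum_equiv ((Equiv.inv G).trans (Equiv.mulRight g)) _ _ fun u => ?_
    simp [coeff_ofFun]
  refine ⟨hzw, ?_⟩
  haveI : Module.Finite ℂ (MonoidAlgebra ℂ G) := Module.Finite.of_basis (MonoidAlgebra.basis G ℂ)
  have hsurj : Function.Surjective (LinearMap.mulLeft ℂ z) := fun y =>
    ⟨ofFun (fun g => (v g : ℂ)) * y, by rw [LinearMap.mulLeft_apply, ← mul_assoc, hzw, one_mul]⟩
  refine (LinearMap.injective_iff_surjective.2 hsurj) ?_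
  simp only [LinearMap.mulLeft_apply]
  rw [← mul_assoc, hzw, one_mul, mul_one]

end Units

omit hp in
theorem chiLin_sum (h : G → ℂ) {ι : Type*} (s : Finset ι) (f : ι → MonoidAlgebra ℂ G) :
    chiLin h (∑ j ∈ s, f j) = ∑ j ∈ s, chiLin h (f j) := by
  simp only [chiLin, coeff_sum, Finsupp.finsetSum_apply, Finset.sum_mul]
  exact Finset.sum_comm

variable (hM : IsPModular p M) (W : Model (Residue hM) G)

/-- The rank one idempotent of a simple factor. -/
noncomputable def unitAt (i : Fin W.num) : Π l, Matrix (Fin (W.dim l)) (Fin (W.dim l)) (Residue hM) :=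
  haveI := W.dim_ne i
  Pi.single i (Matrix.single 0 0 1)

include hp in
theorem exists_inverse_of_map_one {z : MonoidAlgebra ℂ G} (hz : IsIntElt M z)
    (h1 : W.map (red hM z) = 1) :
    ∃ w : MonoidAlgebra ℂ G, IsIntElt M w ∧ z * w = 1 ∧ w * z = 1 := by
  haveI : CharP (Residue hM) p :=
    (CharP.charP_iff_prime_eq_zero hp.out).2 (Star.residue_p_eq_zero hM)
  obtain ⟨N, hN⟩ := W.nil (red hM z - 1) (by rw [map_sub, h1, map_one, sub_self])
  have hq : N ≤ p ^ N := (Nat.lt_pow_self hp.out.one_lt).le
  let φ : Polynomial (Residue hM) →ₐ[Residue hM] MonoidAlgebra (Residue hM) G :=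
    Polynomial.aeval (red hM z)
  have h : ((Polynomial.X : Polynomial (Residue hM)) - 1) ^ p ^ N = Polynomial.X ^ p ^ N - 1 := by
    rw [sub_pow_char_pow, one_pow]
  have h' := congrArg φ h
  simp only [φ, map_pow, map_sub, Polynomial.aeval_X, map_one] at h'
  rw [pow_eq_zero_of_le hq hN, eq_comm, sub_eq_zero, ← red_pow hM hz] at h'
  obtain ⟨w, hw, hzw, hwz⟩ := exists_inverse_of_red_one hM (hz.pow hM _) h'
  obtain ⟨r, hr⟩ := Nat.exists_eq_succ_of_ne_zero (pow_pos hp.out.pos N).ne'
  rw [hr, pow_succ] at hwz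
  rw [hr, pow_succ'] at hzw
  refine ⟨z ^ r * w, (hz.pow hM r).mul hM hw, by rw [← mul_assoc, hzw], ?_⟩
  have hleft : w * z ^ r * z = 1 := by rw [mul_assoc, hwz]
  have heq : w * z ^ r = z ^ r * w := by
    calc w * z ^ r = w * z ^ r * (z * (z ^ r * w)) := by rw [← mul_assoc z, hzw, mul_one]
      _ = z ^ r * w := by rw [← mul_assoc, hleft, one_mul]
  rw [← heq, hleft]

include hM in
theorem chiLin_congr_regular {η : MonoidAlgebra ℂ G} (hη : η * η = η)
    (hηi : IsIntElt M η) {h h' : G → ℂ} (hh : IsClassFunction G h) (hh' : IsClassFunction G h')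
    (heq : ∀ g, ¬ p ∣ orderOf g → h g = h' g) : chiLin h η = chiLin h' η := by
  classical
  haveI : Finite (ConjClasses G) := Finite.of_surjective _ ConjClasses.mk_surjective
  haveI : Fintype (ConjClasses G) := Fintype.ofFinite _
  rw [← sub_eq_zero, chiLin, chiLin, ← Finset.sum_sub_distrib,
    ← Finset.sum_fiberwise Finset.univ ConjClasses.mk]
  refine Finset.sum_eq_zero fun C _ => ?_
  by_cases hC : p ∣ orderOf C.out
  · have hconst : ∀ g ∈ Finset.univ.filter (fun g : G => ConjClasses.mk g = C),
        η.coeff g * h g - η.coeff g * h' g = η.coeff g * (h C.out - h' C.out) := by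
      intro g hg
      obtain ⟨c, hc⟩ := isConj_iff.1 (ConjClasses.mk_eq_mk_iff_isConj.1
        (((Finset.mem_filter.1 hg).2).trans (Quotient.out_eq C).symm))
      rw [← hc, hh g c, hh' g c, mul_sub]
    rw [Finset.sum_congr rfl hconst, ← Finset.sum_mul]
    have h0 := sum_coeff_eq_zero hM (1 : G) (e := 0) (by simp) η hηi (by simp)
      (fun N => ⟨N, le_rfl, by
        obtain ⟨r, hr⟩ := Nat.exists_eq_succ_of_ne_zero (pow_pos (Fact.out : p.Prime).pos N).ne'
        rw [hr]
        exact IsIdempotentElem.pow_succ_eq r hη⟩)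
      (Finset.univ.filter (fun g : G => ConjClasses.mk g = C))
      (fun g x hg => by
        refine Finset.mem_filter.2 ⟨Finset.mem_univ _, ?_⟩
        rw [← (Finset.mem_filter.1 hg).2]
        exact (ConjClasses.mk_eq_mk_iff_isConj.2 (isConj_iff.2 ⟨x, rfl⟩)).symm)
      (Or.inl fun x _ hx => ?_)
    · simp only [inv_one, one_mul] at h0
      rw [h0, zero_mul]
    · obtain ⟨c, hc⟩ := isConj_iff.1 (ConjClasses.mk_eq_mk_iff_isConj.1
        (((Finset.mem_filter.1 hx).2).trans (Quotient.out_eq C).symm))
      rw [one_mul] at hc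
      refine not_dvd_orderOf_pow_factorization (p := p) x le_rfl ?_
      rwa [← hc, show orderOf (c * (x ^ p ^ (Nat.card G).factorization p) * c⁻¹) =
        orderOf (x ^ p ^ (Nat.card G).factorization p) from MulEquiv.orderOf_eq (MulAut.conj c) _] at hC
  · refine Finset.sum_eq_zero fun g hg => ?_
    obtain ⟨c, hc⟩ := isConj_iff.1 (ConjClasses.mk_eq_mk_iff_isConj.1
      (((Finset.mem_filter.1 hg).2).trans (Quotient.out_eq C).symm))
    rw [← hc, show orderOf (c * g * c⁻¹) = orderOf g from MulEquiv.orderOf_eq (MulAut.conj c) g] at hC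
    rw [heq g hC, sub_self]

omit hp hM in
theorem exists_nat_chiLin {η : MonoidAlgebra ℂ G} (hη : η * η = η) (χ : IrrCharacter G) :
    ∃ m : ℕ, chiLin (χ : G → ℂ) η = m := by
  obtain ⟨n, ρ, -, hχ⟩ := χ.2
  refine ⟨Module.finrank ℂ (LinearMap.range (ρ.asAlgebraHom η)), ?_⟩
  rw [← hχ, chiLin_eq_trace]
  refine LinearMap.IsProj.trace ⟨fun x => ⟨x, rfl⟩, ?_⟩
  rintro _ ⟨y, rfl⟩
  rw [← Module.End.mul_apply, ← map_mul, hη]

omit hp hM in
/-- The degree weighted character values give the regular character. -/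
theorem sum_degree_mul_chiLin (z : MonoidAlgebra ℂ G) :
    ∑ χ : IrrCharacter G, (χ : G → ℂ) 1 * chiLin (χ : G → ℂ) z =
      (Nat.card G : ℂ) * z.coeff 1 := by
  classical
  simp only [chiLin, Finset.mul_sum]
  rw [Finset.sum_comm, Finset.sum_eq_single (1 : G)]
  · rw [← mul_one (Nat.card G : ℂ)]
    have h := congrArg (fun w : MonoidAlgebra ℂ G => w.coeff 1) (blockElem_univ (G := G))
    simp only [coeff_blockElem, blockCoeff, finsum_mem_univ, finsum_eq_sum_of_fintype, Set.mem_univ, finsum_true, one_def,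
      coeff_single, Finsupp.single_eq_same] at h
    rw [inv_mul_eq_iff_eq_mul₀ (Nat.cast_ne_zero.2 Nat.card_pos.ne')] at h
    rw [← h, Finset.sum_mul]
    refine Finset.sum_congr rfl fun χ _ => ?_
    rw [conj_apply_eq_inv, inv_one]
    ring
  · intro g _ hg
    have h := congrArg (fun w : MonoidAlgebra ℂ G => w.coeff g⁻¹) (blockElem_univ (G := G))
    simp only [coeff_blockElem, blockCoeff, finsum_mem_univ, finsum_eq_sum_of_fintype, Set.mem_univ, finsum_true, one_def,
      coeff_single, Finsupp.single_apply] at h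
    rw [if_neg (fun h' : (1 : G) = g⁻¹ => hg (inv_eq_one.1 h'.symm)), mul_eq_zero,
      inv_eq_zero, Nat.cast_eq_zero] at h
    have h0 := h.resolve_left Nat.card_pos.ne'
    rw [← mul_zero (z.coeff g), ← h0, Finset.mul_sum]
    refine Finset.sum_congr rfl fun χ _ => ?_
    rw [conj_apply_eq_inv, inv_inv]
    ring
  · simp

section Family

variable [IsAlgClosed (Residue hM)]

theorem exists_family : ∃ ε : Fin W.num → MonoidAlgebra ℂ G, ∀ i,
    ε i * ε i = ε i ∧ IsIntElt M (ε i) ∧ W.map (red hM (ε i)) = unitAt hM W i := by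
  have h : ∀ i, ∃ a : MonoidAlgebra (Residue hM) G, IsIdempotentElem a ∧
      W.map a = unitAt hM W i := fun i => by
    refine exists_isIdempotentElem_eq_of_ker_isNilpotent W.map.toRingHom
      (fun x hx => W.nil x hx) _ (W.surj _) ?_
    haveI := W.dim_ne i
    show unitAt hM W i * unitAt hM W i = _
    rw [unitAt, ← Pi.single_mul, Matrix.single_mul_single_same, mul_one]
  choose a ha ham using h
  choose E hE hEi hEr _ using fun i => Star.exists_idem_lift hM (ha i)
  exact ⟨E, fun i => ⟨hE i, hEi i, by rw [hEr, ham]⟩⟩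

variable {hM W} {ε : Fin W.num → MonoidAlgebra ℂ G}
  (hε : ∀ i, ε i * ε i = ε i ∧ IsIntElt M (ε i) ∧ W.map (red hM (ε i)) = unitAt hM W i)

include hε in
omit hp in
theorem family_ne_zero (i : Fin W.num) : ε i ≠ 0 := by
  intro h0
  have h := congrFun (hε i).2.2 i
  haveI := W.dim_ne i
  rw [h0, show red hM (0 : MonoidAlgebra ℂ G) = 0 from coeff_injective (Finsupp.ext fun g => by
    simp [res_zero]), map_zero, unitAt, Pi.zero_apply, Pi.single_eq_same] at h
  exact one_ne_zero ((congrFun (congrFun h 0) 0).trans (Matrix.single_apply_same ..)).symm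

omit hp in
theorem exists_nat_pos {η : MonoidAlgebra ℂ G} (hη : η * η = η) (hne : η ≠ 0) :
    ∃ N : ℕ, 0 < N ∧ (Nat.card G : ℂ) * η.coeff 1 = N := by
  haveI : Module.Finite ℂ (MonoidAlgebra ℂ G) := Module.Finite.of_basis (MonoidAlgebra.basis G ℂ)
  refine ⟨_, ?_, (natCast_finrank_mulLeft hη).symm⟩
  rw [Nat.pos_iff_ne_zero]
  intro h
  rw [Submodule.finrank_eq_zero, LinearMap.range_eq_bot] at h
  exact hne (by simpa using LinearMap.congr_fun h 1)

include hε in
theorem peel {η : MonoidAlgebra ℂ G} (hη : η * η = η) (hηi : IsIntElt M η) (hne : η ≠ 0) :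
    ∃ (i : Fin W.num) (f : MonoidAlgebra ℂ G), f * f = f ∧ IsIntElt M f ∧ η * f = f ∧ f * η = f ∧
      ∀ h : G → ℂ, IsClassFunction G h → chiLin h f = chiLin h (ε i) := by
  classical
  set Z := W.map (red hM η) with hZ
  have hZne : Z ≠ 0 := by
    intro h0
    obtain ⟨N, hN⟩ := W.nil _ h0
    refine hne (Star.idem_eq_zero_of_ideal hM hηi hη ?_)
    have hid : IsIdempotentElem (red hM η) := by
      rw [IsIdempotentElem, ← red_mul hM hηi hηi, hη]
    rw [← hid.pow_succ_eq N, pow_succ, hN, zero_mul]
  obtain ⟨i, hi⟩ : ∃ i, Z i ≠ 0 := Function.ne_iff.1 hZne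
  obtain ⟨b, a, hab⟩ : ∃ b a, Z i b a ≠ 0 := by
    by_contra hc
    push Not at hc
    exact hi (Matrix.ext hc)
  haveI := W.dim_ne i
  obtain ⟨hεe, hεi, hεm⟩ := hε i
  obtain ⟨x0, hx0⟩ := W.surj (Pi.single i (Matrix.single a 0 1))
  obtain ⟨y0, hy0⟩ := W.surj (Pi.single i (Matrix.single 0 b (Z i b a)⁻¹))
  set X := η * Star.lft hM x0 * ε i with hX
  set Y := ε i * Star.lft hM y0 * η with hY
  have hXi : IsIntElt M X := (hηi.mul hM (Star.isIntElt_lft hM x0)).mul hM hεi
  have hYi : IsIntElt M Y := (hεi.mul hM (Star.isIntElt_lft hM y0)).mul hM hηi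
  have hmX : W.map (red hM X) = Z * Pi.single i (Matrix.single a 0 1) * unitAt hM W i := by
    rw [hX, red_mul hM (hηi.mul hM (Star.isIntElt_lft hM x0)) hεi,
      red_mul hM hηi (Star.isIntElt_lft hM x0), Star.red_lft, map_mul, map_mul, hx0, hεm]
  have hmY : W.map (red hM Y) =
      unitAt hM W i * Pi.single i (Matrix.single 0 b (Z i b a)⁻¹) * Z := by
    rw [hY, red_mul hM (hεi.mul hM (Star.isIntElt_lft hM y0)) hηi,
      red_mul hM hεi (Star.isIntElt_lft hM y0), Star.red_lft, map_mul, map_mul, hy0, hεm]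
  have hηη : η * (η : MonoidAlgebra ℂ G) = η := hη
  have hZZ : Z i * Z i = Z i := by
    rw [hZ, ← Pi.mul_apply, ← map_mul, ← red_mul hM hηi hηi, hηη]
  have hmYX : W.map (red hM (Y * X)) = unitAt hM W i := by
    rw [red_mul hM hYi hXi, map_mul, hmX, hmY]
    funext l
    by_cases hl : l = i
    · subst hl
      simp only [Pi.mul_apply, unitAt, Pi.single_eq_same, Matrix.single_mul_single_same, one_mul]
      simp only [← mul_assoc]
      rw [mul_assoc (Matrix.single 0 b _) (Z l) (Z l),
        hZZ,
        show Matrix.single (0 : Fin (W.dim l)) b (Z l b a)⁻¹ * Z l * Matrix.single a 0 1 =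
          Matrix.single 0 0 1 by
        rw [Matrix.single_mul_mul_single, mul_one, inv_mul_cancel₀ hab],
        Matrix.single_mul_single_same, mul_one]
    · simp [unitAt, Pi.single_eq_of_ne hl]
  have hεY : ε i * Y = Y := by rw [hY, ← mul_assoc, ← mul_assoc, hεe]
  have hXε : X * ε i = X := by rw [hX, mul_assoc _ (ε i), hεe]
  set U := Y * X + (1 - ε i) with hU
  have hUi : IsIntElt M U := (hYi.mul hM hXi).add hM ((isIntElt_one hM).sub hM hεi)
  have hUone : W.map (red hM U) = 1 := by
    rw [hU, Star.red_add' hM (hYi.mul hM hXi) ((isIntElt_one hM).sub hM hεi),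
      Star.red_sub' hM (isIntElt_one hM) hεi, red_one, map_add, map_sub, hmYX, hεm, map_one,
      add_sub_cancel]
  obtain ⟨V, hVi, hUV, hVU⟩ := exists_inverse_of_map_one hM W hUi hUone
  have hεU : ε i * U = U * ε i := by
    rw [hU, mul_add, add_mul, ← mul_assoc (ε i) Y X, hεY, mul_assoc Y X (ε i), hXε, mul_sub, sub_mul,
      mul_one, one_mul]
  have hεV : ε i * V = V * ε i := by
    calc ε i * V = (V * U) * ε i * V := by rw [hVU, one_mul]
      _ = V * (ε i * U) * V := by rw [hεU, mul_assoc V U]
      _ = V * ε i * (U * V) := by simp only [mul_assoc]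
      _ = V * ε i := by rw [hUV, mul_one]
  have hVYX : V * Y * X = ε i := by
    calc V * Y * X = V * Y * X * ε i := by rw [mul_assoc (V * Y) X, hXε]
      _ = (V * U - V * (1 - ε i)) * ε i := by
        rw [hU, mul_add, add_sub_cancel_right, mul_assoc V Y X]
      _ = ε i := by
        rw [hVU, sub_mul, one_mul, mul_assoc, sub_mul, one_mul, hεe, sub_self, mul_zero, sub_zero]
  refine ⟨i, X * (V * Y), ?_, hXi.mul hM (hVi.mul hM hYi), ?_, ?_, fun h hh => ?_⟩
  · calc X * (V * Y) * (X * (V * Y)) = X * (V * Y * X) * (V * Y) := by simp only [mul_assoc]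
      _ = X * (V * Y) := by rw [hVYX, hXε]
  · rw [← mul_assoc, show η * X = X by rw [hX, ← mul_assoc, ← mul_assoc, hη]]
  · rw [mul_assoc, mul_assoc V, show Y * η = Y by rw [hY, mul_assoc _ η, hη]]
  · rw [Star.chiLin_mul_comm hh, hVYX]

include hε in
/-- Every integral idempotent has the values of a natural combination of the family. -/
theorem exists_mult {η : MonoidAlgebra ℂ G} (hη : η * η = η) (hηi : IsIntElt M η) :
    ∃ m : Fin W.num → ℕ, ∀ h : G → ℂ, IsClassFunction G h →
      chiLin h η = ∑ j, (m j : ℂ) * chiLin h (ε j) := by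
  classical
  haveI : Module.Finite ℂ (MonoidAlgebra ℂ G) := Module.Finite.of_basis (MonoidAlgebra.basis G ℂ)
  suffices H : ∀ N : ℕ, ∀ η : MonoidAlgebra ℂ G, η * η = η → IsIntElt M η →
      Module.finrank ℂ (LinearMap.range (LinearMap.mulLeft ℂ η)) = N →
      ∃ m : Fin W.num → ℕ, ∀ h : G → ℂ, IsClassFunction G h →
        chiLin h η = ∑ j, (m j : ℂ) * chiLin h (ε j) from H _ η hη hηi rfl
  intro N
  induction N using Nat.strong_induction_on with
  | _ N ih =>
    intro η hη hηi hN
    by_cases h0 : η = 0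
    · exact ⟨0, fun h _ => by simp [h0, chiLin]⟩
    obtain ⟨i, f, hf, hfi, hηf, hfη, hfh⟩ := peel hε hη hηi h0
    have hη' : (η - f) * (η - f) = η - f := by
      rw [sub_mul, mul_sub, mul_sub, hη, hηf, hfη, hf, sub_self, sub_zero]
    obtain ⟨K, hK, hKe⟩ := exists_nat_pos (hε i).1 (family_ne_zero hε i)
    let δ : G → ℂ := fun g => if g = 1 then 1 else 0
    have hδ : IsClassFunction G δ := fun g x => by
      show (if x * g * x⁻¹ = 1 then (1 : ℂ) else 0) = if g = 1 then 1 else 0
      exact if_congr conj_eq_one_iff rfl rfl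
    have hf1 : f.coeff 1 = (ε i).coeff 1 := by
      have := hfh δ hδ
      simpa [chiLin, δ] using this
    have hlt : Module.finrank ℂ (LinearMap.range (LinearMap.mulLeft ℂ (η - f))) < N := by
      have h1 := natCast_finrank_mulLeft hη'
      rw [coeff_sub, Finsupp.sub_apply, mul_sub, ← natCast_finrank_mulLeft hη, hN, hf1, hKe,
        eq_sub_iff_add_eq, ← Nat.cast_add, Nat.cast_inj] at h1
      omega
    obtain ⟨m, hm⟩ := ih _ hlt (η - f) hη' (hηi.sub hM hfi) rfl
    refine ⟨fun j => m j + if j = i then 1 else 0, fun h hh => ?_⟩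
    rw [show η = (η - f) + f by rw [sub_add_cancel], chiLin_add, hm h hh, hfh h hh]
    simp only [Nat.cast_add, Nat.cast_ite, Nat.cast_one, Nat.cast_zero, add_mul, ite_mul, one_mul,
      zero_mul, Finset.sum_add_distrib, Finset.sum_ite_eq', Finset.mem_univ, if_true]

include hε in
/-- The dual functions of the family on the regular elements. -/
theorem exists_dual :
    ∃ φ : Fin W.num → G → ℂ, (∀ i, IsClassFunction G (φ i)) ∧
      (∀ i j, chiLin (φ i) (ε j) = if i = j then 1 else 0) ∧
      ∀ h : G → ℂ, IsClassFunction G h → ∀ g, ¬ p ∣ orderOf g →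
        h g = ∑ j, chiLin h (ε j) * φ j g := by
  classical
  have hk : (p : Residue hM) = 0 := Star.residue_p_eq_zero hM
  set f : Fin W.num → G → ℂ := fun i g => (Star.sect hM (W.tr i (single g 1)) : ℂ) with hf
  have hfc : ∀ i, IsClassFunction G (f i) := fun i g x => by
    show (Star.sect hM (W.tr i (single (x * g * x⁻¹) 1)) : ℂ) = _
    rw [W.tr_conj]
  have hfi : ∀ i g, MemLocalRing M (f i g) := fun i g => memLocalRing_coe hM _
  have hfr : ∀ i g, res hM (f i g) = W.tr i (single g 1) := fun i g => by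
    rw [hf, ← toResidue_apply, Star.toResidue_sect]
  let V₀ : Submodule ℂ (G → ℂ) :=
    { carrier := {h | IsClassFunction G h ∧ ∀ g, p ∣ orderOf g → h g = 0}
      zero_mem' := ⟨fun _ _ => rfl, fun _ _ => rfl⟩
      add_mem' := fun ha hb => ⟨fun g x => by simp [Pi.add_apply, ha.1 g x, hb.1 g x],
        fun g hg => by simp [ha.2 g hg, hb.2 g hg]⟩
      smul_mem' := fun r a ha => ⟨fun g x => by simp [ha.1 g x], fun g hg => by simp [ha.2 g hg]⟩ }
  have hreg : ∀ h : G → ℂ, IsClassFunction G h → pRegularPart p h ∈ V₀ := fun h hh =>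
    ⟨isClassFunction_pRegularPart hh, fun g hg => pRegularPart_eq_zero _ hg⟩
  have hpair : ∀ h : G → ℂ, IsClassFunction G h → ∀ j,
      chiLin (pRegularPart p h) (ε j) = chiLin h (ε j) := fun h hh j =>
    chiLin_congr_regular (hM := hM) (hε j).1 (hε j).2.1 (isClassFunction_pRegularPart hh) hh
      fun g hg => pRegularPart_eq_self _ hg
  let T : V₀ →ₗ[ℂ] (Fin W.num → ℂ) :=
    { toFun := fun h j => chiLin h.1 (ε j)
      map_add' := fun a b => funext fun j => by simp [chiLin, mul_add, Finset.sum_add_distrib]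
      map_smul' := fun r a => funext fun j => by simp [chiLin, Finset.mul_sum, mul_left_comm] }
  have hrowi : ∀ i j, MemLocalRing M (chiLin (f i) (ε j)) := fun i j =>
    (locRing hM).sum_mem fun g _ => memLocalRing_mul hM ((hε j).2.1 g) (hfi i g)
  have hind : LinearIndependent ℂ fun i j => chiLin (f i) (ε j) := by
    refine linearIndependent_of_res hM hrowi ?_
    have hres : ∀ i j, res hM (chiLin (f i) (ε j)) = if i = j then 1 else 0 := by
      intro i j
      have h1 : W.tr i (red hM (ε j)) = if i = j then 1 else 0 := by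
        rw [W.tr_apply, (hε j).2.2, unitAt]
        haveI := W.dim_ne j
        by_cases hij : i = j
        · subst hij
          rw [Pi.single_eq_same, Matrix.trace_single_eq_same, if_pos rfl]
        · rw [Pi.single_eq_of_ne hij, Matrix.trace_zero, if_neg hij]
      rw [← h1, chiLin, res_sum hM _ fun g _ => memLocalRing_mul hM ((hε j).2.1 g) (hfi i g)]
      conv_rhs => rw [← MonoidAlgebra.sum_coeff_single (red hM (ε j))]
      rw [Finsupp.sum_fintype _ _ (by simp), map_sum]
      refine Finset.sum_congr rfl fun g _ => ?_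
      rw [res_mul hM ((hε j).2.1 g) (hfi i g), hfr, coeff_red,
        show single g (res hM ((ε j).coeff g)) = res hM ((ε j).coeff g) • single g (1 : Residue hM) by
          simp, map_smul, smul_eq_mul]
    rw [show (fun i j => res hM (chiLin (f i) (ε j))) = fun i => Pi.single i (1 : Residue hM) from
      funext fun i => funext fun j => by
        rw [hres, Pi.single_apply]
        exact if_congr eq_comm rfl rfl]
    exact Pi.linearIndependent_single_one _ _
  have hTsurj : Function.Surjective T := by
    rw [← LinearMap.range_eq_top, eq_top_iff, ← hind.span_eq_top_of_card_eq_finrank' (by simp)]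
    refine Submodule.span_le.2 ?_
    rintro _ ⟨i, rfl⟩
    exact ⟨⟨_, hreg _ (hfc i)⟩, funext fun j => hpair _ (hfc i) j⟩
  haveI : Finite (ConjClasses G) := Finite.of_surjective _ ConjClasses.mk_surjective
  haveI : Fintype {K : ConjClasses G // ¬ p ∣ orderOf K.out} := Fintype.ofFinite _
  have hrep : ∀ g : G, ¬ p ∣ orderOf g → ¬ p ∣ orderOf (ConjClasses.mk g).out := by
    intro g hg
    obtain ⟨c, hc⟩ := isConj_iff.1 (ConjClasses.mk_eq_mk_iff_isConj.1
      (Quotient.out_eq (ConjClasses.mk g)).symm)
    rw [← hc, show orderOf (c * g * c⁻¹) = orderOf g from MulEquiv.orderOf_eq (MulAut.conj c) g]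
    exact hg
  have hcard : Fintype.card {K : ConjClasses G // ¬ p ∣ orderOf K.out} ≤ W.num := by
    let Φ : (Fin W.num → Residue hM) →ₗ[Residue hM]
        ({K : ConjClasses G // ¬ p ∣ orderOf K.out} → Residue hM) :=
      Fintype.linearCombination (Residue hM) fun i K => W.tr i (single K.1.out 1)
    have hsurj : Function.Surjective Φ := by
      intro c
      obtain ⟨a, ha⟩ := W.exists_coeff_classFunction (p := p) hk
        (c := fun g => c ⟨ConjClasses.mk (pReg (p := p) g), hrep _ (not_dvd_orderOf_pReg g)⟩)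
        (fun g x => by
          congr 2
          refine ConjClasses.mk_eq_mk_iff_isConj.2 (isConj_iff.2 ⟨x⁻¹, ?_⟩)
          rw [show pReg (p := p) (x * g * x⁻¹) = x * pReg (p := p) g * x⁻¹ by
            rw [pReg, pReg, pPart_conj]; group]
          group)
        (fun g => by
          congr 2
          show _ = ConjClasses.mk ((pPart (p := p) (pReg (p := p) g))⁻¹ * pReg (p := p) g)
          rw [(pPart_eq_one_iff _).2 (not_dvd_orderOf_pReg (p := p) g), inv_one, one_mul])
      refine ⟨a, funext fun K => ?_⟩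
      have h1 := ha K.1.out
      simp only [Φ, Fintype.linearCombination_apply, Finset.sum_apply, Pi.smul_apply, smul_eq_mul]
      rw [← h1]
      congr 1
      refine Subtype.ext ?_
      show ConjClasses.mk (pReg (p := p) K.1.out) = K.1
      rw [pReg, (pPart_eq_one_iff _).2 K.2, inv_one, one_mul]
      exact Quotient.out_eq _
    have h1 := LinearMap.finrank_le_finrank_of_surjective hsurj
    simpa using h1
  have hdim : Module.finrank ℂ V₀ ≤ W.num := by
    let R : V₀ →ₗ[ℂ] ({K : ConjClasses G // ¬ p ∣ orderOf K.out} → ℂ) :=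
      { toFun := fun h K => h.1 K.1.out
        map_add' := fun _ _ => rfl
        map_smul' := fun _ _ => rfl }
    have hinj : Function.Injective R := by
      intro h h' hh
      refine Subtype.ext (funext fun g => ?_)
      by_cases hg : p ∣ orderOf g
      · rw [h.2.2 g hg, h'.2.2 g hg]
      · obtain ⟨c, hc⟩ := isConj_iff.1 (ConjClasses.mk_eq_mk_iff_isConj.1
          (Quotient.out_eq (ConjClasses.mk g)).symm)
        have := congrFun hh ⟨ConjClasses.mk g, hrep g hg⟩
        simp only [R, LinearMap.coe_mk, AddHom.coe_mk, ← hc] at this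
        rwa [h.2.1 g c, h'.2.1 g c] at this
    refine le_trans ?_ hcard
    simpa using LinearMap.finrank_le_finrank_of_injective hinj
  have hTinj : Function.Injective T := by
    have h1 := LinearMap.finrank_le_finrank_of_surjective hTsurj
    rw [Module.finrank_fintype_fun_eq_card, Fintype.card_fin] at h1
    refine (LinearMap.injective_iff_surjective_of_finrank_eq_finrank ?_).2 hTsurj
    rw [Module.finrank_fintype_fun_eq_card, Fintype.card_fin]
    omega
  choose φ hφ using fun i => hTsurj (Pi.single i 1)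
  refine ⟨fun i => (φ i).1, fun i => (φ i).2.1, fun i j => ?_, fun h hh g hg => ?_⟩
  · have := congrFun (hφ i) j
    rw [Pi.single_apply] at this
    exact this.trans (if_congr eq_comm rfl rfl)
  · have heq : (⟨_, hreg h hh⟩ : V₀) = ∑ j, chiLin h (ε j) • φ j := by
      refine hTinj ?_
      rw [map_sum]
      simp only [map_smul, hφ]
      refine funext fun j => ?_
      show chiLin (pRegularPart p h) (ε j) = _
      rw [hpair h hh, Finset.sum_apply, Finset.sum_eq_single j (fun l _ hl => by
        simp [Pi.single_eq_of_ne (Ne.symm hl)]) (by simp)]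
      simp
    have h1 := congrFun (congrArg Subtype.val heq) g
    simp only [Submodule.coe_sum, Finset.sum_apply, Submodule.coe_smul, Pi.smul_apply,
      smul_eq_mul, pRegularPart_eq_self _ hg] at h1
    exact h1

include hε in
/-- The dual functions extend to generalised characters. -/
theorem dual_isGeneralized {φ : Fin W.num → G → ℂ} (hφc : ∀ i, IsClassFunction G (φ i))
    (hφ : ∀ i j, chiLin (φ i) (ε j) = if i = j then 1 else 0) (i : Fin W.num) :
    IsGeneralizedCharacter G (fun g => φ i (pReg (p := p) g)) := by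
  classical
  have hψc : IsClassFunction G (fun g => φ i (pReg (p := p) g)) := fun g x => by
    show φ i (pReg (p := p) (x * g * x⁻¹)) = _
    rw [show pReg (p := p) (x * g * x⁻¹) = x * pReg (p := p) g * x⁻¹ by
      rw [pReg, pReg, pPart_conj]; group, hφc i]
  -- pairing with a linear character of an elementary subgroup
  have hlin : ∀ (E : Subgroup G), CharInduce.IsElem E → ∀ l : E →* ℂˣ,
      ∃ n : ℤ, classInner (fun g : G => φ i (pReg (p := p) g))
        (indFun E (fun e => (l e : ℂ))) = n := by
    intro E hE l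
    haveI : Fintype E := Fintype.ofFinite _
    rw [CharInduce.classInner_indFun_right E _ _ hψc, classInner_def]
    obtain ⟨q, hq, x, hx, hxq, kq, hkq⟩ := hE
    haveI : Fact q.Prime := ⟨hq⟩
    haveI : Group.IsNilpotent E :=
      CharInduce.isNilpotent_of_isElementary ⟨x, hx, hxq, kq, hkq⟩
    let P : Sylow p E := default
    obtain ⟨H, hH⟩ := Subgroup.exists_right_complement'_of_coprime P.card_coprime_index
    have hHcard : ¬ p ∣ Nat.card H := by
      rw [show Nat.card H = (P : Subgroup E).index from (hH.symm.index_eq_card).symm]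
      exact P.not_dvd_index
    have hHreg : ∀ h : H, ¬ p ∣ orderOf ((h : E) : G) := fun h hd => by
      rw [Subgroup.orderOf_coe, Subgroup.orderOf_coe] at hd
      exact hHcard (hd.trans (orderOf_dvd_natCard _))
    have hcentral : ∀ y : E, Nat.Coprime (orderOf y) q → y ∈ Subgroup.center E := by
      intro y hy
      haveI hn : (Subgroup.zpowers x).Normal := ⟨fun a ha b => by
        rwa [(Subgroup.mem_center_iff.1 ((Subgroup.zpowers_le).2 hx ha) b), mul_inv_cancel_right]⟩
      refine (Subgroup.zpowers_le).2 hx ?_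
      rw [← QuotientGroup.eq_one_iff, ← orderOf_eq_one_iff]
      refine Nat.eq_one_of_dvd_coprimes (hy.pow_right kq) (orderOf_map_dvd (QuotientGroup.mk' _) y) ?_
      rw [← hkq, Subgroup.index_eq_card]
      exact orderOf_dvd_natCard _
    have hPord : ∀ a : (P : Subgroup E), ∃ j, orderOf ((a : E) : G) = p ^ j := fun a => by
      rw [Subgroup.orderOf_coe, Subgroup.orderOf_coe]
      exact IsPGroup.iff_orderOf.1 P.isPGroup' a
    have hcomm : ∀ (a : (P : Subgroup E)) (h : H), Commute ((a : E) : G) ((h : E) : G) := by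
      intro a h
      refine Commute.map (f := E.subtype) ?_
      by_cases hpq : p = q
      · subst hpq
        have := hcentral (h : E) (by
          have := hHreg h
          rw [Subgroup.orderOf_coe] at this
          exact ((Fact.out : p.Prime).coprime_iff_not_dvd.2 this).symm)
        exact Subgroup.mem_center_iff.1 this (a : E)
      · obtain ⟨j, hj⟩ := hPord a
        rw [Subgroup.orderOf_coe] at hj
        have := hcentral (a : E) (by
          rw [hj]
          exact Nat.Coprime.pow_left _ ((Nat.coprime_primes Fact.out hq).2 hpq))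
        exact (Subgroup.mem_center_iff.1 this (h : E)).symm
    have hpReg : ∀ (a : (P : Subgroup E)) (h : H),
        pReg (p := p) (((a : E) * (h : E) : E) : G) = ((h : E) : G) := by
      intro a h
      rw [Subgroup.coe_mul, pReg, pPart_mul_of (hcomm a h) (hPord a) (hHreg h), inv_mul_cancel_left]
    have hH0 : (Nat.card H : ℂ) ≠ 0 := Nat.cast_ne_zero.2 Nat.card_pos.ne'
    -- the idempotent of the linear character on the regular part
    set η : MonoidAlgebra ℂ G :=
      ∑ h : H, single ((h : E) : G) ((Nat.card H : ℂ)⁻¹ * conj (l (h : E) : ℂ)) with hη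
    have hηi : IsIntElt M η := by
      intro g
      rw [hη, coeff_sum, Finsupp.finsetSum_apply]
      refine (locRing hM).sum_mem fun h _ => ?_
      rw [coeff_single, Finsupp.single_apply]
      split_ifs
      · refine memLocalRing_mul hM (memLocalRing_natCast_inv hM hHcard) ?_
        exact memLocalRing_of_isIntegral hM
          ((IsChar.isIntegral (CharInduce.isCharacter_hom l) (h : E)).map (starRingEnd ℂ).toIntAlgHom)
      · exact (locRing hM).zero_mem
    have hηη : η * η = η := by
      rw [hη, Finset.sum_mul]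
      calc ∑ a : H, single ((a : E) : G) ((Nat.card H : ℂ)⁻¹ * conj (l (a : E) : ℂ)) *
            ∑ h : H, single ((h : E) : G) ((Nat.card H : ℂ)⁻¹ * conj (l (h : E) : ℂ))
          = ∑ _a : H, (Nat.card H : ℂ)⁻¹ •
              ∑ h : H, single ((h : E) : G) ((Nat.card H : ℂ)⁻¹ * conj (l (h : E) : ℂ)) := by
            refine Finset.sum_congr rfl fun a _ => ?_
            rw [Finset.mul_sum, Finset.smul_sum]
            refine Fintype.sum_equiv (Equiv.mulLeft a) _ _ fun h => ?_
            rw [single_mul_single, Equiv.coe_mulLeft, smul_single', Subgroup.coe_mul, Subgroup.coe_mul,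
              map_mul, Units.val_mul, map_mul]
            congr 1
            ring
        _ = _ := by
            rw [Finset.sum_const, Finset.card_univ, ← Nat.card_eq_fintype_card,
              ← Nat.cast_smul_eq_nsmul ℂ, smul_smul, mul_inv_cancel₀ hH0, one_smul]
    obtain ⟨m, hm⟩ := exists_mult hε hηη hηi
    have hval : chiLin (φ i) η = (m i : ℂ) := by
      rw [hm _ (hφc i), Finset.sum_eq_single i (fun j _ hj => by
        rw [hφ, if_neg (Ne.symm hj), mul_zero]) (by simp), hφ, if_pos rfl, mul_one]
    have hval' : chiLin (φ i) η =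
        (Nat.card H : ℂ)⁻¹ * ∑ h : H, φ i ((h : E) : G) * conj (l (h : E) : ℂ) := by
      rw [hη, chiLin_sum, Finset.mul_sum]
      refine Finset.sum_congr rfl fun h _ => ?_
      rw [chiLin_single]
      ring
    let lP : (P : Subgroup E) →* ℂˣ := l.comp (P : Subgroup E).subtype
    refine ⟨(if lP = 1 then 1 else 0) * (m i : ℤ), ?_⟩
    let eq : ↥(P : Subgroup E) × ↥H ≃ E := hH.equiv.symm
    rw [← eq.sum_comp, Fintype.sum_prod_type]
    rw [show (Nat.card E : ℂ) = (Nat.card (P : Subgroup E) : ℂ) * (Nat.card H : ℂ) by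
      rw [← Nat.card_congr eq, Nat.card_prod, Nat.cast_mul]]
    have hterm : ∀ a : (P : Subgroup E), ∀ h : H,
        φ i (pReg (p := p) ((eq (a, h) : E) : G)) * conj (l (eq (a, h)) : ℂ) =
          conj (lP a : ℂ) * (φ i ((h : E) : G) * conj (l (h : E) : ℂ)) := by
      intro a h
      show φ i (pReg (p := p) (((a : E) * (h : E) : E) : G)) * conj (l ((a : E) * (h : E)) : ℂ) = _
      rw [hpReg, map_mul, Units.val_mul, map_mul]
      show _ = conj (l (a : E) : ℂ) * _
      ring
    simp only [hterm, ← Finset.mul_sum, ← Finset.sum_mul]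
    have hsumP : (∑ a : (P : Subgroup E), conj (lP a : ℂ)) =
        if lP = 1 then (Nat.card (P : Subgroup E) : ℂ) else 0 := by
      rw [← map_sum]
      by_cases hl : lP = 1
      · simp [hl]
      · rw [if_neg hl, show (∑ a : (P : Subgroup E), (lP a : ℂ)) = 0 from ?_, map_zero]
        have := sum_hom_units ((Units.coeHom ℂ).comp lP)
        rw [if_neg (fun h => hl (MonoidHom.ext fun a => Units.ext (by
          have := DFunLike.congr_fun h a
          simpa using this)))] at this
        simpa using this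
    rw [hsumP]
    have hP0 : (Nat.card (P : Subgroup E) : ℂ) ≠ 0 := Nat.cast_ne_zero.2 Nat.card_pos.ne'
    by_cases hl : lP = 1
    · rw [if_pos hl, if_pos hl, one_mul, Int.cast_natCast, ← hval, hval']
      field_simp
    · rw [if_neg hl, if_neg hl, zero_mul, mul_zero, zero_mul, Int.cast_zero]
  refine CharInduce.isGeneralizedCharacter_of_coeff hψc fun χ => ?_
  have hspan := CharInduce.brauer (IsIrr.isCharacter χ.2)
  generalize (χ : G → ℂ) = θ at hspan ⊢
  induction hspan using AddSubgroup.closure_induction with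
  | mem f hf =>
    obtain ⟨⟨E, l⟩, hE, rfl⟩ := hf
    exact hlin E hE l
  | zero => exact ⟨0, by simp [classInner]⟩
  | add a b _ _ ha hb =>
    obtain ⟨na, hna⟩ := ha
    obtain ⟨nb, hnb⟩ := hb
    exact ⟨na + nb, by rw [CharBasic.classInner_add_right, hna, hnb]; push_cast; rfl⟩
  | neg a _ ha =>
    obtain ⟨na, hna⟩ := ha
    exact ⟨-na, by rw [← neg_one_smul ℂ a, CharBasic.classInner_smul_right, hna]; simp⟩

end Family

end Cfsg.Agent.H83.Decomp
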