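import Cfsg.Agent.H83.CycloNorm
import Cfsg.Agent.BlockBasic.Idem
import Cfsg.Agent.H82.PrincipalBlock
import Mathlib.RingTheory.Polynomial.Cyclotomic.Eval

/-!
Divisibility and averages of integral polynomials at roots of unity of prime power order.
-/

set_option linter.style.haveILetI false

open scoped ComplexConjugate
open Polynomial

namespace Cfsg.Agent.H83

variable {p : ℕ} [hp : Fact p.Prime] {M : Ideal Cfsg.AlgInt}

omit hp in
/-- A value of an integral polynomial at a root of unity is locally integral. -/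
theorem memLocalRing_aeval (hM : Cfsg.IsPModular p M) {n : ℕ} {η : ℂ} (hη : η ^ p ^ n = 1)
    (F : ℤ[X]) : Cfsg.MemLocalRing M (aeval η F) := by
  refine BlockBasic.memLocalRing_of_isIntegral hM ?_
  have hint : IsIntegral ℤ η :=
    IsIntegral.of_pow (pow_pos hM.1.pos n) (by rw [hη]; exact isIntegral_one)
  rw [aeval_eq_sum_range]
  exact IsIntegral.sum _ fun i _ => (hint.pow i).smul _

/-- A cyclotomic integer of prime power level which is locally divisible by `p` is divisible by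
`p`. -/
theorem exists_eq_mul_of_local (hM : Cfsg.IsPModular p M) {n : ℕ} {ζ : ℂ}
    (hζ : IsPrimitiveRoot ζ (p ^ n)) (F : ℤ[X]) {w : ℂ} (hw : Cfsg.MemLocalRing M w)
    (hF : aeval ζ F = (p : ℂ) * w) : ∃ H : ℤ[X], aeval ζ F = (p : ℂ) * aeval ζ H := by
  rcases Nat.eq_zero_or_pos n with rfl | hn
  · rw [pow_zero, IsPrimitiveRoot.one_right_iff] at hζ
    subst hζ
    have he : aeval (1 : ℂ) F = ((F.eval 1 : ℤ) : ℂ) := by
      rw [aeval_def, eval₂_at_one, eq_intCast]
    have hd : (p : ℤ) ∣ F.eval 1 := by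
      refine (BlockBasic.memLocalIdeal_intCast_iff hM _).1 ?_
      rw [← he, hF, mul_comm]
      exact BlockBasic.memLocalIdeal_mul hM hw ((BlockBasic.memLocalIdeal_natCast_iff hM p).2 dvd_rfl)
    obtain ⟨k, hk⟩ := hd
    refine ⟨C k, ?_⟩
    rw [he, hk, aeval_C, eq_intCast]
    push_cast
    rfl
  obtain ⟨m, rfl⟩ : ∃ m, n = m + 1 := ⟨n - 1, by omega⟩
  haveI : NeZero (p ^ (m + 1)) := ⟨pow_ne_zero _ hp.out.ne_zero⟩
  set φ := (p ^ (m + 1)).totient with hφ
  have hφ0 : 0 < φ := Nat.totient_pos.2 (pow_pos hp.out.pos _)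
  have hN1 : 1 < p ^ (m + 1) := Nat.one_lt_pow (by omega) hp.out.one_lt
  set π : ℂ := ζ - 1 with hπdef
  have hπM : Cfsg.MemLocalIdeal M π := H82.memLocalIdeal_sub_one_of_pow_eq_one hM hζ.pow_eq_one
  have hπ0 : π ≠ 0 := sub_ne_zero.2 (hζ.ne_one hN1)
  have hint : IsIntegral ℤ ζ := hζ.isIntegral (NeZero.pos _)
  -- `p` is a multiple of the `φ`-th power of `π`
  obtain ⟨ε, hεint, hε⟩ : ∃ ε : ℂ, IsIntegral ℤ ε ∧ (p : ℂ) = π ^ φ * ε := by
    classical
    have hfac : ∀ η ∈ primitiveRoots (p ^ (m + 1)) ℂ, ∃ t : ℂ, IsIntegral ℤ t ∧ 1 - η = π * t := by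
      intro η hη
      obtain ⟨i, -, rfl⟩ := hζ.eq_pow_of_pow_eq_one
        ((mem_primitiveRoots (NeZero.pos _)).1 hη).pow_eq_one
      refine ⟨-∑ j ∈ Finset.range i, ζ ^ j, (IsIntegral.sum _ fun j _ => hint.pow j).neg, ?_⟩
      rw [hπdef, mul_neg, mul_comm, geom_sum_mul]
      ring
    choose t ht1 ht2 using hfac
    refine ⟨∏ η ∈ (primitiveRoots (p ^ (m + 1)) ℂ).attach, t η.1 η.2,
      IsIntegral.prod _ fun η _ => ht1 _ _, ?_⟩
    have h := congrArg (Polynomial.eval (1 : ℂ)) (cyclotomic_eq_prod_X_sub_primitiveRoots hζ)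
    rw [eval_one_cyclotomic_prime_pow, eval_prod, ← Finset.prod_attach] at h
    rw [h, hφ, ← Complex.card_primitiveRoots, ← Finset.card_attach, ← Finset.prod_const,
      ← Finset.prod_mul_distrib]
    refine Finset.prod_congr rfl fun η _ => ?_
    rw [eval_sub, eval_X, eval_C]
    exact ht2 _ η.2
  have hmon : (cyclotomic (p ^ (m + 1)) ℤ).Monic := cyclotomic.monic _ _
  set F' := F %ₘ cyclotomic (p ^ (m + 1)) ℤ with hF'def
  have hev : aeval ζ F' = aeval ζ F := aeval_modByMonic_eq_self_of_root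
    (by rw [cyclotomic_eq_minpoly hζ (NeZero.pos _)]; exact minpoly.aeval ℤ ζ)
  have hne1 : cyclotomic (p ^ (m + 1)) ℤ ≠ 1 := fun h => by
    have := congrArg natDegree h
    rw [natDegree_cyclotomic, natDegree_one] at this
    omega
  have hdeg : F'.natDegree < φ := by
    have := natDegree_modByMonic_lt F hmon hne1
    rwa [natDegree_cyclotomic] at this
  set T := F'.comp (X + 1) with hTdef
  have hTdeg : T.natDegree < φ := by
    rw [hTdef, natDegree_comp, show ((X : ℤ[X]) + 1).natDegree = 1 from by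
      rw [← C_1, natDegree_X_add_C], mul_one]
    exact hdeg
  have hTev : aeval ζ F = aeval π T := by
    rw [hTdef, aeval_comp, ← hev, map_add, aeval_X, map_one, hπdef, sub_add_cancel]
  by_cases hall : ∀ i, (p : ℤ) ∣ T.coeff i
  · obtain ⟨T', hT'⟩ := (C_dvd_iff_dvd_coeff _ _).2 hall
    refine ⟨T'.comp (X - 1), ?_⟩
    rw [hTev, hT', map_mul, aeval_C, aeval_comp, map_sub, aeval_X, map_one, eq_intCast,
      Int.cast_natCast, hπdef]
  exfalso
  push Not at hall
  classical
  set j := Nat.find hall with hjdef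
  have hj : ¬ (p : ℤ) ∣ T.coeff j := Nat.find_spec hall
  have hjlt : j < φ := by
    by_contra h
    exact hj (by rw [coeff_eq_zero_of_natDegree_lt (by omega)]; exact dvd_zero _)
  obtain ⟨c, hc⟩ : ∃ c, φ = j + 1 + c := ⟨φ - j - 1, by omega⟩
  -- split off the first coefficient prime to `p`
  have hπint : IsIntegral ℤ π := hint.sub isIntegral_one
  obtain ⟨A, hA⟩ : ∃ A : ℂ, Cfsg.MemLocalRing M A ∧
      ∑ i ∈ Finset.range j, (T.coeff i : ℂ) * π ^ i = (p : ℂ) * A := by
    have hd : ∀ i ∈ Finset.range j, (p : ℤ) ∣ T.coeff i := fun i hi => by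
      by_contra h
      exact absurd (Nat.find_le (h := hall) h) (not_le.2 (Finset.mem_range.1 hi))
    choose k hk using hd
    refine ⟨∑ i ∈ (Finset.range j).attach, (k i.1 i.2 : ℂ) * π ^ (i : ℕ), ?_, ?_⟩
    · exact (BlockBasic.locRing hM).sum_mem fun i _ => BlockBasic.memLocalRing_mul hM
        (intCast_mem (BlockBasic.locRing hM) _)
        (BlockBasic.memLocalRing_of_isIntegral hM (hπint.pow _))
    · rw [Finset.mul_sum, ← Finset.sum_attach]
      refine Finset.sum_congr rfl fun i _ => ?_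
      rw [hk i.1 i.2]
      push_cast
      ring
  set B : ℂ := ∑ i ∈ Finset.range c, (T.coeff (j + 1 + i) : ℂ) * π ^ i with hBdef
  have hB : Cfsg.MemLocalRing M B := (BlockBasic.locRing hM).sum_mem fun i _ =>
    BlockBasic.memLocalRing_mul hM (intCast_mem (BlockBasic.locRing hM) _)
      (BlockBasic.memLocalRing_of_isIntegral hM (hπint.pow _))
  have hsplit : aeval π T = (p : ℂ) * A + π ^ j * ((T.coeff j : ℂ) + π * B) := by
    rw [aeval_eq_sum_range' (n := j + 1 + c) (by omega), Finset.sum_range_add,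
      Finset.sum_range_succ]
    simp only [zsmul_eq_mul]
    rw [hA.2, hBdef, mul_add, Finset.mul_sum, Finset.mul_sum, add_assoc]
    refine congrArg₂ (· + ·) rfl (congrArg₂ (· + ·) (mul_comm _ _)
      (Finset.sum_congr rfl fun i _ => ?_))
    ring
  have h1 : π ^ j * ((T.coeff j : ℂ) + π * B) = (p : ℂ) * (w - A) := by
    rw [mul_sub, ← hF, hTev, hsplit]; ring
  have hkey : (T.coeff j : ℂ) + π * B = π * (π ^ c * ε * (w - A)) := by
    apply mul_left_cancel₀ (pow_ne_zero j hπ0)
    rw [h1, hε, hc]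
    ring
  refine hj ((BlockBasic.memLocalIdeal_intCast_iff hM _).1 ?_)
  rw [show (T.coeff j : ℂ) = (π ^ c * ε * (w - A) - B) * π from by linear_combination hkey]
  exact BlockBasic.memLocalIdeal_mul hM ((BlockBasic.locRing hM).sub_mem
    ((BlockBasic.locRing hM).mul_mem ((BlockBasic.locRing hM).mul_mem
      (BlockBasic.memLocalRing_of_isIntegral hM (hπint.pow c))
      (BlockBasic.memLocalRing_of_isIntegral hM hεint))
      ((BlockBasic.locRing hM).sub_mem hw hA.1)) hB) hπM

/-- Local divisibility by a power of `p` holds at every primitive root. -/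
theorem exists_eq_pow_mul_of_local (hM : Cfsg.IsPModular p M) {n : ℕ} {ζ : ℂ}
    (hζ : IsPrimitiveRoot ζ (p ^ n)) (h : ℕ) (F : ℤ[X]) {w : ℂ} (hw : Cfsg.MemLocalRing M w)
    (hF : aeval ζ F = (p : ℂ) ^ h * w) :
    ∃ H : ℤ[X], aeval ζ H = w ∧
      ∀ η : ℂ, IsPrimitiveRoot η (p ^ n) → aeval η F = (p : ℂ) ^ h * aeval η H := by
  haveI : NeZero (p ^ n) := ⟨pow_ne_zero _ hp.out.ne_zero⟩
  suffices h1 : ∃ H : ℤ[X], aeval ζ H = w by
    obtain ⟨H, hH⟩ := h1
    refine ⟨H, hH, fun η hη => ?_⟩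
    have h2 := aeval_eq_zero_transfer (F - C ((p : ℤ) ^ h) * H) hζ hη (by simp [hF, hH])
    simpa [sub_eq_zero] using h2
  induction h generalizing F w with
  | zero => exact ⟨F, by rw [hF, pow_zero, one_mul]⟩
  | succ h ih =>
    obtain ⟨H, hH⟩ := exists_eq_mul_of_local hM hζ F
      (w := (p : ℂ) ^ h * w) (BlockBasic.memLocalRing_mul hM ((BlockBasic.locRing hM).pow_mem
        (BlockBasic.memLocalRing_natCast hM p) h) hw) (by rw [hF]; ring)
    refine ih H hw (mul_left_cancel₀ (Nat.cast_ne_zero.2 hp.out.ne_zero : (p : ℂ) ≠ 0) ?_)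
    rw [← hH, hF]
    ring

omit hp in
/-- The conjugates of a cyclotomic integer divisible by `c` have mean square at least `c ^ 2`. -/
theorem sum_norm_sq_ge {N : ℕ} [NeZero N] {ζ : ℂ} (hζ : IsPrimitiveRoot ζ N) {F H : ℤ[X]} (c : ℕ)
    (hFH : ∀ η : ℂ, IsPrimitiveRoot η N → aeval η F = (c : ℂ) * aeval η H) (hH : aeval ζ H ≠ 0) :
    (c : ℝ) ^ 2 * ((primitiveRoots N ℂ).card : ℝ) ≤
      ∑ η ∈ primitiveRoots N ℂ, ‖aeval η F‖ ^ 2 := by
  rw [Finset.sum_congr rfl fun η hη => by
    rw [hFH η ((mem_primitiveRoots (NeZero.pos N)).1 hη), norm_mul, Complex.norm_natCast, mul_pow],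
    ← Finset.mul_sum]
  exact mul_le_mul_of_nonneg_left (card_le_sum_norm_sq_aeval H hζ hH) (sq_nonneg _)

omit hp in
/-- The conjugates of a totally nonnegative nonzero cyclotomic integer average at least one, and
average exactly one only if they are all one. -/
theorem sum_re_ge {N : ℕ} [NeZero N] {ζ : ℂ} (hζ : IsPrimitiveRoot ζ N) (F : ℤ[X])
    (hreal : ∀ η : ℂ, IsPrimitiveRoot η N → conj (aeval η F) = aeval η F)
    (hpos : ∀ η : ℂ, IsPrimitiveRoot η N → 0 ≤ (aeval η F).re) (h0 : aeval ζ F ≠ 0) :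
    ((primitiveRoots N ℂ).card : ℝ) ≤ ∑ η ∈ primitiveRoots N ℂ, (aeval η F).re ∧
      ((∑ η ∈ primitiveRoots N ℂ, (aeval η F).re = (primitiveRoots N ℂ).card) →
        ∀ η : ℂ, IsPrimitiveRoot η N → aeval η F = 1) := by
  classical
  set x : ℂ → ℝ := fun η => (aeval η F).re
  have hre : ∀ η, IsPrimitiveRoot η N → aeval η F = (x η : ℂ) := fun η hη => by
    exact (Complex.conj_eq_iff_re.1 (hreal η hη)).symm
  have hmem : ∀ {η}, η ∈ primitiveRoots N ℂ → IsPrimitiveRoot η N :=
    fun h => (mem_primitiveRoots (NeZero.pos N)).1 h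
  have hprod := one_le_norm_prod_aeval F hζ h0
  rw [norm_prod, Finset.prod_congr rfl fun η hη => by
    rw [hre η (hmem hη), Complex.norm_real, Real.norm_eq_abs, abs_of_nonneg (hpos η (hmem hη))]]
    at hprod
  have hxpos : ∀ η ∈ primitiveRoots N ℂ, 0 < x η := fun η hη => by
    refine lt_of_le_of_ne (hpos η (hmem hη)) fun h => ?_
    rw [Finset.prod_eq_zero hη h.symm] at hprod
    exact not_lt.2 hprod one_pos
  have hlog : 0 ≤ ∑ η ∈ primitiveRoots N ℂ, Real.log (x η) := by
    rw [← Real.log_prod fun η hη => (hxpos η hη).ne']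
    exact Real.log_nonneg hprod
  have hle : ∀ η ∈ primitiveRoots N ℂ, Real.log (x η) ≤ x η - 1 :=
    fun η hη => Real.log_le_sub_one_of_pos (hxpos η hη)
  have hsum := Finset.sum_le_sum hle
  simp only [Finset.sum_sub_distrib, Finset.sum_const, nsmul_eq_mul, mul_one] at hsum
  refine ⟨by linarith, fun hcard η hη => ?_⟩
  have heq : ∀ η ∈ primitiveRoots N ℂ, Real.log (x η) = x η - 1 := by
    refine (Finset.sum_eq_sum_iff_of_le hle).1 (le_antisymm (Finset.sum_le_sum hle) ?_)
    simp only [Finset.sum_sub_distrib, Finset.sum_const, nsmul_eq_mul, mul_one]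
    linarith [show ∑ η ∈ primitiveRoots N ℂ, x η = (primitiveRoots N ℂ).card from hcard]
  have hη' := (mem_primitiveRoots (NeZero.pos N)).2 hη
  have h1 : x η = 1 := by
    by_contra hne
    have := Real.log_lt_sub_one_of_pos (hxpos η hη') hne
    have := heq η hη'
    linarith
  rw [hre η hη, h1, Complex.ofReal_one]

/-- For `p = 2` the conjugates of a real cyclotomic integer average to an integer congruent to
it. -/
theorem exists_average_two {M : Ideal Cfsg.AlgInt} (hM : Cfsg.IsPModular 2 M) {n : ℕ} {ζ : ℂ}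
    (hζ : IsPrimitiveRoot ζ (2 ^ n)) (F : ℤ[X]) (hreal : conj (aeval ζ F) = aeval ζ F) :
    ∃ a : ℤ, (∑ η ∈ primitiveRoots (2 ^ n) ℂ, (aeval η F).re =
        ((primitiveRoots (2 ^ n) ℂ).card : ℝ) * (a : ℝ)) ∧
      Cfsg.MemLocalIdeal M (aeval ζ F - (a : ℂ)) := by
  haveI := Fact.mk Nat.prime_two
  haveI : NeZero (2 ^ n) := ⟨pow_ne_zero _ two_ne_zero⟩
  by_cases hn : n ≤ 1
  · -- the root is one or minus one
    have hζ2 : ζ = 1 ∨ ζ = -1 := by
      interval_cases n
      · exact Or.inl (IsPrimitiveRoot.one_right_iff.1 (by simpa using hζ))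
      · exact Or.inr (IsPrimitiveRoot.eq_neg_one_of_two_right (by simpa using hζ))
    obtain ⟨z, rfl⟩ : ∃ z : ℤ, ζ = (z : ℂ) := by
      rcases hζ2 with h | h <;> [exact ⟨1, by simp [h]⟩; exact ⟨-1, by simp [h]⟩]
    have he : aeval (z : ℂ) F = ((F.eval z : ℤ) : ℂ) := by
      rw [← eq_intCast (algebraMap ℤ ℂ) z, aeval_algebraMap_apply]
      simp
    refine ⟨F.eval z, ?_, by rw [he, sub_self]; exact BlockBasic.memLocalIdeal_zero hM⟩
    have hone : ∀ η, IsPrimitiveRoot η (2 ^ n) → aeval η F = ((F.eval z : ℤ) : ℂ) := fun η hη => by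
      have h := aeval_eq_zero_transfer (F - C (F.eval z)) hζ hη (by simp [he])
      simpa [sub_eq_zero] using h
    rw [Finset.sum_congr rfl fun η hη => by
      rw [hone η ((mem_primitiveRoots (NeZero.pos _)).1 hη), Complex.intCast_re],
      Finset.sum_const, nsmul_eq_mul]
  obtain ⟨m, rfl⟩ : ∃ m, n = m + 1 := ⟨n - 1, by omega⟩
  set K := 2 ^ m with hK
  have hK1 : 1 < K := Nat.one_lt_two_pow (by omega)
  have hNK : 2 ^ (m + 1) = 2 * K := by rw [hK, pow_succ]; ring
  have htot : (2 ^ (m + 1)).totient = K := by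
    rw [Nat.totient_prime_pow_succ Nat.prime_two, hK]; simp
  set F' := F %ₘ cyclotomic (2 ^ (m + 1)) ℤ with hF'def
  have hne1 : cyclotomic (2 ^ (m + 1)) ℤ ≠ 1 := fun h => by
    have := congrArg natDegree h
    rw [natDegree_cyclotomic, natDegree_one, htot] at this
    omega
  have hdeg : F'.natDegree < K := by
    have := natDegree_modByMonic_lt F (cyclotomic.monic _ ℤ) hne1
    rwa [natDegree_cyclotomic, htot] at this
  have hev : ∀ η, IsPrimitiveRoot η (2 ^ (m + 1)) →
      aeval η F = ∑ i ∈ Finset.range K, (F'.coeff i : ℂ) * η ^ i := by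
    intro η hη
    rw [← aeval_modByMonic_eq_self_of_root (p := F) (q := cyclotomic (2 ^ (m + 1)) ℤ)
      (by rw [cyclotomic_eq_minpoly hη (NeZero.pos _)]; exact minpoly.aeval ℤ η),
      ← hF'def, aeval_eq_sum_range' hdeg]
    simp only [zsmul_eq_mul]
  -- the power sums vanish
  have hneg : ∀ η : ℂ, IsPrimitiveRoot η (2 ^ (m + 1)) → η ^ K = -1 := fun η hη => by
    have h : IsPrimitiveRoot (η ^ K) 2 := hη.pow (NeZero.pos _) (by rw [hNK, mul_comm])
    exact h.eq_neg_one_of_two_right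
  have hsum0 : ∀ i, 0 < i → i < K → ∑ η ∈ primitiveRoots (2 ^ (m + 1)) ℂ, η ^ i = 0 := by
    intro i hi hiK
    -- rotate by a root of order two less than full
    obtain ⟨v, u, hu, rfl⟩ := Nat.exists_eq_pow_mul_and_not_dvd hi.ne' 2 (by norm_num)
    have hv : v < m := by
      have h1 : 2 ^ v ≤ 2 ^ v * u := Nat.le_mul_of_pos_right _ (Nat.pos_of_ne_zero fun h => hu (h ▸ dvd_zero 2))
      exact (Nat.pow_lt_pow_iff_right (by norm_num)).1 (lt_of_le_of_lt h1 (hK ▸ hiK))
    set t := 1 + 2 ^ (m - v) with ht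
    have hmv : 2 ^ (m - v) * 2 ^ v = K := by rw [← pow_add, Nat.sub_add_cancel hv.le]
    have htodd : ¬ 2 ∣ t := by
      have : 2 ∣ 2 ^ (m - v) := dvd_pow_self 2 (by omega)
      omega
    have hco : t.Coprime (2 ^ (m + 1)) :=
      Nat.Coprime.pow_right _ ((Nat.prime_two.coprime_iff_not_dvd.2 htodd).symm)
    have hbij : ∑ η ∈ primitiveRoots (2 ^ (m + 1)) ℂ, η ^ (2 ^ v * u) =
        ∑ η ∈ primitiveRoots (2 ^ (m + 1)) ℂ, (η ^ t) ^ (2 ^ v * u) := by
      refine (Finset.sum_bij (fun η _ => η ^ t) (fun η hη => ?_) (fun a ha b hb h => ?_)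
        (fun η hη => ?_) fun η _ => rfl).symm
      · exact (mem_primitiveRoots (NeZero.pos _)).2
          (((mem_primitiveRoots (NeZero.pos _)).1 hη).pow_of_coprime t hco)
      · obtain ⟨r, hr⟩ := Nat.exists_mul_mod_eq_one_of_coprime hco (Nat.one_lt_two_pow (by omega))
        have key : ∀ {η : ℂ}, η ∈ primitiveRoots (2 ^ (m + 1)) ℂ → (η ^ t) ^ r = η := fun hη => by
          rw [← pow_mul, ← pow_mod_orderOf, ← ((mem_primitiveRoots (NeZero.pos _)).1 hη).eq_orderOf,
            hr.2, pow_one]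
        rw [← key ha, h, key hb]
      · obtain ⟨r, hr⟩ := Nat.exists_mul_mod_eq_one_of_coprime hco (Nat.one_lt_two_pow (by omega))
        have hη' := (mem_primitiveRoots (NeZero.pos _)).1 hη
        have key : (η ^ r) ^ t = η := by
          rw [← pow_mul, mul_comm, ← pow_mod_orderOf, ← hη'.eq_orderOf, hr.2, pow_one]
        refine ⟨η ^ r, (mem_primitiveRoots (NeZero.pos _)).2 (hη'.pow_of_coprime r ?_), key⟩
        exact Nat.Coprime.pow_right _ (Nat.prime_two.coprime_iff_not_dvd.2 fun h => by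
          have h1 := hr.2
          rw [Nat.mul_mod] at h1
          have : t * r % 2 = 1 := by
            have h2 := congrArg (· % 2) hr.2
            simp only [Nat.mod_mod_of_dvd _ (dvd_pow_self 2 (Nat.succ_ne_zero m))] at h2
            simpa using h2
          rw [Nat.mul_mod, Nat.mod_eq_zero_of_dvd h |> id] at this
          simp at this).symm
    have hflip : ∀ η ∈ primitiveRoots (2 ^ (m + 1)) ℂ,
        (η ^ t) ^ (2 ^ v * u) = -(η ^ (2 ^ v * u)) := by
      intro η hη
      have hodd : Odd u := Nat.odd_iff.2 (by omega)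
      rw [← pow_mul η t, show t * (2 ^ v * u) = 2 ^ v * u + K * u from by
          rw [ht, add_mul, one_mul, ← mul_assoc, hmv],
        pow_add, pow_mul η K u, hneg η ((mem_primitiveRoots (NeZero.pos _)).1 hη), hodd.neg_one_pow,
        mul_neg_one]
    rw [Finset.sum_congr rfl hflip, Finset.sum_neg_distrib] at hbij
    exact CharZero.eq_neg_self_iff.1 hbij
  refine ⟨F'.coeff 0, ?_, ?_⟩
  · have h : ∑ η ∈ primitiveRoots (2 ^ (m + 1)) ℂ, aeval η F =
        ((primitiveRoots (2 ^ (m + 1)) ℂ).card : ℂ) * (F'.coeff 0 : ℂ) := by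
      rw [Finset.sum_congr rfl fun η hη => hev η ((mem_primitiveRoots (NeZero.pos _)).1 hη),
        Finset.sum_comm, Finset.sum_eq_single 0]
      · simp
      · intro i hi hi0
        rw [← Finset.mul_sum, hsum0 i (Nat.pos_of_ne_zero hi0) (Finset.mem_range.1 hi), mul_zero]
      · exact fun h => absurd (Finset.mem_range.2 (by omega : 0 < K)) h
    rw [← Complex.re_sum, h]
    simp [Complex.mul_re]
  -- the other coefficients sum to zero
  obtain ⟨c, hc⟩ : ∃ c, K = c + 1 := ⟨K - 1, by omega⟩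
  have hval : aeval ζ F =
      (F'.coeff 0 : ℂ) + ∑ i ∈ Finset.range c, (F'.coeff (i + 1) : ℂ) * ζ ^ (i + 1) := by
    rw [hev ζ hζ, hc, Finset.sum_range_succ', pow_zero, mul_one, add_comm]
  set Q : ℤ[X] := ∑ i ∈ Finset.range c, C (F'.coeff (i + 1) + F'.coeff (c - i)) * X ^ (i + 1)
    with hQ
  have hzero : Q = 0 := by
    have hQd : Q.natDegree < K :=
      lt_of_le_of_lt (natDegree_sum_le_of_forall_le _ _ fun i hi =>
        (natDegree_C_mul_X_pow_le _ _).trans (show i + 1 ≤ c by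
          have := Finset.mem_range.1 hi; omega)) (by omega)
    have hQ0 : aeval ζ Q = 0 := by
      have hc' : ∀ i ∈ Finset.range c, conj (ζ ^ (i + 1)) = -(ζ ^ (c - i)) := by
        intro i hi
        have hi' := Finset.mem_range.1 hi
        rw [← Complex.inv_eq_conj (by rw [norm_pow, hζ.norm'_eq_one (NeZero.ne _), one_pow])]
        refine inv_eq_of_mul_eq_one_right ?_
        rw [mul_neg, ← pow_add, show i + 1 + (c - i) = K by omega, hneg ζ hζ, neg_neg]
      have hcj := hreal
      rw [hval, map_add, map_intCast, map_sum, add_right_inj,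
        Finset.sum_congr rfl fun i hi => by rw [map_mul, map_intCast, hc' i hi]] at hcj
      have hrefl : ∑ i ∈ Finset.range c, (F'.coeff (i + 1) : ℂ) * ζ ^ (c - i) =
          ∑ i ∈ Finset.range c, (F'.coeff (c - i) : ℂ) * ζ ^ (i + 1) := by
        rw [← Finset.sum_range_reflect]
        refine Finset.sum_congr rfl fun i hi => ?_
        have hi' := Finset.mem_range.1 hi
        rw [show c - 1 - i + 1 = c - i by omega, show c - (c - 1 - i) = i + 1 by omega]
      simp only [mul_neg, Finset.sum_neg_distrib, hrefl] at hcj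
      simp only [hQ, map_sum, map_mul, map_pow, aeval_X, eq_intCast, map_intCast, map_add,
        add_mul, Finset.sum_add_distrib]
      rw [← hcj]
      ring
    by_contra hne
    have h := natDegree_le_of_dvd (minpoly.isIntegrallyClosed_dvd (hζ.isIntegral (NeZero.pos _)) hQ0) hne
    rw [← cyclotomic_eq_minpoly hζ (NeZero.pos _), natDegree_cyclotomic, htot] at h
    omega
  have hcoef : ∀ i < c, F'.coeff (i + 1) + F'.coeff (c - i) = 0 := by
    intro i hi
    have h := congrArg (fun P : ℤ[X] => P.coeff (i + 1)) hzero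
    simp only [hQ, finsetSum_coeff, coeff_C_mul_X_pow, coeff_zero] at h
    rw [Finset.sum_eq_single i (fun b _ hb => if_neg (by omega))
      (fun h => absurd (Finset.mem_range.2 hi) h), if_pos rfl] at h
    exact h
  have hS : ∑ i ∈ Finset.range c, F'.coeff (i + 1) = 0 := by
    have h1 : ∑ i ∈ Finset.range c, F'.coeff (c - i) = ∑ i ∈ Finset.range c, F'.coeff (i + 1) := by
      rw [← Finset.sum_range_reflect]
      refine Finset.sum_congr rfl fun i hi => ?_
      have hi' := Finset.mem_range.1 hi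
      rw [show c - (c - 1 - i) = i + 1 by omega]
    have h2 : ∑ i ∈ Finset.range c, (F'.coeff (i + 1) + F'.coeff (c - i)) = 0 :=
      Finset.sum_eq_zero fun i hi => hcoef i (Finset.mem_range.1 hi)
    rw [Finset.sum_add_distrib, h1] at h2
    omega
  have hS' : ∑ i ∈ Finset.range c, (F'.coeff (i + 1) : ℂ) = 0 := by exact_mod_cast hS
  rw [hval, add_sub_cancel_left,
    show ∑ i ∈ Finset.range c, (F'.coeff (i + 1) : ℂ) * ζ ^ (i + 1) =
      ∑ i ∈ Finset.range c, (F'.coeff (i + 1) : ℂ) * (ζ ^ (i + 1) - 1) from by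
        simp only [mul_sub, mul_one, Finset.sum_sub_distrib, hS', sub_zero]]
  refine BlockBasic.memLocalIdeal_sum hM _ _ fun i _ => BlockBasic.memLocalIdeal_mul hM
    (intCast_mem (BlockBasic.locRing hM) _)
    (H82.memLocalIdeal_sub_one_of_pow_eq_one hM (k := m + 1) ?_)
  rw [← pow_mul, mul_comm, pow_mul, hζ.pow_eq_one, one_pow]

end Cfsg.Agent.H83
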