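import Cfsg.Agent.H83.Subsection
import Cfsg.Agent.H83.SectionSum
import Cfsg.Agent.H83.CycloLocal
import Cfsg.Agent.H35.Defect

/-!
The contributions of a major subsection `(y, b)`: the entry at `(χ, θ)` is `p ^ height χ` times a
local unit when `θ` has height zero, and `p ^ height χ` times an element of the maximal ideal
otherwise.
-/

set_option linter.style.haveILetI false

open scoped ComplexConjugate
open Polynomial

namespace Cfsg.Agent.H83

universe u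

variable {G : Type u} [Group G] [Fintype G] {p : ℕ} [hp : Fact p.Prime] {M : Ideal Cfsg.AlgInt}

open scoped Classical in
/-- An integral class function on the centralizer of a `p`-element spreads to a central element
supported on the section. -/
theorem exists_section_elt (hM : Cfsg.IsPModular p M) {y : G} {k : ℕ} (hy : orderOf y = p ^ k)
    [Fintype ↥(Subgroup.centralizer ({y} : Set G))]
    (H : ↥(Subgroup.centralizer ({y} : Set G)) → ℂ)
    (hH : Cfsg.IsClassFunction ↥(Subgroup.centralizer ({y} : Set G)) H)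
    (hHint : ∀ s, Cfsg.MemLocalRing M (H s)) :
    ∃ z : MonoidAlgebra ℂ G, BlockBasic.IsCentralElt z ∧ BlockBasic.IsIntElt M z ∧
      ∀ χ : Cfsg.IrrCharacter G, (χ : G → ℂ) 1 * BlockBasic.omega (χ : G → ℂ) z =
        ((Subgroup.centralizer ({y} : Set G)).index : ℂ) *
          ∑ s : ↥(Subgroup.centralizer ({y} : Set G)),
            if p ∣ orderOf s then 0 else (χ : G → ℂ) (y * (s : G)) * H s := by
  have hmem : ∀ (g x : G), x * BlockBasic.pPart (p := p) g * x⁻¹ = y →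
      x * BlockBasic.pReg (p := p) g * x⁻¹ ∈ Subgroup.centralizer ({y} : Set G) := by
    intro g x hx
    rw [Subgroup.mem_centralizer_singleton_iff, ← hx]
    have h := (BlockBasic.commute_pPart_pReg (p := p) g).eq
    calc x * BlockBasic.pReg (p := p) g * x⁻¹ * (x * BlockBasic.pPart (p := p) g * x⁻¹)
        = x * (BlockBasic.pReg (p := p) g * BlockBasic.pPart (p := p) g) * x⁻¹ := by group
      _ = x * (BlockBasic.pPart (p := p) g * BlockBasic.pReg (p := p) g) * x⁻¹ := by rw [h]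
      _ = x * BlockBasic.pPart (p := p) g * x⁻¹ * (x * BlockBasic.pReg (p := p) g * x⁻¹) := by group
  set f : G → ℂ := fun g => if h : ∃ x, x * BlockBasic.pPart (p := p) g * x⁻¹ = y then
    H ⟨_, hmem g h.choose h.choose_spec⟩ else 0 with hf
  have hkey : ∀ (g x : G) (hx : x * BlockBasic.pPart (p := p) g * x⁻¹ = y),
      f g = H ⟨_, hmem g x hx⟩ := by
    intro g x hx
    have hex : ∃ x, x * BlockBasic.pPart (p := p) g * x⁻¹ = y := ⟨x, hx⟩
    simp only [hf, dif_pos hex]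
    set x₀ := hex.choose
    have hx₀ : x₀ * BlockBasic.pPart (p := p) g * x₀⁻¹ = y := hex.choose_spec
    have hc : x₀ * x⁻¹ ∈ Subgroup.centralizer ({y} : Set G) := by
      rw [Subgroup.mem_centralizer_singleton_iff]
      conv_rhs => rw [← hx₀]
      conv_lhs => rw [← hx]
      group
    rw [show (⟨x₀ * BlockBasic.pReg (p := p) g * x₀⁻¹, hmem g x₀ hx₀⟩ :
        ↥(Subgroup.centralizer ({y} : Set G))) =
      ⟨x₀ * x⁻¹, hc⟩ * ⟨_, hmem g x hx⟩ * ⟨x₀ * x⁻¹, hc⟩⁻¹ from Subtype.ext (by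
        show _ = x₀ * x⁻¹ * (x * BlockBasic.pReg (p := p) g * x⁻¹) * (x₀ * x⁻¹)⁻¹
        group)]
    exact hH _ _
  have hpreg : ∀ g c : G, BlockBasic.pReg (p := p) (c * g * c⁻¹) =
      c * BlockBasic.pReg (p := p) g * c⁻¹ := by
    intro g c
    rw [BlockBasic.pReg, BlockBasic.pReg, BlockBasic.pPart_conj]
    group
  have hfc : Cfsg.IsClassFunction G f := by
    intro g c
    by_cases hex : ∃ x, x * BlockBasic.pPart (p := p) g * x⁻¹ = y
    · obtain ⟨x, hx⟩ := hex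
      have hx' : x * c⁻¹ * BlockBasic.pPart (p := p) (c * g * c⁻¹) * (x * c⁻¹)⁻¹ = y := by
        rw [BlockBasic.pPart_conj, ← hx]; group
      rw [hkey g x hx, hkey _ _ hx']
      congr 1
      refine Subtype.ext ?_
      show x * c⁻¹ * BlockBasic.pReg (p := p) (c * g * c⁻¹) * (x * c⁻¹)⁻¹ = _
      rw [hpreg]
      group
    · have hex' : ¬ ∃ x, x * BlockBasic.pPart (p := p) (c * g * c⁻¹) * x⁻¹ = y := by
        rintro ⟨x, hx⟩
        refine hex ⟨x * c, ?_⟩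
        rw [← hx, BlockBasic.pPart_conj]
        group
      simp only [hf, dif_neg hex, dif_neg hex']
  refine ⟨BlockBasic.ofFun f, BlockBasic.isCentralElt_ofFun hfc, fun g => ?_, fun χ => ?_⟩
  · rw [BlockBasic.coeff_ofFun]
    simp only [hf]
    split_ifs
    · exact hHint _
    · exact BlockBasic.memLocalRing_natCast hM 0 |> fun h => by simpa using h
  rw [BlockBasic.omega, mul_div_cancel₀ _ (CharBasic.IsIrr.one_ne_zero χ.2), BlockBasic.chiLin]
  simp only [BlockBasic.coeff_ofFun]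
  rw [← Finset.sum_filter_add_sum_filter_not Finset.univ
    (fun g : G => IsConj y (BlockBasic.pPart (p := p) g)) fun g => f g * (χ : G → ℂ) g]
  rw [Finset.sum_eq_zero (s := Finset.univ.filter fun g : G => ¬ IsConj y _) fun g hg => ?_, add_zero,
    sum_section (fun g => f g * (χ : G → ℂ) g) (fun g c => by
      simp only [hfc g c, CharBasic.IsIrr.isClassFunction χ.2 g c]) hy]
  · congr 1
    refine Finset.sum_congr rfl fun s _ => ?_
    split_ifs with hs
    · rfl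
    have hpp : BlockBasic.pPart (p := p) (y * (s : G)) = y := BlockBasic.pPart_mul_of
      (Subgroup.mem_centralizer_singleton_iff.1 s.2).symm ⟨k, hy⟩ (by rwa [Subgroup.orderOf_coe])
    rw [hkey (y * (s : G)) 1 (by rw [hpp]; group), mul_comm]
    congr 1
    congr 1
    refine Subtype.ext ?_
    show 1 * BlockBasic.pReg (p := p) (y * (s : G)) * 1⁻¹ = (s : G)
    rw [BlockBasic.pReg, hpp]
    group
  · have h := (Finset.mem_filter.1 hg).2
    simp only [hf]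
    rw [dif_neg fun ⟨x, hx⟩ => h ((isConj_iff.2 ⟨x, hx⟩).symm), zero_mul]

open scoped Classical in
theorem contribSum_symm (hM : Cfsg.IsPModular p M) {C : Subgroup G} [Fintype C]
    {b : Set (Cfsg.IrrCharacter C)} (hb : Cfsg.IsPBlock M b) (χ χ' : Cfsg.IrrCharacter G) :
    contribSum p b χ χ' = contribSum p b χ' χ := by
  simp only [contribSum, contribCoeff]
  rw [Finset.sum_comm]
  refine Finset.sum_congr rfl fun ψ hψ => Finset.sum_congr rfl fun ψ' hψ' => ?_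
  rw [entry_symm hM hb (Finset.mem_filter.1 hψ').2 (Finset.mem_filter.1 hψ).2]
  ring

open scoped Classical in
/-- As `exists_major_contrib`, with the action of `y` on the characters of its centralizer. -/
theorem exists_major_contrib_action (hM : Cfsg.IsPModular p M) {B : Set (Cfsg.IrrCharacter G)}
    {y : G} {n : ℕ} (hy : orderOf y = p ^ n)
    [Fintype ↥(Subgroup.centralizer ({y} : Set G))]
    {b : Set (Cfsg.IrrCharacter ↥(Subgroup.centralizer ({y} : Set G)))}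
    (hind : Cfsg.IsInducedBlock M (Subgroup.centralizer ({y} : Set G)) b B)
    (hbd : Cfsg.blockDefect p b = Cfsg.blockDefect p B) :
    ∃ (ζ : ℂ) (e : Cfsg.IrrCharacter ↥(Subgroup.centralizer ({y} : Set G)) → ℕ),
      IsPrimitiveRoot ζ (p ^ n) ∧
      (∀ (ψ : Cfsg.IrrCharacter ↥(Subgroup.centralizer ({y} : Set G))) (hyC : y ∈ Subgroup.centralizer ({y} : Set G))
        (c : ↥(Subgroup.centralizer ({y} : Set G))),
        (ψ : ↥(Subgroup.centralizer ({y} : Set G)) → ℂ) (⟨y, hyC⟩ * c) =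
          ζ ^ e ψ * (ψ : ↥(Subgroup.centralizer ({y} : Set G)) → ℂ) c) ∧
      (∀ κ ∈ b, ∀ κ' ∈ b, ∑ χ ∈ Finset.univ.filter (fun χ : Cfsg.IrrCharacter G => χ ∈ B),
          aeval ζ (colPoly p b e χ κ) * conj (aeval ζ (colPoly p b e χ κ')) =
        (p : ℂ) ^ Cfsg.blockDefect p b * (entry p b κ κ' : ℂ)) ∧
      (∀ η : ℂ, η ^ p ^ n = 1 → ∀ χ χ', aeval η (contribPoly p (p ^ n) b e χ' χ) =
        conj (aeval η (contribPoly p (p ^ n) b e χ χ'))) ∧
      (∀ η : ℂ, IsPrimitiveRoot η (p ^ n) →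
        (∀ χ, ∑ χ' ∈ Finset.univ.filter (fun χ : Cfsg.IrrCharacter G => χ ∈ B),
            ‖aeval η (contribPoly p (p ^ n) b e χ χ')‖ ^ 2 =
          (p : ℝ) ^ Cfsg.blockDefect p B * (aeval η (contribPoly p (p ^ n) b e χ χ)).re) ∧
        (∑ χ ∈ Finset.univ.filter (fun χ : Cfsg.IrrCharacter G => χ ∈ B),
            (aeval η (contribPoly p (p ^ n) b e χ χ)).re =
          (p : ℝ) ^ Cfsg.blockDefect p B * (Cfsg.blockRank p b : ℝ)) ∧
        ∀ χ, 0 ≤ (aeval η (contribPoly p (p ^ n) b e χ χ)).re) ∧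
      ∀ χ ∈ B, ∀ ψ ∈ B, ∃ H : ℤ[X],
        (∀ η : ℂ, IsPrimitiveRoot η (p ^ n) → aeval η (contribPoly p (p ^ n) b e χ ψ) =
          (p : ℂ) ^ Cfsg.blockHeight p B (χ : G → ℂ) * aeval η H) ∧
        (Cfsg.MemLocalIdeal M (aeval ζ H) ↔ 0 < Cfsg.blockHeight p B (ψ : G → ℂ)) := by
  obtain ⟨ζ, e, hζ, hact, hval, hcol, hsymm, hproj, htrace, hcongr, hT⟩ :=
    exists_contrib_full_action hM hy _ rfl hind
  haveI : NeZero (p ^ n) := ⟨pow_ne_zero _ hp.out.ne_zero⟩
  refine ⟨ζ, e, hζ, hact, hcol, hsymm, fun η hη => hbd ▸ contrib_conjugates hζ hη _ hsymm hproj htrace, ?_⟩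
  have hB := hind.2.1
  set bf := Finset.univ.filter (fun ψ : Cfsg.IrrCharacter ↥(Subgroup.centralizer ({y} : Set G)) => ψ ∈ b)
  set P : Cfsg.IrrCharacter G → Cfsg.IrrCharacter G → ℂ := fun χ ψ =>
    aeval ζ (contribPoly p (p ^ n) b e χ ψ) with hP
  have hint : ∀ (ψ : Cfsg.IrrCharacter G) (s : ↥(Subgroup.centralizer ({y} : Set G))), Cfsg.MemLocalRing M
      (conj (∑ ψ' ∈ bf, (mult ψ ψ' : ℂ) * ζ ^ e ψ' * ((ψ' : Cfsg.IrrCharacter ↥(Subgroup.centralizer ({y} : Set G))) : ↥(Subgroup.centralizer ({y} : Set G)) → ℂ) s)) := by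
    intro ψ s
    refine BlockBasic.memLocalRing_of_isIntegral hM ?_
    refine IsIntegral.map (starRingEnd ℂ).toIntAlgHom (IsIntegral.sum _ fun ψ' _ => ?_)
    exact ((isIntegral_algebraMap (R := ℤ) (x := (mult ψ ψ' : ℤ))).mul
      ((hζ.isIntegral (NeZero.pos _)).pow _)).mul
      (BlockBasic.isIntegral_apply ψ' s) |> fun h => by
        simpa using h
  have hclass : ∀ ψ : Cfsg.IrrCharacter G, Cfsg.IsClassFunction ↥(Subgroup.centralizer ({y} : Set G))
      (fun s => conj (∑ ψ' ∈ bf, (mult ψ ψ' : ℂ) * ζ ^ e ψ' * ((ψ' : Cfsg.IrrCharacter ↥(Subgroup.centralizer ({y} : Set G))) : ↥(Subgroup.centralizer ({y} : Set G)) → ℂ) s)) := by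
    intro ψ s c
    simp only
    congr 1
    exact Finset.sum_congr rfl fun ψ' _ => by rw [CharBasic.IsIrr.isClassFunction ψ'.2 s c]
  choose z hzc hzi hz using fun ψ => exists_section_elt hM hy _ (hclass ψ) (hint ψ)
  set G' := Nat.card G / p ^ (Nat.card G).factorization p with hG'
  have hG'eq : p ^ (Nat.card G).factorization p * G' = Nat.card G :=
    Nat.mul_div_cancel' (Nat.ordProj_dvd _ _)
  have hG'p : ¬ p ∣ G' := Nat.not_dvd_ordCompl hp.out Nat.card_pos.ne'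
  have hG'0 : (G' : ℂ) ≠ 0 := Nat.cast_ne_zero.2 fun h => hG'p (h ▸ dvd_zero p)
  set w : Cfsg.IrrCharacter G → Cfsg.IrrCharacter G → ℂ := fun χ ψ =>
    ((Cfsg.charDegree (χ : G → ℂ) / p ^ (Cfsg.charDegree (χ : G → ℂ)).factorization p : ℕ) : ℂ) *
      (G' : ℂ)⁻¹ * BlockBasic.omega (χ : G → ℂ) (z ψ) with hw
  have hu : ∀ χ : Cfsg.IrrCharacter G,
      ¬ p ∣ Cfsg.charDegree (χ : G → ℂ) / p ^ (Cfsg.charDegree (χ : G → ℂ)).factorization p :=
    fun χ => Nat.not_dvd_ordCompl hp.out (BlockBasic.charDegree_pos χ).ne'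
  have hom : ∀ χ ψ : Cfsg.IrrCharacter G,
      Cfsg.MemLocalRing M (BlockBasic.omega (χ : G → ℂ) (z ψ)) :=
    fun χ ψ => BlockBasic.memLocalRing_omega hM χ.2 (hzc ψ) (hzi ψ)
  have hwmem : ∀ χ ψ, Cfsg.MemLocalRing M (w χ ψ) := fun χ ψ =>
    BlockBasic.memLocalRing_mul hM (BlockBasic.memLocalRing_mul hM
      (BlockBasic.memLocalRing_natCast hM _) (BlockBasic.memLocalRing_natCast_inv hM hG'p)) (hom χ ψ)
  have hwiff : ∀ χ ψ, Cfsg.MemLocalIdeal M (w χ ψ) ↔
      Cfsg.MemLocalIdeal M (BlockBasic.omega (χ : G → ℂ) (z ψ)) := by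
    intro χ ψ
    simp only [hw]
    rw [BlockBasic.memLocalIdeal_mul_iff hM (BlockBasic.memLocalRing_mul hM
      (BlockBasic.memLocalRing_natCast hM _) (BlockBasic.memLocalRing_natCast_inv hM hG'p)) (hom χ ψ)]
    refine or_iff_right fun h => ?_
    have h' := BlockBasic.memLocalIdeal_mul hM (BlockBasic.memLocalRing_natCast hM G') h
    rw [mul_comm ((Cfsg.charDegree (χ : G → ℂ) / _ : ℕ) : ℂ), ← mul_assoc, mul_inv_cancel₀ hG'0,
      one_mul, BlockBasic.memLocalIdeal_natCast_iff hM] at h'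
    exact hu χ h'
  have hPw : ∀ χ ∈ B, ∀ ψ, P χ ψ = (p : ℂ) ^ Cfsg.blockHeight p B (χ : G → ℂ) * w χ ψ := by
    intro χ hχ ψ
    have hC0 : (Nat.card ↥(Subgroup.centralizer ({y} : Set G)) : ℂ) ≠ 0 := Nat.cast_ne_zero.2 Nat.card_pos.ne'
    have h1 : (Nat.card G : ℂ) * P χ ψ =
        (p : ℂ) ^ Cfsg.blockDefect p B * ((χ : G → ℂ) 1 * BlockBasic.omega (χ : G → ℂ) (z ψ)) := by
      rw [hz ψ χ, ← Subgroup.card_mul_index (Subgroup.centralizer ({y} : Set G)), Nat.cast_mul]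
      simp only [hP]
      rw [hval χ ψ, hbd, Finset.sum_filter]
      rw [Finset.sum_congr rfl fun s _ => (ite_not _ _ _)]
      field_simp
    have hdeg : ((χ : G → ℂ) 1) = (p : ℂ) ^ (minExp p B + Cfsg.blockHeight p B (χ : G → ℂ)) *
        ((Cfsg.charDegree (χ : G → ℂ) /
          p ^ (Cfsg.charDegree (χ : G → ℂ)).factorization p : ℕ) : ℂ) := by
      rw [BlockBasic.apply_one_eq_charDegree, ← factorization_eq hM hχ, ← Nat.cast_pow,
        ← Nat.cast_mul, Nat.mul_div_cancel' (Nat.ordProj_dvd _ _)]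
    rw [hdeg, ← hG'eq, ← defect_add_minExp hM hB] at h1
    push_cast at h1
    apply mul_left_cancel₀ (mul_ne_zero (pow_ne_zero (Cfsg.blockDefect p B + minExp p B)
      (Nat.cast_ne_zero.2 hp.out.ne_zero : (p : ℂ) ≠ 0)) hG'0)
    rw [h1]
    simp only [hw]
    field_simp
    ring
  obtain ⟨θ, hθ, hθ0⟩ := exists_height_zero hM hB
  have hunit : ∀ ψ ∈ B, Cfsg.blockHeight p B (ψ : G → ℂ) = 0 → ¬ Cfsg.MemLocalIdeal M (w ψ ψ) := by
    intro ψ hψ h0 h
    have h1 := hPw ψ hψ ψ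
    rw [h0, pow_zero, one_mul] at h1
    rw [← h1] at h
    have h2 := BlockBasic.memLocalIdeal_sub hM h (hcongr ψ ψ)
    rw [sub_sub_cancel] at h2
    exact hT ψ hψ h0 ψ hψ h0 ((BlockBasic.memLocalIdeal_intCast_iff hM _).1 h2)
  have hsame : ∀ χ ∈ B, ∀ χ' ∈ B, ∀ ψ, Cfsg.MemLocalIdeal M (w χ ψ) ↔ Cfsg.MemLocalIdeal M (w χ' ψ) := by
    intro χ hχ χ' hχ' ψ
    rw [hwiff, hwiff]
    have h := BlockBasic.omega_congr hM (CharBasic.IsIrr.isClassFunction χ.2)
      (CharBasic.IsIrr.isClassFunction χ'.2) (BlockBasic.isPBlock_sameBlock hM hB hχ hχ') (hzc ψ) (hzi ψ)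
    constructor
    · exact fun hh => by simpa using BlockBasic.memLocalIdeal_sub hM hh h
    · exact fun hh => by simpa using BlockBasic.memLocalIdeal_add hM hh h
  intro χ hχ ψ hψ
  obtain ⟨H, hH, hH'⟩ := exists_eq_pow_mul_of_local hM hζ _ _ (hwmem χ ψ) (hPw χ hχ ψ)
  refine ⟨H, hH', ?_⟩
  rw [hH, hsame χ hχ θ hθ ψ]
  constructor
  · intro h
    by_contra h0
    exact hunit ψ hψ (by omega) ((hsame θ hθ ψ hψ ψ).1 h)
  · intro hpos
    have h1 : Cfsg.MemLocalIdeal M (P ψ θ) := by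
      rw [hPw ψ hψ θ]
      obtain ⟨j, hj⟩ := Nat.exists_eq_succ_of_ne_zero hpos.ne'
      rw [hj, pow_succ', mul_assoc, mul_comm]
      exact BlockBasic.memLocalIdeal_mul hM (BlockBasic.memLocalRing_mul hM
        ((BlockBasic.locRing hM).pow_mem (BlockBasic.memLocalRing_natCast hM p) j) (hwmem ψ θ))
        ((BlockBasic.memLocalIdeal_natCast_iff hM p).2 dvd_rfl)
    have h2 := BlockBasic.memLocalIdeal_sub hM h1 (hcongr ψ θ)
    rw [sub_sub_cancel, contribSum_symm hM hind.1] at h2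
    have h3 := BlockBasic.memLocalIdeal_add hM (hcongr θ ψ) h2
    rw [sub_add_cancel] at h3
    have h4 := hPw θ hθ ψ
    rw [hθ0, pow_zero, one_mul] at h4
    rwa [← h4]

open scoped Classical in
/-- The contributions of a major subsection. -/
theorem exists_major_contrib (hM : Cfsg.IsPModular p M) {B : Set (Cfsg.IrrCharacter G)}
    {y : G} {n : ℕ} (hy : orderOf y = p ^ n)
    [Fintype ↥(Subgroup.centralizer ({y} : Set G))]
    {b : Set (Cfsg.IrrCharacter ↥(Subgroup.centralizer ({y} : Set G)))}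
    (hind : Cfsg.IsInducedBlock M (Subgroup.centralizer ({y} : Set G)) b B)
    (hbd : Cfsg.blockDefect p b = Cfsg.blockDefect p B) :
    ∃ (ζ : ℂ) (e : Cfsg.IrrCharacter ↥(Subgroup.centralizer ({y} : Set G)) → ℕ),
      IsPrimitiveRoot ζ (p ^ n) ∧
      (∀ κ ∈ b, ∀ κ' ∈ b, ∑ χ ∈ Finset.univ.filter (fun χ : Cfsg.IrrCharacter G => χ ∈ B),
          aeval ζ (colPoly p b e χ κ) * conj (aeval ζ (colPoly p b e χ κ')) =
        (p : ℂ) ^ Cfsg.blockDefect p b * (entry p b κ κ' : ℂ)) ∧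
      (∀ η : ℂ, η ^ p ^ n = 1 → ∀ χ χ', aeval η (contribPoly p (p ^ n) b e χ' χ) =
        conj (aeval η (contribPoly p (p ^ n) b e χ χ'))) ∧
      (∀ η : ℂ, IsPrimitiveRoot η (p ^ n) →
        (∀ χ, ∑ χ' ∈ Finset.univ.filter (fun χ : Cfsg.IrrCharacter G => χ ∈ B),
            ‖aeval η (contribPoly p (p ^ n) b e χ χ')‖ ^ 2 =
          (p : ℝ) ^ Cfsg.blockDefect p B * (aeval η (contribPoly p (p ^ n) b e χ χ)).re) ∧
        (∑ χ ∈ Finset.univ.filter (fun χ : Cfsg.IrrCharacter G => χ ∈ B),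
            (aeval η (contribPoly p (p ^ n) b e χ χ)).re =
          (p : ℝ) ^ Cfsg.blockDefect p B * (Cfsg.blockRank p b : ℝ)) ∧
        ∀ χ, 0 ≤ (aeval η (contribPoly p (p ^ n) b e χ χ)).re) ∧
      ∀ χ ∈ B, ∀ ψ ∈ B, ∃ H : ℤ[X],
        (∀ η : ℂ, IsPrimitiveRoot η (p ^ n) → aeval η (contribPoly p (p ^ n) b e χ ψ) =
          (p : ℂ) ^ Cfsg.blockHeight p B (χ : G → ℂ) * aeval η H) ∧
        (Cfsg.MemLocalIdeal M (aeval ζ H) ↔ 0 < Cfsg.blockHeight p B (ψ : G → ℂ)) := by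
  obtain ⟨ζ, e, hζ, -, h⟩ := exists_major_contrib_action hM hy hind hbd
  exact ⟨ζ, e, hζ, h⟩

open scoped Classical in
/-- For `p = 2` the diagonal contributions of a major subsection average to integers with known
divisibility. -/
theorem exists_diag_average_two {M : Ideal Cfsg.AlgInt} (hM : Cfsg.IsPModular 2 M)
    {B : Set (Cfsg.IrrCharacter G)} (hB : Cfsg.IsPBlock M B) {n : ℕ} {C : Subgroup G} [Fintype C]
    {b : Set (Cfsg.IrrCharacter C)} {e : Cfsg.IrrCharacter C → ℕ} {ζ : ℂ}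
    (hζ : IsPrimitiveRoot ζ (2 ^ n))
    (hsymm : ∀ η : ℂ, η ^ 2 ^ n = 1 → ∀ χ χ', aeval η (contribPoly 2 (2 ^ n) b e χ' χ) =
      conj (aeval η (contribPoly 2 (2 ^ n) b e χ χ')))
    (hpj : ∀ η : ℂ, IsPrimitiveRoot η (2 ^ n) → ∀ χ,
      ∑ χ' ∈ Finset.univ.filter (fun χ : Cfsg.IrrCharacter G => χ ∈ B),
          ‖aeval η (contribPoly 2 (2 ^ n) b e χ χ')‖ ^ 2 =
        (2 : ℝ) ^ Cfsg.blockDefect 2 B * (aeval η (contribPoly 2 (2 ^ n) b e χ χ)).re)
    (hpos : ∀ η : ℂ, IsPrimitiveRoot η (2 ^ n) → ∀ χ,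
      0 ≤ (aeval η (contribPoly 2 (2 ^ n) b e χ χ)).re)
    (hdiv : ∀ χ ∈ B, ∀ ψ ∈ B, ∃ H : ℤ[X],
        (∀ η : ℂ, IsPrimitiveRoot η (2 ^ n) → aeval η (contribPoly 2 (2 ^ n) b e χ ψ) =
          (2 : ℂ) ^ Cfsg.blockHeight 2 B (χ : G → ℂ) * aeval η H) ∧
        (Cfsg.MemLocalIdeal M (aeval ζ H) ↔ 0 < Cfsg.blockHeight 2 B (ψ : G → ℂ)))
    {χ : Cfsg.IrrCharacter G} (hχ : χ ∈ B) :
    ∃ a : ℤ, (∑ η ∈ primitiveRoots (2 ^ n) ℂ, (aeval η (contribPoly 2 (2 ^ n) b e χ χ)).re =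
        ((primitiveRoots (2 ^ n) ℂ).card : ℝ) * (a : ℝ)) ∧
      (2 : ℤ) ^ Cfsg.blockHeight 2 B (χ : G → ℂ) ≤ a ∧
      (Cfsg.blockHeight 2 B (χ : G → ℂ) = 0 → ¬ (2 : ℤ) ∣ a) ∧
      (0 < Cfsg.blockHeight 2 B (χ : G → ℂ) →
        (2 : ℤ) ^ (Cfsg.blockHeight 2 B (χ : G → ℂ) + 1) ∣ a) := by
  haveI := Fact.mk Nat.prime_two
  haveI : NeZero (2 ^ n) := ⟨pow_ne_zero _ two_ne_zero⟩
  set h := Cfsg.blockHeight 2 B (χ : G → ℂ)
  obtain ⟨H, hH, hHM⟩ := hdiv χ hχ χ hχ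
  have hP0 : aeval ζ (contribPoly 2 (2 ^ n) b e χ χ) ≠ 0 := by
    intro h0
    obtain ⟨θ, hθ, hθ0⟩ := exists_height_zero hM hB
    obtain ⟨H', hH', hH'M⟩ := hdiv χ hχ θ hθ
    have h1 := hpj ζ hζ χ
    rw [h0, Complex.zero_re, mul_zero,
      Finset.sum_eq_zero_iff_of_nonneg fun _ _ => sq_nonneg _] at h1
    have h2 := h1 θ (Finset.mem_filter.2 ⟨Finset.mem_univ _, hθ⟩)
    rw [sq_eq_zero_iff, norm_eq_zero, hH' ζ hζ, mul_eq_zero] at h2
    have h3 := h2.resolve_left (pow_ne_zero _ two_ne_zero)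
    rw [h3] at hH'M
    have := hH'M.1 (BlockBasic.memLocalIdeal_zero hM)
    omega
  have h2h : ∀ η : ℂ, IsPrimitiveRoot η (2 ^ n) →
      (aeval η (contribPoly 2 (2 ^ n) b e χ χ)).re = (2 : ℝ) ^ h * (aeval η H).re := by
    intro η hη
    rw [hH η hη]
    rw [show (2 : ℂ) ^ h = (((2 : ℝ) ^ h : ℝ) : ℂ) by push_cast; rfl, Complex.re_ofReal_mul]
  have hreal : ∀ η : ℂ, IsPrimitiveRoot η (2 ^ n) → conj (aeval η H) = aeval η H := by
    intro η hη
    have h1 := (hsymm η hη.pow_eq_one χ χ).symm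
    rw [hH η hη, map_mul, map_pow, map_ofNat] at h1
    exact mul_left_cancel₀ (pow_ne_zero _ two_ne_zero) h1
  have hHpos : ∀ η : ℂ, IsPrimitiveRoot η (2 ^ n) → 0 ≤ (aeval η H).re := fun η hη => by
    have h1 := hpos η hη χ
    rw [h2h η hη] at h1
    exact (mul_nonneg_iff_of_pos_left (pow_pos two_pos h)).1 h1
  have hH0 : aeval ζ H ≠ 0 := fun h0 => hP0 (by rw [hH ζ hζ, h0, mul_zero])
  obtain ⟨a, ha, haM⟩ := exists_average_two hM hζ H (hreal ζ hζ)
  have hcard : (0 : ℝ) < ((primitiveRoots (2 ^ n) ℂ).card : ℝ) := by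
    rw [Nat.cast_pos, Finset.card_pos]
    exact ⟨ζ, (mem_primitiveRoots (NeZero.pos _)).2 hζ⟩
  have ha1 : 1 ≤ a := by
    have h1 := (sum_re_ge hζ H hreal hHpos hH0).1
    rw [ha] at h1
    have h2 : (1 : ℝ) ≤ a := le_of_mul_le_mul_left (by simpa using h1) hcard
    exact_mod_cast h2
  have hiff : (2 : ℤ) ∣ a ↔ 0 < h := by
    rw [← hHM]
    rw [show (2 : ℤ) = ((2 : ℕ) : ℤ) from rfl, ← BlockBasic.memLocalIdeal_intCast_iff hM]
    constructor
    · exact fun h1 => by simpa using BlockBasic.memLocalIdeal_add hM haM h1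
    · exact fun h1 => by simpa using BlockBasic.memLocalIdeal_sub hM h1 haM
  refine ⟨2 ^ h * a, ?_, le_mul_of_one_le_right (pow_nonneg two_pos.le h) ha1, fun h0 => ?_, fun hp' => ?_⟩
  · rw [Finset.sum_congr rfl fun η hη => h2h η ((mem_primitiveRoots (NeZero.pos _)).1 hη),
      ← Finset.mul_sum, ha]
    push_cast
    ring
  · rw [h0, pow_zero, one_mul]
    exact fun hd => by have := hiff.1 hd; omega
  · rw [pow_succ]
    exact mul_dvd_mul_left _ (hiff.2 hp')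

/-- The defect of a block of the centralizer of a central element of a defect group. -/
theorem blockDefect_eq_of_major (hM : Cfsg.IsPModular p M) {B : Set (Cfsg.IrrCharacter G)}
    (hB : Cfsg.IsPBlock M B) {D : Subgroup G} (hD : Cfsg.IsDefectGroup p M B D) {z : G}
    (hzc : ∀ d ∈ D, d * z = z * d)
    {b : Set (Cfsg.IrrCharacter ↥(Subgroup.centralizer ({z} : Set G)))} (hb : Cfsg.IsPBlock M b)
    (hbD : Cfsg.IsDefectGroup p M b (D.subgroupOf (Subgroup.centralizer ({z} : Set G)))) :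
    Cfsg.blockDefect p b = Cfsg.blockDefect p B := by
  have h1 := H35.card_defectGroup hM hb hbD
  have hle : D ≤ Subgroup.centralizer ({z} : Set G) := fun x hx =>
    Subgroup.mem_centralizer_singleton_iff.2 (hzc x hx)
  rw [Nat.card_congr (Subgroup.subgroupOfEquivOfLe hle).toEquiv, H35.card_defectGroup hM hB hD] at h1
  exact (Nat.pow_right_injective hp.out.two_le h1).symm

end Cfsg.Agent.H83
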