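import Cfsg.Agent.H83.SimpleTrace
import Cfsg.Agent.H83.BlockAlgebra
import Cfsg.Agent.S4683
import Cfsg.Agent.H82.PairConj
import Cfsg.Agent.H54.CentralBlocks
import Mathlib.LinearAlgebra.Trace

/-!
An automorphism of a group acts on the space of functions on the regular elements of a block
with a non-negative integral trace: it permutes a basis.
-/

set_option autoImplicit false

open scoped ComplexConjugate

namespace Cfsg.Agent.H83.BlockPerm

open MonoidAlgebra BlockBasic CharBasic BlockAlgebra

universe u

variable {C : Type u} [Group C] [Fintype C] {p : ℕ} {M : Ideal Cfsg.AlgInt}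

theorem linear_eq_sum {K : Type*} [Field K] (φ : MonoidAlgebra K C →ₗ[K] K)
    (z : MonoidAlgebra K C) : φ z = ∑ g, z.coeff g * φ (single g 1) := by
  classical
  induction z using MonoidAlgebra.induction_linear with
  | zero => simp
  | add a b ha hb => simp [map_add, ha, hb, add_mul, Finset.sum_add_distrib]
  | single g r =>
    rw [Finset.sum_eq_single g (fun h _ hh => by simp [coeff_single, Ne.symm hh]) (by simp),
      show single g r = r • single g (1 : K) by simp, map_smul]
    simp [coeff_single]

theorem classInner_blockPart (b : Set (IrrCharacter C)) [DecidablePred (· ∈ b)] (h : C → ℂ)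
    (χ : IrrCharacter C) :
    classInner (blockPart b h) (χ : C → ℂ) =
      if χ ∈ b then classInner h (χ : C → ℂ) else 0 := by
  classical
  have hb : ∀ g, blockPart b h g =
      ∑ ψ : IrrCharacter C, (if ψ ∈ b then classInner h (ψ : C → ℂ) else 0) * (ψ : C → ℂ) g := by
    intro g
    rw [blockPart, Subsingleton.elim (Fintype.ofFinite C) ‹Fintype C›, finsum_mem_eq_sum_ite]
    exact Finset.sum_congr rfl fun ψ _ => by split_ifs <;> simp
  rw [classInner_def]
  simp only [hb, Finset.sum_mul]
  rw [Finset.sum_comm, Finset.mul_sum, Finset.sum_eq_single χ]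
  · have h1 := classInner_irrCharacter χ χ
    rw [classInner_def, if_pos rfl] at h1
    simp only [mul_assoc, ← Finset.mul_sum]
    rw [mul_left_comm, h1, mul_one]
  · intro ψ _ hψ
    have h1 := classInner_irrCharacter ψ χ
    rw [classInner_def, if_neg hψ] at h1
    simp only [mul_assoc, ← Finset.mul_sum]
    rw [mul_left_comm, h1, mul_zero]
  · simp

open scoped Classical in
theorem blockPart_blockPart (hM : IsPModular p M) {b b' : Set (IrrCharacter C)}
    (hb : IsPBlock M b) (hb' : IsPBlock M b') (h : C → ℂ) (g : C) :
    blockPart b (blockPart b' h) g = if b = b' then blockPart b h g else 0 := by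
  conv_lhs => rw [blockPart, Subsingleton.elim (Fintype.ofFinite C) ‹Fintype C›, finsum_mem_eq_sum_ite]
  simp only [classInner_blockPart]
  by_cases hbb : b = b'
  · subst hbb
    rw [if_pos rfl, blockPart, Subsingleton.elim (Fintype.ofFinite C) ‹Fintype C›, finsum_mem_eq_sum_ite]
    exact Finset.sum_congr rfl fun ψ _ => by split_ifs <;> simp
  · rw [if_neg hbb]
    refine Finset.sum_eq_zero fun ψ _ => ?_
    by_cases hψ : ψ ∈ b
    · rw [if_pos hψ, if_neg fun h' => hbb (isPBlock_eq_of_mem hM hb hb' hψ h'), zero_mul]
    · rw [if_neg hψ]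

theorem blockPart_image_irrComp (τ : C ≃* C) (b : Set (IrrCharacter C)) (h : C → ℂ) (g : C) :
    blockPart (irrComp τ '' b) (fun c => h (τ c)) g = blockPart b h (τ g) := by
  classical
  have hci : ∀ χ : IrrCharacter C, classInner (fun c => h (τ c)) (irrComp τ χ : C → ℂ) =
      classInner h (χ : C → ℂ) := by
    intro χ
    rw [classInner_def, classInner_def]
    congr 1
    exact Fintype.sum_equiv τ.toEquiv _ _ fun c => rfl
  simp only [blockPart]
  rw [finsum_mem_image (fun a _ a' _ haa => by
    rw [← irrComp_symm τ a, haa, irrComp_symm])]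
  refine finsum_mem_congr rfl fun χ _ => ?_
  rw [Subsingleton.elim (Fintype.ofFinite C) ‹Fintype C›, hci]
  rfl

/-- The trace of an automorphism on the functions on the regular elements of a block. -/
theorem exists_natCast [Fact p.Prime] (hM : IsPModular p M) (τ : C ≃* C)
    {b : Set (IrrCharacter C)} (hb : IsPBlock M b) :
    ∃ m : ℕ, (Nat.card C : ℂ)⁻¹ *
      ∑ u : C, (if p ∣ orderOf u then 0 else blockKernel b (τ u) u) = m := by
  classical
  haveI := isAlgClosed_residue hM
  have hk : (p : Residue hM) = 0 := Star.residue_p_eq_zero hM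
  obtain ⟨W⟩ := SimpleTrace.exists_model (k := Residue hM) (G := C)
  obtain ⟨π, hπ⟩ := W.exists_perm τ
  -- the block of each simple factor
  have hblock : ∀ i, ∃ b', IsPBlock M b' ∧
      ∀ z, W.tr i (red hM (blockElem b') * z) = W.tr i z := by
    intro i
    by_contra hcon
    push Not at hcon
    have h0 : ∀ b', IsPBlock M b' → ∀ z, W.tr i (red hM (blockElem b') * z) = 0 := by
      intro b' hb'
      refine (W.central_idem i ?_ fun z => ?_).resolve_right fun hh => ?_
      · rw [← red_mul hM (isIntElt_blockElem hM hb') (isIntElt_blockElem hM hb'), blockElem_idem]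
      · induction z using MonoidAlgebra.induction_linear with
        | zero => simp
        | add a a' ha ha' => rw [mul_add, add_mul, ha, ha']
        | single a r =>
          rw [show single a r = r • single a (1 : Residue hM) by simp, mul_smul_comm, smul_mul_assoc,
            ← red_single hM, ← red_mul hM (isIntElt_blockElem hM hb')
              (isIntElt_single hM a (locRing hM).one_mem),
            ← red_mul hM (isIntElt_single hM a (locRing hM).one_mem) (isIntElt_blockElem hM hb'),
            isCentralElt_comm (isCentralElt_blockElem b')]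
      · obtain ⟨z, hz⟩ := hcon b' hb'
        exact hz (hh z)
    haveI : Fintype {b' : Set (IrrCharacter C) // IsPBlock M b'} := Fintype.ofFinite _
    have hone : ∑ b' : {b' : Set (IrrCharacter C) // IsPBlock M b'}, red hM (blockElem b'.1) = 1 := by
      refine coeff_injective (Finsupp.ext fun g => ?_)
      rw [coeff_sum, Finsupp.finsetSum_apply]
      simp only [coeff_red, coeff_blockElem]
      rw [← res_sum hM _ fun b' _ => memLocalRing_blockCoeff hM b'.2 g,
        H54.CB.sum_blockCoeff_blocks hM, one_def, coeff_single, Finsupp.single_apply]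
      by_cases hg : g = 1
      · rw [if_pos hg, if_pos hg.symm, res_one]
      · rw [if_neg hg, if_neg (Ne.symm hg), res_zero]
    have hz0 : ∀ z, W.tr i z = 0 := fun z => by
      rw [← one_mul z, ← hone, Finset.sum_mul, map_sum]
      exact Finset.sum_eq_zero fun b' _ => h0 b'.1 b'.2 z
    have := W.tr_independent (a := fun l => if l = i then 1 else 0) (fun z => by simp [hz0]) i
    simp at this
  choose β hβ hβtr using hblock
  have huniq : ∀ i b', IsPBlock M b' → (∀ z, W.tr i (red hM (blockElem b') * z) = W.tr i z) →
      β i = b' := by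
    intro i b' hb' htr
    by_contra hne
    have hzero : red hM (blockElem (β i)) * red hM (blockElem b') = 0 := by
      rw [← red_mul hM (isIntElt_blockElem hM (hβ i)) (isIntElt_blockElem hM hb'), blockElem_mul,
        show β i ∩ b' = ∅ from Set.eq_empty_iff_forall_notMem.2 fun ψ hψ =>
          hne (isPBlock_eq_of_mem hM (hβ i) hb' hψ.1 hψ.2)]
      refine coeff_injective (Finsupp.ext fun g => ?_)
      simp [coeff_blockElem, blockCoeff, res_zero]
    have := W.tr_independent (a := fun l => if l = i then 1 else 0) (fun z => by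
      rw [Finset.sum_eq_single i (fun l _ hl => by simp [hl]) (by simp), if_pos rfl, one_mul,
        ← htr z, ← hβtr i (red hM (blockElem b') * z), ← mul_assoc, hzero, zero_mul, map_zero]) i
    simp at this
  have hβπ : ∀ i, β (π i) = irrComp τ '' β i := by
    intro i
    refine huniq _ _ (H82.isPBlock_image_irrComp τ (hβ i)) fun z => ?_
    have hσ : domCongr (Residue hM) (Residue hM) τ (red hM (blockElem (irrComp τ '' β i))) =
        red hM (blockElem (β i)) := by
      refine coeff_injective (Finsupp.ext fun g => ?_)
      rw [coeff_domCongr, coeff_red, coeff_red, coeff_blockElem, coeff_blockElem,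
        H82.blockCoeff_image_irrComp, MulEquiv.apply_symm_apply]
    rw [← hπ, ← hπ, map_mul, hσ, hβtr]
  -- lifts of the traces
  set f : Fin W.num → C → ℂ := fun i g => (Star.sect hM (W.tr i (single g 1)) : ℂ) with hf
  have hfc : ∀ i, IsClassFunction C (f i) := fun i g x => by
    show (Star.sect hM (W.tr i (single (x * g * x⁻¹) 1)) : ℂ) = _
    rw [W.tr_conj]
  have hfi : ∀ i g, MemLocalRing M (f i g) := fun i g => memLocalRing_coe hM _
  have hfr : ∀ i g, res hM (f i g) = W.tr i (single g 1) := fun i g => by
    rw [hf, ← toResidue_apply, Star.toResidue_sect]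
  have hfτ : ∀ i g, f i (τ g) = f (π i) g := fun i g => by
    simp only [hf]
    rw [← hπ, domCongr_single]
  set F : Fin W.num → C → ℂ := fun i => pRegularPart p (blockPart (β i) (f i)) with hF
  have hint : ∀ i (g : C), IsIntElt M (blockElem (β i) * single g 1) := fun i g =>
    (isIntElt_blockElem hM (hβ i)).mul hM (isIntElt_single hM g (locRing hM).one_mem)
  have hPl : ∀ i g, MemLocalRing M (blockPart (β i) (f i) g) := fun i g => by
    rw [Cores.blockPart_eq_chiLin _ (hfc i), chiLin]
    exact (locRing hM).sum_mem fun c _ => memLocalRing_mul hM (hint i g c) (hfi i c)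
  have hPr : ∀ i g, res hM (blockPart (β i) (f i) g) = W.tr i (single g 1) := fun i g => by
    rw [Cores.blockPart_eq_chiLin _ (hfc i), chiLin,
      res_sum hM _ fun c _ => memLocalRing_mul hM (hint i g c) (hfi i c)]
    simp only [res_mul hM (hint i g _) (hfi i _), hfr, ← coeff_red hM]
    rw [← linear_eq_sum (W.tr i), red_mul hM (isIntElt_blockElem hM (hβ i))
      (isIntElt_single hM g (locRing hM).one_mem), red_single, hβtr]
  have hFi : ∀ i g, MemLocalRing M (F i g) := fun i g => by
    by_cases hg : p ∣ orderOf g
    · rw [hF]; simp only [pRegularPart_eq_zero _ hg]; exact (locRing hM).zero_mem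
    · rw [hF]; simp only [pRegularPart_eq_self _ hg]; exact hPl i g
  have hind : LinearIndependent ℂ F := by
    refine linearIndependent_of_res hM hFi ?_
    rw [Fintype.linearIndependent_iff]
    intro a ha i
    refine W.tr_independent (a := a) (fun z => ?_) i
    have hreg : ∀ g, ∑ l, a l * W.tr l (single g 1) = 0 := by
      intro g
      have hg := not_dvd_orderOf_pReg (p := p) g
      have h1 := congrFun ha (pReg (p := p) g)
      simp only [Finset.sum_apply, Pi.smul_apply, smul_eq_mul, Pi.zero_apply, hF,
        pRegularPart_eq_self _ hg, hPr] at h1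
      simpa only [W.tr_pReg hk _ g] using h1
    simp only [linear_eq_sum (W.tr _) z, Finset.mul_sum]
    rw [Finset.sum_comm]
    refine Finset.sum_eq_zero fun g _ => ?_
    simp only [mul_left_comm (a _) (z.coeff g)]
    rw [← Finset.mul_sum, hreg, mul_zero]
  -- the space of class functions on the regular elements
  let V₀ : Submodule ℂ (C → ℂ) :=
    { carrier := {h | IsClassFunction C h ∧ ∀ g, p ∣ orderOf g → h g = 0}
      zero_mem' := ⟨fun _ _ => rfl, fun _ _ => rfl⟩
      add_mem' := fun ha hb => ⟨fun g x => by simp [Pi.add_apply, ha.1 g x, hb.1 g x],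
        fun g hg => by simp [ha.2 g hg, hb.2 g hg]⟩
      smul_mem' := fun r a ha => ⟨fun g x => by simp [ha.1 g x], fun g hg => by simp [ha.2 g hg]⟩ }
  have hclassP : ∀ (e : Set (IrrCharacter C)) (h : C → ℂ), IsClassFunction C (blockPart e h) := by
    intro e h g x
    simp only [blockPart]
    exact finsum_mem_congr rfl fun χ _ => by rw [IsIrr.isClassFunction χ.2 g x]
  have hVle : Submodule.span ℂ (Set.range F) ≤ V₀ := by
    refine Submodule.span_le.2 ?_
    rintro _ ⟨i, rfl⟩
    exact ⟨isClassFunction_pRegularPart (hclassP _ _), fun g hg => pRegularPart_eq_zero _ hg⟩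
  haveI : Finite (ConjClasses C) := Finite.of_surjective _ ConjClasses.mk_surjective
  haveI : Fintype {K : ConjClasses C // ¬ p ∣ orderOf K.out} := Fintype.ofFinite _
  have hrep : ∀ g : C, ¬ p ∣ orderOf g → ¬ p ∣ orderOf (ConjClasses.mk g).out := by
    intro g hg
    obtain ⟨c, hc⟩ := isConj_iff.1 (ConjClasses.mk_eq_mk_iff_isConj.1
      (Quotient.out_eq (ConjClasses.mk g)).symm)
    rw [← hc, show orderOf (c * g * c⁻¹) = orderOf g from MulEquiv.orderOf_eq (MulAut.conj c) g]
    exact hg
  have hcard : Fintype.card {K : ConjClasses C // ¬ p ∣ orderOf K.out} ≤ W.num := by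
    let Φ : (Fin W.num → Residue hM) →ₗ[Residue hM]
        ({K : ConjClasses C // ¬ p ∣ orderOf K.out} → Residue hM) :=
      Fintype.linearCombination (Residue hM) fun i K => W.tr i (single K.1.out 1)
    have hsurj : Function.Surjective Φ := by
      intro c
      obtain ⟨a, ha⟩ := W.exists_coeff_classFunction (p := p) hk
        (c := fun g => c ⟨ConjClasses.mk (pReg (p := p) g), hrep _ (not_dvd_orderOf_pReg g)⟩)
        (fun g x => by
          congr 2
          refine ConjClasses.mk_eq_mk_iff_isConj.2 (isConj_iff.2 ⟨x⁻¹, ?_⟩)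
          rw [show pReg (p := p) (x * g * x⁻¹) = x * pReg (p := p) g * x⁻¹ by
            rw [pReg, pReg, pPart_conj]; group]
          group)
        (fun g => by
          congr 2
          show _ = ConjClasses.mk ((pPart (p := p) (pReg (p := p) g))⁻¹ * pReg (p := p) g)
          rw [(pPart_eq_one_iff _).2 (not_dvd_orderOf_pReg (p := p) g), inv_one, one_mul])
      refine ⟨a, funext fun K => ?_⟩
      have h1 := ha K.1.out
      simp only [Φ, Fintype.linearCombination_apply, Finset.sum_apply, Pi.smul_apply, smul_eq_mul]
      rw [← h1]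
      congr 1
      refine Subtype.ext ?_
      show ConjClasses.mk (pReg (p := p) K.1.out) = K.1
      rw [pReg, (pPart_eq_one_iff _).2 K.2, inv_one, one_mul]
      exact Quotient.out_eq _
    have h1 := LinearMap.finrank_le_finrank_of_surjective hsurj
    simpa using h1
  have hVeq : Submodule.span ℂ (Set.range F) = V₀ := by
    refine Submodule.eq_of_le_of_finrank_le hVle ?_
    rw [finrank_span_eq_card hind, Fintype.card_fin]
    let R : V₀ →ₗ[ℂ] ({K : ConjClasses C // ¬ p ∣ orderOf K.out} → ℂ) :=
      { toFun := fun h K => h.1 K.1.out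
        map_add' := fun _ _ => rfl
        map_smul' := fun _ _ => rfl }
    have hinj : Function.Injective R := by
      intro h h' hh
      refine Subtype.ext (funext fun g => ?_)
      by_cases hg : p ∣ orderOf g
      · rw [h.2.2 g hg, h'.2.2 g hg]
      · obtain ⟨c, hc⟩ := isConj_iff.1 (ConjClasses.mk_eq_mk_iff_isConj.1
          (Quotient.out_eq (ConjClasses.mk g)).symm)
        have := congrFun hh ⟨ConjClasses.mk g, hrep g hg⟩
        simp only [R, LinearMap.coe_mk, AddHom.coe_mk, ← hc] at this
        rwa [h.2.1 g c, h'.2.1 g c] at this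
    refine le_trans ?_ hcard
    have h1 := LinearMap.finrank_le_finrank_of_injective hinj
    simpa using h1
  -- the operator
  let L : (C → ℂ) →ₗ[ℂ] (C → ℂ) :=
    { toFun := fun h u => if p ∣ orderOf u then 0 else (Nat.card C : ℂ)⁻¹ *
        ∑ c : C, (if p ∣ orderOf c then 0 else blockKernel b (τ u) c) * h c
      map_add' := fun h h' => by
        funext u
        by_cases hu : p ∣ orderOf u <;> simp [hu, mul_add, Finset.sum_add_distrib]
      map_smul' := fun r h => by
        funext u
        by_cases hu : p ∣ orderOf u <;> simp [hu, Finset.mul_sum, mul_left_comm] }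
  have hτreg : ∀ u : C, ¬ p ∣ orderOf u → ¬ p ∣ orderOf (τ u) := fun u hu => by
    rwa [τ.orderOf_eq]
  have hLP : ∀ h u, ¬ p ∣ orderOf u → L h u = blockPart b h (τ u) := fun h u hu => by
    rw [S4683.blockPart_regular hM hb h (hτreg u hu)]
    show (if p ∣ orderOf u then (0 : ℂ) else _) = _
    rw [if_neg hu]
  have hLV : ∀ h, L h ∈ Submodule.span ℂ (Set.range F) := by
    intro h
    rw [hVeq]
    refine ⟨fun g x => ?_, fun g hg => ?_⟩
    · have ho : orderOf (x * g * x⁻¹) = orderOf g := MulEquiv.orderOf_eq (MulAut.conj x) g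
      by_cases hg : p ∣ orderOf g
      · show (if _ then _ else _) = (if _ then _ else _)
        rw [ho, if_pos hg, if_pos hg]
      · rw [hLP h _ (ho ▸ hg), hLP h g hg, map_mul, map_mul, map_inv, hclassP b h]
    · show (if _ then _ else _) = (0 : ℂ)
      rw [if_pos hg]
  have hLF : ∀ i, L (F i) = if b = β i then F (π i) else 0 := by
    intro i
    funext u
    by_cases hu : p ∣ orderOf u
    · show (if _ then _ else _) = _
      rw [if_pos hu]
      split_ifs
      · exact (pRegularPart_eq_zero _ hu).symm
      · rfl
    rw [hLP _ _ hu]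
    have hsame : blockPart b (F i) (τ u) = blockPart b (blockPart (β i) (f i)) (τ u) := by
      rw [S4683.blockPart_regular hM hb _ (hτreg u hu), S4683.blockPart_regular hM hb _ (hτreg u hu)]
      congr 1
      refine Finset.sum_congr rfl fun c _ => ?_
      by_cases hc : p ∣ orderOf c
      · simp [hc]
      · rw [hF]; simp only [pRegularPart_eq_self _ hc]
    rw [hsame, blockPart_blockPart hM hb (hβ i)]
    split_ifs with hbi
    · rw [hF]; simp only [pRegularPart_eq_self _ hu]
      rw [hβπ, hbi, show f (π i) = fun c => f i (τ c) from funext fun c => (hfτ i c).symm,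
        blockPart_image_irrComp]
    · rfl
  refine ⟨(Finset.univ.filter fun i => b = β i ∧ π i = i).card, ?_⟩
  set V := Submodule.span ℂ (Set.range F)
  have htr1 := LinearMap.trace_restrict_eq_of_forall_mem V L hLV
  let Bs := Module.Basis.span hind
  have hBs : ∀ i, ((Bs i : V) : C → ℂ) = F i := fun i =>
    congrArg Subtype.val (Module.Basis.span_apply hind i)
  have htr2 : LinearMap.trace ℂ V (L.restrict fun x _ => hLV x) =
      ((Finset.univ.filter fun i => b = β i ∧ π i = i).card : ℂ) := by
    rw [LinearMap.trace_eq_matrix_trace ℂ Bs, Matrix.trace, Finset.card_filter, Nat.cast_sum]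
    refine Finset.sum_congr rfl fun i _ => ?_
    rw [Matrix.diag_apply, LinearMap.toMatrix_apply]
    by_cases hbi : b = β i
    · rw [show L.restrict (fun x _ => hLV x) (Bs i) = Bs (π i) from Subtype.ext (by
        rw [LinearMap.coe_restrict_apply, hBs, hBs, hLF, if_pos hbi]), Module.Basis.repr_self,
        Finsupp.single_apply]
      by_cases hπi : π i = i
      · rw [if_pos hπi, if_pos ⟨hbi, hπi⟩, Nat.cast_one]
      · rw [if_neg hπi, if_neg fun h => hπi h.2, Nat.cast_zero]
    · rw [show L.restrict (fun x _ => hLV x) (Bs i) = 0 from Subtype.ext (by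
        rw [LinearMap.coe_restrict_apply, hBs, hLF, if_neg hbi]; rfl), map_zero, if_neg fun h => hbi h.1]
      simp
  rw [← htr2, htr1, LinearMap.trace_eq_matrix_trace ℂ (Pi.basisFun ℂ C), Matrix.trace,
    Finset.mul_sum]
  refine Finset.sum_congr rfl fun u _ => ?_
  rw [Matrix.diag_apply, LinearMap.toMatrix_apply, Pi.basisFun_apply, Pi.basisFun_repr]
  show _ = (if p ∣ orderOf u then (0 : ℂ) else _)
  by_cases hu : p ∣ orderOf u
  · simp [hu]
  · rw [if_neg hu, if_neg hu, Finset.sum_eq_single u (fun c _ hc => by simp [hc]) (by simp),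
      if_neg hu]
    simp

end Cfsg.Agent.H83.BlockPerm
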