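import Cfsg.Agent.BlockBasic.Idem
import Cfsg.Agent.BlockBasic.Basic
import Cfsg.Agent.H82.BrauerMap

/-!
The Brauer homomorphism for a `p`-group acting on a finite group `K` with fixed points the image
of `ι : L →* K`, modulo the local ideal: multiplicativity, compatibility with central characters,
and nilpotence of integral central elements killed by all central characters.
-/

namespace Cfsg.Agent.H83

open Finset BlockBasic
open scoped ComplexConjugate

universe u v w

section Elt

variable {K : Type u} [Group K] {p : ℕ} {M : Ideal AlgInt}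

theorem memLocalIdeal_omega_of_coeff [Fintype K] (hM : IsPModular p M) {χ : K → ℂ}
    (hχ : IsIrrCharacter K χ) {z : MonoidAlgebra ℂ K} (hz : IsCentralElt z)
    (h : ∀ k, MemLocalIdeal M (z.coeff k)) : MemLocalIdeal M (omega χ z) := by
  haveI : Finite (ConjClasses K) := Finite.of_surjective _ ConjClasses.mk_surjective
  haveI : Fintype (ConjClasses K) := Fintype.ofFinite _
  rw [omega_eq_sum_classes (CharBasic.IsIrr.isClassFunction hχ) hz]
  refine memLocalIdeal_sum hM _ _ fun C _ => ?_
  rw [mul_comm]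
  exact memLocalIdeal_mul hM (memLocalRing_centralChar hM hχ _) (h _)

/-- An element killed modulo `M` by all central characters has a power with coefficients in `M`. -/
theorem exists_pow_coeff_mem [Fintype K] (hM : IsPModular p M) {z : MonoidAlgebra ℂ K}
    (hz : IsCentralElt z) (h : ∀ χ : IrrCharacter K, MemLocalIdeal M (omega (χ : K → ℂ) z)) :
    ∃ N : ℕ, ∀ k, MemLocalIdeal M ((z ^ N).coeff k) := by
  classical
  set ν := (Nat.card K).factorization p
  obtain ⟨m, hm, hK⟩ : ∃ m : ℕ, ¬ p ∣ m ∧ Nat.card K = p ^ ν * m :=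
    ⟨Nat.card K / p ^ ν, Nat.not_dvd_ordCompl hM.1 Nat.card_pos.ne',
      (Nat.ordProj_mul_ordCompl_eq_self (Nat.card K) p).symm⟩
  choose N r hr he using fun χ : IrrCharacter K => exists_pow_eq_natCast_mul hM (h χ)
  refine ⟨(ν + 1) * (∑ χ, N χ), fun k => ?_⟩
  set T := (ν + 1) * (∑ χ, N χ) with hT
  have key : ∀ χ : IrrCharacter K, ∃ s : ℂ, MemLocalRing M s ∧
      omega (χ : K → ℂ) z ^ T = (p : ℂ) ^ (ν + 1) * s := by
    intro χ
    have hle : (ν + 1) * N χ ≤ T :=
      Nat.mul_le_mul_left _ (Finset.single_le_sum (fun i _ => Nat.zero_le (N i)) (Finset.mem_univ χ))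
    obtain ⟨d, hd⟩ := Nat.le.dest hle
    refine ⟨(r χ) ^ (ν + 1) * omega (χ : K → ℂ) z ^ d, (locRing hM).mul_mem
      ((locRing hM).pow_mem (hr χ) _) ((locRing hM).pow_mem (MemLocalIdeal.memLocalRing (h χ)) _), ?_⟩
    rw [← hd, pow_add, mul_comm (ν + 1), pow_mul, he, mul_pow, mul_assoc]
  choose s hs hse using key
  have hzc : IsCentralElt (z ^ T) := hz.pow T
  rw [coeff_eq_sum_omega hzc, Finset.mul_sum]
  refine memLocalIdeal_sum hM _ _ fun χ _ => ?_
  rw [omega_pow χ.2 hz, hse]
  have hmC : (m : ℂ) ≠ 0 := Nat.cast_ne_zero.2 fun h0 => hm (h0 ▸ dvd_zero p)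
  have hpC : (p : ℂ) ≠ 0 := Nat.cast_ne_zero.2 hM.1.ne_zero
  rw [hK, Nat.cast_mul, Nat.cast_pow,
    show ((p : ℂ) ^ ν * (m : ℂ))⁻¹ *
        ((χ : K → ℂ) 1 * ((p : ℂ) ^ (ν + 1) * s χ) * conj ((χ : K → ℂ) k)) =
      ((m : ℂ)⁻¹ * ((χ : K → ℂ) 1 * s χ * conj ((χ : K → ℂ) k))) * (p : ℂ) by
    field_simp
    ring]
  refine memLocalIdeal_mul hM ?_ ((memLocalIdeal_natCast_iff hM p).2 dvd_rfl)
  refine (locRing hM).mul_mem (memLocalRing_natCast_inv hM hm) ((locRing hM).mul_mem
    ((locRing hM).mul_mem ?_ (hs χ))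
    (memLocalRing_of_isIntegral hM (isIntegral_conj_apply χ k)))
  exact memLocalRing_of_isIntegral hM (isIntegral_apply χ 1)

theorem coeff_mul_sum [Fintype K] (z w : MonoidAlgebra ℂ K) (y : K) :
    (z * w).coeff y = ∑ a : K, z.coeff a * w.coeff (a⁻¹ * y) := by
  classical
  induction z using MonoidAlgebra.induction_linear with
  | zero => simp
  | add a b ha hb =>
    rw [add_mul, MonoidAlgebra.coeff_add, Finsupp.add_apply, ha, hb, ← Finset.sum_add_distrib]
    simp [add_mul]
  | single g r =>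
    rw [MonoidAlgebra.coeff_single_mul_apply, Finset.sum_eq_single g]
    · simp [MonoidAlgebra.coeff_single]
    · intro b _ hb
      simp [MonoidAlgebra.coeff_single, Finsupp.single_apply, Ne.symm hb]
    · simp

end Elt

section Hom

variable {K : Type u} [Group K] [Fintype K] {L : Type v} [Group L] [Fintype L]
  {A : Type w} [Group A] {p : ℕ} [Fact p.Prime] {M : Ideal AlgInt}

/-- Invariance of the coefficients under an action by automorphisms. -/
def IsInv (φ : A →* MulAut K) (z : MonoidAlgebra ℂ K) : Prop :=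
  ∀ (a : A) (x : K), z.coeff (φ a x) = z.coeff x

/-- Truncation along `ι`. -/
noncomputable def resElt (ι : L →* K) (z : MonoidAlgebra ℂ K) : MonoidAlgebra ℂ L :=
  ofFun fun l => z.coeff (ι l)

omit [Fintype K] in
theorem coeff_resElt (ι : L →* K) (z : MonoidAlgebra ℂ K) (l : L) :
    (resElt ι z).coeff l = z.coeff (ι l) := coeff_ofFun _ _

omit [Fintype K] in
theorem isCentralElt_resElt (ι : L →* K) {z : MonoidAlgebra ℂ K} (hz : IsCentralElt z) :
    IsCentralElt (resElt ι z) := fun g h => by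
  simp only [coeff_resElt, map_mul, map_inv]
  exact hz _ _

omit [Fintype K] in
theorem isIntElt_resElt (ι : L →* K) {z : MonoidAlgebra ℂ K} (hz : IsIntElt M z) :
    IsIntElt M (resElt ι z) := fun l => by
  rw [coeff_resElt]
  exact hz _

theorem isInv_mul (φ : A →* MulAut K) {z w : MonoidAlgebra ℂ K} (hz : IsInv φ z) (hw : IsInv φ w) :
    IsInv φ (z * w) := by
  intro a x
  rw [coeff_mul_sum, coeff_mul_sum]
  refine (Fintype.sum_equiv (φ a).toEquiv _ _ fun y => ?_).symm
  show _ = z.coeff (φ a y) * w.coeff ((φ a y)⁻¹ * φ a x)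
  rw [hz a y, show (φ a y)⁻¹ * φ a x = φ a (y⁻¹ * x) by simp, hw]

variable (hM : IsPModular p M) (hA : IsPGroup p A) {φ : A →* MulAut K} {ι : L →* K}
  (hι : Function.Injective ι) (hfix : ∀ x, (∀ a, φ a x = x) ↔ x ∈ ι.range)

include hM hA hι hfix in
/-- An invariant sum over `K` is congruent to the sum over the fixed points. -/
theorem memLocalIdeal_sum_sub_sum_range {f : K → ℂ} (hf : ∀ x, MemLocalRing M (f x))
    (hinv : ∀ (a : A) (x : K), f (φ a x) = f x) :
    MemLocalIdeal M (∑ x, f x - ∑ l, f (ι l)) := by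
  classical
  let act : MulAction A K :=
    { smul := fun a x => φ a x
      one_smul := fun x => by show φ 1 x = x; rw [map_one]; rfl
      mul_smul := fun a b x => by show φ (a * b) x = φ a (φ b x); rw [map_mul]; rfl }
  let := act
  have h := H82.memLocalIdeal_sum_sub_sum_fixed (P := A) (X := K) hM hA hf hinv
  have h' : (∑ x with ∀ a : A, a • x = x, f x) = ∑ l, f (ι l) := by
    refine (Finset.sum_bij' (fun l _ => ι l) (fun x hx => ((hfix x).1 (Finset.mem_filter.1 hx).2).choose)
      ?_ ?_ ?_ ?_ ?_).symm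
    · exact fun l _ => Finset.mem_filter.2 ⟨Finset.mem_univ _, (hfix _).2 ⟨l, rfl⟩⟩
    · exact fun x _ => Finset.mem_univ _
    · intro l hl
      exact hι ((hfix (ι l)).1 ((hfix _).2 ⟨l, rfl⟩)).choose_spec
    · exact fun x hx => ((hfix x).1 (Finset.mem_filter.1 hx).2).choose_spec
    · exact fun l _ => rfl
  rwa [h'] at h

include hM hA hι hfix in
/-- The truncation is multiplicative modulo `M` on invariant elements. -/
theorem resElt_mul_congr {z w : MonoidAlgebra ℂ K} (hzi : IsIntElt M z) (hwi : IsIntElt M w)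
    (hz : IsInv φ z) (hw : IsInv φ w) (l : L) :
    MemLocalIdeal M ((resElt ι (z * w)).coeff l - (resElt ι z * resElt ι w).coeff l) := by
  rw [coeff_resElt, coeff_mul_sum, coeff_mul_sum]
  have h := memLocalIdeal_sum_sub_sum_range hM hA hι hfix
    (f := fun a => z.coeff a * w.coeff (a⁻¹ * ι l))
    (fun x => memLocalRing_mul hM (hzi _) (hwi _)) (fun a x => by
      have hl : φ a (ι l) = ι l := (hfix _).2 ⟨l, rfl⟩ a
      simp only [hz a x]
      congr 1
      rw [show (φ a x)⁻¹ * ι l = φ a (x⁻¹ * ι l) by rw [map_mul, map_inv, hl], hw])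
  refine (Eq.subst ?_ h)
  congr 1
  refine Finset.sum_congr rfl fun b _ => ?_
  simp only [coeff_resElt, map_mul, map_inv]

include hM hA hι hfix in
theorem omega_resElt_mul {η : L → ℂ} (hη : IsIrrCharacter L η) {z w : MonoidAlgebra ℂ K}
    (hzc : IsCentralElt z) (hwc : IsCentralElt w) (hzi : IsIntElt M z) (hwi : IsIntElt M w)
    (hz : IsInv φ z) (hw : IsInv φ w) :
    MemLocalIdeal M (omega η (resElt ι (z * w)) - omega η (resElt ι z) * omega η (resElt ι w)) := by
  rw [← omega_mul hη (isCentralElt_resElt ι hzc), ← omega_sub]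
  refine memLocalIdeal_omega_of_coeff hM hη ((isCentralElt_resElt ι (hzc.mul hwc)).sub
    ((isCentralElt_resElt ι hzc).mul (isCentralElt_resElt ι hwc))) fun l => ?_
  rw [MonoidAlgebra.coeff_sub, Finsupp.sub_apply]
  exact resElt_mul_congr hM hA hι hfix hzi hwi hz hw l

include hM hA hι hfix in
/-- Truncation preserves being killed by all central characters modulo `M`. -/
theorem memLocalIdeal_omega_resElt {η : L → ℂ} (hη : IsIrrCharacter L η) {z : MonoidAlgebra ℂ K}
    (hzc : IsCentralElt z) (hzi : IsIntElt M z) (hz : IsInv φ z)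
    (h : ∀ χ : IrrCharacter K, MemLocalIdeal M (omega (χ : K → ℂ) z)) :
    MemLocalIdeal M (omega η (resElt ι z)) := by
  obtain ⟨N, hN⟩ := exists_pow_coeff_mem hM hzc h
  have hpow : ∀ n : ℕ, IsInv φ (z ^ (n + 1)) ∧
      MemLocalIdeal M (omega η (resElt ι (z ^ (n + 1))) - omega η (resElt ι z) ^ (n + 1)) := by
    intro n
    induction n with
    | zero => simpa using ⟨hz, memLocalIdeal_zero hM⟩
    | succ n ih =>
      refine ⟨by rw [pow_succ]; exact isInv_mul φ ih.1 hz, ?_⟩
      have h1 := omega_resElt_mul hM hA hι hfix hη (hzc.pow (n + 1)) hzc (hzi.pow hM _) hzi ih.1 hz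
      have h2 := memLocalIdeal_mul hM
        (memLocalRing_omega hM hη (isCentralElt_resElt ι hzc) (isIntElt_resElt ι hzi)) ih.2
      rw [← pow_succ] at h1
      convert memLocalIdeal_add hM h1 h2 using 1
      ring
  have hN' : ∀ k, MemLocalIdeal M ((z ^ (N + 1)).coeff k) := by
    intro k
    rw [pow_succ, coeff_mul_sum]
    refine memLocalIdeal_sum hM _ _ fun a _ => ?_
    rw [mul_comm]
    exact memLocalIdeal_mul hM (hzi _) (hN a)
  have h1 : MemLocalIdeal M (omega η (resElt ι (z ^ (N + 1)))) :=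
    memLocalIdeal_omega_of_coeff hM hη (isCentralElt_resElt ι (hzc.pow _))
      fun l => by rw [coeff_resElt]; exact hN' _
  have h2 := memLocalIdeal_sub hM h1 (hpow N).2
  rw [sub_sub_cancel] at h2
  have hr : MemLocalRing M (omega η (resElt ι z)) :=
    memLocalRing_omega hM hη (isCentralElt_resElt ι hzc) (isIntElt_resElt ι hzi)
  have : ∀ n : ℕ, MemLocalIdeal M (omega η (resElt ι z) ^ n) →
      MemLocalIdeal M (omega η (resElt ι z)) := by
    intro n
    induction n with
    | zero => intro h0; exact absurd (by simpa using h0) (not_memLocalIdeal_one hM)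
    | succ n ih =>
      intro h0
      rw [pow_succ, memLocalIdeal_mul_iff hM ((locRing hM).pow_mem hr n) hr] at h0
      exact h0.elim ih id
  exact this _ h2

end Hom

end Cfsg.Agent.H83
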