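import Cfsg.Agent.H83.Decomp
import Cfsg.Agent.H35.Consequences

/-!
The sum of the squared degrees of a block: its exact power of `p` and the bound by the rank.
-/

set_option autoImplicit false
set_option linter.style.haveILetI false

open scoped ComplexConjugate

namespace Cfsg.Agent.H83.DegreeSquares

open MonoidAlgebra BlockBasic CharBasic

universe u

variable {G : Type u} [Group G] [Fintype G] {p : ℕ} [hp : Fact p.Prime] {M : Ideal Cfsg.AlgInt}

omit hp in
theorem apply_one_conj (χ : IrrCharacter G) : conj ((χ : G → ℂ) 1) = (χ : G → ℂ) 1 := by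
  rw [conj_apply_eq_inv, inv_one]

open scoped Classical in
theorem sum_degree_mul_eq_zero (hM : IsPModular p M) {B : Set (IrrCharacter G)}
    (hB : IsPBlock M B) {x : G} (hx : p ∣ orderOf x) :
    (∑ χ : IrrCharacter G, if χ ∈ B then (χ : G → ℂ) 1 * (χ : G → ℂ) x else 0) = 0 := by
  have h1 := conj_blockKernel B 1 x
  rw [blockKernel_eq_zero_of_regular_of_singular hM hB
    (by rw [orderOf_one, Nat.dvd_one]; exact hp.out.ne_one) hx, map_zero, blockKernel,
    finsum_mem_eq_sum_ite] at h1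
  refine Eq.trans (Finset.sum_congr rfl fun χ _ => ?_) h1.symm
  split_ifs
  · rw [apply_one_conj, mul_comm]
  · rfl

open scoped Classical in
theorem sum_value_mul_eq_zero (hM : IsPModular p M) {B : Set (IrrCharacter G)}
    (hB : IsPBlock M B) {h x : G} (hh : ¬ p ∣ orderOf h) (hx : p ∣ orderOf x) :
    (∑ χ : IrrCharacter G, if χ ∈ B then (χ : G → ℂ) h * (χ : G → ℂ) x else 0) = 0 := by
  have h1 := blockKernel_eq_zero_of_regular_of_singular hM hB hh (h := x⁻¹)
    (by rwa [orderOf_inv])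
  rw [blockKernel, finsum_mem_eq_sum_ite] at h1
  refine Eq.trans (Finset.sum_congr rfl fun χ _ => ?_) h1
  split_ifs
  · rw [conj_apply_eq_inv, inv_inv]
  · rfl

omit hp in
/-- A natural number that is the group order times a local number is divisible by `p ^ a`. -/
theorem pow_dvd_of_eq_card_mul [Fact p.Prime] (hM : IsPModular p M) {N : ℕ} {c : ℂ}
    (hc : MemLocalRing M c) (h : (N : ℂ) = (Nat.card G : ℂ) * c) :
    p ^ (Nat.card G).factorization p ∣ N := by
  have hp' : p.Prime := Fact.out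
  set a := (Nat.card G).factorization p
  set m := Nat.card G / p ^ a
  have hG : p ^ a * m = Nat.card G := Nat.ordProj_mul_ordCompl_eq_self _ p
  by_cases hN : N = 0
  · simp [hN]
  obtain ⟨b, N', hN', rfl⟩ := Nat.exists_eq_pow_mul_and_not_dvd hN p hp'.ne_one
  by_contra hdvd
  have hba : b < a := by
    by_contra hle
    exact hdvd (dvd_mul_of_dvd_left (pow_dvd_pow p (not_lt.1 hle)) _)
  obtain ⟨e, he⟩ := Nat.exists_eq_add_of_lt hba
  have h2 : (N' : ℂ) = (p : ℂ) * ((p : ℂ) ^ e * (m : ℂ) * c) := by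
    have hp0 : (p : ℂ) ^ b ≠ 0 := pow_ne_zero _ (Nat.cast_ne_zero.2 hp'.ne_zero)
    refine mul_left_cancel₀ hp0 ?_
    have h3 : ((p ^ b * N' : ℕ) : ℂ) = ((p ^ a * m : ℕ) : ℂ) * c := by rw [hG]; exact h
    push_cast at h3
    rw [h3, he]
    ring
  refine hN' ((memLocalIdeal_natCast_iff hM N').1 ?_)
  rw [h2, mul_comm]
  refine memLocalIdeal_mul hM (memLocalRing_mul hM (memLocalRing_mul hM ?_ ?_) hc)
    ((memLocalIdeal_natCast_iff hM p).2 dvd_rfl)
  · have := memLocalRing_natCast hM (p ^ e)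
    push_cast at this
    exact this
  · exact memLocalRing_natCast hM m

open scoped Classical in
/-- The rank bound. -/
theorem exists_terms (hM : IsPModular p M) {B : Set (IrrCharacter G)} (hB : IsPBlock M B)
    {g : ℕ} (hg : ∀ χ ∈ B, g ∣ charDegree (χ : G → ℂ)) :
    ∃ (ι : Type) (_ : Fintype ι) (s t : ι → ℕ), blockRank p B ≤ Fintype.card ι ∧
      (∀ i, 0 < s i ∧ g ∣ s i ∧ 0 < t i ∧ g ∣ t i ∧ p ^ (Nat.card G).factorization p ∣ t i) ∧
      (∑ χ : IrrCharacter G, if χ ∈ B then charDegree (χ : G → ℂ) ^ 2 else 0) = ∑ i, s i * t i := by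
  haveI := BlockAlgebra.isAlgClosed_residue hM
  obtain ⟨W⟩ := SimpleTrace.exists_model (k := Residue hM) (G := G)
  obtain ⟨ε, hε⟩ := Decomp.exists_family hM W
  obtain ⟨φ, hφc, hφ, hexp⟩ := Decomp.exists_dual hε
  choose d hd using fun (χ : IrrCharacter G) i => Decomp.exists_nat_chiLin (hε i).1 χ
  set I := Finset.univ.filter (fun i => ∃ χ ∈ B, d χ i ≠ 0) with hI
  have hone : ¬ p ∣ orderOf (1 : G) := by rw [orderOf_one, Nat.dvd_one]; exact hp.out.ne_one
  obtain ⟨m1, hm1⟩ := Decomp.exists_mult hε (one_mul (1 : MonoidAlgebra ℂ G)) (isIntElt_one hM)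
  have hφ1 : ∀ i, φ i 1 = (m1 i : ℂ) := fun i => by
    rw [← chiLin_one (φ i), hm1 _ (hφc i), Finset.sum_eq_single i (fun j _ hj => by
      rw [hφ, if_neg (Ne.symm hj), mul_zero]) (by simp), hφ, if_pos rfl, mul_one]
  have hs1 : ∀ i, 0 < m1 i := by
    intro i
    obtain ⟨hεe, hεi, -⟩ := hε i
    obtain ⟨m, hm⟩ := Decomp.exists_mult hε (η := 1 - ε i)
      (by rw [sub_mul, one_mul, mul_sub, mul_one, hεe, sub_self, sub_zero])
      ((isIntElt_one hM).sub hM hεi)
    have h := hm _ (hφc i)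
    rw [chiLin_sub, chiLin_one, hφ, if_pos rfl, hφ1, Finset.sum_eq_single i (fun j _ hj => by
      rw [hφ, if_neg (Ne.symm hj), mul_zero]) (by simp), hφ, if_pos rfl, mul_one,
      sub_eq_iff_eq_add, ← Nat.cast_one, ← Nat.cast_add, Nat.cast_inj] at h
    omega
  have hdeg : ∀ χ ∈ B, charDegree (χ : G → ℂ) = ∑ i ∈ I, m1 i * d χ i := by
    intro χ hχ
    have h := hexp _ (IsIrr.isClassFunction χ.2) 1 hone
    rw [apply_one_eq_charDegree] at h
    simp only [hd, hφ1] at h
    rw [← Finset.sum_subset (Finset.subset_univ I) (fun j _ hj => by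
      have : d χ j = 0 := by
        by_contra hne
        exact hj (Finset.mem_filter.2 ⟨Finset.mem_univ _, χ, hχ, hne⟩)
      simp [this])] at h
    have h' : (charDegree (χ : G → ℂ) : ℂ) = ((∑ i ∈ I, m1 i * d χ i : ℕ) : ℂ) := by
      rw [h]
      push_cast
      exact Finset.sum_congr rfl fun i _ => mul_comm _ _
    exact_mod_cast h'
  refine ⟨{i // i ∈ I.image Fin.val}, inferInstance, fun i => if h : (i : ℕ) < W.num then m1 ⟨i, h⟩ else 0,
    fun i => if h : (i : ℕ) < W.num then
      ∑ χ : IrrCharacter G, (if χ ∈ B then charDegree (χ : G → ℂ) * d χ ⟨i, h⟩ else 0) else 0,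
    ?_, ?_, ?_⟩
  · rw [Fintype.card_coe, Finset.card_image_of_injective _ Fin.val_injective, blockRank]
    refine le_trans (Submodule.finrank_mono (t := Submodule.span ℂ
      ((I.image fun i => pRegularPart p (φ i) : Finset (G → ℂ)) : Set (G → ℂ))) (Submodule.span_le.2 ?_))
      ((finrank_span_finset_le_card _).trans Finset.card_image_le)
    rintro _ ⟨χ, hχ, rfl⟩
    have hsum : pRegularPart p (χ : G → ℂ) = ∑ i ∈ I, (d χ i : ℂ) • pRegularPart p (φ i) := by
      funext g
      simp only [Finset.sum_apply, Pi.smul_apply, smul_eq_mul]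
      by_cases hgr : p ∣ orderOf g
      · simp [pRegularPart_eq_zero _ hgr]
      · simp only [pRegularPart_eq_self _ hgr]
        rw [hexp _ (IsIrr.isClassFunction χ.2) g hgr]
        simp only [hd]
        refine (Finset.sum_subset (Finset.subset_univ I) fun j _ hj => ?_).symm
        have : d χ j = 0 := by
          by_contra hne
          exact hj (Finset.mem_filter.2 ⟨Finset.mem_univ _, χ, hχ, hne⟩)
        simp [this]
    show pRegularPart p (χ : G → ℂ) ∈ Submodule.span ℂ _
    rw [hsum]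
    exact Submodule.sum_mem _ fun i hi => Submodule.smul_mem _ _ (Submodule.subset_span
      (Finset.mem_coe.2 (Finset.mem_image_of_mem _ hi)))
  · rintro ⟨i, hi⟩
    obtain ⟨j, hj, rfl⟩ := Finset.mem_image.1 hi
    simp only [dif_pos j.2, Fin.eta]
    obtain ⟨χ₀, hχ₀, hd0⟩ := (Finset.mem_filter.1 hj).2
    refine ⟨hs1 j, ?_, ?_, ?_, ?_⟩
    · -- the block part of the unit
      have hei := isIntElt_blockElem hM hB
      have hee := blockElem_idem B
      obtain ⟨me, hme⟩ := Decomp.exists_mult hε (η := 1 - blockElem B)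
        (by rw [sub_mul, one_mul, mul_sub, mul_one, hee, sub_self, sub_zero])
        ((isIntElt_one hM).sub hM hei)
      have hme0 : me j = 0 := by
        have h := hme _ (IsIrr.isClassFunction χ₀.2)
        have hz : chiLin (χ₀ : G → ℂ) (1 - blockElem B) = 0 := by
          rw [← mul_one (blockElem B), chiLin_sub, chiLin_blockElem_mul B χ₀ 1, if_pos hχ₀, sub_self]
        rw [hz] at h
        simp only [hd] at h
        have h0 : (∑ i, me i * d χ₀ i) = 0 := by exact_mod_cast h.symm
        rw [Finset.sum_eq_zero_iff] at h0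
        exact (mul_eq_zero.1 (h0 j (Finset.mem_univ _))).resolve_right hd0
      obtain ⟨c, hc⟩ : ∃ c : IrrCharacter G → ℤ, ∀ χ : IrrCharacter G, classInner (fun g => φ j (pReg (p := p) g)) (χ : G → ℂ) = c χ := by
        choose c hc using fun χ : IrrCharacter G =>
          CharInduce.IsGen.exists_int_coeff (Decomp.dual_isGeneralized hε hφc hφ j) (IsIrr.isCharacter χ.2)
        exact ⟨c, hc⟩
      have hgen := Decomp.dual_isGeneralized hε hφc hφ j
      have hψc := CharInduce.IsGen.isClassFunction hgen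
      have h1 : (m1 j : ℂ) = ((∑ χ : IrrCharacter G,
          if χ ∈ B then c χ * (charDegree (χ : G → ℂ) : ℤ) else 0 : ℤ) : ℂ) := by
        calc (m1 j : ℂ) = chiLin (φ j) (blockElem B) := by
              have h := hme _ (hφc j)
              rw [chiLin_sub, chiLin_one, hφ1, Finset.sum_eq_single j (fun l _ hl => by
                rw [hφ, if_neg (Ne.symm hl), mul_zero]) (by simp), hme0, Nat.cast_zero, zero_mul,
                sub_eq_zero] at h
              exact h
          _ = chiLin (fun g => φ j (pReg (p := p) g)) (blockElem B) := by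
              refine Decomp.chiLin_congr_regular (hM := hM) hee hei (hφc j) hψc fun g hgr => ?_
              show _ = φ j _
              rw [pReg, (pPart_eq_one_iff g).2 hgr, inv_one, one_mul]
          _ = ∑ χ : IrrCharacter G, (c χ : ℂ) * chiLin (χ : G → ℂ) (blockElem B * 1) := by
              rw [mul_one, chiLin]
              simp only [chiLin, Finset.mul_sum]
              rw [Finset.sum_comm]
              refine Finset.sum_congr rfl fun g _ => ?_
              have := congrFun (classFunction_expansion hψc) g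
              simp only [Finset.sum_apply, Pi.smul_apply, smul_eq_mul, hc] at this
              rw [this, Finset.mul_sum]
              exact Finset.sum_congr rfl fun χ _ => by ring
          _ = _ := by
              push_cast
              refine Finset.sum_congr rfl fun χ _ => ?_
              rw [chiLin_blockElem_mul B χ 1, chiLin_one, apply_one_eq_charDegree]
              split_ifs <;> simp
      have h1' : (m1 j : ℤ) = ∑ χ : IrrCharacter G,
          if χ ∈ B then c χ * (charDegree (χ : G → ℂ) : ℤ) else 0 := by exact_mod_cast h1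
      refine Int.natCast_dvd_natCast.1 (h1' ▸ Finset.dvd_sum fun χ _ => ?_)
      split_ifs with hχ
      · exact dvd_mul_of_dvd_right (Int.natCast_dvd_natCast.2 (hg χ hχ)) _
      · exact dvd_zero _
    · refine Finset.sum_pos' (fun χ _ => Nat.zero_le _) ⟨χ₀, Finset.mem_univ _, ?_⟩
      rw [if_pos hχ₀]
      exact Nat.mul_pos (charDegree_pos χ₀) (Nat.pos_of_ne_zero hd0)
    · refine Finset.dvd_sum fun χ _ => ?_
      split_ifs with hχ
      · exact (hg χ hχ).mul_right _
      · exact dvd_zero _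
    · refine pow_dvd_of_eq_card_mul hM (c := (blockElem B * ε j).coeff 1)
        (((isIntElt_blockElem hM hB).mul hM (hε j).2.1) 1) ?_
      rw [← Decomp.sum_degree_mul_chiLin]
      push_cast
      refine Finset.sum_congr rfl fun χ _ => ?_
      rw [chiLin_blockElem_mul B χ (ε j), hd, apply_one_eq_charDegree]
      split_ifs <;> simp
  · rw [Finset.sum_coe_sort (I.image Fin.val) (fun i => (if h : i < W.num then m1 ⟨i, h⟩ else 0) *
      (if h : i < W.num then
        ∑ χ : IrrCharacter G, (if χ ∈ B then charDegree (χ : G → ℂ) * d χ ⟨i, h⟩ else 0) else 0)),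
      Finset.sum_image fun _ _ _ _ h => Fin.val_injective h]
    simp only [Fin.is_lt, dite_true, Fin.eta, Finset.mul_sum]
    rw [Finset.sum_comm]
    refine Finset.sum_congr rfl fun χ _ => ?_
    split_ifs with hχ
    · rw [sq]
      conv_lhs => rw [mul_comm]; arg 1; rw [hdeg χ hχ]
      rw [Finset.sum_mul]
      exact Finset.sum_congr rfl fun i _ => by ring
    · simp

open scoped Classical in
theorem main (hM : IsPModular p M) {B : Set (IrrCharacter G)} (hB : IsPBlock M B) {a d g : ℕ}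
    (ha : (Nat.card G).factorization p = a) (hd : blockDefect p B = d)
    (hg1 : ∀ χ ∈ B, g ∣ charDegree (χ : G → ℂ))
    (hg2 : ∀ g' : ℕ, (∀ χ ∈ B, g' ∣ charDegree (χ : G → ℂ)) → g' ∣ g) :
    g.factorization p = a - d ∧ ∃ v : ℕ, 0 < v ∧ ¬ p ∣ v ∧ blockRank p B ≤ v ∧
      (∑ χ : IrrCharacter G, if χ ∈ B then charDegree (χ : G → ℂ) ^ 2 else 0) =
        p ^ (2 * a - d) * (g / p ^ (a - d)) ^ 2 * v := by
  have hp' : p.Prime := hp.out
  obtain ⟨g₀, hg₀⟩ := exists_isDefectClass hM hB
  have hinf := H35.sInf_degree_eq hM hB hg₀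
  have hdeq := H35.blockDefect_eq hM hB hg₀
  rw [hd] at hdeq
  set C := Subgroup.centralizer ({g₀} : Set G) with hC
  have hadd : C.index.factorization p + d = a := by
    rw [hdeq, ← ha, ← Subgroup.index_mul_card C,
      Nat.factorization_mul Subgroup.index_ne_zero_of_finite Nat.card_pos.ne', Finsupp.add_apply]
  set e := a - d with he
  have hCe : C.index.factorization p = e := by omega
  rw [hCe] at hinf
  have hpe : ∀ χ ∈ B, p ^ e ∣ charDegree (χ : G → ℂ) := fun χ hχ =>
    (hp'.pow_dvd_iff_le_factorization (charDegree_pos χ).ne').2 (hinf ▸ Nat.sInf_le ⟨χ, hχ, rfl⟩)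
  obtain ⟨χ₀, hχ₀⟩ := isPBlock_nonempty hM hB
  have hg0 : g ≠ 0 := fun h => (charDegree_pos χ₀).ne' (Nat.eq_zero_of_zero_dvd (h ▸ hg1 χ₀ hχ₀))
  have hgf : g.factorization p = e := by
    refine le_antisymm ?_ ((hp'.pow_dvd_iff_le_factorization hg0).1 (hg2 _ hpe))
    obtain ⟨χ, hχ, hmin⟩ := Nat.sInf_mem (Set.Nonempty.image
      (fun χ : IrrCharacter G => (charDegree (χ : G → ℂ)).factorization p) ⟨χ₀, hχ₀⟩)
    rw [← hinf, ← hmin]
    exact (Nat.factorization_le_iff_dvd hg0 (charDegree_pos χ).ne').2 (hg1 χ hχ) p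
  refine ⟨hgf, ?_⟩
  set u := g / p ^ e with hu
  have hgu : p ^ e * u = g := Nat.mul_div_cancel' (hg2 _ hpe)
  have hpu : ¬ p ∣ u := by
    rw [hu, ← hgf]
    exact Nat.not_dvd_ordCompl hp' hg0
  set S := ∑ χ : IrrCharacter G, if χ ∈ B then charDegree (χ : G → ℂ) ^ 2 else 0 with hS
  set w : IrrCharacter G → ℕ := fun χ => if χ ∈ B then charDegree (χ : G → ℂ) / g else 0 with hw
  have hwg : ∀ χ, χ ∈ B → g * w χ = charDegree (χ : G → ℂ) := fun χ hχ => by
    simp only [hw, if_pos hχ]
    exact Nat.mul_div_cancel' (hg1 χ hχ)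
  have hSw : S = g * g * ∑ χ, w χ * w χ := by
    rw [hS, Finset.mul_sum]
    refine Finset.sum_congr rfl fun χ _ => ?_
    split_ifs with hχ
    · rw [← hwg χ hχ]; ring
    · simp [hw, hχ]
  -- divisibility
  have hg0' : (g : ℂ) ≠ 0 := Nat.cast_ne_zero.2 hg0
  obtain ⟨kk, hkk⟩ := H83.degree_dvd_of_vanish (p := p) (fun χ => (w χ : ℤ)) (fun x _ hx => by
    refine mul_left_cancel₀ hg0' ?_
    rw [mul_zero, ← sum_degree_mul_eq_zero hM hB hx, Finset.mul_sum]
    refine Finset.sum_congr rfl fun χ _ => ?_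
    split_ifs with hχ
    · rw [apply_one_eq_charDegree, ← hwg χ hχ]
      push_cast
      ring
    · simp [hw, hχ])
  have hkk' : ((g * ∑ χ, w χ * w χ : ℕ) : ℂ) = (((p ^ a : ℕ) : ℤ) * kk : ℤ) := by
    rw [← ha]
    push_cast
    rw [← hkk, Finset.mul_sum]
    refine Finset.sum_congr rfl fun χ _ => ?_
    rw [apply_one_eq_charDegree]
    by_cases hχ : χ ∈ B
    · rw [← hwg χ hχ]; push_cast; ring
    · simp [hw, hχ]
  have hdvd : p ^ a ∣ g * ∑ χ, w χ * w χ := by
    refine Int.natCast_dvd_natCast.1 ⟨kk, ?_⟩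
    exact_mod_cast hkk'
  rw [← hgu, show a = e + d by omega, pow_add, mul_assoc] at hdvd
  obtain ⟨v, hv⟩ := ((hp'.coprime_iff_not_dvd.2 hpu).pow_left d).dvd_of_dvd_mul_left
    (Nat.dvd_of_mul_dvd_mul_left (pow_pos hp'.pos e) hdvd)
  have h2 : 2 * a - d = e + e + d := by omega
  have hSv : S = p ^ (2 * a - d) * u ^ 2 * v := by
    rw [hSw, ← hgu, hv, h2]; ring
  refine ⟨v, ?_, ?_, ?_, hSv⟩
  · rcases Nat.eq_zero_or_pos v with h | h
    · exfalso
      have hpos : 0 < S := Finset.sum_pos' (fun χ _ => Nat.zero_le _) ⟨χ₀, Finset.mem_univ _, by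
        rw [if_pos hχ₀]; exact pow_pos (charDegree_pos χ₀) 2⟩
      simp [hSv, h] at hpos
    · exact h
  · intro hpv
    have hreg : ¬ p ∣ orderOf g₀ := fun h =>
      hg₀.2.1 (by rw [blockCoeff_eq_zero_of_singular hM hB h]; exact memLocalIdeal_zero hM)
    set ω : IrrCharacter G → ℂ := fun χ => centralChar (χ : G → ℂ) g₀⁻¹ with hω
    set c : IrrCharacter G → ℂ := fun χ => if χ ∈ B then
      (ω χ - ω χ₀) * ((charDegree (χ : G → ℂ) / p ^ e : ℕ) : ℂ) else 0 with hc
    have hci : ∀ χ, MemLocalIdeal M (c χ) := by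
      intro χ
      simp only [hc]
      split_ifs with hχ
      · rw [mul_comm]
        exact memLocalIdeal_mul hM (memLocalRing_natCast hM _) (isPBlock_sameBlock hM hB hχ hχ₀ _)
      · exact memLocalIdeal_zero hM
    have hp0 : ((p ^ e : ℕ) : ℂ) ≠ 0 := Nat.cast_ne_zero.2 (pow_ne_zero _ hp'.ne_zero)
    have hcd : ∀ χ, χ ∈ B → ((p ^ e : ℕ) : ℂ) * c χ = (ω χ - ω χ₀) * (χ : G → ℂ) 1 := by
      intro χ hχ
      simp only [hc, if_pos hχ, apply_one_eq_charDegree]
      conv_rhs => rw [← Nat.mul_div_cancel' (hpe χ hχ)]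
      push_cast
      ring
    set idx : ℂ := ((Subgroup.centralizer ({g₀⁻¹} : Set G)).index : ℂ) with hidx
    have hωd : ∀ χ : IrrCharacter G, ω χ * (χ : G → ℂ) 1 = idx * (χ : G → ℂ) g₀⁻¹ := fun χ => by
      simp only [hω, centralChar]
      exact div_mul_cancel₀ _ (irr_one_ne_zero χ.2)
    have hsum : ∀ y : G, ((p ^ e : ℕ) : ℂ) * ∑ χ, c χ * (χ : G → ℂ) y =
        idx * (∑ χ : IrrCharacter G, if χ ∈ B then (χ : G → ℂ) g₀⁻¹ * (χ : G → ℂ) y else 0) -
          ω χ₀ * ∑ χ : IrrCharacter G, if χ ∈ B then (χ : G → ℂ) 1 * (χ : G → ℂ) y else 0 := by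
      intro y
      rw [Finset.mul_sum, Finset.mul_sum, Finset.mul_sum, ← Finset.sum_sub_distrib]
      refine Finset.sum_congr rfl fun χ _ => ?_
      split_ifs with hχ
      · rw [← mul_assoc, hcd χ hχ, sub_mul, sub_mul, hωd]; ring
      · simp [hc, hχ]
    obtain ⟨r, hr, hrs⟩ := exists_mul_of_vanish (p := p) c {z | MemLocalIdeal M z}
      (memLocalIdeal_zero hM) (fun x hx y hy => memLocalIdeal_add hM hx hy)
      (fun n x hx => by
        show MemLocalIdeal M (x * n)
        rw [mul_comm]; exact memLocalIdeal_mul hM (memLocalRing_natCast hM n) hx)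
      hci (fun x hx ⟨k, hk⟩ => by
        have hdx : p ∣ orderOf x := by
          rcases k with _ | k
          · exact absurd (orderOf_eq_one_iff.1 (by simpa using hk)) hx
          · exact hk ▸ dvd_pow_self p k.succ_ne_zero
        refine (mul_eq_zero.1 ?_).resolve_left hp0
        rw [hsum, sum_value_mul_eq_zero hM hB (by rwa [orderOf_inv]) hdx,
          sum_degree_mul_eq_zero hM hB hdx, mul_zero, mul_zero, sub_zero])
    have h1 := hsum 1
    rw [hrs, ha] at h1
    have hA : (∑ χ : IrrCharacter G, if χ ∈ B then (χ : G → ℂ) g₀⁻¹ * (χ : G → ℂ) 1 else 0) =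
        (Nat.card G : ℂ) * blockCoeff B g₀ := by
      rw [blockCoeff, ← mul_assoc, mul_inv_cancel₀ (Nat.cast_ne_zero.2 Nat.card_pos.ne'), one_mul,
        finsum_mem_eq_sum_ite]
      refine Finset.sum_congr rfl fun χ _ => ?_
      split_ifs
      · rw [conj_apply_eq_inv, mul_comm]
      · rfl
    have hSc : (∑ χ : IrrCharacter G, if χ ∈ B then (χ : G → ℂ) 1 * (χ : G → ℂ) 1 else 0) = (S : ℂ) := by
      rw [hS]
      push_cast
      refine Finset.sum_congr rfl fun χ _ => ?_
      split_ifs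
      · rw [apply_one_eq_charDegree, sq]
      · rfl
    rw [hA, hSc, hSv] at h1
    have hidxC : (Subgroup.centralizer ({g₀⁻¹} : Set G)).index = C.index := by
      congr 1
      ext x
      simp only [hC, Subgroup.mem_centralizer_singleton_iff]
      exact ⟨fun h => (Commute.inv_right_iff.mp (show Commute x g₀⁻¹ from h)).eq,
        fun h => (show Commute x g₀ from h).inv_right.eq⟩
    set N := C.index / p ^ e * (Nat.card G / p ^ a) with hN
    have hN' : (idx : ℂ) * (Nat.card G : ℂ) = ((p ^ (2 * a - d) * N : ℕ) : ℂ) := by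
      rw [hidx, hidxC, ← Nat.cast_mul, Nat.cast_inj]
      conv_lhs => rw [← Nat.ordProj_mul_ordCompl_eq_self C.index p,
        ← Nat.ordProj_mul_ordCompl_eq_self (Nat.card G) p, hCe, ha]
      rw [hN, show 2 * a - d = e + a by omega, pow_add]
      ring
    have hpN : ¬ p ∣ N := fun h => (hp'.dvd_mul.1 h).elim
      (hCe ▸ Nat.not_dvd_ordCompl hp' Subgroup.index_ne_zero_of_finite)
      (ha ▸ Nat.not_dvd_ordCompl hp' Nat.card_pos.ne')
    have hpp0 : ((p ^ (2 * a - d) : ℕ) : ℂ) ≠ 0 := Nat.cast_ne_zero.2 (pow_ne_zero _ hp'.ne_zero)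
    have hkey : (N : ℂ) * blockCoeff B g₀ = r + ω χ₀ * ((u ^ 2 * v : ℕ) : ℂ) := by
      refine mul_left_cancel₀ hpp0 ?_
      rw [← mul_assoc idx, hN', show ((p ^ e : ℕ) : ℂ) * (((p ^ a : ℕ) : ℂ) * r) =
        ((p ^ (2 * a - d) : ℕ) : ℂ) * r by
          rw [← mul_assoc, ← Nat.cast_mul, ← pow_add, show e + a = 2 * a - d by omega]] at h1
      push_cast at h1 ⊢
      linear_combination (-1 : ℂ) * h1
    have hid : MemLocalIdeal M ((N : ℂ) * blockCoeff B g₀) := by
      rw [hkey]
      refine memLocalIdeal_add hM hr (memLocalIdeal_mul hM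
        (memLocalRing_centralChar hM χ₀.2 _) ((memLocalIdeal_natCast_iff hM _).2 (hpv.mul_left _)))
    rcases (memLocalIdeal_mul_iff hM (memLocalRing_natCast hM N) hg₀.1).1 hid with h | h
    · exact hpN ((memLocalIdeal_natCast_iff hM N).1 h)
    · exact hg₀.2.1 h
  · obtain ⟨ι, _, s, t, hl, hst, hsum⟩ := exists_terms hM hB hg1
    refine le_trans hl ?_
    have hterm : ∀ i, p ^ (2 * a - d) * u ^ 2 ≤ s i * t i := by
      intro i
      obtain ⟨hs0, hsg, ht0, htg, htp⟩ := hst i
      rw [ha] at htp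
      have htu : p ^ a * u ∣ t i := ((hp'.coprime_iff_not_dvd.2 hpu).pow_left a).mul_dvd_of_dvd_of_dvd
        htp ((hgu ▸ dvd_mul_left u (p ^ e) : u ∣ g).trans htg)
      calc p ^ (2 * a - d) * u ^ 2 = g * (p ^ a * u) := by
            rw [← hgu, show 2 * a - d = e + a by omega]; ring
        _ ≤ s i * t i := Nat.mul_le_mul (Nat.le_of_dvd hs0 hsg) (Nat.le_of_dvd ht0 htu)
    have h := Finset.sum_le_sum fun i (_ : i ∈ Finset.univ) => hterm i
    rw [← hsum, ← hS, hSv, Finset.sum_const, Finset.card_univ, smul_eq_mul, mul_comm] at h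
    exact Nat.le_of_mul_le_mul_left h (by
      refine Nat.mul_pos (pow_pos hp'.pos _) (pow_pos (Nat.pos_of_ne_zero fun h0 => hpu (by rw [h0]; exact dvd_zero p)) 2))

end Cfsg.Agent.H83.DegreeSquares
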