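import Cfsg.Agent.H83.BlockPerm
import Cfsg.Agent.H83.SectionSum
import Cfsg.Agent.H81.Adams

/-!
The trace of a power map on the characters of a block is bounded below by the regular rank.
-/

set_option autoImplicit false

open scoped ComplexConjugate

namespace Cfsg.Agent.H83.SectionPerm

universe u

variable {G : Type u} [Group G] [Fintype G] {p : ℕ} [hp : Fact p.Prime] {M : Ideal Cfsg.AlgInt}

section Centralizer

variable {x : G} [Fintype ↥(Subgroup.centralizer ({x} : Set G))]

open scoped Classical in
/-- A value at the section of `x` is split along the blocks of the centralizer inducing `B`. -/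
theorem blockPart_split (hM : Cfsg.IsPModular p M) {k : ℕ} (hx : orderOf x = p ^ k)
    {B : Set (Cfsg.IrrCharacter G)} (hB : Cfsg.IsPBlock M B)
    {χ : Cfsg.IrrCharacter G} (hχ : χ ∈ B)
    {s : ↥(Subgroup.centralizer ({x} : Set G))} (hs : ¬ p ∣ orderOf s) :
    (χ : G → ℂ) (x * (s : G)) =
      ∑ b ∈ Finset.univ.filter (fun b : Set (Cfsg.IrrCharacter ↥(Subgroup.centralizer ({x} : Set G))) =>
          Cfsg.IsInducedBlock M (Subgroup.centralizer ({x} : Set G)) b B), Cfsg.blockPart b
        (fun c : ↥(Subgroup.centralizer ({x} : Set G)) => (χ : G → ℂ) (x * (c : G))) s := by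
  set T := Finset.univ.filter (fun b : Set (Cfsg.IrrCharacter ↥(Subgroup.centralizer ({x} : Set G))) =>
    Cfsg.IsInducedBlock M (Subgroup.centralizer ({x} : Set G)) b B) with hT
  set θ := fun c : ↥(Subgroup.centralizer ({x} : Set G)) => (χ : G → ℂ) (x * (c : G))
  have hexp := congrFun (CharBasic.classFunction_expansion (isClassFunction_shift (x := x) χ)) s
  simp only [Finset.sum_apply, Pi.smul_apply, smul_eq_mul] at hexp
  have hfull : θ s = ∑ b ∈ Finset.univ.filter
      (fun b : Set (Cfsg.IrrCharacter ↥(Subgroup.centralizer ({x} : Set G))) => Cfsg.IsPBlock M b),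
        Cfsg.blockPart b θ s := by
    rw [show θ s = _ from hexp]
    simp only [Cfsg.blockPart, Subsingleton.elim (Fintype.ofFinite _)
      ‹Fintype ↥(Subgroup.centralizer ({x} : Set G))›, BlockBasic.finsum_mem_eq_sum_ite]
    rw [Finset.sum_comm]
    refine Finset.sum_congr rfl fun ψ _ => ?_
    rw [Finset.sum_eq_single (Cfsg.blockOf M (ψ : _ → ℂ))]
    · rw [if_pos (BlockBasic.self_mem_blockOf hM ψ), Subsingleton.elim (Fintype.ofFinite _)
        ‹Fintype ↥(Subgroup.centralizer ({x} : Set G))›]
    · exact fun b hb hne => if_neg fun h =>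
        hne (BlockBasic.isPBlock_eq_blockOf hM (Finset.mem_filter.1 hb).2 h)
    · exact fun h => absurd (Finset.mem_filter.2 ⟨Finset.mem_univ _, BlockBasic.isPBlock_blockOf M ψ⟩) h
  show θ s = _
  rw [hfull]
  refine (Finset.sum_subset (fun b hb => Finset.mem_filter.2
    ⟨Finset.mem_univ _, (Finset.mem_filter.1 hb).2.1⟩) fun b hb hnb => ?_).symm
  exact Cores.second_main hM hx hB hχ (Finset.mem_filter.1 hb).2
    (fun h => hnb (Finset.mem_filter.2 ⟨Finset.mem_univ _, h⟩)) s hs

open scoped Classical in
/-- The contribution of a section moved to itself by a power map is a natural number. -/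
theorem exists_natCast (hM : Cfsg.IsPModular p M) {k : ℕ} (hx : orderOf x = p ^ k)
    {B : Set (Cfsg.IrrCharacter G)} (hB : Cfsg.IsPBlock M B)
    (τ : ↥(Subgroup.centralizer ({x} : Set G)) ≃* ↥(Subgroup.centralizer ({x} : Set G))) :
    ∃ m : ℕ, (∑ s : ↥(Subgroup.centralizer ({x} : Set G)), if p ∣ orderOf s then 0 else
      BlockBasic.blockKernel B (x * (τ s : G)) (x * (s : G))) = (m : ℂ) := by
  set T := Finset.univ.filter (fun b : Set (Cfsg.IrrCharacter ↥(Subgroup.centralizer ({x} : Set G))) => Cfsg.IsInducedBlock M (Subgroup.centralizer ({x} : Set G)) b B) with hT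
  choose m hm using fun b : T => BlockPerm.exists_natCast hM τ (b := b.1) (Finset.mem_filter.1 b.2).2.1
  refine ⟨Nat.card ↥(Subgroup.centralizer ({x} : Set G)) * ∑ b, m b, ?_⟩
  have hG : (Nat.card ↥(Subgroup.centralizer ({x} : Set G)) : ℂ) ≠ 0 := Nat.cast_ne_zero.2 Nat.card_pos.ne'
  rw [Nat.cast_mul, Nat.cast_sum, Finset.mul_sum]
  calc (∑ s : ↥(Subgroup.centralizer ({x} : Set G)), if p ∣ orderOf s then 0 else BlockBasic.blockKernel B (x * (τ s : G)) (x * (s : G)))
      = ∑ s : ↥(Subgroup.centralizer ({x} : Set G)), ∑ b : T, (if p ∣ orderOf s then 0 else BlockBasic.blockKernel b.1 (τ s) s) := by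
        refine Finset.sum_congr rfl fun s _ => ?_
        by_cases hs : p ∣ orderOf s
        · simp [hs]
        have hs' : ¬ p ∣ orderOf (τ s) := by rwa [τ.orderOf_eq]
        simp only [if_neg hs]
        rw [BlockBasic.blockKernel, BlockBasic.finsum_mem_eq_sum_ite,
          Finset.sum_coe_sort T (fun b => BlockBasic.blockKernel b (τ s) s)]
        calc (∑ χ : Cfsg.IrrCharacter G, if χ ∈ B then
              (χ : G → ℂ) (x * (τ s : G)) * conj ((χ : G → ℂ) (x * (s : G))) else 0)
            = ∑ χ : Cfsg.IrrCharacter G, ∑ b' ∈ T, ∑ b ∈ T, if χ ∈ B then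
                conj (Cfsg.blockPart b' (fun c : ↥(Subgroup.centralizer ({x} : Set G)) => (χ : G → ℂ) (x * (c : G))) s) *
                  Cfsg.blockPart b (fun c : ↥(Subgroup.centralizer ({x} : Set G)) => (χ : G → ℂ) (x * (c : G))) (τ s) else 0 := by
              refine Finset.sum_congr rfl fun χ _ => ?_
              split_ifs with hχ
              · rw [mul_comm, blockPart_split hM hx hB hχ hs, blockPart_split hM hx hB hχ hs',
                  map_sum, Finset.sum_mul_sum]
              · simp
          _ = ∑ b' ∈ T, ∑ b ∈ T, ∑ ψ : Cfsg.IrrCharacter ↥(Subgroup.centralizer ({x} : Set G)),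
                if ψ ∈ b ∧ ψ ∈ b' then conj ((ψ : ↥(Subgroup.centralizer ({x} : Set G)) → ℂ) s) * (ψ : ↥(Subgroup.centralizer ({x} : Set G)) → ℂ) (τ s) else 0 := by
              rw [Finset.sum_comm]
              refine Finset.sum_congr rfl fun b' hb' => ?_
              rw [Finset.sum_comm]
              exact Finset.sum_congr rfl fun b hb => sum_shift_parts hM hx (Finset.mem_filter.1 hb).2
                (Finset.mem_filter.1 hb').2.1 hs hs'
          _ = _ := by
              refine Finset.sum_congr rfl fun b' hb' => ?_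
              rw [Finset.sum_eq_single b']
              · rw [BlockBasic.blockKernel, BlockBasic.finsum_mem_eq_sum_ite]
                refine Finset.sum_congr rfl fun ψ _ => ?_
                by_cases h : ψ ∈ b'
                · rw [if_pos ⟨h, h⟩, if_pos h, mul_comm]
                · rw [if_neg (fun h' => h h'.1), if_neg h]
              · exact fun b hb hne => Finset.sum_eq_zero fun ψ _ => if_neg fun h =>
                  hne (BlockBasic.isPBlock_eq_of_mem hM (Finset.mem_filter.1 hb).2.1
                    (Finset.mem_filter.1 hb').2.1 h.1 h.2)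
              · exact fun h => absurd hb' h
    _ = _ := by
        rw [Finset.sum_comm]
        refine Finset.sum_congr rfl fun b _ => ?_
        rw [← hm b, ← mul_assoc, mul_inv_cancel₀ hG, one_mul]

end Centralizer

open scoped Classical in
/-- The trace of the power map `k` on a block is at least the regular rank. -/
theorem blockRank_le_card_fixed (hM : Cfsg.IsPModular p M) {B : Set (Cfsg.IrrCharacter G)}
    (hB : Cfsg.IsPBlock M B) {k : ℕ} (hk : Nat.Coprime k (Nat.card G))
    (hreg : ∀ g : G, ¬ p ∣ orderOf g → g ^ k = g) :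
    Cfsg.blockRank p B ≤
      (Finset.univ.filter (fun χ : Cfsg.IrrCharacter G =>
        χ ∈ B ∧ ∀ g : G, (χ : G → ℂ) (g ^ k) = (χ : G → ℂ) g)).card := by
  set S := Finset.univ.filter (fun χ : Cfsg.IrrCharacter G =>
    χ ∈ B ∧ ∀ g : G, (χ : G → ℂ) (g ^ k) = (χ : G → ℂ) g) with hS
  -- the trace as a kernel sum
  have htr : (Nat.card G : ℂ) * (S.card : ℂ) =
      ∑ h : G, BlockBasic.blockKernel B (h ^ k) h := by
    simp only [BlockBasic.blockKernel, BlockBasic.finsum_mem_eq_sum_ite]
    rw [Finset.sum_comm, hS, Finset.card_filter, Nat.cast_sum, Finset.mul_sum]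
    refine Finset.sum_congr rfl fun χ _ => ?_
    by_cases hχ : χ ∈ B
    · simp only [if_pos hχ]
      have h1 := CharBasic.classInner_irrCharacter
        (⟨fun g => (χ : G → ℂ) (g ^ k), H81.isIrr_comp_pow hk χ.2⟩ : Cfsg.IrrCharacter G) χ
      rw [CharBasic.classInner_def, inv_mul_eq_iff_eq_mul₀ (Nat.cast_ne_zero.2 Nat.card_pos.ne')] at h1
      refine Eq.trans ?_ h1.symm
      congr 1
      rw [Nat.cast_ite, Nat.cast_one, Nat.cast_zero]
      refine if_congr ?_ rfl rfl
      rw [Subtype.ext_iff, funext_iff]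
      exact and_iff_right hχ
    · simp [hχ]
  -- split along the `p`-part
  set F : G → G → ℂ := fun x h => BlockBasic.blockKernel B (h ^ k) h
  rw [← Finset.sum_fiberwise Finset.univ (fun h => BlockBasic.pPart (p := p) h),
    ← Finset.add_sum_erase _ _ (Finset.mem_univ (1 : G))] at htr
  have h1 : (∑ h ∈ Finset.univ.filter (fun h : G => BlockBasic.pPart (p := p) h = 1),
      BlockBasic.blockKernel B (h ^ k) h) = (Nat.card G : ℂ) * (Cfsg.blockRank p B : ℂ) := by
    rw [S4667.result p M hM B hB, Finset.sum_filter]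
    refine Finset.sum_congr rfl fun g _ => ?_
    rw [BlockBasic.finsum_mem_eq_sum_ite, BlockBasic.blockKernel, BlockBasic.finsum_mem_eq_sum_ite]
    by_cases hg : p ∣ orderOf g
    · rw [if_neg fun h => (BlockBasic.pPart_eq_one_iff g).1 h hg]
      simp [pRegularPart_eq_zero _ hg]
    · rw [if_pos ((BlockBasic.pPart_eq_one_iff g).2 hg), hreg g hg]
      simp only [pRegularPart_eq_self _ hg, BlockBasic.conj_apply_eq_inv]
  have h2 : ∀ x : G, ∃ m : ℕ, (∑ h ∈ Finset.univ.filter (fun h : G => BlockBasic.pPart (p := p) h = x),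
      BlockBasic.blockKernel B (h ^ k) h) = (m : ℂ) := by
    intro x
    by_cases hxp : ∃ j, orderOf x = p ^ j
    swap
    · refine ⟨0, ?_⟩
      rw [Nat.cast_zero]
      refine Finset.sum_eq_zero fun h hh => absurd ?_ hxp
      rw [← (Finset.mem_filter.1 hh).2]
      exact BlockBasic.exists_orderOf_pPart h
    obtain ⟨j, hj⟩ := hxp
    haveI : Fintype ↥(Subgroup.centralizer ({x} : Set G)) := Fintype.ofFinite _
    have hbij : (∑ h ∈ Finset.univ.filter (fun h : G => BlockBasic.pPart (p := p) h = x),
        BlockBasic.blockKernel B (h ^ k) h) = ∑ s : ↥(Subgroup.centralizer ({x} : Set G)),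
          if p ∣ orderOf s then 0 else BlockBasic.blockKernel B (x ^ k * (s : G)) (x * (s : G)) := by
      rw [Finset.sum_ite, Finset.sum_const_zero, zero_add]
      refine Finset.sum_bij' (fun h hh => ⟨BlockBasic.pReg (p := p) h, ?_⟩)
        (fun s _ => x * (s : G)) ?_ ?_ ?_ ?_ ?_
      · refine Subgroup.mem_centralizer_singleton_iff.2 ?_
        rw [← (Finset.mem_filter.1 hh).2]
        exact (BlockBasic.commute_pPart_pReg (p := p) h).eq.symm
      · intro h _
        refine Finset.mem_filter.2 ⟨Finset.mem_univ _, ?_⟩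
        rw [Subgroup.orderOf_mk]
        exact BlockBasic.not_dvd_orderOf_pReg h
      · intro s hs
        refine Finset.mem_filter.2 ⟨Finset.mem_univ _, ?_⟩
        exact BlockBasic.pPart_mul_of (H83.mem_centralizer_comm s) ⟨j, hj⟩
          (by rw [Subgroup.orderOf_coe]; exact (Finset.mem_filter.1 hs).2)
      · intro h hh
        show x * BlockBasic.pReg (p := p) h = h
        rw [← (Finset.mem_filter.1 hh).2, BlockBasic.pPart_mul_pReg]
      · intro s hs
        refine Subtype.ext ?_
        show BlockBasic.pReg (p := p) (x * (s : G)) = (s : G)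
        rw [BlockBasic.pReg, BlockBasic.pPart_mul_of (H83.mem_centralizer_comm s) ⟨j, hj⟩
          (by rw [Subgroup.orderOf_coe]; exact (Finset.mem_filter.1 hs).2), inv_mul_cancel_left]
      · intro h hh
        have hx : BlockBasic.pPart (p := p) h = x := (Finset.mem_filter.1 hh).2
        subst hx
        simp only [BlockBasic.pPart_mul_pReg]
        conv_lhs => arg 2; rw [← BlockBasic.pPart_mul_pReg (p := p) h,
          (BlockBasic.commute_pPart_pReg h).mul_pow, hreg _ (BlockBasic.not_dvd_orderOf_pReg h)]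
    have hcop : Nat.Coprime k (orderOf x) := Nat.Coprime.coprime_dvd_right (orderOf_dvd_natCard x) hk
    by_cases hconj : IsConj x (x ^ k)
    swap
    · refine ⟨0, ?_⟩
      rw [hbij, Nat.cast_zero]
      refine Finset.sum_eq_zero fun s _ => ?_
      split_ifs with hs
      · rfl
      refine BlockBasic.blockKernel_eq_zero (p := p) hM hB fun hc => hconj ?_
      rw [BlockBasic.pPart_mul_of (H83.mem_centralizer_comm s) ⟨j, hj⟩
          (by rwa [Subgroup.orderOf_coe]),
        BlockBasic.pPart_mul_of (Commute.pow_left (H83.mem_centralizer_comm s) k)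
          ⟨j, by rw [Nat.Coprime.orderOf_pow hcop.symm, hj]⟩ (by rwa [Subgroup.orderOf_coe])] at hc
      exact hc.symm
    obtain ⟨c, hc⟩ := isConj_iff.1 hconj
    obtain ⟨l, hl⟩ := exists_pow_eq_self_of_coprime hcop
    have hmem : ∀ g : G, g * x = x * g → c⁻¹ * g * c * x = x * (c⁻¹ * g * c) := by
      intro g hg
      have h := (Commute.pow_right (show Commute g x from hg) k).eq
      rw [← hc] at h
      calc c⁻¹ * g * c * x = c⁻¹ * (g * (c * x * c⁻¹)) * c := by group
        _ = c⁻¹ * (c * x * c⁻¹ * g) * c := by rw [h]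
        _ = x * (c⁻¹ * g * c) := by group
    have hmem' : ∀ g : G, g * x = x * g → c * g * c⁻¹ * x = x * (c * g * c⁻¹) := by
      intro g hg
      have h : Commute (c * g * c⁻¹) (x ^ k) := by
        rw [← hc]
        exact (Commute.conj_iff c).2 hg
      have := (h.pow_right l).eq
      rwa [hl] at this
    let τ : ↥(Subgroup.centralizer ({x} : Set G)) ≃* ↥(Subgroup.centralizer ({x} : Set G)) :=
      { toFun := fun s => ⟨c⁻¹ * s * c, Subgroup.mem_centralizer_singleton_iff.2
          (hmem s (Subgroup.mem_centralizer_singleton_iff.1 s.2))⟩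
        invFun := fun s => ⟨c * s * c⁻¹, Subgroup.mem_centralizer_singleton_iff.2
          (hmem' s (Subgroup.mem_centralizer_singleton_iff.1 s.2))⟩
        left_inv := fun s => Subtype.ext (by show c * (c⁻¹ * (s : G) * c) * c⁻¹ = _; group)
        right_inv := fun s => Subtype.ext (by show c⁻¹ * (c * (s : G) * c⁻¹) * c = _; group)
        map_mul' := fun s t => Subtype.ext (by
          show c⁻¹ * ((s : G) * t) * c = c⁻¹ * (s : G) * c * (c⁻¹ * (t : G) * c)
          group) }
    obtain ⟨m, hm⟩ := exists_natCast hM hj hB τ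
    refine ⟨m, ?_⟩
    rw [hbij, ← hm]
    refine Finset.sum_congr rfl fun s _ => ?_
    split_ifs with hs
    · rfl
    simp only [BlockBasic.blockKernel, BlockBasic.finsum_mem_eq_sum_ite]
    refine Finset.sum_congr rfl fun χ _ => ?_
    rw [show x ^ k * (s : G) = c * (x * (τ s : G)) * c⁻¹ by
      show _ = c * (x * (c⁻¹ * (s : G) * c)) * c⁻¹
      rw [← hc]; group, CharBasic.IsIrr.isClassFunction χ.2]
  choose m hm using h2
  rw [h1, Finset.sum_congr rfl fun x _ => hm x, ← Nat.cast_sum, ← Nat.cast_mul, ← Nat.cast_mul,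
    ← Nat.cast_add, Nat.cast_inj] at htr
  exact Nat.le_of_mul_le_mul_left (htr ▸ Nat.le_add_right _ _) Nat.card_pos

end Cfsg.Agent.H83.SectionPerm
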