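import Cfsg.Agent.BlockBasic.Necklace
import Cfsg.Agent.BlockBasic.PPart
import Cfsg.Agent.H83.StarResidue
import Mathlib.RingTheory.SimpleModule.IsAlgClosed
import Mathlib.RingTheory.Artinian.Module
import Mathlib.LinearAlgebra.Matrix.Trace
import Mathlib.Algebra.MonoidAlgebra.Basic

/-!
Trace functions of the simple factors of a group algebra in characteristic `p`: they form a basis
of the class functions that are constant on `p`-sections, and automorphisms of the group permute
them.
-/

set_option linter.style.haveILetI false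

namespace Cfsg.Agent.H83.SimpleTrace

open MonoidAlgebra BlockBasic

variable {p : ℕ} [hp : Fact p.Prime] {k : Type*} [Field k] {G : Type*} [Group G] [Fintype G]

theorem seqProd_const {H : Type*} [Monoid H] (f : ℕ → H) (a : H) (h : ∀ i, f i = a) (n : ℕ) :
    seqProd f n = a ^ n := by
  induction n with
  | zero => simp [seqProd]
  | succ n ih => rw [seqProd, ih, h, pow_succ]

/-- Powers under a class function in characteristic `p`. -/
theorem sum_pow_mul (hk : (p : k) = 0) (n : ℕ) (z : MonoidAlgebra k G) {c : G → k}
    (hc : ∀ g x, c (x * g * x⁻¹) = c g) :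
    ∑ g, (z ^ (p ^ n)).coeff g * c g = ∑ g, z.coeff g ^ (p ^ n) * c (g ^ (p ^ n)) := by
  classical
  set q := p ^ n with hq
  have hq0 : q ≠ 0 := pow_ne_zero _ hp.out.ne_zero
  let X := TwistSeq (1 : G) q
  haveI : Fintype X := Fintype.ofEquiv _ (TwistSeq.equivFin hq0)
  let σ : Equiv.Perm X := TwistSeq.shift hq0
  let F : X → k := fun f => c f.value * ∏ i : Fin q, z.coeff (f.1 i)
  have hexp : ∑ g, (z ^ q).coeff g * c g = ∑ f, F f := by
    rw [← (TwistSeq.equivFin (x := (1 : G)) hq0).sum_comp, pow_eq_sum_single]
    simp only [coeff_sum, coeff_single, Finsupp.finsetSum_apply, Finsupp.single_apply,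
      Finset.sum_mul, ite_mul, zero_mul]
    rw [Finset.sum_comm]
    refine Finset.sum_congr rfl fun t _ => ?_
    rw [Finset.sum_ite_eq, if_pos (Finset.mem_univ _)]
    have hv : ((TwistSeq.equivFin (x := (1 : G)) hq0) t).value =
        seqProd (fun i => if h : i < q then t ⟨i, h⟩ else 1) q := by
      rw [TwistSeq.value, one_mul]
      refine seqProd_congr fun i hi => ?_
      simp [TwistSeq.equivFin, Nat.mod_eq_of_lt hi, hi]
    simp only [F, hv]
    rw [mul_comm]
    congr 1
    refine Finset.prod_congr rfl fun i _ => ?_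
    simp [TwistSeq.equivFin, Nat.mod_eq_of_lt i.2]
  have hper : ∀ f : X, ∀ i, f.1 (i + q) = f.1 i := fun f i => by
    simpa using f.2 i
  have hF : ∀ f : X, F (σ f) = F f := by
    intro f
    simp only [F, σ]
    congr 1
    · rw [TwistSeq.value_shift hq0 f]
      simpa using hc f.value (f.1 0)⁻¹
    · obtain ⟨r, hr⟩ := Nat.exists_eq_succ_of_ne_zero hq0
      rw [Fin.prod_univ_eq_prod_range (fun i => z.coeff ((TwistSeq.shift hq0 f).1 i)),
        Fin.prod_univ_eq_prod_range (fun i => z.coeff (f.1 i))]
      show ∏ i ∈ Finset.range q, z.coeff (f.1 (i + 1)) = _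
      refine ((congrArg (fun m => ∏ i ∈ Finset.range m, z.coeff (f.1 (i + 1))) hr).trans ?_).trans
        (congrArg (fun m => ∏ i ∈ Finset.range m, z.coeff (f.1 i)) hr).symm
      rw [Finset.prod_range_succ, Finset.prod_range_succ']
      congr 2
      rw [show r + 1 = 0 + q from by omega]
      exact hper f 0
  have hσq : σ ^ q = 1 := Equiv.ext fun f => Subtype.ext (funext fun i => by
    rw [TwistSeq.shift_pow_apply, hper]; rfl)
  have hP : IsPGroup p (Subgroup.zpowers σ) := by
    obtain ⟨j, -, hj⟩ := (Nat.dvd_prime_pow hp.out).1 (orderOf_dvd_of_pow_eq_one hσq)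
    exact IsPGroup.of_card (n := j) (by rw [Nat.card_zpowers, hj])
  have hinv : ∀ (τ : Subgroup.zpowers σ) (f : X), F (τ • f) = F f := by
    intro τ f
    obtain ⟨m, hm⟩ := (isOfFinOrder_of_finite σ).mem_powers_iff_mem_zpowers.2 τ.2
    show F ((τ : Equiv.Perm X) f) = F f
    rw [← show σ ^ m = (τ : Equiv.Perm X) from hm]
    clear hm
    induction m with
    | zero => simp
    | succ m ih => rw [pow_succ', Equiv.Perm.mul_apply, hF, ih]
  rw [hexp, Star.sum_eq_sum_fixed hk hP hinv]
  symm
  classical
  refine Finset.sum_bij (fun g _ => (⟨fun _ => g, fun _ => by simp⟩ : X)) ?_ ?_ ?_ ?_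
  · intro g _
    simp only [Finset.mem_filter, Finset.mem_univ, true_and]
    intro τ
    obtain ⟨m, hm⟩ := (isOfFinOrder_of_finite σ).mem_powers_iff_mem_zpowers.2 τ.2
    show (τ : Equiv.Perm X) _ = _
    rw [← show σ ^ m = (τ : Equiv.Perm X) from hm]
    exact Subtype.ext (funext fun i => by rw [TwistSeq.shift_pow_apply])
  · intro g _ g' _ h
    exact congrFun (congrArg Subtype.val h) 0
  · intro f hf
    simp only [Finset.mem_filter, Finset.mem_univ, true_and] at hf
    have h1 : σ f = f := hf ⟨σ, Subgroup.mem_zpowers σ⟩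
    have hconst : ∀ i, f.1 i = f.1 0 := by
      intro i
      induction i with
      | zero => rfl
      | succ i ih =>
        have h2 := congrFun (congrArg Subtype.val h1) i
        exact h2.trans ih
    exact ⟨f.1 0, Finset.mem_univ _, Subtype.ext (funext fun i => (hconst i).symm)⟩
  · intro g _
    simp only [F, TwistSeq.value, one_mul, Finset.prod_const, Finset.card_univ, Fintype.card_fin]
    rw [seqProd_const _ g fun _ => rfl, mul_comm]

/-- Arbitrarily large powers of `p` sending every element to its regular part. -/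
theorem exists_pow_eq_pReg (N : ℕ) :
    ∃ n, N ≤ p ^ n ∧ ∀ g : G, g ^ (p ^ n) = pReg (p := p) g := by
  set a := (Nat.card G).factorization p with ha
  set m := Nat.card G / p ^ a with hm
  have hm0 : ¬ p ∣ m := Nat.not_dvd_ordCompl hp.out Nat.card_pos.ne'
  have hcop : Nat.Coprime p m := hp.out.coprime_iff_not_dvd.2 hm0
  have htot : 0 < Nat.totient m := Nat.totient_pos.2 (Nat.pos_of_ne_zero fun h => hm0 (h ▸ dvd_zero p))
  set n := Nat.totient m * (a + N + 1) with hn
  refine ⟨n, ?_, fun g => ?_⟩
  · have h1 : a + N + 1 ≤ n := Nat.le_mul_of_pos_left _ htot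
    have h2 := Nat.lt_pow_self (n := n) hp.out.one_lt
    omega
  · conv_lhs => rw [← pPart_mul_pReg (p := p) g, (commute_pPart_pReg g).mul_pow]
    obtain ⟨j, hj⟩ := exists_orderOf_pPart (p := p) g
    have hjn : j ≤ n := by
      have h1 : a ≤ n := le_trans (by omega) (Nat.le_mul_of_pos_left (a + N + 1) htot)
      refine le_trans ?_ h1
      rw [ha, ← hp.out.pow_dvd_iff_le_factorization Nat.card_pos.ne', ← hj]
      exact orderOf_dvd_natCard _
    have hreg : orderOf (pReg (p := p) g) ∣ m := by
      have h1 : orderOf (pReg (p := p) g) ∣ p ^ a * m := by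
        rw [hm, ha, Nat.ordProj_mul_ordCompl_eq_self]
        exact orderOf_dvd_natCard _
      exact ((hp.out.coprime_iff_not_dvd.2 (not_dvd_orderOf_pReg g)).symm.pow_right _).dvd_of_dvd_mul_left h1
    have h2 : p ^ n ≡ 1 [MOD orderOf (pReg (p := p) g)] := by
      refine Nat.ModEq.of_dvd hreg ?_
      rw [hn, pow_mul]
      simpa using (Nat.ModEq.pow_totient hcop).pow (a + N + 1)
    rw [show pPart (p := p) g ^ p ^ n = 1 from orderOf_dvd_iff_pow_eq_one.1 (hj ▸ pow_dvd_pow p hjn),
      one_mul]
    conv_rhs => rw [← pow_one (pReg (p := p) g)]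
    exact pow_eq_pow_iff_modEq.2 h2

/-- The linear form of a class function constant on sections vanishes at nilpotent elements. -/
theorem sum_mul_eq_zero_of_nilpotent (hk : (p : k) = 0) {c : G → k}
    (hc : ∀ g x, c (x * g * x⁻¹) = c g) (hsec : ∀ g, c g = c (pReg (p := p) g))
    {z : MonoidAlgebra k G} (hz : IsNilpotent z) : ∑ g, z.coeff g * c g = 0 := by
  haveI : CharP k p := by
    refine (CharP.charP_iff_prime_eq_zero hp.out).2 hk
  obtain ⟨N, hN⟩ := hz
  obtain ⟨n, hn, hreg⟩ := exists_pow_eq_pReg (p := p) (G := G) N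
  refine eq_zero_of_pow_eq_zero (n := p ^ n) ?_
  rw [sum_pow_char_pow]
  have h1 := sum_pow_mul (p := p) hk n z (c := fun g => c g ^ (p ^ n)) fun g x => by rw [hc]
  rw [pow_eq_zero_of_le hn hN] at h1
  simp only [coeff_zero, Finsupp.coe_zero, Pi.zero_apply, zero_mul, Finset.sum_const_zero] at h1
  rw [h1]
  exact Finset.sum_congr rfl fun g _ => by rw [mul_pow, hreg, ← hsec]

section Model

open Matrix

/-- A model of the semisimple quotient of the group algebra. -/
structure Model (k : Type*) [Field k] (G : Type*) [Group G] where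
  /-- number of simple factors -/
  num : ℕ
  /-- their sizes -/
  dim : Fin num → ℕ
  dim_ne : ∀ i, NeZero (dim i)
  /-- the quotient map -/
  map : MonoidAlgebra k G →ₐ[k] Π i, Matrix (Fin (dim i)) (Fin (dim i)) k
  surj : Function.Surjective map
  nil : ∀ z, map z = 0 → IsNilpotent z

theorem exists_model [IsAlgClosed k] : Nonempty (Model k G) := by
  haveI : Module.Finite k (MonoidAlgebra k G) :=
    Module.Finite.of_basis (MonoidAlgebra.basis G k)
  haveI : IsArtinianRing (MonoidAlgebra k G) := IsArtinianRing.of_finite k (MonoidAlgebra k G)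
  let A := MonoidAlgebra k G
  haveI : Module.Finite k (A ⧸ Ring.jacobson A) :=
    Module.Finite.of_surjective (Ideal.Quotient.mkₐ k (Ring.jacobson A)).toLinearMap
      Ideal.Quotient.mk_surjective
  obtain ⟨n, d, hd, ⟨e⟩⟩ :=
    IsSemisimpleRing.exists_algEquiv_pi_matrix_of_isAlgClosed k (A ⧸ Ring.jacobson A)
  refine ⟨⟨n, d, hd, e.toAlgHom.comp (Ideal.Quotient.mkₐ k (Ring.jacobson A)),
    e.surjective.comp Ideal.Quotient.mk_surjective, fun z hz => ?_⟩⟩
  have hmem : z ∈ Ring.jacobson A := by
    rw [← Ideal.Quotient.eq_zero_iff_mem]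
    exact e.injective (hz.trans (map_zero _).symm)
  obtain ⟨m, hm⟩ := IsSemiprimaryRing.isNilpotent (R := A)
  refine ⟨m, ?_⟩
  have := Ideal.pow_mem_pow hmem m
  rw [hm] at this
  exact this

variable (W : Model k G)

/-- The trace of the simple factor `i`. -/
noncomputable def Model.tr (i : Fin W.num) : MonoidAlgebra k G →ₗ[k] k :=
  (Matrix.traceLinearMap (Fin (W.dim i)) k k).comp
    ((LinearMap.proj i).comp W.map.toLinearMap)

theorem Model.tr_apply (i : Fin W.num) (z : MonoidAlgebra k G) :
    W.tr i z = Matrix.trace (W.map z i) := rfl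

theorem Model.tr_comm (i : Fin W.num) (z w : MonoidAlgebra k G) :
    W.tr i (z * w) = W.tr i (w * z) := by
  rw [W.tr_apply, W.tr_apply, map_mul, map_mul, Pi.mul_apply, Pi.mul_apply, Matrix.trace_mul_comm]

theorem Model.tr_nilpotent (i : Fin W.num) {z : MonoidAlgebra k G} (hz : IsNilpotent z) :
    W.tr i z = 0 := by
  rw [W.tr_apply]
  exact IsNilpotent.eq_zero (Matrix.isNilpotent_trace_of_isNilpotent
    ((hz.map W.map).map (Pi.evalRingHom (fun j => Matrix (Fin (W.dim j)) (Fin (W.dim j)) k) i)))

theorem Model.tr_conj (i : Fin W.num) (g x : G) :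
    W.tr i (single (x * g * x⁻¹) 1) = W.tr i (single g 1) := by
  have h := W.tr_comm i (single (x * g) 1) (single x⁻¹ 1)
  rwa [single_mul_single, single_mul_single, mul_one, inv_mul_cancel_left] at h

theorem Model.tr_pReg (hk : (p : k) = 0) (i : Fin W.num) (g : G) :
    W.tr i (single g 1) = W.tr i (single (pReg (p := p) g) 1) := by
  haveI : CharP k p := (CharP.charP_iff_prime_eq_zero hp.out).2 hk
  obtain ⟨j, hj⟩ := exists_orderOf_pPart (p := p) g
  let φ : Polynomial k →ₐ[k] MonoidAlgebra k G :=
    Polynomial.aeval (single (pPart (p := p) g) (1 : k))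
  have hnil : IsNilpotent (single (pPart (p := p) g) (1 : k) - 1) := by
    refine ⟨p ^ j, ?_⟩
    have h : ((Polynomial.X : Polynomial k) - 1) ^ p ^ j = Polynomial.X ^ p ^ j - 1 := by
      rw [sub_pow_char_pow, one_pow]
    have h' := congrArg φ h
    simp only [φ, map_pow, map_sub, Polynomial.aeval_X, map_one] at h'
    rw [h', single_pow, one_pow, ← hj, pow_orderOf_eq_one, ← one_def, sub_self]
  have hcomm : Commute (single (pPart (p := p) g) (1 : k) - 1) (single (pReg (p := p) g) 1) := by
    refine Commute.sub_left ?_ (Commute.one_left _)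
    rw [Commute, SemiconjBy, single_mul_single, single_mul_single, (commute_pPart_pReg g).eq]
  have h0 := W.tr_nilpotent i (hcomm.isNilpotent_mul_right hnil)
  rwa [sub_mul, one_mul, single_mul_single, mul_one, pPart_mul_pReg, map_sub, sub_eq_zero] at h0

theorem Model.exists_preimage_single (i : Fin W.num) (a b : Fin (W.dim i)) :
    ∃ z, W.map z = Pi.single i (Matrix.single a b 1) := W.surj _

theorem Model.tr_independent {a : Fin W.num → k}
    (h : ∀ z, ∑ i, a i * W.tr i z = 0) (i : Fin W.num) : a i = 0 := by
  classical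
  haveI := W.dim_ne i
  obtain ⟨z, hz⟩ := W.exists_preimage_single i 0 0
  have h1 := h z
  simp only [W.tr_apply, hz] at h1
  rw [Finset.sum_eq_single i (fun j _ hj => by rw [Pi.single_eq_of_ne hj, Matrix.trace_zero, mul_zero])
    (fun hh => absurd (Finset.mem_univ i) hh), Pi.single_eq_same, Matrix.trace_single_eq_same,
    mul_one] at h1
  exact h1

/-- Symmetric forms killing the nilpotent elements are combinations of the traces. -/
theorem Model.exists_coeff (f : MonoidAlgebra k G →ₗ[k] k) (hf : ∀ z w, f (z * w) = f (w * z))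
    (hnil : ∀ z, IsNilpotent z → f z = 0) : ∃ a : Fin W.num → k, ∀ z, f z = ∑ i, a i * W.tr i z := by
  classical
  obtain ⟨s, hs⟩ := W.map.toLinearMap.exists_rightInverse_of_surjective
    (LinearMap.range_eq_top.2 W.surj)
  have hs' : ∀ y, W.map (s y) = y := fun y => LinearMap.congr_fun hs y
  have hfac : ∀ z w, W.map z = W.map w → f z = f w := fun z w h => by
    rw [← sub_eq_zero, ← map_sub]
    exact hnil _ (W.nil _ (by rw [map_sub, h, sub_self]))
  set h := f.comp s with hh
  have hfh : ∀ z, f z = h (W.map z) := fun z => hfac z (s (W.map z)) (hs' _).symm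
  have hsym : ∀ x y, h (x * y) = h (y * x) := fun x y => by
    show f (s _) = f (s _)
    rw [hfac (s (x * y)) (s x * s y) (by simp only [hs', map_mul]),
      hfac (s (y * x)) (s y * s x) (by simp only [hs', map_mul]), hf]
  refine ⟨fun i => haveI := W.dim_ne i; h (Pi.single i (Matrix.single 0 0 1)), fun z => ?_⟩
  rw [hfh]
  conv_lhs => rw [← Finset.univ_sum_single (W.map z)]
  rw [map_sum]
  refine Finset.sum_congr rfl fun i _ => ?_
  haveI := W.dim_ne i
  show _ = _ * Matrix.trace (W.map z i)
  generalize W.map z i = Y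
  induction Y using Matrix.induction_on' with
  | h_zero => rw [Pi.single_zero, map_zero, Matrix.trace_zero, mul_zero]
  | h_add Y Y' h1 h2 => rw [Pi.single_add, map_add, h1, h2, Matrix.trace_add, mul_add]
  | h_std_basis a b r =>
    have hr : Matrix.single a b r = r • Matrix.single a b (1 : k) := by
      rw [Matrix.smul_single, smul_eq_mul, mul_one]
    rw [hr, Pi.single_smul, map_smul, Matrix.trace_smul, smul_eq_mul, smul_eq_mul, ← mul_assoc,
      mul_comm _ r, mul_assoc]
    congr 1
    have e1 : Pi.single (M := fun j => Matrix (Fin (W.dim j)) (Fin (W.dim j)) k) i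
        (Matrix.single a b (1 : k)) =
          Pi.single i (Matrix.single a 0 1) * Pi.single i (Matrix.single 0 b 1) := by
      rw [← Pi.single_mul, Matrix.single_mul_single_same, mul_one]
    rw [e1, hsym, ← Pi.single_mul]
    by_cases hab : b = a
    · subst hab
      rw [Matrix.single_mul_single_same, mul_one, Matrix.trace_single_eq_same, mul_one]
    · rw [Matrix.single_mul_single_of_ne (h := hab), Pi.single_zero, map_zero,
        Matrix.trace_single_eq_of_ne _ _ _ (Ne.symm hab), mul_zero]

/-- Class functions constant on sections are combinations of the traces. -/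
theorem Model.exists_coeff_classFunction (hk : (p : k) = 0) {c : G → k}
    (hc : ∀ g x, c (x * g * x⁻¹) = c g) (hsec : ∀ g, c g = c (pReg (p := p) g)) :
    ∃ a : Fin W.num → k, ∀ g, c g = ∑ i, a i * W.tr i (single g 1) := by
  classical
  let f : MonoidAlgebra k G →ₗ[k] k :=
    { toFun := fun z => ∑ g, z.coeff g * c g
      map_add' := fun z w => by simp [add_mul, Finset.sum_add_distrib]
      map_smul' := fun r z => by simp [Finset.mul_sum, mul_assoc] }
  have hone : ∀ g, f (single g 1) = c g := fun g => by
    simp [f, coeff_single, Finsupp.single_apply]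
  suffices hsym : ∀ z w, f (z * w) = f (w * z) by
    obtain ⟨a, ha⟩ := W.exists_coeff f hsym
      (fun z hz => sum_mul_eq_zero_of_nilpotent hk hc hsec hz)
    exact ⟨a, fun g => by rw [← hone, ha]⟩
  intro z w
  induction z using MonoidAlgebra.induction_linear with
  | zero => simp
  | add z z' h1 h2 => rw [add_mul, mul_add, map_add, map_add, h1, h2]
  | single g r =>
    induction w using MonoidAlgebra.induction_linear with
    | zero => simp
    | add w w' h1 h2 => rw [add_mul, mul_add, map_add, map_add, h1, h2]
    | single h s =>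
      rw [single_mul_single, single_mul_single, mul_comm r s,
        show single (g * h) (s * r) = (s * r) • single (g * h) (1 : k) by simp,
        show single (h * g) (s * r) = (s * r) • single (h * g) (1 : k) by simp,
        map_smul, map_smul, hone, hone]
      congr 1
      have := hc (h * g) g
      rwa [← mul_assoc, mul_inv_cancel_right] at this

/-- The kernel of the model in terms of nilpotency. -/
theorem Model.map_eq_zero_iff (z : MonoidAlgebra k G) :
    W.map z = 0 ↔ ∀ w, IsNilpotent (z * w) := by
  classical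
  refine ⟨fun h w => W.nil _ (by rw [map_mul, h, zero_mul]), fun h => funext fun i => ?_⟩
  ext a b
  obtain ⟨w, hw⟩ := W.exists_preimage_single i b a
  have h1 := W.tr_nilpotent i (h w)
  rw [W.tr_apply, map_mul, hw, Pi.mul_apply, Pi.single_eq_same, Matrix.trace_mul_comm,
    Matrix.trace_single_mul] at h1
  simpa using h1

/-- A central idempotent acts as zero or one on each simple factor. -/
theorem Model.central_idem (i : Fin W.num) {e : MonoidAlgebra k G} (he : e * e = e)
    (hc : ∀ z, e * z = z * e) :
    (∀ z, W.tr i (e * z) = 0) ∨ (∀ z, W.tr i (e * z) = W.tr i z) := by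
  classical
  haveI := W.dim_ne i
  obtain ⟨t, ht⟩ := Matrix.mem_range_scalar_of_commute_single (M := W.map e i) fun a b _ => by
    obtain ⟨w, hw⟩ := W.exists_preimage_single i a b
    have := congrFun (congrArg W.map (hc w)) i
    rw [map_mul, map_mul, Pi.mul_apply, Pi.mul_apply, hw, Pi.single_eq_same] at this
    exact this.symm
  have htt : t * t = t := by
    have := congrFun (congrArg W.map he) i
    rw [map_mul, Pi.mul_apply, ← ht, ← map_mul] at this
    exact Matrix.scalar_inj.1 this
  rcases IsIdempotentElem.iff_eq_zero_or_one.1 htt with rfl | rfl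
  · left; intro z
    rw [W.tr_apply, map_mul, Pi.mul_apply, ← ht, map_zero, zero_mul, Matrix.trace_zero]
  · right; intro z
    rw [W.tr_apply, W.tr_apply, map_mul, Pi.mul_apply, ← ht, map_one, one_mul]

/-- The trace at a unit matrix of an idempotent with one dimensional corner. -/
theorem trace_eq_one_of_corner {m : Type*} [Fintype m] [DecidableEq m] {e : Matrix m m k}
    (he : e * e = e) (hne : e ≠ 0) (h : ∀ Y : Matrix m m k, ∃ t : k, e * Y * e = t • e) :
    Matrix.trace e = 1 := by
  obtain ⟨a, b, hab⟩ : ∃ a b, e a b ≠ 0 := by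
    by_contra hc
    push Not at hc
    exact hne (Matrix.ext hc)
  obtain ⟨t, ht⟩ := h (Matrix.single b a 1)
  have hent : ∀ r c, e r b * e a c = t * e r c := fun r c => by
    have := congrFun (congrFun ht r) c
    rw [Matrix.smul_apply, smul_eq_mul] at this
    rw [← this, Matrix.mul_assoc, Matrix.mul_apply, Finset.sum_eq_single b]
    · simp
    · intro x _ hx; simp [hx]
    · simp
  have ht' : t = e a b := (mul_right_cancel₀ hab (hent a b)).symm
  have hsum : e a b = t * Matrix.trace e := by
    conv_lhs => rw [← he, Matrix.mul_apply]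
    rw [Matrix.trace, Finset.mul_sum]
    refine Finset.sum_congr rfl fun r _ => ?_
    rw [Matrix.diag_apply, ← hent, mul_comm]
  rw [ht'] at hsum
  exact (mul_eq_left₀ hab).1 hsum.symm

/-- An automorphism of the group permutes the traces. -/
theorem Model.exists_perm (τ : G ≃* G) :
    ∃ π : Equiv.Perm (Fin W.num), ∀ i z, W.tr i (domCongr k k τ z) = W.tr (π i) z := by
  classical
  let σ := domCongr k k τ
  have hker : ∀ z, W.map z = 0 → W.map (σ z) = 0 := by
    intro z hz
    rw [W.map_eq_zero_iff] at hz ⊢
    intro w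
    have := (hz (σ.symm w)).map σ
    rwa [map_mul, σ.apply_symm_apply] at this
  have key : ∀ i, ∃ j, ∀ z, W.tr i (σ z) = W.tr j z := by
    intro i
    haveI := W.dim_ne i
    obtain ⟨s, hs⟩ := W.map.toLinearMap.exists_rightInverse_of_surjective
      (LinearMap.range_eq_top.2 W.surj)
    have hs' : ∀ y, W.map (s y) = y := fun y => LinearMap.congr_fun hs y
    -- the transported representation on the product of the factors
    let h : (Π j, Matrix (Fin (W.dim j)) (Fin (W.dim j)) k) → Matrix (Fin (W.dim i)) (Fin (W.dim i)) k :=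
      fun y => W.map (σ (s y)) i
    have hfac : ∀ z, W.map (σ z) i = h (W.map z) := fun z => by
      have := hker (z - s (W.map z)) (by rw [map_sub, hs', sub_self])
      rw [map_sub, map_sub, sub_eq_zero] at this
      exact congrFun this i
    have hmul : ∀ x y, h (x * y) = h x * h y := fun x y => by
      show _ = W.map (σ (s x)) i * W.map (σ (s y)) i
      rw [← Pi.mul_apply, ← map_mul, ← map_mul, hfac, map_mul, hs', hs']
    have hsmul : ∀ (r : k) x, h (r • x) = r • h x := fun r x => by
      simp only [h, map_smul, Pi.smul_apply]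
    have hsurj : ∀ Y, ∃ y, h y = Y := fun Y => by
      obtain ⟨z, hz⟩ := W.surj (Pi.single i Y)
      exact ⟨W.map (σ.symm z), by rw [← hfac, σ.apply_symm_apply, hz, Pi.single_eq_same]⟩
    obtain ⟨a, ha⟩ := W.exists_coeff ((W.tr i).comp σ.toLinearMap)
      (fun z w => by
        show W.tr i (σ (z * w)) = W.tr i (σ (w * z))
        rw [map_mul σ, map_mul σ, W.tr_comm])
      (fun z hz => W.tr_nilpotent i (hz.map σ))
    have ha' : ∀ z, W.tr i (σ z) = ∑ j, a j * W.tr j z := ha
    have hcoef : ∀ j, a j = Matrix.trace (h (Pi.single j (haveI := W.dim_ne j; Matrix.single 0 0 1))) := by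
      intro j
      haveI := W.dim_ne j
      obtain ⟨z, hz⟩ := W.exists_preimage_single j 0 0
      rw [← hz, ← hfac, ← W.tr_apply, ha', Finset.sum_eq_single j
        (fun l _ hl => by rw [W.tr_apply, hz, Pi.single_eq_of_ne hl, Matrix.trace_zero, mul_zero])
        (fun hh => absurd (Finset.mem_univ j) hh),
        W.tr_apply, hz, Pi.single_eq_same, Matrix.trace_single_eq_same, mul_one]
    have hzero : h 0 = 0 := by simp [h]
    have hone : h 1 = 1 := by rw [← map_one W.map, ← hfac, map_one, map_one, Pi.one_apply]
    let ε : ∀ j, Π l, Matrix (Fin (W.dim l)) (Fin (W.dim l)) k := fun j => Pi.single j 1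
    have hε : ∀ j, h (ε j) = 0 ∨ h (ε j) = 1 := by
      intro j
      obtain ⟨t, ht⟩ := Matrix.mem_range_scalar_of_commute_single (M := h (ε j)) fun a b _ => by
        obtain ⟨y, hy⟩ := hsurj (Matrix.single a b 1)
        show _ * _ = _ * _
        rw [← hy, ← hmul, ← hmul]
        congr 1
        funext l
        by_cases hl : l = j
        · subst hl; simp [ε]
        · simp [ε, hl]
      have htt : t * t = t := by
        have := hmul (ε j) (ε j)
        rw [← Pi.single_mul, one_mul, ← ht, ← map_mul] at this
        exact (Matrix.scalar_inj.1 this).symm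
      rcases IsIdempotentElem.iff_eq_zero_or_one.1 htt with rfl | rfl
      · left; rw [← ht, map_zero]
      · right; rw [← ht, map_one]
    have hhadd : ∀ x y, h (x + y) = h x + h y := fun x y => by simp [h]
    obtain ⟨j, hj⟩ : ∃ j, h (ε j) = 1 := by
      by_contra hc
      push Not at hc
      have h0 : ∀ T : Finset (Fin W.num), h (∑ j ∈ T, ε j) = 0 := by
        intro T
        induction T using Finset.induction with
        | empty => exact hzero
        | insert l T hl ih =>
          rw [Finset.sum_insert hl, hhadd, ih, (hε l).resolve_right (hc l), add_zero]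
      have hsum : ∑ j, ε j = 1 :=
        (Finset.univ_sum_single (1 : Π l, Matrix (Fin (W.dim l)) (Fin (W.dim l)) k))
      have := h0 Finset.univ
      rw [hsum, hone] at this
      exact one_ne_zero this
    have hrest : ∀ l, l ≠ j → ∀ Y, h (Pi.single l Y) = 0 := fun l hl Y => by
      have h1 : Pi.single (M := fun m => Matrix (Fin (W.dim m)) (Fin (W.dim m)) k) l Y * ε j = 0 := by
        funext m
        by_cases hm : m = l
        · subst hm; simp [ε, hl]
        · simp [ε, hm]
      have := congrArg h h1
      rwa [hmul, hj, mul_one, hzero] at this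
    haveI := W.dim_ne j
    set e₀ : Π l, Matrix (Fin (W.dim l)) (Fin (W.dim l)) k := Pi.single j (Matrix.single 0 0 1) with he₀
    have htr : Matrix.trace (h e₀) = 1 := by
      refine trace_eq_one_of_corner ?_ ?_ fun Y => ?_
      · rw [← hmul, he₀, ← Pi.single_mul, Matrix.single_mul_single_same, mul_one]
      · intro h0
        have hall : ∀ Y, h (Pi.single j Y) = 0 := by
          intro Y
          induction Y using Matrix.induction_on' with
          | h_zero => rw [Pi.single_zero, hzero]
          | h_add Y Y' h1 h2 => rw [Pi.single_add, hhadd, h1, h2, add_zero]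
          | h_std_basis a b r =>
            have e1 : Pi.single (M := fun m => Matrix (Fin (W.dim m)) (Fin (W.dim m)) k) j
                (Matrix.single a b r) = Pi.single j (Matrix.single a 0 r) *
                  (e₀ * Pi.single j (Matrix.single 0 b 1)) := by
              rw [he₀, ← Pi.single_mul, ← Pi.single_mul, Matrix.single_mul_single_same,
                Matrix.single_mul_single_same, mul_one, mul_one]
            rw [e1, hmul, hmul, h0, zero_mul, mul_zero]
        exact one_ne_zero ((hj.symm).trans (hall 1))
      · obtain ⟨y, rfl⟩ := hsurj Y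
        refine ⟨y j 0 0, ?_⟩
        rw [← hmul, ← hmul, ← hsmul]
        congr 1
        funext l
        by_cases hl : l = j
        · subst hl
          simp [he₀, Matrix.single_mul_mul_single]
        · simp [he₀, hl]
    refine ⟨j, fun z => ?_⟩
    rw [ha', Finset.sum_eq_single j
      (fun l _ hl => by rw [hcoef, hrest l hl, Matrix.trace_zero, zero_mul])
      (fun hh => absurd (Finset.mem_univ j) hh), hcoef j, ← he₀, htr, one_mul]
  choose π hπ using key
  have hinj : Function.Injective π := fun i i' h => by
    by_contra hne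
    have := W.tr_independent (a := fun l => if l = i then 1 else if l = i' then -1 else 0)
      (fun z => by
        rw [Finset.sum_eq_add i i' hne (fun c _ hc => by simp [hc.1, hc.2]) (by simp) (by simp)]
        simp only [if_pos, if_neg (Ne.symm hne), one_mul, neg_mul]
        rw [← σ.apply_symm_apply z, hπ, hπ, h, add_neg_cancel]) i
    simp at this
  exact ⟨Equiv.ofBijective π ((Finite.injective_iff_bijective).1 hinj), hπ⟩

end Model

end Cfsg.Agent.H83.SimpleTrace
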