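import Cfsg.Agent.H83.StarOmega
import Cfsg.Agent.H82.BrauerPairs

/-!
Reduced block idempotents of subgroups inside the residue group algebra, and their behaviour under
truncation along normal inclusions of Brauer pairs.
-/

set_option linter.style.haveILetI false

namespace Cfsg.Agent.H83.Star

open MonoidAlgebra BlockBasic BlockAlgebra CharBasic

universe u

variable {p : ℕ} {M : Ideal Cfsg.AlgInt} {G : Type u} [Group G] [Fintype G]

/-- The inclusion of the group algebra of a subgroup, over any coefficients. -/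
noncomputable def incl {R : Type*} [CommRing R] (K : Subgroup G) :
    MonoidAlgebra R K →+* MonoidAlgebra R G :=
  MonoidAlgebra.mapDomainRingHom R K.subtype

omit [Fintype G] in
theorem coeff_incl {R : Type*} [CommRing R] (K : Subgroup G) (w : MonoidAlgebra R K) (k : K) :
    (incl K w).coeff (k : G) = w.coeff k :=
  Finsupp.mapDomain_apply K.subtype_injective w.coeff k

omit [Fintype G] in
theorem suppIn_incl {R : Type*} [CommRing R] (K : Subgroup G) (w : MonoidAlgebra R K) :
    SuppIn K (incl K w) := fun g hg =>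
  Finsupp.mapDomain_of_notMem_range w.coeff g (by rintro ⟨k, rfl⟩; exact hg k.2)

omit [Fintype G] in
theorem incl_injective {R : Type*} [CommRing R] (K : Subgroup G) :
    Function.Injective (incl (R := R) K) := fun a b h =>
  coeff_injective (Finsupp.ext fun k => by rw [← coeff_incl K a, ← coeff_incl K b, h])

theorem exists_incl {R : Type*} [CommRing R] {K : Subgroup G} {z : MonoidAlgebra R G}
    (hz : SuppIn K z) : ∃ w, incl K w = z := by
  refine ⟨.ofCoeff (Finsupp.equivFunOnFinite.symm fun k : K => z.coeff k), ?_⟩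
  apply coeff_injective
  ext g
  by_cases hg : g ∈ K
  · exact (coeff_incl K _ ⟨g, hg⟩).trans (by simp)
  · rw [suppIn_incl K _ g hg, hz g hg]

theorem red_incl (hM : Cfsg.IsPModular p M) (K : Subgroup G) (w : MonoidAlgebra ℂ K) :
    red hM (incl K w) = incl K (red hM w) := by
  apply coeff_injective
  ext g
  by_cases hg : g ∈ K
  · rw [coeff_red, show g = ((⟨g, hg⟩ : K) : G) from rfl, coeff_incl, coeff_incl, coeff_red]
  · rw [coeff_red, suppIn_incl K w g hg, suppIn_incl K _ g hg, res_zero]

theorem blockUp_eq_incl (K : Subgroup G) [Fintype K] (b : Set (Cfsg.IrrCharacter K)) :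
    H82.blockUp K b = incl K (blockElem b) := H82.blockUp_eq_up K b

/-- Elements supported on `K` commute with elements fixed by `K`. -/
theorem SuppIn.commute {R : Type*} [CommRing R] {K : Subgroup G} {z w : MonoidAlgebra R G}
    (hz : SuppIn K z) (hw : InvBy K w) : Commute z w := by
  classical
  rw [show z = ∑ g : G, single g (z.coeff g) from
    coeff_injective (Finsupp.ext fun y => by simp [coeff_sum, coeff_single, Finsupp.single_apply])]
  refine Commute.sum_left _ _ _ fun g _ => ?_
  by_cases hg : g ∈ K
  · have := (hw.commute hg).smul_left (z.coeff g)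
    simpa using this
  · rw [hz g hg, single_zero]
    exact Commute.zero_left w

theorem suppIn_blockUp (K : Subgroup G) (b : Set (Cfsg.IrrCharacter K)) :
    SuppIn K (H82.blockUp K b) := fun g hg => by
  rw [H82.coeff_blockUp, Cfsg.subgroupBlockCoeff, dif_neg hg]

theorem invBy_blockUp (K : Subgroup G) (b : Set (Cfsg.IrrCharacter K)) :
    InvBy K (H82.blockUp K b) :=
  invBy_of_coeff fun h hh g => H82.isInvElt_blockUp_self K b h hh g

/-- The reduced block idempotent of a set of characters of a subgroup. -/
noncomputable def ebar (hM : Cfsg.IsPModular p M) (K : Subgroup G) (b : Set (Cfsg.IrrCharacter K)) :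
    MonoidAlgebra (Residue hM) G :=
  red hM (H82.blockUp K b)

theorem suppIn_ebar (hM : Cfsg.IsPModular p M) (K : Subgroup G) (b : Set (Cfsg.IrrCharacter K)) :
    SuppIn K (ebar hM K b) := (suppIn_blockUp K b).red

theorem invBy_ebar (hM : Cfsg.IsPModular p M) (K : Subgroup G) (b : Set (Cfsg.IrrCharacter K)) :
    InvBy K (ebar hM K b) := (invBy_blockUp K b).red

theorem ebar_idem (hM : Cfsg.IsPModular p M) (K : Subgroup G) {b : Set (Cfsg.IrrCharacter K)}
    (hb : Cfsg.IsPBlock M b) : ebar hM K b * ebar hM K b = ebar hM K b := by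
  rw [ebar, ← red_mul hM (H82.isIntElt_blockUp hM hb) (H82.isIntElt_blockUp hM hb),
    H82.blockUp_mul, Set.inter_self]

theorem red_zero' (hM : Cfsg.IsPModular p M) : red hM (0 : MonoidAlgebra ℂ G) = 0 := by
  apply coeff_injective
  ext g
  simp [res_zero]

theorem ebar_mul_of_ne (hM : Cfsg.IsPModular p M) (K : Subgroup G)
    {b b' : Set (Cfsg.IrrCharacter K)} (hb : Cfsg.IsPBlock M b) (hb' : Cfsg.IsPBlock M b')
    (hne : b ≠ b') : ebar hM K b * ebar hM K b' = 0 := by
  rw [ebar, ebar, ← red_mul hM (H82.isIntElt_blockUp hM hb) (H82.isIntElt_blockUp hM hb'),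
    H82.blockUp_mul, Set.not_nonempty_iff_eq_empty.1
      (fun h => hne (H82.isPBlock_eq_of_sameBlock hM hb hb' h)), H82.blockUp_empty, red_zero']

theorem ebar_eq_incl (hM : Cfsg.IsPModular p M) (K : Subgroup G) [Fintype K]
    (b : Set (Cfsg.IrrCharacter K)) : ebar hM K b = incl K (red hM (blockElem b)) := by
  rw [ebar, blockUp_eq_incl, red_incl]

theorem ebar_ne_zero (hM : Cfsg.IsPModular p M) (K : Subgroup G) {b : Set (Cfsg.IrrCharacter K)}
    (hb : Cfsg.IsPBlock M b) : ebar hM K b ≠ 0 := by
  cases nonempty_fintype K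
  rw [ebar_eq_incl]
  exact fun h => red_blockElem_ne_zero hM hb (incl_injective K (h.trans (map_zero _).symm))

theorem ebar_inj (hM : Cfsg.IsPModular p M) (K : Subgroup G)
    {b b' : Set (Cfsg.IrrCharacter K)} (hb : Cfsg.IsPBlock M b) (hb' : Cfsg.IsPBlock M b')
    (h : ebar hM K b = ebar hM K b') : b = b' := by
  by_contra hne
  have h1 := ebar_mul_of_ne hM K hb hb' hne
  rw [← h, ebar_idem hM K hb] at h1
  exact ebar_ne_zero hM K hb h1

open scoped Classical in
/-- The blocks of a subgroup. -/
noncomputable def blocksOf (M : Ideal Cfsg.AlgInt) (K : Subgroup G) :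
    Finset (Set (Cfsg.IrrCharacter K)) :=
  Finset.univ.filter fun b => Cfsg.IsPBlock M b

theorem mem_blocksOf {K : Subgroup G} {b : Set (Cfsg.IrrCharacter K)} :
    b ∈ blocksOf M K ↔ Cfsg.IsPBlock M b := by
  classical
  simp [blocksOf]

theorem sum_ebar (hM : Cfsg.IsPModular p M) (K : Subgroup G) :
    ∑ b ∈ blocksOf M K, ebar hM K b = 1 := by
  classical
  cases nonempty_fintype {B : Set (Cfsg.IrrCharacter K) // Cfsg.IsPBlock M B}
  rw [Finset.sum_subtype (p := fun b => Cfsg.IsPBlock M b) _ (fun b => mem_blocksOf)]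
  simp only [ebar]
  rw [← red_sum hM _ fun b _ => H82.isIntElt_blockUp hM b.2, H82.sum_blockUp hM, red_one]

/-- A central idempotent of a subgroup algebra contains a block idempotent or is orthogonal to it. -/
theorem mul_ebar_eq (hM : Cfsg.IsPModular p M) {K : Subgroup G} {b : Set (Cfsg.IrrCharacter K)}
    (hb : Cfsg.IsPBlock M b) {z : MonoidAlgebra (Residue hM) G} (hzs : SuppIn K z)
    (hzi : InvBy K z) (hz : z * z = z) :
    z * ebar hM K b = 0 ∨ z * ebar hM K b = ebar hM K b := by
  cases nonempty_fintype K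
  obtain ⟨w, rfl⟩ := exists_incl hzs
  rw [ebar_eq_incl]
  set e := red hM (blockElem b) with he
  have hee : e * e = e := by
    rw [he, ← red_mul hM (isIntElt_blockElem hM hb) (isIntElt_blockElem hM hb), blockElem_idem]
  have hec : ∀ x, e * x = x * e := fun x => incl_injective K (by
    rw [map_mul, map_mul, he, ← ebar_eq_incl]
    exact ((suppIn_incl K x).commute (invBy_ebar hM K b)).eq.symm)
  have hwc : ∀ x, w * x = x * w := fun x => incl_injective K (by
    rw [map_mul, map_mul]
    exact ((suppIn_incl K x).commute hzi).eq.symm)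
  have hww : w * w = w := incl_injective K (by rw [map_mul, hz])
  rcases central_idem_eq hM hb (w * e) (fun x => by rw [mul_assoc, hec, ← mul_assoc, hwc, mul_assoc])
    (by rw [mul_assoc, ← mul_assoc e, hec, mul_assoc w e, hee, ← mul_assoc, hww])
    (by rw [← he, mul_assoc, hee]) with h | h
  · left; rw [← map_mul, h, map_zero]
  · right; rw [← map_mul, h, ← he]

/-- The truncated product against a block detects the Brauer map character. -/
theorem memLocalIdeal_brOmega_of_trunc (hM : Cfsg.IsPModular p M) {T : Subgroup G}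
    {b : Set (Cfsg.IrrCharacter (Subgroup.centralizer (T : Set G)))} (hb : Cfsg.IsPBlock M b)
    {ξ : Cfsg.IrrCharacter (Subgroup.centralizer (T : Set G))} (hξ : ξ ∈ b)
    {z : MonoidAlgebra ℂ G} (hzi : IsIntElt M z)
    (hzC : InvBy (Subgroup.centralizer (T : Set G)) z)
    (h : trunc (Subgroup.centralizer (T : Set G)) (red hM z) *
      ebar hM (Subgroup.centralizer (T : Set G)) b = 0) :
    Cfsg.MemLocalIdeal M (H82.brOmega T (ξ : _ → ℂ) z) := by
  classical
  cases nonempty_fintype (Subgroup.centralizer (T : Set G))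
  have hincl : incl _ (H82.br T z) = trunc (Subgroup.centralizer (T : Set G)) z := by
    apply coeff_injective
    ext g
    rw [coeff_trunc]
    split_ifs with hg
    · rw [show g = ((⟨g, hg⟩ : Subgroup.centralizer (T : Set G)) : G) from rfl, coeff_incl,
        H82.coeff_br]
    · exact suppIn_incl _ _ g hg
  have hbr := H82.isIntElt_br (Q := T) hzi
  have hbi := isIntElt_blockElem hM hb
  have h0 : red hM (H82.br T z * blockElem b) = 0 := by
    refine incl_injective (Subgroup.centralizer (T : Set G)) ?_
    rw [red_mul hM hbr hbi, map_mul, ← ebar_eq_incl, ← red_incl, hincl, red_trunc, h, map_zero]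
  have hc : IsCentralElt (H82.br T z) :=
    H82.isCentralElt_br fun q hq g => hzC.coeff_eq hq g
  have h1 := H82.isIdealElt_omega hM ξ.2 (hc.mul (isCentralElt_blockElem b))
    ((red_eq_zero_iff hM (hbr.mul hM hbi)).1 h0)
  rwa [omega_mul ξ.2 hc, omega_blockElem, if_pos hξ, mul_one, ← H82.brOmega_eq] at h1

/-- The idempotent of the lower pair of a normal inclusion contains the upper one after
truncation. -/
theorem trunc_ebar_mul_of_normal [Fact p.Prime] (hM : Cfsg.IsPModular p M) {S T : Subgroup G}
    {f : Set (Cfsg.IrrCharacter (Subgroup.centralizer (S : Set G)))}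
    {f' : Set (Cfsg.IrrCharacter (Subgroup.centralizer (T : Set G)))}
    (h : Cfsg.IsNormalSubpair p M S f T f') :
    trunc (Subgroup.centralizer (T : Set G)) (ebar hM (Subgroup.centralizer (S : Set G)) f) *
        ebar hM (Subgroup.centralizer (T : Set G)) f' =
      ebar hM (Subgroup.centralizer (T : Set G)) f' := by
  obtain ⟨hSf, hTf, hST, -, hst, -⟩ := id h
  have hfT : InvBy T (H82.blockUp (Subgroup.centralizer (S : Set G)) f) :=
    invBy_of_coeff fun x hx g => H82.isInvElt_blockUp_of_stabilizes hM hSf.2 hst x hx g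
  have hfK : InvBy (Subgroup.centralizer (T : Set G)) (H82.blockUp (Subgroup.centralizer (S : Set G)) f) :=
    (invBy_blockUp _ f).mono (H82.centralizer_mono hST)
  have hid : trunc (Subgroup.centralizer (T : Set G)) (ebar hM (Subgroup.centralizer (S : Set G)) f) *
      trunc (Subgroup.centralizer (T : Set G)) (ebar hM (Subgroup.centralizer (S : Set G)) f) =
      trunc (Subgroup.centralizer (T : Set G)) (ebar hM (Subgroup.centralizer (S : Set G)) f) := by
    have hfTe : InvBy T (ebar hM (Subgroup.centralizer (S : Set G)) f) := hfT.red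
    rw [← trunc_mul (residue_p_eq_zero hM) hTf.1 hfTe hfTe, ebar_idem hM _ hSf.2]
  have hinv : InvBy (Subgroup.centralizer (T : Set G)) (trunc (Subgroup.centralizer (T : Set G)) (ebar hM (Subgroup.centralizer (S : Set G)) f)) := by
    refine invBy_of_coeff fun x hx g => ?_
    classical
    have hiff : x * g * x⁻¹ ∈ (Subgroup.centralizer (T : Set G)) ↔ g ∈ (Subgroup.centralizer (T : Set G)) :=
      ⟨fun hm => by simpa [mul_assoc] using (Subgroup.centralizer (T : Set G)).mul_mem ((Subgroup.centralizer (T : Set G)).mul_mem ((Subgroup.centralizer (T : Set G)).inv_mem hx) hm) hx,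
        fun hm => (Subgroup.centralizer (T : Set G)).mul_mem ((Subgroup.centralizer (T : Set G)).mul_mem hx hm) ((Subgroup.centralizer (T : Set G)).inv_mem hx)⟩
    rw [coeff_trunc, coeff_trunc]
    exact if_congr hiff (hfK.red.coeff_eq hx g) rfl
  rcases mul_ebar_eq hM hTf.2 (suppIn_trunc (Subgroup.centralizer (T : Set G)) _) hinv hid with h0 | h0
  · exfalso
    obtain ⟨ξ, hξ⟩ := isPBlock_nonempty hM hTf.2
    have h1 := memLocalIdeal_brOmega_of_trunc hM hTf.2 hξ (H82.isIntElt_blockUp hM hSf.2) hfK h0
    exact not_memLocalIdeal_one hM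
      (by simpa using memLocalIdeal_sub hM h1 (H82.brOmega_blockUp_of_isNormalSubpair h hξ))
  · exact h0

end Cfsg.Agent.H83.Star
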