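import Cfsg.Agent.H83.StarInd
import Cfsg.Agent.H83.HeightWeight
import Cfsg.Agent.CharInduce.Brauer
import Cfsg.Agent.H41.Nilpotent
import Cfsg.Agent.CharBasic.Kernel

/-!
The star product of a character with a weight is a generalized character.
-/

set_option linter.style.haveILetI false

open scoped ComplexConjugate

namespace Cfsg.Agent.H83.Star

open MonoidAlgebra BlockBasic BlockAlgebra CharBasic

universe u

variable {p : ℕ} {M : Ideal Cfsg.AlgInt} {G : Type u} [Group G] [Fintype G]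
  [hp : Fact p.Prime]

open scoped Classical in
/-- The weighted sum of the block parts of a class function at the sections. -/
noncomputable def starChar (p : ℕ) [Fact p.Prime] (M : Ideal Cfsg.AlgInt) (f : G → ℂ)
    (Lam : G → MonoidAlgebra ℂ G → ℂ) (g : G) : ℂ :=
  ∑ E ∈ idemsOf M (cen (pPart (p := p) g)), Lam (pPart (p := p) g) E *
    chiLin f (single (pPart (p := p) g) 1 * E * single (pReg (p := p) g) 1)

variable {Lam : G → MonoidAlgebra ℂ G → ℂ}

theorem starChar_mul {f : G → ℂ} {x s : G} (hc : Commute x s) (hx : ∃ k, orderOf x = p ^ k)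
    (hs : ¬ p ∣ orderOf s) :
    starChar p M f Lam (x * s) =
      ∑ E ∈ idemsOf M (cen x), Lam x E * chiLin f (single x 1 * E * single s 1) := by
  rw [starChar, pReg, pPart_mul_of hc hx hs, inv_mul_cancel_left]

theorem isClassFunction_starChar {f : G → ℂ} (hf : Cfsg.IsClassFunction G f)
    (hL : IsWeight p M Lam) : Cfsg.IsClassFunction G (starChar p M f Lam) := by
  classical
  intro g h
  have hreg : pReg (p := p) (h * g * h⁻¹) = h * pReg (p := p) g * h⁻¹ := by
    rw [pReg, pReg, pPart_conj]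
    group
  have hs : ∀ x : G, single (h * x * h⁻¹) (1 : ℂ) = cj h (single x 1) := fun x => by
    simp [cj_eq_single, single_mul_single]
  show starChar p M f Lam (h * g * h⁻¹) = starChar p M f Lam g
  rw [starChar, starChar, hreg, pPart_conj, idemsOf_conj (p := p),
    Finset.sum_image fun a _ b _ hab => by
      simpa [← cj_mul_left, cj_one_apply] using congrArg (cj h⁻¹) hab]
  refine Finset.sum_congr rfl fun E _ => ?_
  rw [hL.cjInv, hs, hs, ← map_mul, ← map_mul, chiLin_cj hf]

omit [Group G] hp in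
theorem eq_sum_single (z : MonoidAlgebra ℂ G) : z = ∑ g : G, single g (z.coeff g) := by
  classical
  exact coeff_injective (Finsupp.ext fun y => by simp [coeff_sum, coeff_single, Finsupp.single_apply])

omit hp in
theorem chiLin_sum' {ι : Type*} (f : G → ℂ) (s : Finset ι) (z : ι → MonoidAlgebra ℂ G) :
    chiLin f (∑ i ∈ s, z i) = ∑ i ∈ s, chiLin f (z i) := by
  classical
  induction s using Finset.induction with
  | empty => simp [chiLin]
  | insert a s ha ih => rw [Finset.sum_insert ha, Finset.sum_insert ha, chiLin_add, ih]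

omit hp in
theorem chiLin_shift (f : G → ℂ) (q s : G) (z : MonoidAlgebra ℂ G) :
    chiLin f (single q 1 * z * single s 1) = ∑ c : G, z.coeff c * f (q * c * s) := by
  conv_lhs => rw [eq_sum_single z, Finset.mul_sum, Finset.sum_mul, chiLin_sum']
  refine Finset.sum_congr rfl fun c _ => ?_
  rw [single_mul_single, single_mul_single, chiLin_single, one_mul, mul_one]

omit hp in
theorem isInt_of_mul {c : ℂ} {n : ℤ} {d : ℕ} (hd : d ≠ 0) (h : (d : ℂ) * c = n)
    (hc : IsIntegral ℤ c) : ∃ z : ℤ, c = z := by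
  have hr : c = algebraMap ℚ ℂ ((n : ℚ) / d) := by
    rw [map_div₀, map_intCast, map_natCast, eq_div_iff (Nat.cast_ne_zero.2 hd), mul_comm, h]
  rw [hr, isIntegral_algebraMap_iff (algebraMap ℚ ℂ).injective,
    IsIntegrallyClosed.isIntegral_iff] at hc
  obtain ⟨z, hz⟩ := hc
  exact ⟨z, by rw [hr, ← hz]; simp⟩

section Prod

variable {hM : Cfsg.IsPModular p M} {χ : Cfsg.IrrCharacter G} {Q R : Subgroup G}

/-- The coefficient of a character of the regular part. -/
noncomputable def starCoeff (p : ℕ) [Fact p.Prime] (M : Ideal Cfsg.AlgInt) (f : G → ℂ)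
    (Lam : G → MonoidAlgebra ℂ G → ℂ) (R : Subgroup G) [Fintype R] (θ : R → ℂ) (q : G) : ℂ :=
  Cfsg.classInner (fun r : R => starChar p M f Lam (q * (r : G))) θ

variable [Fintype R]

omit [Fintype R] in
theorem starChar_prod (hQ : IsPGroup p Q) (hR : ¬ p ∣ Nat.card R)
    (hc : ∀ q ∈ Q, ∀ r ∈ R, Commute q r) {q : G} (hq : q ∈ Q) (r : R) :
    starChar p M (χ : G → ℂ) Lam (q * (r : G)) = ∑ E ∈ idemsOf M (cen q),
      Lam q E * chiLin (χ : G → ℂ) (single q 1 * E * single (r : G) 1) :=
  starChar_mul (hc q hq r r.2) (exists_orderOf_of_mem hQ hq)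
    fun h => hR (h.trans (Subgroup.orderOf_coe r ▸ orderOf_dvd_natCard r))

omit [Fintype R] [Fintype G] hp in
theorem le_cen_of_commute (hc : ∀ q ∈ Q, ∀ r ∈ R, Commute q r) {q : G} (hq : q ∈ Q) :
    R ≤ cen q := fun r hr => mem_cen_iff.2 (hc q hq r hr)

omit [Fintype R] in
theorem isClassFunction_starChar_prod (hL : IsWeight p M Lam)
    (hc : ∀ q ∈ Q, ∀ r ∈ R, Commute q r) {q : G} (hq : q ∈ Q) :
    Cfsg.IsClassFunction R (fun r : R => starChar p M (χ : G → ℂ) Lam (q * (r : G))) := by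
  intro r r'
  show starChar p M _ Lam (q * ((r' : G) * (r : G) * (r' : G)⁻¹)) = _
  rw [show q * ((r' : G) * (r : G) * (r' : G)⁻¹) = (r' : G) * (q * (r : G)) * (r' : G)⁻¹ by
    rw [← mul_assoc (r' : G) q, ← (hc q hq r' r'.2).eq]; group]
  exact isClassFunction_starChar (IsIrr.isClassFunction χ.2) hL _ _

theorem isClassFunction_starCoeff (hL : IsWeight p M Lam)
    (hc : ∀ q ∈ Q, ∀ r ∈ R, Commute q r) (θ : R → ℂ) :
    Cfsg.IsClassFunction Q (fun q : Q => starCoeff p M (χ : G → ℂ) Lam R θ (q : G)) := by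
  intro q h
  refine congrArg (fun F => Cfsg.classInner F θ) (funext fun r => ?_)
  show starChar p M _ Lam ((h : G) * (q : G) * (h : G)⁻¹ * (r : G)) = _
  rw [show (h : G) * (q : G) * (h : G)⁻¹ * (r : G) = (h : G) * ((q : G) * (r : G)) * (h : G)⁻¹ by
    rw [mul_assoc _ (h : G)⁻¹, ((hc h h.2 r r.2).inv_left).eq]; group]
  exact isClassFunction_starChar (IsIrr.isClassFunction χ.2) hL _ _

/-- The coefficient times the degree is a weighted value at the idempotent of the character. -/
theorem degree_mul_starCoeff (hQ : IsPGroup p Q) (hR : ¬ p ∣ Nat.card R)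
    (hc : ∀ q ∈ Q, ∀ r ∈ R, Commute q r) (θ : Cfsg.IrrCharacter R) {q : G} (hq : q ∈ Q) :
    (θ : R → ℂ) 1 * starCoeff p M (χ : G → ℂ) Lam R (θ : R → ℂ) q =
      starG hM (χ : G → ℂ) Lam (red hM (H82.blockUp R {θ})) q := by
  classical
  have hf := IsIrr.isClassFunction χ.2
  obtain ⟨e, he⟩ := exists_orderOf_of_mem hQ hq
  have hsupp : SuppIn (cen q) (H82.blockUp R {θ}) := fun g hg =>
    suppIn_blockUp R _ g fun h => hg (le_cen_of_commute hc hq h)
  have hint : IsIntElt M (H82.blockUp R {θ}) := by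
    intro g
    rw [H82.coeff_blockUp, Cfsg.subgroupBlockCoeff]
    split_ifs
    · rw [Cfsg.blockCoeff, finsum_mem_singleton]
      refine memLocalRing_mul hM (memLocalRing_natCast_inv hM hR) (memLocalRing_of_isIntegral hM ?_)
      exact (IsChar.isIntegral (IsIrr.isCharacter θ.2) _).mul
        ((IsChar.isIntegral (IsIrr.isCharacter θ.2) _).map (starRingEnd ℂ).toIntAlgHom)
    · exact (locRing hM).zero_mem
  have hidem : H82.blockUp R {θ} * H82.blockUp R {θ} = H82.blockUp R {θ} := by
    rw [H82.blockUp_mul, Set.inter_self]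
  simp only [starCoeff, classInner_def, starChar_prod hQ hR hc hq, Finset.sum_mul, Finset.mul_sum,
    starG]
  rw [Finset.sum_comm]
  refine Finset.sum_congr rfl fun E hE => ?_
  obtain ⟨b, hb, rfl⟩ := mem_idemsOf.1 hE
  have hEq : Commute (H82.blockUp R {θ}) (H82.blockUp (cen q) b) :=
    hsupp.commute (invBy_blockUp _ b)
  have hlift : IsLiftAt hM q
      (trunc (cen q) (red hM (H82.blockUp R {θ})) * red hM (H82.blockUp (cen q) b))
      (H82.blockUp R {θ} * H82.blockUp (cen q) b) := by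
    refine isLiftAt_of_suppIn hM ((suppIn_trunc _ _).mul (suppIn_blockUp (cen q) b).red) ?_
      (hint.mul hM (H82.isIntElt_blockUp hM hb)) (hsupp.mul (suppIn_blockUp (cen q) b)) ?_
    · rw [mul_assoc, ← mul_assoc (H82.blockUp (cen q) b), ← hEq.eq, mul_assoc (H82.blockUp R {θ}),
        ← mul_assoc, hidem, H82.blockUp_mul, Set.inter_self]
    · rw [trunc_of_suppIn hsupp.red, red_mul hM hint (H82.isIntElt_blockUp hM hb)]
  rw [starVal_eq hM hf he hlift, hEq.eq, ← mul_assoc]
  conv_rhs => rw [eq_sum_single (H82.blockUp R {θ}), Finset.mul_sum, chiLin_sum', Finset.mul_sum]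
  rw [← Finset.sum_subset (Finset.subset_univ ((Finset.univ : Finset G).filter (· ∈ R)))
    fun g _ hg => by
      rw [suppIn_blockUp R _ g fun h => hg (Finset.mem_filter.2 ⟨Finset.mem_univ _, h⟩),
        single_zero, mul_zero]
      simp [chiLin]]
  rw [Finset.sum_subtype (p := fun g => g ∈ R) _ (fun g => by simp)]
  refine Finset.sum_congr rfl fun r _ => ?_
  rw [show single (r : G) ((H82.blockUp R {θ}).coeff (r : G)) =
      (H82.blockUp R {θ}).coeff (r : G) • single (r : G) (1 : ℂ) by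
    rw [smul_single, smul_eq_mul, mul_one], mul_smul_comm, chiLin_smul, H82.coeff_blockUp_of_mem,
    Cfsg.blockCoeff, finsum_mem_singleton]
  ring

theorem isIntegral_starCoeff (hint : ∀ q E, IsIntegral ℤ (Lam q E)) (hQ : IsPGroup p Q)
    (hR : ¬ p ∣ Nat.card R) (hc : ∀ q ∈ Q, ∀ r ∈ R, Commute q r) (θ : Cfsg.IrrCharacter R)
    {q : G} (hq : q ∈ Q) :
    IsIntegral ℤ (starCoeff p M (χ : G → ℂ) Lam R (θ : R → ℂ) q) := by
  classical
  cases nonempty_fintype (cen q)
  have h1 : starCoeff p M (χ : G → ℂ) Lam R (θ : R → ℂ) q = ∑ E ∈ idemsOf M (cen q),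
      Lam q E * Cfsg.classInner
        (fun r : R => chiLin (χ : G → ℂ) (single q 1 * E * single (r : G) 1)) (θ : R → ℂ) := by
    simp only [starCoeff, classInner_def, starChar_prod hQ hR hc hq, Finset.sum_mul, Finset.mul_sum]
    rw [Finset.sum_comm]
    exact Finset.sum_congr rfl fun E _ => Finset.sum_congr rfl fun r _ => by ring
  rw [h1]
  refine IsIntegral.sum _ fun E hE => (hint q E).mul ?_
  obtain ⟨b, hb, rfl⟩ := mem_idemsOf.1 hE
  obtain ⟨a, ha⟩ := subgroup_scalars (self_mem_cen q) fun c hc' => (mem_cen_iff.1 hc').eq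
  have hai : ∀ ψ, IsIntegral ℤ (a ψ) := by
    intro ψ
    refine IsIntegral.of_pow (orderOf_pos (⟨q, self_mem_cen q⟩ : cen q)) ?_
    have key : ∀ n : ℕ, (ψ : cen q → ℂ) (⟨q, self_mem_cen q⟩ ^ n) =
        a ψ ^ n * (ψ : cen q → ℂ) 1 := by
      intro n
      induction n with
      | zero => simp
      | succ n ih => rw [pow_succ', ha, ih, pow_succ']; ring
    have h2 := key (orderOf (⟨q, self_mem_cen q⟩ : cen q))
    rw [pow_orderOf_eq_one, eq_comm, mul_eq_right₀ (IsIrr.one_ne_zero ψ.2)] at h2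
    rw [h2]
    exact isIntegral_one
  have hval : (fun r : R => chiLin (χ : G → ℂ)
      (single q 1 * H82.blockUp (cen q) b * single (r : G) 1)) =
      ∑ ψ ∈ Finset.univ.filter (fun ψ : Cfsg.IrrCharacter (cen q) => ψ ∈ b),
        ((mult χ ψ : ℂ) * a ψ) •
          fun r : R => (ψ : cen q → ℂ) ⟨r, le_cen_of_commute hc hq r.2⟩ := by
    funext r
    rw [chiLin_shift]
    simp only [H82.coeff_blockUp]
    refine (sum_subgroupBlockCoeff_shift (self_mem_cen q) b χ a ha
      ⟨r, le_cen_of_commute hc hq r.2⟩).trans ?_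
    simp only [Finset.sum_apply, Pi.smul_apply, smul_eq_mul]
  rw [hval, classInner_sum_left]
  refine IsIntegral.sum _ fun ψ _ => ?_
  rw [classInner_smul_left]
  obtain ⟨n, hn⟩ := classInner_isChar_nat
    (CharInduce.IsChar.comp (IsIrr.isCharacter ψ.2) (Subgroup.inclusion (le_cen_of_commute hc hq)))
    (IsIrr.isCharacter θ.2)
  refine (((isIntegral_algebraMap (x := (mult χ ψ : ℤ))).mul (hai ψ))).mul ?_
  rw [show Cfsg.classInner (fun r : R => (ψ : cen q → ℂ) ⟨r, le_cen_of_commute hc hq r.2⟩)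
    (θ : R → ℂ) = (n : ℂ) from hn]
  exact isIntegral_algebraMap (x := (n : ℤ))

theorem isGen_starCoeff (hM : Cfsg.IsPModular p M) (hL : IsWeight p M Lam)
    (hint : ∀ q E, IsIntegral ℤ (Lam q E)) (hQ : IsPGroup p Q)
    (hR : ¬ p ∣ Nat.card R) (hc : ∀ q ∈ Q, ∀ r ∈ R, Commute q r) (θ : Cfsg.IrrCharacter R) :
    Cfsg.IsGeneralizedCharacter Q
      (fun q : Q => starCoeff p M (χ : G → ℂ) Lam R (θ : R → ℂ) (q : G)) := by
  classical
  cases nonempty_fintype Q
  refine CharInduce.isGeneralizedCharacter_of_coeff (isClassFunction_starCoeff hL hc _) fun η => ?_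
  obtain ⟨d, hd0, hd, hdvd, -⟩ := IsIrr.degree_dvd θ.2
  have hi : InvBy Q (red hM (H82.blockUp R {θ})) := by
    refine InvBy.red (invBy_of_coeff fun x hx g => ?_)
    by_cases hg : g ∈ R
    · rw [show x * g * x⁻¹ = g by rw [(hc x hx g hg).eq, mul_inv_cancel_right]]
    · rw [suppIn_blockUp R _ g hg, suppIn_blockUp R _ _ fun h => hg ?_]
      have h2 := (hc x hx _ h).eq
      rw [show g = x⁻¹ * (x * g * x⁻¹) * x by group, mul_assoc, ← h2, inv_mul_cancel_left]
      exact h
  have hint' : IsIntElt M (H82.blockUp R {θ}) := by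
    intro g
    rw [H82.coeff_blockUp, Cfsg.subgroupBlockCoeff]
    split_ifs
    · rw [Cfsg.blockCoeff, finsum_mem_singleton]
      refine memLocalRing_mul hM (memLocalRing_natCast_inv hM hR) (memLocalRing_of_isIntegral hM ?_)
      exact (IsChar.isIntegral (IsIrr.isCharacter θ.2) _).mul
        ((IsChar.isIntegral (IsIrr.isCharacter θ.2) _).map (starRingEnd ℂ).toIntAlgHom)
    · exact (locRing hM).zero_mem
  have hii : red hM (H82.blockUp R {θ}) * red hM (H82.blockUp R {θ}) =
      red hM (H82.blockUp R {θ}) := by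
    rw [← red_mul hM hint' hint', H82.blockUp_mul, Set.inter_self]
  obtain ⟨n, hn⟩ := CharInduce.IsGen.exists_int_coeff (isGen_starG (χ := χ) hL hQ hi hii)
    (IsIrr.isCharacter η.2)
  set c := Cfsg.classInner (fun q : Q => starCoeff p M (χ : G → ℂ) Lam R (θ : R → ℂ) (q : G))
    (η : Q → ℂ) with hcdef
  have h1 : (d : ℂ) * c = n := by
    rw [← hn, hcdef, ← classInner_smul_left]
    congr 1
    funext q
    show (d : ℂ) * _ = _
    rw [← hd]
    exact degree_mul_starCoeff hQ hR hc θ q.2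
  have h2 : IsIntegral ℤ ((Nat.card Q : ℂ) * c) := by
    rw [hcdef, classInner_def, ← mul_assoc, mul_inv_cancel₀ (Nat.cast_ne_zero.2 Nat.card_pos.ne'),
      one_mul]
    exact IsIntegral.sum _ fun q _ => (isIntegral_starCoeff hint hQ hR hc θ q.2).mul
      ((IsChar.isIntegral (IsIrr.isCharacter η.2) _).map (starRingEnd ℂ).toIntAlgHom)
  refine isInt_of_mul hd0.ne' h1 ?_
  obtain ⟨k, hk⟩ := hQ.exists_card_eq
  have hcop : Nat.Coprime d (Nat.card Q) := by
    rw [hk]
    refine Nat.Coprime.pow_right k ((Nat.coprime_comm).1 ?_)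
    exact (Nat.Prime.coprime_iff_not_dvd hp.out).2 fun h => hR (h.trans hdvd)
  have hbez := congrArg (Int.cast : ℤ → ℂ) (Nat.gcd_eq_gcd_ab d (Nat.card Q))
  rw [hcop.gcd_eq_one] at hbez
  push_cast at hbez
  rw [show c = (d.gcdA (Nat.card Q) : ℂ) * (n : ℂ) +
      (d.gcdB (Nat.card Q) : ℂ) * ((Nat.card Q : ℂ) * c) by
    rw [← h1]; linear_combination c * hbez]
  exact ((isIntegral_algebraMap (x := d.gcdA (Nat.card Q))).mul
    (isIntegral_algebraMap (x := n))).add
    ((isIntegral_algebraMap (x := d.gcdB (Nat.card Q))).mul h2)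

/-- The star product on a product of a `p`-group and a commuting `p'`-group. -/
theorem isGen_starChar_prod (hM : Cfsg.IsPModular p M) (hL : IsWeight p M Lam)
    (hint : ∀ q E, IsIntegral ℤ (Lam q E)) (hQ : IsPGroup p Q)
    (hR : ¬ p ∣ Nat.card R) (hc : ∀ q ∈ Q, ∀ r ∈ R, Commute q r) :
    Cfsg.IsGeneralizedCharacter (Q × R)
      (fun z : Q × R => starChar p M (χ : G → ℂ) Lam ((z.1 : G) * (z.2 : G))) := by
  classical
  have h : (fun z : Q × R => starChar p M (χ : G → ℂ) Lam ((z.1 : G) * (z.2 : G))) =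
      ∑ θ : Cfsg.IrrCharacter R,
        (fun z : Q × R => starCoeff p M (χ : G → ℂ) Lam R (θ : R → ℂ) (z.1 : G)) *
          fun z : Q × R => (θ : R → ℂ) z.2 := by
    funext z
    have := congrFun (classFunction_expansion
      (isClassFunction_starChar_prod (χ := χ) hL hc z.1.2)) z.2
    simp only [Finset.sum_apply, Pi.smul_apply, smul_eq_mul] at this
    rw [this, Finset.sum_apply]
    rfl
  rw [h]
  exact CharInduce.IsGen.sum _ _ fun θ _ => CharInduce.IsGen.mul
    (CharInduce.IsGen.comp (isGen_starCoeff hM hL hint hQ hR hc θ) (MonoidHom.fst Q R))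
    (CharInduce.IsGen.comp (CharInduce.IsGen.of_char (IsIrr.isCharacter θ.2)) (MonoidHom.snd Q R))

end Prod

/-- A nilpotent subgroup is a product of a `p`-group and a commuting `p'`-group. -/
theorem exists_prod_decomp (E : Subgroup G) (hE : Group.IsNilpotent E) :
    ∃ (Q R : Subgroup G) (f : E →* Q × R), IsPGroup p Q ∧ ¬ p ∣ Nat.card R ∧
      (∀ q ∈ Q, ∀ r ∈ R, Commute q r) ∧ ∀ x : E, (x : G) = ((f x).1 : G) * ((f x).2 : G) := by
  classical
  let P : Sylow p E := default
  haveI : (P : Subgroup E).Normal :=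
    (P : Sylow p E).normal_of_normalizerCondition (Group.normalizerCondition_of_isNilpotent (G := E))
  obtain ⟨R', hR'⟩ := Subgroup.exists_right_complement'_of_coprime P.card_coprime_index
  have hcard : Nat.card R' = (P : Subgroup E).index := hR'.symm.index_eq_card.symm
  have hnd : ¬ p ∣ Nat.card R' := by rw [hcard]; exact P.not_dvd_index
  have hcomm : ∀ (a : (P : Subgroup E)) (b : R'), Commute (a : E) (b : E) := by
    intro a b
    obtain ⟨k, hk⟩ := IsPGroup.iff_orderOf.1 P.2 a
    refine H41.commute_of_coprime_orderOf hE ?_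
    rw [Subgroup.orderOf_coe a, hk]
    exact ((Nat.Prime.coprime_iff_not_dvd hp.out).2 fun h => hnd
      (h.trans (Subgroup.orderOf_coe b ▸ orderOf_dvd_natCard b))).pow_left k
  let φ : ↥(P : Subgroup E) × ↥R' →* E :=
    MonoidHom.noncommCoprod (P : Subgroup E).subtype R'.subtype hcomm
  let ψ : ↥(P : Subgroup E) × ↥R' ≃* E := MulEquiv.ofBijective φ hR'
  let iP := (P : Subgroup E).equivMapOfInjective E.subtype E.subtype_injective
  let iR := R'.equivMapOfInjective E.subtype E.subtype_injective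
  refine ⟨(P : Subgroup E).map E.subtype, R'.map E.subtype,
    (MonoidHom.prodMap iP.toMonoidHom iR.toMonoidHom).comp ψ.symm.toMonoidHom,
    P.2.map _, ?_, ?_, fun x => ?_⟩
  · rw [Subgroup.card_map_of_injective E.subtype_injective]
    exact hnd
  · rintro _ ⟨a, ha, rfl⟩ _ ⟨b, hb, rfl⟩
    exact (hcomm ⟨a, ha⟩ ⟨b, hb⟩).map E.subtype
  · obtain ⟨z, rfl⟩ := ψ.surjective x
    simp only [MonoidHom.comp_apply, MulEquiv.coe_toMonoidHom, MulEquiv.symm_apply_apply]
    rfl

/-- The star product is a generalized character. -/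
theorem isGen_starChar (hM : Cfsg.IsPModular p M) (hL : IsWeight p M Lam)
    (hint : ∀ q E, IsIntegral ℤ (Lam q E)) (χ : Cfsg.IrrCharacter G) :
    Cfsg.IsGeneralizedCharacter G (starChar p M (χ : G → ℂ) Lam) := by
  classical
  refine CharInduce.isGeneralized_of_elem
    (isClassFunction_starChar (IsIrr.isClassFunction χ.2) hL) fun E hE => ?_
  obtain ⟨q, hq, hEl⟩ := hE
  haveI : Fact q.Prime := ⟨hq⟩
  obtain ⟨Q, R, f, hQ, hR, hc, hf⟩ :=
    exists_prod_decomp (p := p) E (CharInduce.isNilpotent_of_isElementary hEl)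
  cases nonempty_fintype R
  have h : (fun x : E => starChar p M (χ : G → ℂ) Lam (x : G)) =
      fun x => (fun z : Q × R => starChar p M (χ : G → ℂ) Lam ((z.1 : G) * (z.2 : G))) (f x) :=
    funext fun x => congrArg _ (hf x)
  rw [h]
  exact CharInduce.IsGen.comp (isGen_starChar_prod hM hL hint hQ hR hc) f

end Cfsg.Agent.H83.Star
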