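import Cfsg.Agent.H83.StarLocal
import Cfsg.Agent.CharBasic.Complete

/-!
The weighted values form a generalized character for every fixed idempotent: induction on the
`p`-group, the idempotents without fixed support being projective relative to a subgroup of index
`p`.
-/

set_option linter.style.haveILetI false

open scoped ComplexConjugate

namespace Cfsg.Agent.H83.Star

open MonoidAlgebra BlockBasic BlockAlgebra CharBasic

universe u

variable {p : ℕ} {M : Ideal Cfsg.AlgInt} {G : Type u} [Group G] [Fintype G]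
  [hp : Fact p.Prime] {hM : Cfsg.IsPModular p M} {f : G → ℂ}
  {Lam : G → MonoidAlgebra ℂ G → ℂ}

/-- A primitive fixed idempotent without fixed support is a trace from a subgroup of index `p`. -/
theorem exists_eq_trOp {Q : Subgroup G} (hQ : IsPGroup p Q) {i : MonoidAlgebra (Residue hM) G}
    (hprim : IsPrim (fixAlg (Residue hM) Q) i)
    (h0 : trunc (Subgroup.centralizer (Q : Set G)) i = 0) :
    ∃ S t a, MaxData p Q S t ∧ InvBy S a ∧ i = trOp p t a := by
  classical
  haveI := isAlgClosed_residue hM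
  haveI : Module.Finite (Residue hM) (MonoidAlgebra (Residue hM) G) :=
    Module.Finite.of_basis (MonoidAlgebra.basis G (Residue hM))
  have hi : InvBy Q i := hprim.1
  by_contra hc
  push Not at hc
  have key : ∀ n, ∀ z : MonoidAlgebra (Residue hM) G, InvBy Q z →
      trunc (Subgroup.centralizer (Q : Set G)) z = 0 →
      (Finset.univ.filter fun g => z.coeff g ≠ 0).card = n →
      scal (k := Residue hM) i (i * z * i) = 0 := by
    intro n
    induction n using Nat.strong_induction_on with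
    | _ n ih =>
    intro z hz hz0 hn
    by_cases hzero : z = 0
    · rw [hzero, mul_zero, zero_mul, scal_zero hprim]
    obtain ⟨g, hg⟩ : ∃ g, z.coeff g ≠ 0 := by
      by_contra hne
      push Not at hne
      exact hzero (coeff_injective (Finsupp.ext fun g => by simpa using hne g))
    have hgC : g ∉ Subgroup.centralizer (Q : Set G) := by
      intro hgC
      have := congrArg (fun w => w.coeff g) hz0
      simp only [coeff_trunc, if_pos hgC, coeff_zero, Finsupp.coe_zero, Pi.zero_apply] at this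
      exact hg this
    obtain ⟨S, t, a, hS, ha, hz', hz'g, hz'0, htr⟩ := exists_peel hQ hz hgC
    have hlt : (Finset.univ.filter fun y => (z - trOp p t a).coeff y ≠ 0).card < n := by
      rw [← hn]
      refine Finset.card_lt_card ⟨fun y hy => ?_, fun hsub => ?_⟩
      · simp only [Finset.mem_filter, Finset.mem_univ, true_and] at hy ⊢
        exact fun h => hy (hz'0 y h)
      · exact (Finset.mem_filter.1 (hsub (Finset.mem_filter.2 ⟨Finset.mem_univ g, hg⟩))).2 hz'g
    have htA : InvBy Q (trOp p t a) := by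
      have := hz.sub hz'
      rwa [sub_sub_cancel] at this
    have h1 : InCorner (fixAlg (Residue hM) Q) i (i * trOp p t a * i) :=
      InCorner.of_mem hprim.1 hprim.2.1 htA
    have h2 : InCorner (fixAlg (Residue hM) Q) i (i * (z - trOp p t a) * i) :=
      InCorner.of_mem hprim.1 hprim.2.1 hz'
    have hnil : scal (k := Residue hM) i (i * trOp p t a * i) = 0 := by
      rw [scal_eq_zero_iff hprim h1]
      by_contra hnn
      obtain ⟨v, hv, -, hvw⟩ := exists_inv_of_not_nilpotent hprim h1 hnn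
      refine hc S t (v * i * a * i) hS ?_ ?_
      · exact (((hv.1 : InvBy Q v).mul hi).mono hS.le |>.mul ha).mul (hi.mono hS.le)
      · conv_lhs => rw [← hvw]
        rw [← mul_assoc, ← mul_assoc, mul_trOp_mul hS.mem ((hv.1 : InvBy Q v).mul hi) hi]
    rw [show i * z * i = i * trOp p t a * i + i * (z - trOp p t a) * i by
      rw [← add_mul, ← mul_add, add_sub_cancel], scal_add hprim h1 h2, hnil,
      ih _ hlt _ hz' (by rw [htr, hz0]) rfl, add_zero]
  have h1 := key _ i hi h0 rfl
  rw [hprim.2.1, hprim.2.1, scal_self hprim] at h1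
  exact one_ne_zero h1

omit [Fintype G] hp in
theorem cj_mem_fixAlg {Q S : Subgroup G} {t : G} (hS : MaxData p Q S t) {z : MonoidAlgebra (Residue hM) G}
    (hz : InvBy S z) {h : G} (hh : h ∈ Q) : InvBy S (cj h z) := by
  intro s hs
  conv_rhs => rw [← hz _ (hS.normal h⁻¹ (Q.inv_mem hh) s hs)]
  rw [← cj_mul_left, ← cj_mul_left]
  congr 1
  group

theorem isPrim_cj {Q S : Subgroup G} {t : G} (hS : MaxData p Q S t)
    {j : MonoidAlgebra (Residue hM) G} (hj : IsPrim (fixAlg (Residue hM) S) j) {h : G} (hh : h ∈ Q) :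
    IsPrim (fixAlg (Residue hM) S) (cj h j) := by
  have hback : ∀ z : MonoidAlgebra (Residue hM) G, cj h⁻¹ (cj h z) = z := fun z => by
    rw [← cj_mul_left, inv_mul_cancel, cj_one_apply]
  have hforth : ∀ z : MonoidAlgebra (Residue hM) G, cj h (cj h⁻¹ z) = z := fun z => by
    rw [← cj_mul_left, mul_inv_cancel, cj_one_apply]
  refine ⟨cj_mem_fixAlg hS hj.1 hh, by rw [← map_mul, hj.2.1], fun h0 => hj.2.2.1 ?_,
    fun e he hee => ?_⟩
  · rw [← hback j, h0, map_zero]
  · have h1 : InCorner (fixAlg (Residue hM) S) j (cj h⁻¹ e) :=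
      ⟨cj_mem_fixAlg hS he.1 (Q.inv_mem hh), by rw [← hback j, ← map_mul, he.2.1], by
        rw [← hback j, ← map_mul, he.2.2]⟩
    rcases hj.2.2.2 _ h1 (by rw [← map_mul, hee]) with h2 | h2
    · left; rw [← hforth e, h2, map_zero]
    · right; rw [← hforth e, h2]

open scoped Classical in
/-- The inner product with a class function of `Q` over a subgroup. -/
noncomputable def innerOn (S : Subgroup G) (F μ : G → ℂ) : ℂ :=
  (Nat.card S : ℂ)⁻¹ * ∑ q ∈ Finset.univ.filter (· ∈ S), F q * conj (μ q)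

theorem innerOn_eq (S : Subgroup G) [Fintype S] (F μ : G → ℂ) :
    innerOn S F μ = Cfsg.classInner (fun q : S => F q) (fun q : S => μ q) := by
  classical
  rw [innerOn, CharBasic.classInner_def]
  congr 1
  rw [Finset.sum_subtype (p := fun q => q ∈ S) _ (fun q => by simp)]

set_option maxHeartbeats 800000 in
/-- The inner product on the index `p` subgroup is divisible by `p` at a trace idempotent. -/
theorem dvd_innerOn {Q S : Subgroup G} {t : G} (hf : Cfsg.IsClassFunction G f)
    (hL : IsWeight p M Lam) (hQ : IsPGroup p Q) (hS : MaxData p Q S t)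
    {μ : G → ℂ} (hμ : ∀ h ∈ Q, ∀ q ∈ Q, μ (h * q * h⁻¹) = μ q)
    (hint : ∀ j : MonoidAlgebra (Residue hM) G, InvBy S j → j * j = j →
      ∃ n : ℤ, innerOn S (starG hM f Lam j) μ = n)
    {i a : MonoidAlgebra (Residue hM) G} (hi : InvBy Q i) (hii : i * i = i) (ha : InvBy S a)
    (hia : i = trOp p t a) :
    ∃ n : ℤ, (p : ℤ) ∣ n ∧ innerOn S (starG hM f Lam i) μ = n := by
  classical
  haveI := isAlgClosed_residue hM
  haveI : Module.Finite (Residue hM) (MonoidAlgebra (Residue hM) G) :=
    Module.Finite.of_basis (MonoidAlgebra.basis G (Residue hM))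
  have hSp : IsPGroup p S := hQ.to_le hS.le
  obtain ⟨s, hs⟩ := exists_decomp (R := fixAlg (Residue hM) S) (hi.mono hS.le) hii
  let ψ : MonoidAlgebra (Residue hM) G → ℤ := fun j =>
    if h : ∃ n : ℤ, innerOn S (starG hM f Lam j) μ = n then h.choose else 0
  have hψs : ∀ j, IsPrim (fixAlg (Residue hM) S) j → innerOn S (starG hM f Lam j) μ = ψ j :=
    fun j hj => by
      simp only [ψ, dif_pos (hint j hj.1 hj.2.1)]
      exact (hint j hj.1 hj.2.1).choose_spec
  let ψk : MonoidAlgebra (Residue hM) G → Residue hM := fun j => (ψ j : Residue hM)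
  have hψeq : ∀ e e' a b, IsPrim (fixAlg (Residue hM) S) e → IsPrim (fixAlg (Residue hM) S) e' →
      a ∈ fixAlg (Residue hM) S → b ∈ fixAlg (Residue hM) S → a * b = e → b * a = e' →
        ψk e = ψk e' := by
    intro e e' a b he he' ha hb hab hba
    simp only [ψk]
    congr 1
    apply Int.cast_injective (α := ℂ)
    rw [← hψs e he, ← hψs e' he', innerOn, innerOn]
    congr 1
    refine Finset.sum_congr rfl fun q hq => ?_
    rw [← hab, ← hba, starG_equiv hf hSp (Finset.mem_filter.1 hq).2 ha hb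
      (by rw [hab]; exact he.2.1) (by rw [hba]; exact he'.2.1)]
  let τ : MonoidAlgebra (Residue hM) G → Residue hM := fun x =>
    ∑ j ∈ s, ψk j * scal j (j * x * j)
  have hψt : ∀ j, IsPrim (fixAlg (Residue hM) S) j → ψk (cj t j) = ψk j := by
    intro j hj
    simp only [ψk]
    congr 1
    apply Int.cast_injective (α := ℂ)
    rw [← hψs _ (isPrim_cj hS hj hS.mem), ← hψs _ hj, innerOn, innerOn]
    congr 1
    have hbij : ∀ q, q ∈ S ↔ t * q * t⁻¹ ∈ S := fun q => ⟨fun h => hS.normal t hS.mem q h,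
      fun h => by simpa [mul_assoc] using hS.normal t⁻¹ (Q.inv_mem hS.mem) _ h⟩
    refine (Finset.sum_equiv (MulAut.conj t).toEquiv (fun q => ?_) fun q hq => ?_).symm
    · simp only [Finset.mem_filter, Finset.mem_univ, true_and, MulEquiv.toEquiv_eq_coe,
        MulEquiv.coe_toEquiv, MulAut.conj_apply]
      exact hbij q
    · have hqS := (Finset.mem_filter.1 hq).2
      simp only [MulEquiv.toEquiv_eq_coe, MulEquiv.coe_toEquiv, MulAut.conj_apply]
      rw [starG_conj hf hL hSp hqS t hj.1 hj.2.1, hμ t hS.mem q (hS.le hqS)]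
  have hback : ∀ z : MonoidAlgebra (Residue hM) G, cj t⁻¹ (cj t z) = z := fun z => by
    rw [← cj_mul_left, inv_mul_cancel, cj_one_apply]
  have hτt : ∀ x, InvBy S x → τ (cj t x) = τ x := by
    intro x hx
    have hs' : IsDecomp (fixAlg (Residue hM) S) i (s.image (cj t)) := by
      refine ⟨fun j hj => ?_, fun j hj l hl hjl => ?_, ?_⟩
      · obtain ⟨j', hj', rfl⟩ := Finset.mem_image.1 hj
        exact isPrim_cj hS (hs.1 j' hj') hS.mem
      · obtain ⟨j', hj', rfl⟩ := Finset.mem_image.1 hj
        obtain ⟨l', hl', rfl⟩ := Finset.mem_image.1 hl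
        rw [← map_mul, hs.2.1 j' hj' l' hl' (fun h => hjl (congrArg _ h)), map_zero]
      · rw [Finset.sum_image fun a _ b _ hab => by rw [← hback a, hab, hback], ← map_sum, hs.2.2,
          hi t hS.mem]
    show ∑ j ∈ s, ψk j * scal j (j * cj t x * j) = ∑ j ∈ s, ψk j * scal j (j * x * j)
    rw [sum_scal_eq hs hs' (cj_mem_fixAlg hS hx hS.mem) ψk hψeq,
      Finset.sum_image fun a _ b _ hab => by rw [← hback a, hab, hback]]
    refine Finset.sum_congr rfl fun j hj => ?_
    have hj' := hs.1 j hj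
    have hcor := InCorner.of_mem (R := fixAlg (Residue hM) S) hj'.1 hj'.2.1 hx
    rw [hψt j hj', ← map_mul, ← map_mul]
    congr 1
    refine scal_unique (isPrim_cj hS hj' hS.mem)
      ⟨cj_mem_fixAlg hS hcor.1 hS.mem, by rw [← map_mul, hcor.2.1], by rw [← map_mul, hcor.2.2]⟩ ?_
    obtain ⟨n, hn⟩ := scal_spec (k := Residue hM) hj' hcor
    exact ⟨n, by rw [← cj_smul, ← map_sub, ← map_pow, hn, map_zero]⟩
  have hτl : ∀ l : ℕ, InvBy S (cj (t ^ l) a) ∧ τ (cj (t ^ l) a) = τ a := by
    intro l
    induction l with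
    | zero => rw [pow_zero, cj_one_apply]; exact ⟨ha, rfl⟩
    | succ l ih =>
      rw [pow_succ', cj_mul_left]
      exact ⟨cj_mem_fixAlg hS ih.1 hS.mem, (hτt _ ih.1).trans ih.2⟩
  have hτi : τ i = 0 := by
    have h1 : τ i = ∑ l ∈ Finset.range p, τ (cj (t ^ l) a) := by
      simp only [τ, hia, trOp]
      rw [Finset.sum_comm]
      refine Finset.sum_congr rfl fun j hj => ?_
      rw [Finset.mul_sum, Finset.sum_mul, scal_sum (hs.1 j hj) _ _ (fun l _ =>
        InCorner.of_mem (hs.1 j hj).1 (hs.1 j hj).2.1 (hτl l).1), Finset.mul_sum]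
    rw [h1, Finset.sum_congr rfl fun l _ => (hτl l).2, Finset.sum_const, Finset.card_range,
      nsmul_eq_mul, residue_p_eq_zero hM, zero_mul]
  refine ⟨∑ j ∈ s, ψ j, (residue_intCast_eq_zero hM).1 ?_, ?_⟩
  · push_cast
    rw [← hτi]
    refine Finset.sum_congr rfl fun j hj => ?_
    rw [hs.mul_right hj, (hs.1 j hj).2.1, scal_self (hs.1 j hj), mul_one]
  · push_cast
    rw [← Finset.sum_congr rfl fun j hj => hψs j (hs.1 j hj)]
    simp only [innerOn]
    rw [← Finset.mul_sum, Finset.sum_comm]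
    congr 1
    refine Finset.sum_congr rfl fun q hq => ?_
    rw [← Finset.sum_mul, ← starG_sum hf hSp (Finset.mem_filter.1 hq).2 hs]

/-- The weighted values vanish outside the subgroup of a trace idempotent. -/
theorem starG_eq_zero_of_trOp (hf : Cfsg.IsClassFunction G f) {Q S : Subgroup G} {t : G}
    (hQ : IsPGroup p Q) (hS : MaxData p Q S t) {i a : MonoidAlgebra (Residue hM) G}
    (ha : InvBy S a) (hia : i = trOp p t a) {q : G} (hq : q ∈ Q) (hqS : q ∉ S) :
    starG hM f Lam i q = 0 := by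
  classical
  obtain ⟨e, he⟩ := exists_orderOf_of_mem hQ hq
  have htr : trunc (cen q) i = 0 := by
    apply coeff_injective
    ext g
    rw [coeff_trunc, coeff_zero, Finsupp.coe_zero, Pi.zero_apply]
    split_ifs with hg
    · rw [hia, trOp, coeff_sum, Finsupp.finsetSum_apply, Finset.sum_congr rfl (g := fun _ => a.coeff g),
        Finset.sum_const, Finset.card_range, nsmul_eq_mul, residue_p_eq_zero hM, zero_mul]
      intro l _
      rw [coeff_cj]
      obtain ⟨m, -, hms⟩ := hS.gen q hq hqS (t ^ l) (Q.pow_mem hS.mem l)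
      have hc : Commute (q ^ m) g := (mem_cen_iff.1 hg).pow_left m
      have h1 : (t ^ l)⁻¹ * g * t ^ l =
          ((q ^ m)⁻¹ * t ^ l)⁻¹ * g * ((q ^ m)⁻¹ * t ^ l)⁻¹⁻¹ := by
        rw [mul_inv_rev, inv_inv, mul_inv_rev, inv_inv, show (t ^ l)⁻¹ * q ^ m * g *
          ((q ^ m)⁻¹ * t ^ l) = (t ^ l)⁻¹ * (q ^ m * g * (q ^ m)⁻¹) * t ^ l by group, hc.eq,
          mul_inv_cancel_right]
      rw [h1, ha.coeff_eq (S.inv_mem hms)]
    · rfl
  exact Finset.sum_eq_zero fun E _ => by rw [htr, zero_mul, starVal_zero hM hf he, mul_zero]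

/-- The weighted values form a generalized character. -/
theorem isGen_starG {χ : Cfsg.IrrCharacter G} (hL : IsWeight p M Lam) {Q : Subgroup G}
    (hQ : IsPGroup p Q) {i : MonoidAlgebra (Residue hM) G} (hi : InvBy Q i) (hii : i * i = i) :
    Cfsg.IsGeneralizedCharacter Q (fun q : Q => starG hM (χ : G → ℂ) Lam i (q : G)) := by
  classical
  haveI := isAlgClosed_residue hM
  haveI : Module.Finite (Residue hM) (MonoidAlgebra (Residue hM) G) :=
    Module.Finite.of_basis (MonoidAlgebra.basis G (Residue hM))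
  have hf := IsIrr.isClassFunction χ.2
  induction hn : Nat.card Q using Nat.strong_induction_on generalizing Q i with
  | _ n ih =>
  obtain ⟨s, hs⟩ := exists_decomp (R := fixAlg (Residue hM) Q) hi hii
  rw [show (fun q : Q => starG hM (χ : G → ℂ) Lam i (q : G)) =
    ∑ j ∈ s, fun q : Q => starG hM (χ : G → ℂ) Lam j (q : G) from funext fun q => by
      rw [Finset.sum_apply]; exact starG_sum hf hQ q.2 hs]
  refine CharInduce.IsGen.sum s _ fun j hj => ?_
  have hprim := hs.1 j hj
  by_cases h0 : trunc (Subgroup.centralizer (Q : Set G)) j = 0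
  swap
  · exact isGen_starG_local hL hQ hprim h0
  obtain ⟨S, t, a, hS, ha, hja⟩ := exists_eq_trOp hQ hprim h0
  haveI : Fintype Q := Fintype.ofFinite _
  haveI : Fintype S := Fintype.ofFinite _
  have hlt : Nat.card S < n := by
    rw [← hn, hS.card]
    exact lt_mul_of_one_lt_left Nat.card_pos hp.out.one_lt
  refine CharInduce.isGeneralizedCharacter_of_coeff
    (isClassFunction_starG hf hL hQ hprim.1 hprim.2.1) fun μ => ?_
  let μG : G → ℂ := fun q => if h : q ∈ Q then (μ : Q → ℂ) ⟨q, h⟩ else 0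
  have hμG : ∀ h ∈ Q, ∀ q ∈ Q, μG (h * q * h⁻¹) = μG q := by
    intro h hh q hq
    simp only [μG, dif_pos hq, dif_pos (Q.mul_mem (Q.mul_mem hh hq) (Q.inv_mem hh))]
    exact IsIrr.isClassFunction μ.2 ⟨q, hq⟩ ⟨h, hh⟩
  have hint : ∀ j : MonoidAlgebra (Residue hM) G, InvBy S j → j * j = j →
      ∃ n : ℤ, innerOn S (starG hM (χ : G → ℂ) Lam j) μG = n := by
    intro j hj hjj
    rw [innerOn_eq]
    have hres : Cfsg.IsCharacter S (fun q : S => μG q) := by
      have h1 := CharInduce.IsChar.comp (IsIrr.isCharacter μ.2) (Subgroup.inclusion hS.le)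
      convert h1 using 1
      funext q
      simp only [μG, dif_pos (hS.le q.2)]
      rfl
    exact CharInduce.IsGen.exists_int_coeff (ih _ hlt (hQ.to_le hS.le) hj hjj rfl) hres
  obtain ⟨n', ⟨m, hm⟩, hn'⟩ := dvd_innerOn hf hL hQ hS hμG hint hprim.1 hprim.2.1 ha hja
  refine ⟨m, ?_⟩
  have hsum : ∑ q : Q, starG hM (χ : G → ℂ) Lam j (q : G) * conj ((μ : Q → ℂ) q) =
      ∑ q ∈ Finset.univ.filter (· ∈ S), starG hM (χ : G → ℂ) Lam j q * conj (μG q) := by
    have h1 : ∑ q ∈ Finset.univ.filter (· ∈ Q), starG hM (χ : G → ℂ) Lam j q * conj (μG q) =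
        ∑ q : Q, starG hM (χ : G → ℂ) Lam j (q : G) * conj ((μ : Q → ℂ) q) := by
      rw [Finset.sum_subtype (p := fun q => q ∈ Q) _ (fun q => by simp)]
      exact Finset.sum_congr rfl fun q _ => by simp [μG]
    rw [← h1]
    refine (Finset.sum_subset (fun q hq => Finset.mem_filter.2 ⟨Finset.mem_univ _,
      hS.le (Finset.mem_filter.1 hq).2⟩) fun q hq hqS => ?_).symm
    rw [starG_eq_zero_of_trOp hf hQ hS ha hja (Finset.mem_filter.1 hq).2 (fun h => hqS
      (Finset.mem_filter.2 ⟨Finset.mem_univ _, h⟩)), zero_mul]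
  rw [innerOn] at hn'
  rw [CharBasic.classInner_def, hsum, hS.card]
  push_cast
  rw [mul_inv, mul_assoc, hn', hm]
  push_cast
  rw [inv_mul_cancel_left₀ (Nat.cast_ne_zero.2 hp.out.ne_zero)]

end Cfsg.Agent.H83.Star
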