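import Cfsg.Agent.BlockBasic.Necklace
import Cfsg.Agent.BlockBasic.Center
import Mathlib.NumberTheory.Basic
import Mathlib.Algebra.CharP.Lemmas
import Mathlib.RingTheory.Ideal.Operations
import Mathlib.RingTheory.Finiteness.Ideal

/-!
Idempotents commuting with a `p`-element `x` and congruent on its centralizer give the same sums
over the conjugacy invariant sets after a translation by `x`.
-/

set_option linter.style.haveILetI false

namespace Cfsg.Agent.H83.Star

open MonoidAlgebra BlockBasic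

variable {p : ℕ} {M : Ideal Cfsg.AlgInt} {G : Type*} [Group G] [Fintype G]

theorem prod_periodic {R : Type*} [CommMonoid R] (h : ℕ → R) (d : ℕ)
    (hd : ∀ i, h (i + d) = h i) (c : ℕ) :
    ∏ i ∈ Finset.range (d * c), h i = (∏ i ∈ Finset.range d, h i) ^ c := by
  induction c with
  | zero => simp
  | succ c ih =>
    rw [Nat.mul_succ, Finset.prod_range_add, ih, pow_succ]
    congr 1
    refine Finset.prod_congr rfl fun i _ => ?_
    have : ∀ k, h (d * k + i) = h i := by
      intro k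
      induction k with
      | zero => simp
      | succ k ihk =>
        rw [Nat.mul_succ, show d * k + d + i = d * k + i + d by omega, hd, ihk]
    exact this c

/-- Powers of congruent elements with exponent a high power of `p`. -/
theorem dvd_pow_sub_pow {R : Type*} [CommRing R] (hp : p.Prime) {X Y : R} {N : ℕ}
    (hN : (p : R) ∣ (X - Y) ^ N) {m₀ : ℕ} (hm₀ : N ≤ p ^ m₀) (K : ℕ) :
    (p : R) ^ (K + 1) ∣ X ^ p ^ (m₀ + K) - Y ^ p ^ (m₀ + K) := by
  obtain ⟨r, hr⟩ := exists_add_pow_prime_pow_eq hp (X - Y) Y m₀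
  rw [sub_add_cancel] at hr
  have h1 : (p : R) ∣ X ^ p ^ m₀ - Y ^ p ^ m₀ := by
    have h2 : (p : R) ∣ (X - Y) ^ p ^ m₀ := hN.trans (pow_dvd_pow _ hm₀)
    obtain ⟨s, hs⟩ := h2
    refine ⟨s + (X - Y) * Y * r, ?_⟩
    rw [hr, hs]
    ring
  have h2 := dvd_sub_pow_of_dvd_sub h1 K
  rwa [← pow_mul, ← pow_mul, ← pow_add] at h2

open scoped Classical in
/-- The generalised necklace lemma. -/
theorem sum_coeff_eq_of_congr (hM : Cfsg.IsPModular p M) (x : G) {e : ℕ}
    (hx : orderOf x = p ^ e) (b b' : MonoidAlgebra ℂ G) (hb : ∀ g, Cfsg.MemLocalRing M (b.coeff g))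
    (hb' : ∀ g, Cfsg.MemLocalRing M (b'.coeff g)) (hidem : b * b = b) (hidem' : b' * b' = b')
    (hxb : ∀ g, b.coeff (x * g * x⁻¹) = b.coeff g) (hxb' : ∀ g, b'.coeff (x * g * x⁻¹) = b'.coeff g)
    (hcong : ∀ h, Commute x h → Cfsg.MemLocalIdeal M (b.coeff h - b'.coeff h))
    (T : Finset G) (hT : ∀ g h, g ∈ T → h * g * h⁻¹ ∈ T) :
    ∑ g ∈ T, b.coeff (x⁻¹ * g) = ∑ g ∈ T, b'.coeff (x⁻¹ * g) := by
  let c : G → locRing hM := fun g => ⟨b.coeff g, hb g⟩
  let c' : G → locRing hM := fun g => ⟨b'.coeff g, hb' g⟩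
  set I : Ideal (locRing hM) :=
    Ideal.span ↑(((Finset.univ : Finset G).filter (fun h => Commute x h)).image fun h => c h - c' h)
    with hI
  obtain ⟨N, hN⟩ : ∃ N, I ^ N ≤ Ideal.span {(p : locRing hM)} := by
    refine Ideal.exists_pow_le_of_le_radical_of_fg ?_ ⟨_, rfl⟩
    rw [hI, Ideal.span_le]
    intro y hy
    obtain ⟨h, hh, rfl⟩ := Finset.mem_image.1 (Finset.mem_coe.1 hy)
    obtain ⟨k, r, hr, hk⟩ := exists_pow_eq_natCast_mul hM (hcong h (Finset.mem_filter.1 hh).2)
    exact ⟨k, Ideal.mem_span_singleton.2 ⟨⟨r, hr⟩, Subtype.ext (by simpa [c, c'] using hk)⟩⟩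
  obtain ⟨m₀, hm₀⟩ : ∃ m₀, N ≤ p ^ m₀ := ⟨N, (Nat.lt_pow_self hM.1.one_lt).le⟩
  rw [← sub_eq_zero]
  suffices hdiv : ∀ K : ℕ, ∃ r : locRing hM,
      ∑ g ∈ T, b.coeff (x⁻¹ * g) - ∑ g ∈ T, b'.coeff (x⁻¹ * g) =
        ((p : locRing hM) ^ K * r : locRing hM) by
    refine eq_zero_of_forall_dvd hM fun K => ?_
    obtain ⟨r, hr⟩ := hdiv K
    exact ⟨r, r.2, by rw [hr]; simp⟩
  intro K
  set n := m₀ + K + K with hn
  set q := p ^ n with hq
  have hq0 : q ≠ 0 := pow_ne_zero _ hM.1.ne_zero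
  have hbn : ∀ a : MonoidAlgebra ℂ G, a * a = a → a ^ q = a := fun a ha => by
    obtain ⟨r, hr⟩ := Nat.exists_eq_succ_of_ne_zero hq0
    rw [hr]
    clear hr
    induction r with
    | zero => exact pow_one a
    | succ r ih => rw [pow_succ, ih, ha]
  let σ : Equiv.Perm (TwistSeq x q) := TwistSeq.shift hq0
  haveI : Fintype (TwistSeq x q) := Fintype.ofEquiv _ (TwistSeq.equivFin hq0)
  let w : (G → locRing hM) → TwistSeq x q → locRing hM := fun d f => ∏ i : Fin q, d (f.1 i)
  let F : (G → locRing hM) → TwistSeq x q → locRing hM := fun d f =>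
    if f.value ∈ T then w d f else 0
  have hexp : ∀ (a : MonoidAlgebra ℂ G) (ha : ∀ g, Cfsg.MemLocalRing M (a.coeff g)), a * a = a →
      ∑ g ∈ T, a.coeff (x⁻¹ * g) =
        ((∑ f, F (fun g => ⟨a.coeff g, ha g⟩) f : locRing hM) : ℂ) := by
    intro a ha hai
    rw [← (TwistSeq.equivFin (x := x) hq0).sum_comp]
    nth_rewrite 1 [← hbn a hai]
    rw [pow_eq_sum_single]
    simp only [coeff_sum, coeff_single, Finsupp.finsetSum_apply, Finsupp.single_apply]
    rw [Finset.sum_comm, AddSubmonoidClass.coe_finsetSum]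
    refine Finset.sum_congr rfl fun t _ => ?_
    have hv : ((TwistSeq.equivFin (x := x) hq0) t).value =
        x * seqProd (fun i => if h : i < q then t ⟨i, h⟩ else 1) q := by
      rw [TwistSeq.value]
      congr 1
      refine seqProd_congr fun i hi => ?_
      simp [TwistSeq.equivFin, Nat.div_eq_of_lt hi, Nat.mod_eq_of_lt hi, hi]
    simp only [eq_inv_mul_iff_mul_eq, F]
    rw [Finset.sum_ite_eq, hv]
    split_ifs with h
    · simp only [w, SubmonoidClass.coe_finsetProd]
      refine Finset.prod_congr rfl fun i _ => ?_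
      simp [TwistSeq.equivFin, Nat.div_eq_of_lt i.2, Nat.mod_eq_of_lt i.2]
    · rfl
  rw [hexp b hb hidem, hexp b' hb' hidem', ← AddSubgroupClass.coe_sub, ← Finset.sum_sub_distrib]
  set D : TwistSeq x q → locRing hM := fun f => F c f - F c' f with hD
  have hFinv : ∀ d : G → locRing hM, (∀ g, d (x * g * x⁻¹) = d g) → ∀ f, F d (σ f) = F d f := by
    intro d hd f
    have hvT : (σ f).value ∈ T ↔ f.value ∈ T := by
      rw [show (σ f).value = _ from TwistSeq.value_shift hq0 f]
      constructor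
      · intro h
        have := hT _ (x * f.1 0 * x⁻¹) h
        simpa [mul_assoc] using this
      · intro h
        simpa using hT _ (x * f.1 0 * x⁻¹)⁻¹ h
    simp only [F, hvT]
    congr 1
    simp only [w]
    obtain ⟨r, hr⟩ := Nat.exists_eq_succ_of_ne_zero hq0
    rw [Fin.prod_univ_eq_prod_range (fun i => d ((σ f).1 i)), Fin.prod_univ_eq_prod_range (fun i => d (f.1 i))]
    rw [show (fun i => d ((σ f).1 i)) = fun i => d (f.1 (i + 1)) from rfl]
    refine ((congrArg (fun z => ∏ i ∈ Finset.range z, d (f.1 (i + 1))) hr).trans ?_).trans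
      (congrArg (fun z => ∏ i ∈ Finset.range z, d (f.1 i)) hr).symm
    rw [Finset.prod_range_succ, Finset.prod_range_succ']
    congr 1
    have h1 : f.1 q = x * f.1 0 * x⁻¹ := by simpa using f.2 0
    rw [show f.1 (r + 1) = f.1 q from congrArg f.1 hr.symm, h1, hd]
  have hDinv : ∀ f, D (σ f) = D f := fun f => by
    simp only [hD, hFinv c (fun g => Subtype.ext (hxb g)), hFinv c' (fun g => Subtype.ext (hxb' g))]
  have hσm : σ ^ (p ^ (n + e)) = 1 := by
    apply Equiv.ext
    intro f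
    apply Subtype.ext
    funext i
    rw [TwistSeq.shift_pow_apply, pow_add, ← hq, TwistSeq.apply_add_mul, ← hx, pow_orderOf_eq_one]
    simp
  obtain ⟨r₁, -, hr₁⟩ := sum_long_orbits hM.1 σ hσm D hDinv K
  have hshort : ∀ f, ¬ (σ ^ (p ^ K)) f ≠ f → (p : locRing hM) ^ K ∣ D f := by
    intro f hf
    rw [not_ne_iff] at hf
    have hperiod : ∀ i, f.1 (i + p ^ K) = f.1 i := by
      intro i
      conv_rhs => rw [← hf]
      rw [TwistSeq.shift_pow_apply]
    have hqj : q = p ^ K * p ^ (m₀ + K) := by rw [hq, ← pow_add]; congr 1; omega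
    have hcomm : ∀ i, Commute x (f.1 i) := by
      intro i
      have h2 : ∀ k, f.1 (i + p ^ K * k) = f.1 i := by
        intro k
        induction k with
        | zero => simp
        | succ k ih => rw [Nat.mul_succ, ← add_assoc, hperiod, ih]
      have h1 : f.1 (i + q) = f.1 i := (congrArg (fun z => f.1 (i + z)) hqj).trans (h2 _)
      rw [f.2 i] at h1
      exact mul_inv_eq_iff_eq_mul.1 h1
    by_cases hv : f.value ∈ T
    swap
    · simp [hD, F, hv]
    simp only [hD, F, if_pos hv, w]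
    rw [Fin.prod_univ_eq_prod_range (fun i => c (f.1 i)), Fin.prod_univ_eq_prod_range (fun i => c' (f.1 i)),
      show ∏ i ∈ Finset.range q, c (f.1 i) = _ from
        congrArg (fun z => ∏ i ∈ Finset.range z, c (f.1 i)) hqj,
      show ∏ i ∈ Finset.range q, c' (f.1 i) = _ from
        congrArg (fun z => ∏ i ∈ Finset.range z, c' (f.1 i)) hqj,
      prod_periodic _ _ (fun i => by rw [hperiod]), prod_periodic _ _ (fun i => by rw [hperiod])]
    refine (pow_dvd_pow _ (Nat.le_succ K)).trans (dvd_pow_sub_pow hM.1 ?_ hm₀ K)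
    refine Ideal.mem_span_singleton.1 (hN (Ideal.pow_mem_pow ?_ N))
    rw [← Ideal.Quotient.eq, map_prod, map_prod]
    refine Finset.prod_congr rfl fun i _ => Ideal.Quotient.eq.2 (Ideal.subset_span ?_)
    exact Finset.mem_coe.2 (Finset.mem_image.2
      ⟨f.1 i, Finset.mem_filter.2 ⟨Finset.mem_univ _, hcomm i⟩, rfl⟩)
  have hshort' : (p : locRing hM) ^ K ∣ ∑ f with ¬ (σ ^ (p ^ K)) f ≠ f, D f :=
    Finset.dvd_sum fun f hf => hshort f (Finset.mem_filter.1 hf).2
  obtain ⟨r, hr⟩ : (p : locRing hM) ^ K ∣ ∑ f, D f := by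
    rw [← Finset.sum_filter_add_sum_filter_not Finset.univ (fun f => (σ ^ (p ^ K)) f ≠ f) D]
    refine dvd_add ?_ hshort'
    rw [hr₁, nsmul_eq_mul, Nat.cast_pow]
    exact (pow_dvd_pow _ (Nat.le_succ K)).trans (dvd_mul_right _ _)
  exact ⟨r, by rw [← hr]⟩

/-- A character sees only the reduction on the centralizer of an idempotent commuting with `x`. -/
theorem chiLin_single_mul_eq (hM : Cfsg.IsPModular p M) (x : G) {e : ℕ} (hx : orderOf x = p ^ e)
    (b b' : MonoidAlgebra ℂ G) (hb : ∀ g, Cfsg.MemLocalRing M (b.coeff g))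
    (hb' : ∀ g, Cfsg.MemLocalRing M (b'.coeff g)) (hidem : b * b = b) (hidem' : b' * b' = b')
    (hxb : ∀ g, b.coeff (x * g * x⁻¹) = b.coeff g) (hxb' : ∀ g, b'.coeff (x * g * x⁻¹) = b'.coeff g)
    (hcong : ∀ h, Commute x h → Cfsg.MemLocalIdeal M (b.coeff h - b'.coeff h))
    {f : G → ℂ} (hf : Cfsg.IsClassFunction G f) :
    chiLin f (single x 1 * b) = chiLin f (single x 1 * b') := by
  classical
  haveI : Finite (ConjClasses G) := Finite.of_surjective _ ConjClasses.mk_surjective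
  haveI : Fintype (ConjClasses G) := Fintype.ofFinite _
  rw [chiLin, chiLin, ← Finset.sum_fiberwise Finset.univ ConjClasses.mk,
    ← Finset.sum_fiberwise (g := ConjClasses.mk) Finset.univ
      (f := fun g => (single x (1 : ℂ) * b').coeff g * f g)]
  refine Finset.sum_congr rfl fun C _ => ?_
  set T := Finset.univ.filter fun g : G => ConjClasses.mk g = C with hT
  have hTc : ∀ g h : G, g ∈ T → h * g * h⁻¹ ∈ T := fun g h hg => by
    rw [hT, Finset.mem_filter] at hg ⊢
    refine ⟨Finset.mem_univ _, ?_⟩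
    rw [← hg.2, ConjClasses.mk_eq_mk_iff_isConj]
    exact (isConj_iff.2 ⟨h, rfl⟩).symm
  rcases T.eq_empty_or_nonempty with hT0 | ⟨g₀, hg₀⟩
  · rw [hT0, Finset.sum_empty, Finset.sum_empty]
  have hcoef : ∀ (a : MonoidAlgebra ℂ G), ∀ g ∈ T,
      (single x (1 : ℂ) * a).coeff g * f g = a.coeff (x⁻¹ * g) * f g₀ := by
    intro a g hg
    rw [coeff_single_mul_apply, one_mul]
    congr 1
    obtain ⟨d, rfl⟩ := isConj_iff.1 (ConjClasses.mk_eq_mk_iff_isConj.1
      ((Finset.mem_filter.1 hg₀).2.trans (Finset.mem_filter.1 hg).2.symm))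
    exact hf g₀ d
  rw [Finset.sum_congr rfl (hcoef b), Finset.sum_congr rfl (hcoef b'), ← Finset.sum_mul,
    ← Finset.sum_mul, sum_coeff_eq_of_congr hM x hx b b' hb hb' hidem hidem' hxb hxb' hcong T hTc]

end Cfsg.Agent.H83.Star
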