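import Cfsg.Agent.H83.BrauerHom
import Cfsg.Agent.H83.PrincipalPair
import Mathlib.GroupTheory.Sylow

/-!
Brauer's third main theorem in the language of Brauer pairs, by downward induction on the
subgroup: a non-principal block occurring at `Q` would lift to a central element of the group
algebra of `G` supported on classes whose centralizers have Sylow subgroup `Q`.
-/

namespace Cfsg.Agent.H83

open Finset BlockBasic

universe u v

section Transport

variable {H : Type u} [Group H] [Finite H] {K : Type v} [Group K] [Finite K] {p : ℕ}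
  {M : Ideal AlgInt}

/-- Coefficients of a transported set of characters. -/
theorem blockCoeff_preimage (φ : H ≃* K) (b : Set (IrrCharacter H)) (h : H) :
    blockCoeff {ξ : IrrCharacter K | irrComp φ ξ ∈ b} (φ h) = blockCoeff b h := by
  unfold blockCoeff
  rw [Nat.card_congr φ.toEquiv]
  congr 1
  refine finsum_mem_eq_of_bijOn (irrComp φ) ?_ fun χ _ => by simp [irrComp_apply]
  exact ⟨fun χ hχ => hχ,
    fun a _ b _ hab => by rw [← irrComp_symm φ a, ← irrComp_symm φ b, hab],
    fun χ hχ => ⟨irrComp φ.symm χ, by simpa [irrComp_symm'] using hχ, irrComp_symm' φ χ⟩⟩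

theorem sameBlock_irrComp (φ : H ≃* K) {χ ψ : IrrCharacter K}
    (h : SameBlock M (χ : K → ℂ) (ψ : K → ℂ)) :
    SameBlock M (irrComp φ χ : H → ℂ) (irrComp φ ψ : H → ℂ) := fun g => by
  have h1 := h (φ g)
  rwa [← centralChar_comp_equiv φ (χ : K → ℂ) g, ← centralChar_comp_equiv φ (ψ : K → ℂ) g] at h1

theorem isPBlock_preimage (φ : H ≃* K) {b : Set (IrrCharacter H)} (hb : IsPBlock M b) :
    IsPBlock M {ξ : IrrCharacter K | irrComp φ ξ ∈ b} := by
  obtain ⟨χ, rfl⟩ := hb
  refine ⟨irrComp φ.symm χ, Set.ext fun ξ => ⟨fun h => ?_, fun h => ?_⟩⟩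
  · have h1 := sameBlock_irrComp φ.symm (χ := χ) (ψ := irrComp φ ξ) h
    rwa [irrComp_symm] at h1
  · have h1 := sameBlock_irrComp φ h
    rwa [irrComp_symm'] at h1

end Transport

variable {G : Type u} [Group G] [Finite G] {p : ℕ} [Fact p.Prime] {M : Ideal AlgInt}

/-- `Q` has maximal order among the `p`-subgroups centralizing `y`. -/
def IsMaxCentral (p : ℕ) (Q : Subgroup G) (y : G) : Prop :=
  ∀ R : Subgroup G, IsPGroup p R → R ≤ Subgroup.centralizer ({y} : Set G) →
    Nat.card R ≤ Nat.card Q

theorem lt_inf_normalizer {Q S : Subgroup G} (hS : IsPGroup p S) (h : Q < S) :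
    Q < S ⊓ Subgroup.normalizer (Q : Set G) := by
  refine lt_of_le_of_ne (le_inf h.le Subgroup.le_normalizer) fun heq => ?_
  haveI : Group.IsNilpotent S := hS.isNilpotent
  have hlt' : Q.subgroupOf S < ⊤ :=
    lt_top_iff_ne_top.2 fun h' => h.not_ge (Subgroup.subgroupOf_eq_top.1 h')
  refine (normalizerCondition_of_isNilpotent _ hlt').ne
    (le_antisymm Subgroup.le_normalizer fun x hx => ?_)
  have hxT : (x : G) ∈ S ⊓ Subgroup.normalizer (Q : Set G) := by
    refine ⟨x.2, Subgroup.mem_normalizer_iff.2 fun g => ?_⟩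
    rw [Subgroup.mem_normalizer_iff] at hx
    constructor
    · exact fun hg => (hx ⟨g, h.le hg⟩).1 hg
    · intro hg
      have h' : x * ⟨x⁻¹ * (x * g * x⁻¹) * x, mul_mem (mul_mem (inv_mem x.2) (h.le hg)) x.2⟩ *
          x⁻¹ ∈ Q.subgroupOf S := by
        simpa [Subgroup.mem_subgroupOf, mul_assoc] using hg
      have := (hx _).2 h'
      simpa [Subgroup.mem_subgroupOf, mul_assoc] using this
  rwa [← heq] at hxT

theorem le_centralizer_singleton {Q : Subgroup G} {y : G}
    (hy : y ∈ Subgroup.centralizer (Q : Set G)) : Q ≤ Subgroup.centralizer ({y} : Set G) :=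
  fun _ hq => Subgroup.mem_centralizer_singleton_iff.2
    (Subgroup.mem_centralizer_iff.1 hy _ hq)

theorem exists_lt_of_not_isMaxCentral {Q : Subgroup G} (hQ : IsPGroup p Q) {y : G}
    (hy : y ∈ Subgroup.centralizer (Q : Set G)) (hD : ¬ IsMaxCentral p Q y) :
    ∃ R : Subgroup G, IsPGroup p R ∧ Q < R ∧ R ≤ Subgroup.normalizer (Q : Set G) ∧
      R ≤ Subgroup.centralizer ({y} : Set G) := by
  set C := Subgroup.centralizer ({y} : Set G)
  obtain ⟨R', hR', hR'C, hlt⟩ : ∃ R : Subgroup G, IsPGroup p R ∧ R ≤ C ∧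
      Nat.card Q < Nat.card R := by
    simp only [IsMaxCentral, not_forall, not_le] at hD
    obtain ⟨R, h1, h2, h3⟩ := hD
    exact ⟨R, h1, h2, h3⟩
  have hQC : Q ≤ C := le_centralizer_singleton hy
  obtain ⟨S, hS⟩ := (hQ.comap_subtype (K := C)).exists_le_sylow
  obtain ⟨T, hT⟩ := (hR'.comap_subtype (K := C)).exists_le_sylow
  let S' : Subgroup G := (S : Subgroup C).map C.subtype
  have hS'p : IsPGroup p S' := S.isPGroup'.map _
  have hQS : Q ≤ S' := fun q hq => ⟨⟨q, hQC hq⟩, hS hq, rfl⟩
  have hcard : Nat.card Q < Nat.card S' := by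
    refine hlt.trans_le ?_
    rw [Subgroup.card_map_of_injective C.subtype_injective, Sylow.card_eq_multiplicity,
      ← Sylow.card_eq_multiplicity T]
    refine le_trans (le_of_eq ?_) (Subgroup.card_le_of_le hT)
    exact (Nat.card_congr (Subgroup.subgroupOfEquivOfLe hR'C).toEquiv).symm
  have hlt' : Q < S' := lt_of_le_of_ne hQS fun h => hcard.ne (by rw [h])
  exact ⟨_, hS'p.to_le inf_le_left, lt_inf_normalizer hS'p hlt', inf_le_right,
    inf_le_left.trans (Subgroup.map_subtype_le _)⟩

/-- Elements centralizing `Q` with `Q` of maximal order that are conjugate in `G` are conjugate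
under the normalizer of `Q`. -/
theorem exists_normalizer_conj {Q : Subgroup G} (hQ : IsPGroup p Q) {y y' : G}
    (hy : y ∈ Subgroup.centralizer (Q : Set G)) (hy' : y' ∈ Subgroup.centralizer (Q : Set G))
    (hD' : IsMaxCentral p Q y') (h : IsConj y y') :
    ∃ n ∈ Subgroup.normalizer (Q : Set G), n * y * n⁻¹ = y' := by
  obtain ⟨x, hx⟩ := isConj_iff.1 h
  set C := Subgroup.centralizer ({y'} : Set G)
  let Q₁ : Subgroup G := Q.map (MulAut.conj x).toMonoidHom
  have hQC : Q ≤ C := le_centralizer_singleton hy'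
  have hQ1C : Q₁ ≤ C := by
    rintro _ ⟨q, hq, rfl⟩
    rw [Subgroup.mem_centralizer_singleton_iff, ← hx]
    have := Subgroup.mem_centralizer_iff.1 hy q hq
    simp only [MulEquiv.coe_toMonoidHom, MulAut.conj_apply]
    rw [show x * q * x⁻¹ * (x * y * x⁻¹) = x * (q * y) * x⁻¹ by group, this]
    group
  have hcard1 : Nat.card Q₁ = Nat.card Q :=
    Subgroup.card_map_of_injective (MulAut.conj x).injective
  have mk : ∀ R : Subgroup G, IsPGroup p R → R ≤ C → Nat.card R = Nat.card Q →
      ∃ P : Sylow p C, (P : Subgroup C) = R.subgroupOf C := by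
    intro R hR hRC hRc
    obtain ⟨P, hP⟩ := (hR.comap_subtype (K := C)).exists_le_sylow
    refine ⟨P, (Subgroup.eq_of_le_of_card_ge hP ?_).symm⟩
    have h2 := hD' ((P : Subgroup C).map C.subtype) (P.isPGroup'.map _) (Subgroup.map_subtype_le _)
    rw [Subgroup.card_map_of_injective C.subtype_injective] at h2
    refine le_of_le_of_eq h2 (hRc.symm.trans ?_)
    exact (Nat.card_congr (Subgroup.subgroupOfEquivOfLe hRC).toEquiv).symm
  obtain ⟨P, hP⟩ := mk Q hQ hQC rfl
  obtain ⟨P₁, hP₁⟩ := mk Q₁ (hQ.map _) hQ1C hcard1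
  obtain ⟨c, hc⟩ := MulAction.exists_smul_eq C P₁ P
  refine ⟨(c : G) * x, ?_, ?_⟩
  · rw [Subgroup.mem_normalizer_iff_conj_image_eq]
    have hsub : ∀ q ∈ Q, (c : G) * x * q * ((c : G) * x)⁻¹ ∈ Q := by
      intro q hq
      have h1 : (⟨x * q * x⁻¹, hQ1C ⟨q, hq, rfl⟩⟩ : C) ∈ (P₁ : Subgroup C) := by
        rw [hP₁, Subgroup.mem_subgroupOf]; exact ⟨q, hq, rfl⟩
      have h2 : MulAut.conj c • (⟨x * q * x⁻¹, hQ1C ⟨q, hq, rfl⟩⟩ : C) ∈ ((c • P₁ : Sylow p C) : Subgroup C) := by
        rw [Sylow.coe_subgroup_smul]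
        exact Subgroup.smul_mem_pointwise_smul _ _ _ h1
      rw [hc, hP, Subgroup.mem_subgroupOf] at h2
      simpa [MulAut.smul_def, mul_assoc] using h2
    have hmap : Q.map (MulAut.conj ((c : G) * x)).toMonoidHom = Q := by
      refine Subgroup.eq_of_le_of_card_ge ?_ ?_
      · rintro _ ⟨q, hq, rfl⟩
        simpa [mul_assoc] using hsub q hq
      · exact (Subgroup.card_map_of_injective (MulAut.conj ((c : G) * x)).injective).ge
    have := congrArg SetLike.coe hmap
    rwa [Subgroup.coe_map] at this
  · have := Subgroup.mem_centralizer_singleton_iff.1 c.2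
    rw [show (c : G) * x * y * ((c : G) * x)⁻¹ = (c : G) * (x * y * x⁻¹) * (c : G)⁻¹ by group, hx,
      this]
    group

/-- Conjugation action of a subgroup normalizing `K` by automorphisms of `K`. -/
noncomputable def conjHom (R K : Subgroup G) (h : ∀ r ∈ R, ∀ g, g ∈ K ↔ r * g * r⁻¹ ∈ K) :
    R →* MulAut K where
  toFun r := conjSubEquiv (r : G) K K (h r r.2)
  map_one' := by ext k; simp [conjSubEquiv]
  map_mul' a b := by ext k; simp [conjSubEquiv, mul_assoc]

/-- Brauer's third main theorem for Brauer pairs of the principal block. -/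
theorem eq_principalBlock_of_isBrauerPairOf (hM : IsPModular p M) :
    ∀ (Q : Subgroup G), IsPGroup p Q →
      ∀ e : Set (IrrCharacter (Subgroup.centralizer (Q : Set G))),
        IsBrauerPairOf p M (principalBlock M G) Q e →
          e = principalBlock M (Subgroup.centralizer (Q : Set G)) := by
  classical
  cases nonempty_fintype G
  intro Q
  induction Q using WellFoundedGT.induction with
  | _ Q ih =>
  intro hQ e he
  set K := Subgroup.centralizer (Q : Set G) with hKdef
  set B0 := principalBlock M G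
  set e0 := principalBlock M K
  have hB0 : IsPBlock M B0 := isPBlock_principalBlock M
  set β : MonoidAlgebra ℂ G := blockElem B0
  have hβc : IsCentralElt β := isCentralElt_blockElem _
  have hβi : IsIntElt M β := isIntElt_blockElem hM hB0
  set βQ : MonoidAlgebra ℂ K := resElt K.subtype β with hβQ
  have hβQc : IsCentralElt βQ := isCentralElt_resElt _ hβc
  have hβQi : IsIntElt M βQ := isIntElt_resElt _ hβi
  set E : Set (IrrCharacter K) :=
    {ξ | MemLocalIdeal M (omega (ξ : K → ℂ) βQ - 1) ∧ ξ ∉ e0} with hE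
  by_contra hne
  obtain ⟨ξ₀, hξ₀e⟩ := isPBlock_nonempty hM he.1.2
  have hξ₀E : ξ₀ ∈ E := by
    refine ⟨?_, fun h0 => hne (isPBlock_eq_of_mem hM he.1.2 (isPBlock_principalBlock M) hξ₀e h0)⟩
    have h1 := he.2.2 ξ₀ hξ₀e
    rw [H82.brauerOmega_eq_omega] at h1
    convert h1 using 3
    apply MonoidAlgebra.coeff_injective
    ext c
    simp [hβQ, β, coeff_resElt, coeff_ofFun, coeff_blockElem]
  have hclosed : ∀ ξ ∈ E, blockOf M (ξ : K → ℂ) ⊆ E := by
    rintro ξ ⟨hξ, hξ0⟩ ψ hψ
    refine ⟨?_, fun h0 => hξ0 ?_⟩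
    · have h1 := omega_congr hM (CharBasic.IsIrr.isClassFunction ξ.2)
        (CharBasic.IsIrr.isClassFunction ψ.2) hψ hβQc hβQi
      have h2 := memLocalIdeal_sub hM hξ h1
      convert h2 using 1
      ring
    · exact sameBlock_trans hM h0 (sameBlock_symm hψ)
  have htriv : trivialIrr (G := K) ∉ E := fun h => h.2 (sameBlock_refl hM _)
  -- coefficients of `E` as a sum over blocks
  have hsumE : ∀ c : K, blockCoeff E c =
      ∑ b : Set (IrrCharacter K), if IsPBlock M b ∧ b ⊆ E then blockCoeff b c else 0 := by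
    intro c
    set T : IrrCharacter K → ℂ := fun ξ => (ξ : K → ℂ) 1 * (starRingEnd ℂ) ((ξ : K → ℂ) c) with hT
    have hbc : ∀ S : Set (IrrCharacter K),
        blockCoeff S c = (Nat.card K : ℂ)⁻¹ * ∑ ξ, if ξ ∈ S then T ξ else 0 := fun S => by
      rw [blockCoeff, finsum_mem_eq_sum_ite]
    calc blockCoeff E c = (Nat.card K : ℂ)⁻¹ * ∑ ξ, if ξ ∈ E then T ξ else 0 := by convert hbc E
      _ = (Nat.card K : ℂ)⁻¹ * ∑ ξ, ∑ b : Set (IrrCharacter K),
            if (IsPBlock M b ∧ b ⊆ E) ∧ ξ ∈ b then T ξ else 0 := by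
          congr 1
          refine Finset.sum_congr rfl fun ξ _ => ?_
          by_cases hξ : ξ ∈ E
          · rw [if_pos hξ, Finset.sum_eq_single (blockOf M (ξ : K → ℂ))]
            · exact (if_pos ⟨⟨isPBlock_blockOf M ξ, hclosed ξ hξ⟩, self_mem_blockOf hM ξ⟩).symm
            · exact fun b _ hb => if_neg fun h => hb (isPBlock_eq_blockOf hM h.1.1 h.2)
            · exact fun h => absurd (Finset.mem_univ _) h
          · rw [if_neg hξ]
            exact (Finset.sum_eq_zero fun b _ => if_neg fun h => hξ (h.1.2 h.2)).symm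
      _ = ∑ b : Set (IrrCharacter K), if IsPBlock M b ∧ b ⊆ E then blockCoeff b c else 0 := by
          rw [Finset.sum_comm, Finset.mul_sum]
          refine Finset.sum_congr rfl fun b _ => ?_
          by_cases hb : IsPBlock M b ∧ b ⊆ E
          · simp only [hb, and_self, true_and, hbc, if_true]
          · simp [hb]
  have hEloc : ∀ c : K, MemLocalRing M (blockCoeff E c) := fun c => by
    rw [hsumE]
    refine (locRing hM).sum_mem fun b _ => ?_
    split_ifs with hb
    · exact memLocalRing_blockCoeff hM hb.1 c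
    · exact (locRing hM).zero_mem
  -- stability under the normalizer
  have hN : ∀ n ∈ Subgroup.normalizer (Q : Set G), ∀ g, g ∈ K ↔ n * g * n⁻¹ ∈ K :=
    fun n hn => mem_centralizer_conj_normalizer hn
  have hE_conj : ∀ n (hn : n ∈ Subgroup.normalizer (Q : Set G)) (ξ : IrrCharacter K),
      irrComp (conjSubEquiv n K K (hN n hn)) ξ ∈ E ↔ ξ ∈ E := by
    intro n hn ξ
    set φ := conjSubEquiv n K K (hN n hn)
    have hom : omega (irrComp φ ξ : K → ℂ) βQ = omega (ξ : K → ℂ) βQ := by
      simp only [omega, chiLin, irrComp_apply, map_one]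
      congr 1
      refine Fintype.sum_equiv φ.toEquiv _ _ fun c => ?_
      show _ = βQ.coeff (φ c) * (ξ : K → ℂ) (φ c)
      congr 1
      simp only [hβQ, coeff_resElt, β, coeff_blockElem, Subgroup.coe_subtype, φ,
        conjSubEquiv_apply]
      exact (isClassFunction_blockCoeff B0 (c : G) n).symm
    have hp0 : irrComp φ ξ ∈ e0 ↔ ξ ∈ e0 := ⟨fun h => by
      have := irrComp_mem_principalBlock φ.symm h
      rwa [irrComp_symm] at this, fun h => irrComp_mem_principalBlock φ h⟩
    simp only [hE, Set.mem_setOf_eq, hom, hp0]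
  have hfconj : ∀ n (hn : n ∈ Subgroup.normalizer (Q : Set G)) (c : K),
      blockCoeff E (conjSubEquiv n K K (hN n hn) c) = blockCoeff E c := by
    intro n hn c
    have h := blockCoeff_preimage (conjSubEquiv n K K (hN n hn)) E c
    rwa [show {ξ : IrrCharacter K | irrComp (conjSubEquiv n K K (hN n hn)) ξ ∈ E} = E from
      Set.ext fun ξ => hE_conj n hn ξ] at h
  -- vanishing off the elements where `Q` is maximal
  have hvanish : ∀ y : K, ¬ IsMaxCentral p Q (y : G) → MemLocalIdeal M (blockCoeff E y) := by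
    intro y hy
    obtain ⟨R, hR, hQR, hRN, hRy⟩ := exists_lt_of_not_isMaxCentral hQ y.2 hy
    set φR := conjHom R K fun r hr => hN r (hRN hr)
    let act : MulAction R (Set (IrrCharacter K)) :=
      { smul := fun r b => {ξ | irrComp (φR r) ξ ∈ b}
        one_smul := fun b => by
          show {ξ | irrComp (φR 1) ξ ∈ b} = b
          ext ξ
          have : irrComp (φR 1) ξ = ξ := Subtype.ext (funext fun c => by
            rw [irrComp_apply, map_one]; rfl)
          show irrComp (φR 1) ξ ∈ b ↔ _
          rw [this]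
        mul_smul := fun r s b => by
          show {ξ | irrComp (φR (r * s)) ξ ∈ b} =
            {ξ | irrComp (φR r) ξ ∈ {η | irrComp (φR s) η ∈ b}}
          ext ξ
          have : irrComp (φR (r * s)) ξ = irrComp (φR s) (irrComp (φR r) ξ) :=
            Subtype.ext (funext fun c => by rw [irrComp_apply, map_mul]; rfl)
          show irrComp (φR (r * s)) ξ ∈ b ↔ irrComp (φR s) (irrComp (φR r) ξ) ∈ b
          rw [this] }
    have hyfix : ∀ r : R, φR r y = y := fun r => Subtype.ext (by
      show (r : G) * (y : G) * (r : G)⁻¹ = (y : G)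
      rw [Subgroup.mem_centralizer_singleton_iff.1 (hRy r.2), mul_inv_cancel_right])
    set F : Set (IrrCharacter K) → ℂ := fun b => if IsPBlock M b ∧ b ⊆ E then blockCoeff b y else 0
    have hFloc : ∀ b, MemLocalRing M (F b) := fun b => by
      simp only [F]
      split_ifs with hb
      · exact memLocalRing_blockCoeff hM hb.1 _
      · exact (locRing hM).zero_mem
    have hEr : ∀ (r : R) (ξ : IrrCharacter K), irrComp (φR r) ξ ∈ E ↔ ξ ∈ E :=
      fun r ξ => hE_conj (r : G) (hRN r.2) ξ
    have hcond : ∀ (r : R) (b : Set (IrrCharacter K)),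
        (IsPBlock M b ∧ b ⊆ E) → (IsPBlock M (r • b) ∧ r • b ⊆ E) := by
      rintro r b ⟨hb, hbE⟩
      exact ⟨isPBlock_preimage (φR r) hb, fun ξ hξ => (hEr r ξ).1 (hbE hξ)⟩
    have hFinv : ∀ (r : R) (b : Set (IrrCharacter K)), F (r • b) = F b := by
      intro r b
      have hc : blockCoeff (r • b) y = blockCoeff b y := by
        have h := blockCoeff_preimage (φR r) b y
        rwa [hyfix r] at h
      simp only [F]
      by_cases hb : IsPBlock M b ∧ b ⊆ E
      · rw [if_pos hb, if_pos (hcond r b hb), hc]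
      · rw [if_neg hb, if_neg fun h => hb (by simpa using hcond r⁻¹ _ h)]
    have hsum := H82.memLocalIdeal_sum_sub_sum_fixed hM hR hFloc hFinv
    rw [← hsumE] at hsum
    suffices hfixed : ∀ b : Set (IrrCharacter K), (∀ r : R, r • b = b) → MemLocalIdeal M (F b) by
      have h2 := memLocalIdeal_sum hM (Finset.univ.filter fun x : Set (IrrCharacter K) => ∀ q : R, q • x = x) F fun b hb => hfixed b (Finset.mem_filter.1 hb).2
      have h3 := memLocalIdeal_add hM hsum h2
      rwa [sub_add_cancel] at h3
    intro b hbfix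
    simp only [F]
    split_ifs with hb
    swap
    · exact memLocalIdeal_zero hM
    set L := Subgroup.centralizer (R : Set G)
    have hLK : L ≤ K := Subgroup.centralizer_le hQR.le
    have hfix : ∀ x : K, (∀ r : R, φR r x = x) ↔ x ∈ (Subgroup.inclusion hLK).range := by
      intro x
      constructor
      · intro h
        refine ⟨⟨x, Subgroup.mem_centralizer_iff.2 fun r hr => ?_⟩, rfl⟩
        have h1 := congrArg Subtype.val (h ⟨r, hr⟩)
        exact mul_inv_eq_iff_eq_mul.1 h1
      · rintro ⟨l, rfl⟩ r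
        refine Subtype.ext ?_
        show (r : G) * (l : G) * (r : G)⁻¹ = (l : G)
        rw [Subgroup.mem_centralizer_iff.1 l.2 r r.2, mul_inv_cancel_right]
    have hι := Subgroup.inclusion_injective hLK
    set z := blockElem b
    have hzc : IsCentralElt z := isCentralElt_blockElem b
    have hzi : IsIntElt M z := isIntElt_blockElem hM hb.1
    have hzinv : IsInv φR z := fun r c => by
      simp only [z, coeff_blockElem]
      have h := blockCoeff_preimage (φR r) b c
      rwa [show {ξ : IrrCharacter K | irrComp (φR r) ξ ∈ b} = b from hbfix r] at h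
    set ι := Subgroup.inclusion hLK
    set g := resElt ι z
    have hgc : IsCentralElt g := isCentralElt_resElt _ hzc
    have hgi : IsIntElt M g := isIntElt_resElt _ hzi
    have hidem : z * z = z := blockElem_idem b
    have hω : ∀ η : IrrCharacter L, MemLocalIdeal M (omega (η : L → ℂ) g) := by
      intro η
      have hr := memLocalRing_omega hM η.2 hgc hgi
      have h1 := omega_resElt_mul hM hR hι hfix η.2 hzc hzc hzi hzi hzinv hzinv
      rw [hidem] at h1
      rcases (memLocalIdeal_mul_iff hM hr ((locRing hM).sub_mem (locRing hM).one_mem hr)).1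
        (by convert h1 using 1; ring) with h | h
      · exact h
      exfalso
      -- `(R, block of η)` is a pair of the principal block
      have hβinv : IsInv φR βQ := fun r c => by
        simp only [hβQ, coeff_resElt, β, coeff_blockElem, Subgroup.coe_subtype]
        exact isClassFunction_blockCoeff B0 (c : G) (r : G)
      have hzβ : ∀ χ : IrrCharacter K, MemLocalIdeal M (omega (χ : K → ℂ) (z * βQ - z)) := by
        intro χ
        rw [omega_sub, omega_mul χ.2 hzc, omega_blockElem]
        split_ifs with hχ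
        · simpa using (hb.2 hχ).1
        · simpa using memLocalIdeal_zero hM
      have hwinv : IsInv φR (z * βQ - z) := fun r c => by
        simp only [MonoidAlgebra.coeff_sub, Finsupp.sub_apply]
        rw [isInv_mul φR hzinv hβinv r c, hzinv r c]
      have h2 := memLocalIdeal_omega_resElt hM hR hι hfix η.2 ((hzc.mul hβQc).sub hzc)
        ((hzi.mul hM hβQi).sub hM hzi) hwinv hzβ
      have h3 := omega_resElt_mul hM hR hι hfix η.2 hzc hβQc hzi hβQi hzinv hβinv
      have hres : omega (η : L → ℂ) (resElt ι (z * βQ - z)) =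
          omega (η : L → ℂ) (resElt ι (z * βQ)) - omega (η : L → ℂ) g := by
        rw [← omega_sub]
        congr 1
        apply MonoidAlgebra.coeff_injective
        ext l
        simp [g, coeff_resElt, MonoidAlgebra.coeff_sub]
      rw [hres] at h2
      have hβR : omega (η : L → ℂ) (resElt ι βQ) = brauerOmega R (blockCoeff B0) (η : L → ℂ) := by
        rw [H82.brauerOmega_eq_omega]
        congr 1
      rw [hβR] at h3
      set a := omega (η : L → ℂ) g
      set t := brauerOmega R (blockCoeff B0) (η : L → ℂ)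
      have ht : MemLocalRing M (t - 1) := (locRing hM).sub_mem (hβR ▸ memLocalRing_omega hM η.2
        (isCentralElt_resElt _ hβQc) (isIntElt_resElt _ hβQi)) (locRing hM).one_mem
      have h4 : MemLocalIdeal M (t - 1) := by
        have h5 := memLocalIdeal_add hM (memLocalIdeal_sub hM h2 h3) (memLocalIdeal_mul hM ht h)
        convert h5 using 1
        ring
      have hpair : IsBrauerPairOf p M B0 R (blockOf M (η : L → ℂ)) := by
        refine ⟨⟨hR, isPBlock_blockOf M η⟩, hB0, fun ξ hξ => ?_⟩
        have h6 := omega_congr hM (CharBasic.IsIrr.isClassFunction η.2)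
          (CharBasic.IsIrr.isClassFunction ξ.2) hξ
          (isCentralElt_resElt ι hβQc) (isIntElt_resElt ι hβQi)
        have h7 := memLocalIdeal_sub hM h4 h6
        rw [hβR] at h7
        have hξR : omega (ξ : L → ℂ) (resElt ι βQ) = brauerOmega R (blockCoeff B0) (ξ : L → ℂ) := by
          rw [H82.brauerOmega_eq_omega]
          congr 1
        rw [hξR] at h7
        convert h7 using 1
        ring
      have hη0 : η ∈ principalBlock M L := by
        rw [← ih R hQR hR _ hpair]
        exact self_mem_blockOf hM η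
      -- the augmentation of `g` lies in `M`
      have h8 := omega_congr hM (fun _ _ => rfl) (CharBasic.IsIrr.isClassFunction η.2) hη0 hgc hgi
      have h9 := memLocalIdeal_sum_sub_sum_range hM hR hι hfix (f := fun c => z.coeff c) hzi
        (fun r c => hzinv r c)
      have hz0 : ∑ c : K, z.coeff c = 0 := by
        have h10 := omega_blockElem b (trivialIrr (G := K))
        rw [if_neg fun hm => htriv (hb.2 hm)] at h10
        simpa [omega, chiLin, trivialIrr, z] using h10
      have hg1 : omega (fun _ : L => (1 : ℂ)) g = ∑ l : L, z.coeff (ι l) := by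
        simp [omega, chiLin, g, coeff_resElt]
      rw [hz0, ← hg1] at h9
      have h11 := memLocalIdeal_sub hM h (memLocalIdeal_add hM h8 h9)
      apply not_memLocalIdeal_one hM
      convert h11 using 1
      ring
    obtain ⟨N, hN'⟩ := exists_pow_coeff_mem hM hgc hω
    have hgg : ∀ l, MemLocalIdeal M ((g * g - g).coeff l) := fun l => by
      have h1 := resElt_mul_congr hM hR hι hfix hzi hzi hzinv hzinv l
      rw [hidem] at h1
      simpa [MonoidAlgebra.coeff_sub] using memLocalIdeal_neg h1
    have hpow : ∀ n, ∀ l, MemLocalIdeal M ((g ^ (n + 1) - g).coeff l) := by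
      intro n
      induction n with
      | zero => intro l; simpa using memLocalIdeal_zero hM
      | succ n ihn =>
        intro l
        have : g ^ (n + 1 + 1) - g = (g * g - g) * g ^ n + (g ^ (n + 1) - g) := by
          rw [sub_mul, mul_assoc, ← pow_succ', ← pow_succ']
          abel
        rw [this, MonoidAlgebra.coeff_add, Finsupp.add_apply]
        refine memLocalIdeal_add hM ?_ (ihn l)
        rw [coeff_mul_sum]
        refine memLocalIdeal_sum hM _ _ fun a _ => ?_
        rw [mul_comm]
        exact memLocalIdeal_mul hM ((hgi.pow hM n) _) (hgg a)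
    have hl : (y : G) ∈ L := Subgroup.mem_centralizer_iff.2 fun r hr =>
      Subgroup.mem_centralizer_singleton_iff.1 (hRy hr)
    have h12 := hpow N ⟨y, hl⟩
    have h13 : MemLocalIdeal M ((g ^ (N + 1)).coeff ⟨y, hl⟩) := by
      rw [pow_succ, coeff_mul_sum]
      refine memLocalIdeal_sum hM _ _ fun a _ => ?_
      rw [mul_comm]
      exact memLocalIdeal_mul hM (hgi _) (hN' a)
    have h14 := memLocalIdeal_sub hM h13 h12
    have hyy : ι ⟨(y : G), hl⟩ = y := Subtype.ext rfl
    simpa [g, z, coeff_resElt, coeff_blockElem, MonoidAlgebra.coeff_sub, hyy] using h14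
  -- the lift
  have hcard_map : ∀ (x : G) (R : Subgroup G),
      Nat.card (R.map (MulAut.conj x).toMonoidHom) = Nat.card R := fun x R =>
    Subgroup.card_map_of_injective (MulAut.conj x).injective
  set Z : G → ℂ := fun g =>
    if h : ∃ y : K, IsConj g (y : G) ∧ IsMaxCentral p Q (y : G) then blockCoeff E h.choose else 0
  have hD_conj : ∀ y y' : G, IsConj y y' → IsMaxCentral p Q y → IsMaxCentral p Q y' := by
    intro y y' h hy R hR hRy
    obtain ⟨x, rfl⟩ := isConj_iff.1 h
    rw [← hcard_map x⁻¹ R]
    refine hy _ (hR.map _) ?_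
    rintro _ ⟨r, hr, rfl⟩
    rw [Subgroup.mem_centralizer_singleton_iff]
    have h1 := Subgroup.mem_centralizer_singleton_iff.1 (hRy hr)
    simp only [MulEquiv.coe_toMonoidHom, MulAut.conj_apply, inv_inv]
    calc x⁻¹ * r * x * y = x⁻¹ * (r * (x * y * x⁻¹)) * x := by group
      _ = x⁻¹ * ((x * y * x⁻¹) * r) * x := by rw [h1]
      _ = y * (x⁻¹ * r * x) := by group
  have hwd : ∀ (g : G) (y : K), IsConj g (y : G) → IsMaxCentral p Q (y : G) →
      Z g = blockCoeff E y := by
    intro g y hgy hDy
    have h : ∃ y : K, IsConj g (y : G) ∧ IsMaxCentral p Q (y : G) := ⟨y, hgy, hDy⟩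
    simp only [Z, dif_pos h]
    obtain ⟨n, hn, hny⟩ := exists_normalizer_conj hQ h.choose.2 y.2 hDy
      (h.choose_spec.1.symm.trans hgy)
    rw [← show conjSubEquiv n K K (hN n hn) h.choose = y from Subtype.ext hny, hfconj n hn]
  have hZcf : IsClassFunction G Z := by
    intro g x
    have hc : IsConj g (x * g * x⁻¹) := isConj_iff.2 ⟨x, rfl⟩
    by_cases h : ∃ y : K, IsConj g (y : G) ∧ IsMaxCentral p Q (y : G)
    · obtain ⟨y, h1, h2⟩ := h
      rw [hwd g y h1 h2, hwd _ y (hc.symm.trans h1) h2]
    · simp only [Z, dif_neg h]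
      rw [dif_neg]
      rintro ⟨y, h1, h2⟩
      exact h ⟨y, hc.trans h1, h2⟩
  have hZloc : ∀ g, MemLocalRing M (Z g) := fun g => by
    simp only [Z]
    split_ifs
    · exact hEloc _
    · exact (locRing hM).zero_mem
  have hZK : ∀ y : K, MemLocalIdeal M (Z y - blockCoeff E y) := by
    intro y
    by_cases hDy : IsMaxCentral p Q (y : G)
    · rw [hwd _ y (IsConj.refl _) hDy, sub_self]
      exact memLocalIdeal_zero hM
    · have : ¬ ∃ y' : K, IsConj (y : G) (y' : G) ∧ IsMaxCentral p Q (y' : G) :=
        fun ⟨y', h1, h2⟩ => hDy (hD_conj _ _ h1.symm h2)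
      simp only [Z, dif_neg this, zero_sub]
      exact memLocalIdeal_neg (hvanish y hDy)
  set z := ofFun Z
  have hzc : IsCentralElt z := isCentralElt_ofFun hZcf
  have hzi : IsIntElt M z := fun g => by simp only [z, coeff_ofFun]; exact hZloc g
  set φQ : Q →* MulAut G := (MulAut.conj : G →* MulAut G).comp Q.subtype
  have hfixQ : ∀ x : G, (∀ q : Q, φQ q x = x) ↔ x ∈ K.subtype.range := fun x => by
    simp only [φQ, MonoidHom.coe_comp, Function.comp_apply, MulAut.conj_apply, Subgroup.coe_subtype,
      Subgroup.range_subtype, hKdef, Subgroup.mem_centralizer_iff, Subtype.forall,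
      mul_inv_eq_iff_eq_mul, SetLike.mem_coe]
  have hinj := K.subtype_injective
  have hinv : ∀ w : MonoidAlgebra ℂ G, IsCentralElt w → IsInv φQ w := fun w hw q x => hw x _
  -- `z` is killed by the principal block
  have hzero : ∀ χ : IrrCharacter G, MemLocalIdeal M (omega (χ : G → ℂ) (z * β)) := by
    intro χ
    rw [omega_mul χ.2 hzc, omega_blockElem]
    split_ifs with hχ
    swap
    · simpa using memLocalIdeal_zero hM
    rw [mul_one]
    have h1 := omega_congr hM (fun _ _ => rfl) (CharBasic.IsIrr.isClassFunction χ.2) hχ hzc hzi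
    have h2 : omega (fun _ : G => (1 : ℂ)) z = ∑ g, Z g := by
      simp [omega, chiLin, z, coeff_ofFun]
    have h3 := memLocalIdeal_sum_sub_sum_range hM hQ hinj hfixQ (f := Z) hZloc
      (fun q x => hZcf x _)
    have h4 : MemLocalIdeal M (∑ y : K, Z y - ∑ y : K, blockCoeff E y) := by
      rw [← Finset.sum_sub_distrib]
      exact memLocalIdeal_sum hM _ _ fun y _ => hZK y
    have h5 : ∑ y : K, blockCoeff E y = 0 := by
      have h6 := omega_blockElem E (trivialIrr (G := K))
      rw [if_neg htriv] at h6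
      simpa [omega, chiLin, trivialIrr, coeff_blockElem] using h6
    rw [h5, sub_zero] at h4
    rw [h2] at h1
    have h7 := memLocalIdeal_sub hM (memLocalIdeal_add hM h3 h4) h1
    convert h7 using 1
    simp only [Subgroup.coe_subtype]
    ring
  have h1 := memLocalIdeal_omega_resElt hM hQ hinj hfixQ ξ₀.2 (hzc.mul hβc) (hzi.mul hM hβi)
    (hinv _ (hzc.mul hβc)) hzero
  have h2 := omega_resElt_mul hM hQ hinj hfixQ ξ₀.2 hzc hβc hzi hβi (hinv _ hzc) (hinv _ hβc)
  rw [← hβQ] at h2
  have hblockE : IsIntElt M (blockElem E) := fun c => by rw [coeff_blockElem]; exact hEloc c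
  have h3 : MemLocalIdeal M (omega (ξ₀ : K → ℂ) (resElt K.subtype z) - 1) := by
    have h4 : omega (ξ₀ : K → ℂ) (blockElem E) = 1 := by rw [omega_blockElem, if_pos hξ₀E]
    rw [← h4, ← omega_sub]
    refine memLocalIdeal_omega_of_coeff hM ξ₀.2
      ((isCentralElt_resElt _ hzc).sub (isCentralElt_blockElem E)) fun c => ?_
    simpa [MonoidAlgebra.coeff_sub, coeff_resElt, z, coeff_ofFun, coeff_blockElem] using hZK c
  set a := omega (ξ₀ : K → ℂ) (resElt K.subtype z)
  set t := omega (ξ₀ : K → ℂ) βQ
  have ha : MemLocalRing M a :=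
    memLocalRing_omega hM ξ₀.2 (isCentralElt_resElt _ hzc) (isIntElt_resElt _ hzi)
  have h5 := memLocalIdeal_sub hM (memLocalIdeal_sub hM h1 h2)
    (memLocalIdeal_add hM h3 (memLocalIdeal_mul hM ha hξ₀E.1))
  apply not_memLocalIdeal_one hM
  convert h5 using 1
  ring

/-- Brauer's third main theorem: the pairs of the principal block are the principal pairs. -/
theorem isBrauerPairOf_principalBlock_iff (hM : IsPModular p M) {Q : Subgroup G}
    (hQ : IsPGroup p Q) (e : Set (IrrCharacter (Subgroup.centralizer (Q : Set G)))) :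
    IsBrauerPairOf p M (principalBlock M G) Q e ↔
      e = principalBlock M (Subgroup.centralizer (Q : Set G)) :=
  ⟨eq_principalBlock_of_isBrauerPairOf hM Q hQ e,
    fun h => h ▸ H82.isBrauerPairOf_principalBlock hM hQ⟩

end Cfsg.Agent.H83
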